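import Mathlib.RingTheory.AdjoinRoot
import Mathlib.Algebra.Polynomial.Expand
import Mathlib.Algebra.Ring.GeomSum

/-!
# The algebraic core of the Adams–Riemann–Roch formula for an elementary projection (helper17)

For monic `p`, `p2` of the same degree `m` with `p2(X^j) = p q`, the "residue" functionals `tau`
(top coefficient in the power basis) of `A[X]/(p)` and `A[X]/(p2)` are related by
`tau_p (j ℓ^{j-1} q(ℓ)⁻¹ φ(G)) = tau_{p2} (G)` when `φ : A[X]/(p2) → A[X]/(p)`, `S ↦ ℓ^j`, is bijective.
-/

set_option autoImplicit false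

open Polynomial Finset

namespace Groth.Agent.Lib.Helper17.ARR

variable {A : Type*} [CommRing A]

/-- the top coefficient functional of `A[X]/(p)` in the power basis -/
noncomputable def tau {p : A[X]} (hp : p.Monic) : AdjoinRoot p →ₗ[A] A :=
  (lcoeff A (p.natDegree - 1)).comp (AdjoinRoot.modByMonicHom hp)

lemma tau_apply {p : A[X]} (hp : p.Monic) (y : AdjoinRoot p) :
    tau hp y = (AdjoinRoot.modByMonicHom hp y).coeff (p.natDegree - 1) := rfl

lemma tau_mk {p : A[X]} (hp : p.Monic) (g : A[X]) :
    tau hp (AdjoinRoot.mk p g) = (g %ₘ p).coeff (p.natDegree - 1) := by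
  rw [tau_apply, AdjoinRoot.modByMonicHom_mk]

lemma tau_mk_of_natDegree_lt {p : A[X]} (hp : p.Monic) {g : A[X]}
    (hg : g.natDegree < p.natDegree) :
    tau hp (AdjoinRoot.mk p g) = g.coeff (p.natDegree - 1) := by
  nontriviality A
  rw [tau_mk, (modByMonic_eq_self_iff hp).mpr (degree_lt_degree hg)]

lemma tau_of_mul {p : A[X]} (hp : p.Monic) (a : A) (y : AdjoinRoot p) :
    tau hp (AdjoinRoot.of p a * y) = a * tau hp y := by
  rw [← AdjoinRoot.algebraMap_eq, ← Algebra.smul_def, map_smul, smul_eq_mul]

/-- `tau_{pq}(q g) = tau_p(g)` -/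
lemma tau_mul_right {p q : A[X]} (hp : p.Monic) (hq : q.Monic) (hm : 0 < p.natDegree) (g : A[X]) :
    tau (hp.mul hq) (AdjoinRoot.mk (p * q) (q * g)) = tau hp (AdjoinRoot.mk p g) := by
  nontriviality A
  have hp1 : p ≠ 1 := by
    intro h; rw [h, natDegree_one] at hm; exact lt_irrefl _ hm
  have hrlt : (g %ₘ p).natDegree < p.natDegree := natDegree_modByMonic_lt g hp hp1
  have hdeg : (q * (g %ₘ p)).degree < (p * q).degree := by
    by_cases hr : g %ₘ p = 0
    · rw [hr, mul_zero, degree_zero]
      exact bot_lt_iff_ne_bot.mpr (by rw [Ne, degree_eq_bot]; exact (hp.mul hq).ne_zero)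
    · apply degree_lt_degree
      calc (q * (g %ₘ p)).natDegree ≤ q.natDegree + (g %ₘ p).natDegree := natDegree_mul_le
        _ < q.natDegree + p.natDegree := by omega
        _ = (p * q).natDegree := by rw [hp.natDegree_mul hq, add_comm]
  have hmod : (q * g) %ₘ (p * q) = q * (g %ₘ p) := by
    refine (div_modByMonic_unique (g /ₘ p) (q * (g %ₘ p)) (hp.mul hq) ⟨?_, hdeg⟩).2
    have := modByMonic_add_div g p
    calc q * (g %ₘ p) + p * q * (g /ₘ p) = q * (g %ₘ p + p * (g /ₘ p)) := by ring
      _ = q * g := by rw [this]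
  rw [tau_mk, tau_mk, hmod, hp.natDegree_mul hq]
  have e : p.natDegree + q.natDegree - 1 = q.natDegree + (p.natDegree - 1) := by omega
  rw [e, coeff_mul_add_eq_of_natDegree_le le_rfl (by omega), hq.coeff_natDegree, one_mul]

/-- the top coefficient of `Σ_{k<j} X^k D_k(X^j)` -/
lemma tau_expand_sum {pq : A[X]} (hpq : pq.Monic) {j m : ℕ} (hj : 0 < j) (hm : 0 < m)
    (hdeg : pq.natDegree = j * m) (D : ℕ → A[X]) (hD : ∀ k, (D k).natDegree < m) :
    tau hpq (AdjoinRoot.mk pq (∑ k ∈ range j, X ^ k * expand A j (D k))) =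
      (D (j - 1)).coeff (m - 1) := by
  have hjm : 1 ≤ j * m := Nat.mul_pos hj hm
  have hlt : (∑ k ∈ range j, X ^ k * expand A j (D k)).natDegree < pq.natDegree := by
    rw [hdeg]
    have hle : (∑ k ∈ range j, X ^ k * expand A j (D k)).natDegree ≤ j * m - 1 := by
      apply natDegree_sum_le_of_forall_le
      intro k hk
      have hk' := Finset.mem_range.mp hk
      calc (X ^ k * expand A j (D k)).natDegree
          ≤ (X ^ k : A[X]).natDegree + (expand A j (D k)).natDegree := natDegree_mul_le
        _ ≤ k + (D k).natDegree * j := by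
            rw [natDegree_expand]
            exact Nat.add_le_add_right (natDegree_X_pow_le k) _
        _ ≤ (j - 1) + (m - 1) * j := by
            have := hD k
            have h1 : (D k).natDegree ≤ m - 1 := by omega
            exact Nat.add_le_add (by omega) (Nat.mul_le_mul_right j h1)
        _ = j * m - 1 := by
            have h1 : (m - 1) * j = j * m - j := by
              rw [mul_comm, Nat.mul_sub_one]
            have h2 : j ≤ j * m := Nat.le_mul_of_pos_right j hm
            rw [h1]
            omega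
    omega
  rw [tau_mk_of_natDegree_lt hpq hlt, hdeg, finsetSum_coeff,
    Finset.sum_eq_single_of_mem (j - 1) (Finset.mem_range.mpr (by omega))]
  · have h2 : j ≤ j * m := Nat.le_mul_of_pos_right j hm
    rw [coeff_X_pow_mul', if_pos (by omega)]
    have e : j * m - 1 - (j - 1) = j * (m - 1) := by
      rw [Nat.mul_sub_one]
      omega
    rw [e, coeff_expand_mul' hj]
  · intro k hk hkne
    have hk' := Finset.mem_range.mp hk
    rw [coeff_X_pow_mul']
    split_ifs with h
    · rw [coeff_expand hj, if_neg]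
      intro hdvd
      apply hkne
      -- j ∣ j*m - 1 - k with k < j forces k = j - 1
      obtain ⟨c, hc⟩ := hdvd
      have h1 : j * m = j * c + (k + 1) := by omega
      have h2 : j ∣ k + 1 := by
        have : j ∣ j * m := dvd_mul_right j m
        rw [h1] at this
        exact (Nat.dvd_add_right (dvd_mul_right j c)).mp this
      have h3 : j ≤ k + 1 := Nat.le_of_dvd (by omega) h2
      omega
    · rfl

/-- a root of a polynomial with invertible constant coefficient is a unit -/
lemma isUnit_root {f : A[X]} (h0 : IsUnit (f.coeff 0)) : IsUnit (AdjoinRoot.root f) := by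
  obtain ⟨c, hc⟩ := h0.exists_right_inv
  have h1 : AdjoinRoot.mk f (f.divX * X + C (f.coeff 0)) = 0 := by
    rw [divX_mul_X_add]; exact AdjoinRoot.mk_self
  rw [map_add, map_mul, AdjoinRoot.mk_X, AdjoinRoot.mk_C] at h1
  refine IsUnit.of_mul_eq_one (-(AdjoinRoot.mk f f.divX * AdjoinRoot.of f c)) ?_
  have h3 : AdjoinRoot.of f (f.coeff 0) * AdjoinRoot.of f c = 1 := by
    rw [← map_mul, hc, map_one]
  linear_combination (-(AdjoinRoot.of f c)) * h1 + h3

section Main

variable {p p2 q : A[X]} (hp : p.Monic) (hp2 : p2.Monic) (hq : q.Monic) {j m : ℕ}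

/-- `ι : A[X]/(p2) → A[X]/(pq)`, `S ↦ T^j` -/
noncomputable def iotaHom (hpq : expand A j p2 = p * q) : AdjoinRoot p2 →ₐ[A] AdjoinRoot (p * q) :=
  AdjoinRoot.liftAlgHom p2 (Algebra.ofId A _) (AdjoinRoot.root (p * q) ^ j) (by
    have h : aeval (AdjoinRoot.root (p * q) ^ j) p2 = 0 := by
      rw [← expand_aeval, hpq, AdjoinRoot.aeval_eq, AdjoinRoot.mk_self]
    exact h)

lemma iotaHom_mk (hpq : expand A j p2 = p * q) (D : A[X]) :
    iotaHom hpq (AdjoinRoot.mk p2 D) = AdjoinRoot.mk (p * q) (expand A j D) := by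
  unfold iotaHom
  rw [AdjoinRoot.liftAlgHom_mk]
  change aeval (AdjoinRoot.root (p * q) ^ j) D = _
  rw [← expand_aeval, AdjoinRoot.aeval_eq]

lemma iotaHom_root (hpq : expand A j p2 = p * q) :
    iotaHom hpq (AdjoinRoot.root p2) = AdjoinRoot.root (p * q) ^ j := by
  unfold iotaHom
  rw [AdjoinRoot.liftAlgHom_root]

/-- `π : A[X]/(pq) → A[X]/(p)` -/
noncomputable def piHom (p q : A[X]) : AdjoinRoot (p * q) →ₐ[A] AdjoinRoot p :=
  AdjoinRoot.algHomOfDvd A (p * q) p (dvd_mul_right p q)

lemma piHom_mk (g : A[X]) : piHom p q (AdjoinRoot.mk (p * q) g) = AdjoinRoot.mk p g := by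
  unfold piHom
  rw [← AdjoinRoot.aeval_eq, ← AdjoinRoot.aeval_eq, ← Polynomial.aeval_algHom_apply,
    AdjoinRoot.algHomOfDvd_root]

lemma piHom_root : piHom p q (AdjoinRoot.root (p * q)) = AdjoinRoot.root p := by
  unfold piHom
  rw [AdjoinRoot.algHomOfDvd_root]

/-- `φ : A[X]/(p2) → A[X]/(p)`, `S ↦ ℓ^j` -/
noncomputable def phiHom (hpq : expand A j p2 = p * q) : AdjoinRoot p2 →ₐ[A] AdjoinRoot p :=
  (piHom p q).comp (iotaHom hpq)

lemma phiHom_root (hpq : expand A j p2 = p * q) :
    phiHom hpq (AdjoinRoot.root p2) = AdjoinRoot.root p ^ j := by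
  unfold phiHom
  rw [AlgHom.comp_apply, iotaHom_root, map_pow, piHom_root]

lemma phiHom_mk (hpq : expand A j p2 = p * q) (D : A[X]) :
    phiHom hpq (AdjoinRoot.mk p2 D) = AdjoinRoot.mk p (expand A j D) := by
  unfold phiHom
  rw [AlgHom.comp_apply, iotaHom_mk, piHom_mk]

include hq in
/-- the transfer formula for the residue functionals -/
theorem tau_transfer (hj : 0 < j) (hm0 : 0 < m) (hm : p.natDegree = m) (hm2 : p2.natDegree = m)
    (hpq : expand A j p2 = p * q) (hφ : Function.Injective (phiHom hpq))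
    (t : AdjoinRoot p2) (ht : phiHom hpq t = AdjoinRoot.root p)
    (u : AdjoinRoot p) (hu : u * AdjoinRoot.mk p q = 1)
    (jinv : A) (hjinv : (j : A) * jinv = 1)
    (hp20 : IsUnit (p2.coeff 0)) (G : AdjoinRoot p2) :
    tau hp ((j : AdjoinRoot p) * AdjoinRoot.root p ^ (j - 1) * u * phiHom hpq G) = tau hp2 G := by
  have hπι : ∀ x, piHom p q (iotaHom hpq x) = phiHom hpq x := fun x => rfl
  -- `t^j = S`
  have htj : t ^ j = AdjoinRoot.root p2 := by
    apply hφ
    rw [map_pow, ht, phiHom_root]
  have hS_unit : IsUnit (AdjoinRoot.root p2) := isUnit_root hp20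
  have ht_unit : IsUnit t := by
    have h1 : IsUnit (t ^ j) := by rw [htj]; exact hS_unit
    exact (isUnit_pow_iff (by omega)).mp h1
  obtain ⟨tinv, htinv⟩ := ht_unit.exists_right_inv
  -- the element `ρ`
  have hρ : (∑ i ∈ range j, AdjoinRoot.root (p * q) ^ i * iotaHom hpq t ^ (j - 1 - i)) *
      (AdjoinRoot.root (p * q) - iotaHom hpq t) = 0 := by
    rw [geom_sum₂_mul, ← map_pow, htj, iotaHom_root, sub_self]
  set ρ := ∑ i ∈ range j, AdjoinRoot.root (p * q) ^ i * iotaHom hpq t ^ (j - 1 - i) with hρdef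
  have hTρ : AdjoinRoot.root (p * q) * ρ = iotaHom hpq t * ρ := by linear_combination hρ
  have hpowρ : ∀ n : ℕ, AdjoinRoot.root (p * q) ^ n * ρ = iotaHom hpq t ^ n * ρ := by
    intro n
    induction n with
    | zero => simp
    | succ n ih =>
      calc AdjoinRoot.root (p * q) ^ (n + 1) * ρ
          = AdjoinRoot.root (p * q) ^ n * (AdjoinRoot.root (p * q) * ρ) := by ring
        _ = iotaHom hpq t * (AdjoinRoot.root (p * q) ^ n * ρ) := by rw [hTρ]; ring
        _ = iotaHom hpq t ^ (n + 1) * ρ := by rw [ih]; ring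
  have haevalρ : ∀ g : A[X], aeval (AdjoinRoot.root (p * q)) g * ρ =
      aeval (iotaHom hpq t) g * ρ := by
    intro g
    rw [aeval_eq_sum_range, aeval_eq_sum_range, Finset.sum_mul, Finset.sum_mul]
    apply Finset.sum_congr rfl
    intro i _
    rw [smul_mul_assoc, smul_mul_assoc, hpowρ]
  have hpt : aeval t p = 0 := by
    apply hφ
    rw [← Polynomial.aeval_algHom_apply, ht, map_zero, AdjoinRoot.aeval_eq, AdjoinRoot.mk_self]
  have hpρ : AdjoinRoot.mk (p * q) p * ρ = 0 := by
    rw [← AdjoinRoot.aeval_eq, haevalρ, Polynomial.aeval_algHom_apply, hpt, map_zero, zero_mul]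
  -- the idempotent `ε`
  set c : AdjoinRoot p2 := AdjoinRoot.of p2 jinv * tinv ^ (j - 1) with hc
  set ε := ρ * iotaHom hpq c with hε
  obtain ⟨E, hE⟩ := AdjoinRoot.mk_surjective ε
  have hpE : p * q ∣ p * E := by
    rw [← AdjoinRoot.mk_eq_zero, map_mul, hE, hε, ← mul_assoc, hpρ, zero_mul]
  obtain ⟨h, hh⟩ := hpE
  have hEq : E = q * h := by
    apply hp.isRegular.left
    change p * E = p * (q * h)
    rw [hh]; ring
  -- `π ε = 1`
  have hπt : piHom p q (iotaHom hpq t) = AdjoinRoot.root p := by rw [hπι, ht]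
  have hlinv : AdjoinRoot.root p * phiHom hpq tinv = 1 := by
    rw [← ht, ← map_mul, htinv, map_one]
  have hπρ : piHom p q ρ = (j : AdjoinRoot p) * AdjoinRoot.root p ^ (j - 1) := by
    rw [hρdef, map_sum, ← geom_sum₂_self]
    apply Finset.sum_congr rfl
    intro i _
    rw [map_mul, map_pow, map_pow, piHom_root, hπt]
  have hjB : (j : AdjoinRoot p) * AdjoinRoot.of p jinv = 1 := by
    rw [← map_natCast (AdjoinRoot.of p), ← map_mul, hjinv, map_one]
  have hπε : piHom p q ε = 1 := by
    rw [hε, map_mul, hπρ, hπι, hc, map_mul, map_pow]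
    have h1 : phiHom hpq (AdjoinRoot.of p2 jinv) = AdjoinRoot.of p jinv := by
      rw [← AdjoinRoot.algebraMap_eq, ← AdjoinRoot.algebraMap_eq, AlgHom.commutes]
    rw [h1]
    calc (j : AdjoinRoot p) * AdjoinRoot.root p ^ (j - 1) *
          (AdjoinRoot.of p jinv * phiHom hpq tinv ^ (j - 1))
        = ((j : AdjoinRoot p) * AdjoinRoot.of p jinv) *
          (AdjoinRoot.root p * phiHom hpq tinv) ^ (j - 1) := by rw [mul_pow]; ring
      _ = 1 := by rw [hjB, hlinv, one_pow, one_mul]
  have hmkh : AdjoinRoot.mk p h = u := by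
    have h1 : AdjoinRoot.mk p q * AdjoinRoot.mk p h = 1 := by
      rw [← map_mul, ← hEq, ← piHom_mk (p := p) (q := q), hE, hπε]
    calc AdjoinRoot.mk p h = (u * AdjoinRoot.mk p q) * AdjoinRoot.mk p h := by rw [hu, one_mul]
      _ = u * (AdjoinRoot.mk p q * AdjoinRoot.mk p h) := by ring
      _ = u := by rw [h1, mul_one]
  -- the element `y`
  set y : AdjoinRoot (p * q) :=
    (j : AdjoinRoot (p * q)) * AdjoinRoot.root (p * q) ^ (j - 1) * iotaHom hpq G with hy
  -- first evaluation of `tau (y ε)`
  have hfirst : tau (hp.mul hq) (y * ε) =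
      tau hp ((j : AdjoinRoot p) * AdjoinRoot.root p ^ (j - 1) * u * phiHom hpq G) := by
    obtain ⟨Y, hY⟩ := AdjoinRoot.mk_surjective y
    have e1 : y * ε = AdjoinRoot.mk (p * q) (q * (Y * h)) := by
      rw [← hY, ← hE, hEq, ← map_mul]
      congr 1
      ring
    rw [e1, tau_mul_right hp hq (by omega)]
    have e2 : AdjoinRoot.mk p (Y * h) =
        (j : AdjoinRoot p) * AdjoinRoot.root p ^ (j - 1) * u * phiHom hpq G := by
      rw [map_mul (AdjoinRoot.mk p), hmkh, ← piHom_mk (p := p) (q := q), hY, hy]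
      simp only [map_mul, map_pow, map_natCast, piHom_root, hπι]
      ring
    rw [e2]
  -- second evaluation
  have hsecond : tau (hp.mul hq) (y * ε) = tau hp2 G := by
    -- the coefficients `d k`
    set d : ℕ → AdjoinRoot p2 := fun k => if k = j - 1 then G else
      (j : AdjoinRoot p2) * AdjoinRoot.root p2 * G * (t ^ (j - 1 - (k + 1)) * c) with hd
    have hyε : y * ε = ∑ k ∈ range j, AdjoinRoot.root (p * q) ^ k * iotaHom hpq (d k) := by
      obtain ⟨j', rfl⟩ : ∃ j', j = j' + 1 := ⟨j - 1, by omega⟩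
      have hg0 : t ^ j' * c = AdjoinRoot.of p2 jinv := by
        rw [hc]
        simp only [Nat.add_sub_cancel]
        calc t ^ j' * (AdjoinRoot.of p2 jinv * tinv ^ j')
            = AdjoinRoot.of p2 jinv * (t * tinv) ^ j' := by rw [mul_pow]; ring
          _ = AdjoinRoot.of p2 jinv := by rw [htinv, one_pow, mul_one]
      have hjB2 : ((j' + 1 : ℕ) : AdjoinRoot p2) * AdjoinRoot.of p2 jinv = 1 := by
        rw [← map_natCast (AdjoinRoot.of p2), ← map_mul, hjinv, map_one]
      rw [hε, hρdef, hy, Finset.sum_mul, Finset.mul_sum, Finset.sum_range_succ',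
        Finset.sum_range_succ]
      simp only [Nat.add_sub_cancel]
      congr 1
      · -- the terms `i = k + 1`
        apply Finset.sum_congr rfl
        intro k hk
        have hk' := Finset.mem_range.mp hk
        rw [hd]
        simp only [Nat.add_sub_cancel]
        rw [if_neg (by omega)]
        simp only [map_mul, map_pow, map_natCast, iotaHom_root]
        ring
      · -- the term `i = 0`
        rw [hd]
        simp only [Nat.add_sub_cancel, if_true, Nat.sub_zero, pow_zero, one_mul]
        have h1 : iotaHom hpq (((j' + 1 : ℕ) : AdjoinRoot p2) * (t ^ j' * c)) = 1 := by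
          rw [hg0, hjB2, map_one]
        calc ((j' + 1 : ℕ) : AdjoinRoot (p * q)) * AdjoinRoot.root (p * q) ^ j' * iotaHom hpq G *
              (iotaHom hpq t ^ j' * iotaHom hpq c)
            = AdjoinRoot.root (p * q) ^ j' * iotaHom hpq G *
              iotaHom hpq (((j' + 1 : ℕ) : AdjoinRoot p2) * (t ^ j' * c)) := by
              simp only [map_mul, map_pow, map_natCast]; ring
          _ = AdjoinRoot.root (p * q) ^ j' * iotaHom hpq G := by rw [h1, mul_one]
    -- representatives
    have hp21 : p2 ≠ 1 := by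
      intro h1; rw [h1, natDegree_one] at hm2; omega
    set D : ℕ → A[X] := fun k => AdjoinRoot.modByMonicHom hp2 (d k) with hD
    have hDdeg : ∀ k, (D k).natDegree < m := by
      intro k
      obtain ⟨g, hg⟩ := AdjoinRoot.mk_surjective (d k)
      rw [hD]
      simp only []
      rw [← hg, AdjoinRoot.modByMonicHom_mk, ← hm2]
      have : Nontrivial A := by
        by_contra hns
        rw [not_nontrivial_iff_subsingleton] at hns
        have h0 : p2.natDegree = 0 := by rw [Subsingleton.elim p2 0, natDegree_zero]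
        omega
      exact natDegree_modByMonic_lt g hp2 hp21
    have hDmk : ∀ k, AdjoinRoot.mk p2 (D k) = d k := fun k => AdjoinRoot.mk_leftInverse hp2 (d k)
    have hyε2 : y * ε = AdjoinRoot.mk (p * q) (∑ k ∈ range j, X ^ k * expand A j (D k)) := by
      rw [hyε, map_sum]
      apply Finset.sum_congr rfl
      intro k _
      rw [map_mul, map_pow, AdjoinRoot.mk_X, ← iotaHom_mk hpq, hDmk]
    have hdegpq : (p * q).natDegree = j * m := by
      rw [← hpq, natDegree_expand, hm2, mul_comm]
    rw [hyε2, tau_expand_sum (hp.mul hq) hj hm0 hdegpq D hDdeg, tau_apply, hm2, hD]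
    simp only []
    rw [hd]
    simp only [if_true]
  rw [← hfirst, hsecond]

end Main


section Induction

/-- additive induction on `A[X]/(p)` -/
lemma adjoinRoot_induction {p : A[X]} {motive : AdjoinRoot p → Prop}
    (hadd : ∀ x y, motive x → motive y → motive (x + y))
    (hmon : ∀ (a : A) (k : ℕ), motive (AdjoinRoot.of p a * AdjoinRoot.root p ^ k)) :
    ∀ y, motive y := by
  intro y
  obtain ⟨g, rfl⟩ := AdjoinRoot.mk_surjective y
  induction g using Polynomial.induction_on' with
  | add f g hf hg => rw [map_add]; exact hadd _ _ hf hg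
  | monomial k a =>
    rw [← C_mul_X_pow_eq_monomial, map_mul, map_pow, AdjoinRoot.mk_C, AdjoinRoot.mk_X]
    exact hmon a k

end Induction

section Pow

lemma tau_root_pow_lt {p : A[X]} (hp : p.Monic) {i : ℕ} (hi : i + 1 < p.natDegree) :
    tau hp (AdjoinRoot.root p ^ i) = 0 := by
  nontriviality A
  rw [← AdjoinRoot.mk_X, ← map_pow, tau_mk_of_natDegree_lt hp (by rw [natDegree_X_pow]; omega),
    coeff_X_pow, if_neg (by omega)]

lemma tau_root_pow_top {p : A[X]} (hp : p.Monic) (hm : 0 < p.natDegree) :
    tau hp (AdjoinRoot.root p ^ (p.natDegree - 1)) = 1 := by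
  nontriviality A
  rw [← AdjoinRoot.mk_X, ← map_pow, tau_mk_of_natDegree_lt hp (by rw [natDegree_X_pow]; omega),
    coeff_X_pow, if_pos rfl]

/-- the values of `tau` on the powers of the root are the coefficients of the inverse of the
reversed polynomial -/
theorem tau_pow (a σ : ℕ → A) (r : ℕ) (ha0 : a 0 = 1) (ha_big : ∀ i, r + 1 < i → a i = 0)
    (hσ0 : σ 0 = 1)
    (hnewton : ∀ n, 0 < n → ∑ i ∈ range (n + 1), a i * σ (n - i) = 0)
    {p : A[X]} (hp : p = ∑ i ∈ range (r + 1 + 1), C (a i) * X ^ (r + 1 - i)) (hpm : p.Monic)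
    (n : ℕ) : tau hpm (AdjoinRoot.root p ^ (r + n)) = σ n := by
  nontriviality A
  have hdeg : p.natDegree = r + 1 := by
    apply le_antisymm
    · rw [hp]
      apply natDegree_sum_le_of_forall_le
      intro i _
      calc (C (a i) * X ^ (r + 1 - i)).natDegree ≤ r + 1 - i := natDegree_C_mul_X_pow_le _ _
        _ ≤ r + 1 := Nat.sub_le _ _
    · by_contra hlt
      push Not at hlt
      have h1 : p.coeff (r + 1) = 0 := coeff_eq_zero_of_natDegree_lt hlt
      have h2 : p.coeff (r + 1) = 1 := by
        rw [hp, finsetSum_coeff, Finset.sum_eq_single_of_mem 0 (Finset.mem_range.mpr (by omega))]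
        · rw [ha0, Nat.sub_zero, map_one, one_mul, coeff_X_pow, if_pos rfl]
        · intro i hi hi0
          have := Finset.mem_range.mp hi
          rw [coeff_C_mul, coeff_X_pow, if_neg (by omega), mul_zero]
      rw [h1] at h2
      exact zero_ne_one h2
  -- the root equation
  have hroot : ∑ i ∈ range (r + 1 + 1), AdjoinRoot.of p (a i) * AdjoinRoot.root p ^ (r + 1 - i) = 0 := by
    have h := AdjoinRoot.eval₂_root p
    conv at h => arg 1; arg 3; rw [hp]
    rw [eval₂_finsetSum] at h
    simpa [eval₂_mul, eval₂_C, eval₂_pow, eval₂_X] using h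
  induction n using Nat.strong_induction_on with
  | _ n ih =>
    rcases Nat.eq_zero_or_pos n with rfl | hn
    · rw [add_zero, hσ0]
      have := tau_root_pow_top hpm (by omega)
      rw [hdeg] at this
      exact this
    · -- multiply the root equation by `root^(n-1)`
      have h := congrArg (fun z => tau hpm (z * AdjoinRoot.root p ^ (n - 1))) hroot
      simp only [zero_mul, map_zero, Finset.sum_mul, map_sum] at h
      have h1 : ∀ i ∈ range (r + 1 + 1),
          tau hpm (AdjoinRoot.of p (a i) * AdjoinRoot.root p ^ (r + 1 - i) *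
            AdjoinRoot.root p ^ (n - 1)) =
          if i = 0 then tau hpm (AdjoinRoot.root p ^ (r + n)) else
            a i * (if i ≤ n then σ (n - i) else 0) := by
        intro i hi
        have hi' := Finset.mem_range.mp hi
        rw [mul_assoc, tau_of_mul, ← pow_add]
        by_cases hi0 : i = 0
        · rw [if_pos hi0, hi0, ha0, one_mul]
          congr 2
          omega
        · rw [if_neg hi0]
          congr 1
          by_cases hin : i ≤ n
          · rw [if_pos hin]
            have e : r + 1 - i + (n - 1) = r + (n - i) := by omega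
            rw [e]
            exact ih (n - i) (by omega)
          · rw [if_neg hin]
            apply tau_root_pow_lt
            rw [hdeg]
            omega
      rw [Finset.sum_congr rfl h1, Finset.sum_range_succ', if_pos rfl] at h
      have h2 : ∑ i ∈ range (r + 1), (if i + 1 = 0 then tau hpm (AdjoinRoot.root p ^ (r + n)) else
          a (i + 1) * (if i + 1 ≤ n then σ (n - (i + 1)) else 0)) =
          ∑ i ∈ range (r + 1), a (i + 1) * (if i + 1 ≤ n then σ (n - (i + 1)) else 0) := by
        apply Finset.sum_congr rfl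
        intro i _
        rw [if_neg (by omega)]
      rw [h2] at h
      -- Newton
      have hN := hnewton n hn
      rw [Finset.sum_range_succ', ha0, one_mul, Nat.sub_zero] at hN
      have h3 : ∑ i ∈ range (r + 1), a (i + 1) * (if i + 1 ≤ n then σ (n - (i + 1)) else 0) =
          ∑ i ∈ range n, a (i + 1) * σ (n - (i + 1)) := by
        have e1 : ∑ i ∈ range (r + 1), a (i + 1) * (if i + 1 ≤ n then σ (n - (i + 1)) else 0) =
            ∑ i ∈ (range (r + 1)).filter (fun i => i + 1 ≤ n), a (i + 1) * σ (n - (i + 1)) := by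
          rw [Finset.sum_filter]
          apply Finset.sum_congr rfl
          intro i _
          split_ifs <;> simp
        have e2 : ∑ i ∈ range n, a (i + 1) * σ (n - (i + 1)) =
            ∑ i ∈ (range n).filter (fun i => i < r + 1), a (i + 1) * σ (n - (i + 1)) := by
          rw [Finset.sum_filter]
          apply Finset.sum_congr rfl
          intro i _
          split_ifs with hlt
          · rfl
          · rw [ha_big (i + 1) (by omega), zero_mul]
        rw [e1, e2]
        apply Finset.sum_congr _ (fun _ _ => rfl)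
        ext i
        simp only [Finset.mem_filter, Finset.mem_range]
        omega
      rw [h3] at h
      have := h.trans hN.symm
      exact add_left_cancel this

end Pow

section Surj

variable {B : Type*} [CommRing B] [Algebra A B]

/-- if `ℓ - 1` is nilpotent and `j` is invertible, a subalgebra containing `ℓ^j` contains `ℓ` -/
lemma mem_of_pow_mem (C : Subalgebra A B) (ℓ : B) (j : ℕ) (jinv : A) (hj : (j : A) * jinv = 1)
    (N : ℕ) (hN : (ℓ - 1) ^ N = 0) (hC : ℓ ^ j ∈ C) (hgen : ∀ b : B, ∃ g : A[X], aeval ℓ g = b) :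
    ℓ ∈ C := by
  set ν := ℓ - 1 with hν
  set h := ∑ i ∈ range j, ℓ ^ i with hh
  have hx : ℓ ^ j - 1 = ν * h := by rw [hν, hh, mul_comm, geom_sum_mul]
  have hxC : ℓ ^ j - 1 ∈ C := C.sub_mem hC C.one_mem
  have hpowdvd : ∀ n : ℕ, ν ∣ ℓ ^ n - 1 := by
    intro n
    have := sub_dvd_pow_sub_pow ℓ 1 n
    rwa [one_pow] at this
  have hhj : ν ∣ h - (j : B) := by
    have : h - (j : B) = ∑ i ∈ range j, (ℓ ^ i - 1) := by
      rw [Finset.sum_sub_distrib, hh]; simp
    rw [this]
    exact Finset.dvd_sum (fun i _ => hpowdvd i)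
  have hjB : (j : B) * algebraMap A B jinv = 1 := by
    rw [← map_natCast (algebraMap A B), ← map_mul, hj, map_one]
  -- downward induction
  have key : ∀ d k : ℕ, 1 ≤ k → N ≤ k + d → ∀ b : B, ν ^ k * b ∈ C := by
    intro d
    induction d with
    | zero =>
      intro k _ hk b
      rw [pow_eq_zero_of_le (by omega) hN, zero_mul]
      exact C.zero_mem
    | succ d ih =>
      intro k hk1 hk b
      have ih' : ∀ b : B, ν ^ (k + 1) * b ∈ C := ih (k + 1) (by omega) (by omega)
      -- `ν^k ∈ C`
      have hνk : ν ^ k ∈ C := by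
        obtain ⟨c', hc'⟩ : ν ∣ h ^ k - (j : B) ^ k :=
          dvd_trans hhj (sub_dvd_pow_sub_pow h (j : B) k)
        have h1 : (j : B) ^ k * ν ^ k = (ℓ ^ j - 1) ^ k - ν ^ (k + 1) * c' := by
          rw [hx, mul_pow]
          have : h ^ k = (j : B) ^ k + ν * c' := by rw [← hc']; ring
          rw [this]; ring
        have h2 : (j : B) ^ k * ν ^ k ∈ C := by
          rw [h1]
          exact C.sub_mem (C.pow_mem hxC k) (ih' c')
        have h3 : ν ^ k = algebraMap A B (jinv ^ k) * ((j : B) ^ k * ν ^ k) := by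
          rw [map_pow]
          calc ν ^ k = ((j : B) * algebraMap A B jinv) ^ k * ν ^ k := by rw [hjB, one_pow, one_mul]
            _ = _ := by ring
        rw [h3]
        exact C.mul_mem (C.algebraMap_mem _) h2
      obtain ⟨g, rfl⟩ := hgen b
      induction g using Polynomial.induction_on' with
      | add f g hf hg =>
        rw [map_add, mul_add]
        exact C.add_mem hf hg
      | monomial n a =>
        rw [aeval_monomial]
        obtain ⟨c, hc⟩ := hpowdvd n
        have : ν ^ k * (algebraMap A B a * ℓ ^ n) =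
            algebraMap A B a * ν ^ k + ν ^ (k + 1) * (algebraMap A B a * c) := by
          have : ℓ ^ n = 1 + ν * c := by rw [← hc]; ring
          rw [this]; ring
        rw [this]
        exact C.add_mem (C.mul_mem (C.algebraMap_mem _) hνk) (ih' _)
  have hνC : ν ∈ C := by
    have := key N 1 le_rfl (by omega) 1
    rwa [pow_one, mul_one] at this
  have : ℓ = ν + 1 := by rw [hν]; ring
  rw [this]
  exact C.add_mem hνC C.one_mem

variable {p p2 q : A[X]} {j : ℕ}

/-- surjectivity of `φ` when `ℓ - 1` is nilpotent and `j` is invertible -/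
lemma phiHom_surjective (hpq : expand A j p2 = p * q) (jinv : A) (hj : (j : A) * jinv = 1)
    (N : ℕ) (hN : (AdjoinRoot.root p - 1) ^ N = 0) : Function.Surjective (phiHom hpq) := by
  have hmem : AdjoinRoot.root p ∈ (phiHom hpq).range := by
    apply mem_of_pow_mem (phiHom hpq).range (AdjoinRoot.root p) j jinv hj N hN
    · exact ⟨AdjoinRoot.root p2, phiHom_root hpq⟩
    · intro b
      obtain ⟨g, rfl⟩ := AdjoinRoot.mk_surjective b
      exact ⟨g, AdjoinRoot.aeval_eq g⟩
  obtain ⟨t, ht⟩ := hmem
  have ht' : phiHom hpq t = AdjoinRoot.root p := ht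
  intro b
  obtain ⟨g, rfl⟩ := AdjoinRoot.mk_surjective b
  refine ⟨aeval t g, ?_⟩
  rw [← Polynomial.aeval_algHom_apply, ht', AdjoinRoot.aeval_eq]

/-- injectivity follows from surjectivity, both sides being free of the same rank -/
lemma phiHom_injective_of_surjective (hp : p.Monic) (hp2 : p2.Monic)
    (hdeg : p2.natDegree = p.natDegree) (hpq : expand A j p2 = p * q)
    (hs : Function.Surjective (phiHom hpq)) : Function.Injective (phiHom hpq) := by
  haveI : Module.Finite A (AdjoinRoot p) := (AdjoinRoot.powerBasis' hp).finite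
  let e : AdjoinRoot p2 ≃ₗ[A] AdjoinRoot p :=
    (AdjoinRoot.powerBasis' hp2).basis.equiv (AdjoinRoot.powerBasis' hp).basis
      (finCongr (by rw [AdjoinRoot.powerBasis'_dim, AdjoinRoot.powerBasis'_dim, hdeg]))
  exact OrzechProperty.injective_of_surjective_of_injective e.toLinearMap
    (phiHom hpq).toLinearMap e.injective hs

end Surj

end Groth.Agent.Lib.Helper17.ARR
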