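import Groth.Agent.Lib.Helper17.LambdaSplit
import Mathlib.RingTheory.PowerSeries.Substitution
import Mathlib.RingTheory.PowerSeries.WellKnown

/-!
# The γ-series as a substitution `γ_t(x) = λ_{t/(1-t)}(x)` (helper17)
-/

set_option autoImplicit false

universe u

open PowerSeries Finset LambdaRing

namespace Groth.Agent.Lib.Helper17.Lam

section phi

variable (R : Type*) [CommRing R]

/-- `φ = t/(1-t)` -/
noncomputable def phi : PowerSeries R := X * (mk 1 : PowerSeries R)

lemma constantCoeff_phi : constantCoeff (phi R) = 0 := by simp [phi]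

lemma hasSubst_phi : HasSubst (phi R) := HasSubst.of_constantCoeff_zero' (constantCoeff_phi R)

lemma coeff_phi_pow (j k : ℕ) :
    coeff k ((phi R) ^ j) =
      if j = 0 then (if k = 0 then 1 else 0)
      else (if j ≤ k then (((k - 1).choose (j - 1) : ℕ) : R) else 0) := by
  rcases j with _ | d
  · simp [coeff_one]
  · rw [if_neg (Nat.succ_ne_zero d), phi, mul_pow, mk_one_pow_eq_mk_choose_add, coeff_X_pow_mul']
    split_ifs with h
    · rw [coeff_mk]
      congr 2
      omega
    · rfl

lemma coeff_subst_phi (f : PowerSeries R) (k : ℕ) :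
    coeff k (f.subst (phi R)) = ∑ j ∈ range (k + 1), coeff j f * coeff k ((phi R) ^ j) := by
  rw [coeff_subst' (hasSubst_phi R)]
  rw [finsum_eq_sum_of_support_subset (s := range (k + 1))]
  · simp only [smul_eq_mul]
  · intro j hj
    rw [Function.mem_support] at hj
    rw [Finset.coe_range, Set.mem_Iio]
    by_contra hlt
    push Not at hlt
    apply hj
    rw [coeff_phi_pow, if_neg (by omega), if_neg (by omega), smul_zero]

end phi

variable {K : Type u} [CommRing K] [LambdaOps K]

/-- `γ^k(x)` is the `k`-th coefficient of `λ_{t/(1-t)}(x)` -/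
lemma gamma_eq_coeff (k : ℕ) (x : K) :
    gamma k x = coeff k ((lamSeries x).subst (phi K)) := by
  rw [coeff_subst_phi]
  unfold gamma
  split_ifs with hk
  · subst hk
    simp [coeff_lamSeries, LambdaOps.lam_zero]
  · apply Finset.sum_congr rfl
    intro j hj
    have hjk : j ≤ k := by
      have := Finset.mem_range.mp hj; omega
    rw [coeff_phi_pow, coeff_lamSeries]
    by_cases hj0 : j = 0
    · subst hj0
      simp [hk]
    · rw [if_neg hj0, if_neg hj0, if_pos hjk, mul_comm]

/-- additivity of the γ-operations (S3289) -/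
theorem gamma_add (k : ℕ) (x y : K) :
    gamma k (x + y) = ∑ i ∈ range (k + 1), gamma i x * gamma (k - i) y := by
  rw [gamma_eq_coeff, lamSeries_add, subst_mul (hasSubst_phi K), coeff_mul,
    Finset.Nat.sum_antidiagonal_eq_sum_range_succ_mk]
  apply Finset.sum_congr rfl
  intro i _
  rw [gamma_eq_coeff, gamma_eq_coeff]

end Groth.Agent.Lib.Helper17.Lam
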