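import Groth.Agent.Lib.Helper17.LambdaSym
import Groth.Agent.Lib.Helper17.LambdaGammaSeries
import Groth.Agent.S3291

/-!
# Adams operations on the γ-filtration (helper17)

`ψ^j x - j^n x ∈ F^{n+1}` for `x ∈ F^n`.
-/

set_option autoImplicit false

universe u

open PowerSeries Finset LambdaRing

namespace Groth.Agent.Lib.Helper17.Lam

variable {K : Type u} [CommRing K] [LambdaOps K]

/-! ### the γ-series -/

/-- `γ_t(x) = λ_{t/(1-t)}(x)` -/
noncomputable def gamSeries (x : K) : PowerSeries K := (lamSeries x).subst (phi K)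

lemma coeff_gamSeries (k : ℕ) (x : K) : coeff k (gamSeries x) = gamma k x :=
  (gamma_eq_coeff k x).symm

lemma gamSeries_add (x y : K) : gamSeries (x + y) = gamSeries x * gamSeries y := by
  unfold gamSeries
  rw [lamSeries_add, subst_mul (hasSubst_phi K)]

lemma gamSeries_zero : gamSeries (0 : K) = 1 := by
  unfold gamSeries
  rw [lamSeries_zero, ← coe_substAlgHom (hasSubst_phi K), map_one]

lemma phi_mul_one_sub_X (R : Type*) [CommRing R] : phi R * (1 - X) = X := by
  unfold phi
  rw [mul_assoc, mk_one_mul_one_sub_eq_one, mul_one]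

lemma gamSeries_line_sub_one (P : PosStructure K) {u : K} (hu : P.IsLine u) :
    gamSeries (u - 1) = 1 + C (u - 1) * X := by
  have h1 : lamSeries (u - 1) * (1 + X) = 1 + C u * X := by
    have h := lamSeries_add (u - 1) 1
    rw [sub_add_cancel, lamSeries_of_isLine P hu, lamSeries_of_isLine P (isLine_one P), map_one,
      one_mul] at h
    exact h.symm
  have h2 := congrArg (substAlgHom (hasSubst_phi K)) h1
  rw [map_mul, map_add, map_add, map_one, map_mul, substAlgHom_X, C_eq_algebraMap,
    AlgHom.commutes, ← C_eq_algebraMap, coe_substAlgHom] at h2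
  change gamSeries (u - 1) * (1 + phi K) = 1 + C u * phi K at h2
  have h3 : gamSeries (u - 1) = gamSeries (u - 1) * (1 + phi K) * (1 - X) := by
    have : (1 + phi K) * (1 - X) = 1 := by
      rw [add_mul, one_mul, phi_mul_one_sub_X]; ring
    rw [mul_assoc, this, mul_one]
  rw [h3, h2, add_mul, one_mul, mul_assoc, phi_mul_one_sub_X, map_sub, map_one]
  ring

lemma gamSeries_sum_lines (P : PosStructure K) (s : Multiset K) (hs : ∀ a ∈ s, P.IsLine a) :
    gamSeries (s.map fun u => u - 1).sum =
      ((linProd (s.map fun u => u - 1) : Polynomial K) : PowerSeries K) := by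
  induction s using Multiset.induction_on with
  | empty => simp [gamSeries_zero, linProd_zero]
  | cons a t ih =>
    have ha : P.IsLine a := hs a (Multiset.mem_cons_self a t)
    have ht : ∀ b ∈ t, P.IsLine b := fun b hb => hs b (Multiset.mem_cons_of_mem hb)
    rw [Multiset.map_cons, Multiset.sum_cons, gamSeries_add, ih ht, linProd_cons,
      gamSeries_line_sub_one P ha, Polynomial.coe_mul]
    congr 1
    simp

/-- `γ^i(∑ (u_k - 1)) = e_i(u_k - 1)` -/
lemma gamma_sum_sub_one (P : PosStructure K) {m : ℕ} (U : Fin m → K) (hU : ∀ k, P.IsLine (U k))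
    (i : ℕ) :
    gamma i (∑ k : Fin m, (U k - 1)) =
      ∑ t ∈ powersetCard i (univ : Finset (Fin m)), ∏ a ∈ t, (U a - 1) := by
  have hs : ∀ a ∈ (Finset.univ.val.map U), P.IsLine a := by
    intro a ha
    obtain ⟨k, -, rfl⟩ := Multiset.mem_map.mp ha
    exact hU k
  have h := gamSeries_sum_lines P (Finset.univ.val.map U) hs
  rw [Multiset.map_map] at h
  have h2 : ((Finset.univ.val.map ((fun u => u - 1) ∘ U)).sum : K) = ∑ k : Fin m, (U k - 1) := rfl
  rw [h2] at h
  rw [← coeff_gamSeries, h, Polynomial.coeff_coe]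
  by_cases hi : i ≤ m
  · rw [coeff_linProd_eq_esymm _ _ (by simpa using hi), Finset.esymm_map_val]
    rfl
  · push Not at hi
    rw [Polynomial.coeff_eq_zero_of_natDegree_lt, Finset.powersetCard_eq_empty.mpr (by simpa using hi),
      Finset.sum_empty]
    refine lt_of_le_of_lt (natDegree_linProd_le _) ?_
    simpa using hi

/-! ### the filtration -/

lemma filt_anti (P : PosStructure K) {a b : ℕ} (h : b ≤ a) :
    gammaFiltration P a ≤ gammaFiltration P b := by
  by_cases hb : b = 0
  · subst hb
    rw [Groth.Agent.S3291.filt_zero]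
    exact le_top
  · have ha : a ≠ 0 := by omega
    rw [Groth.Agent.S3291.filt_pos P ha, Groth.Agent.S3291.filt_pos P hb]
    exact AddSubgroup.closure_mono (Groth.Agent.S3291.gen_mono P h)

lemma filt_mul (P : PosStructure K) {a b : ℕ} {x y : K} (hx : x ∈ gammaFiltration P a)
    (hy : y ∈ gammaFiltration P b) : x * y ∈ gammaFiltration P (a + b) :=
  (Groth.Agent.S3291.result K P).2 a b x y hx hy

lemma filt_smul (P : PosStructure K) {a : ℕ} (c : K) {x : K} (hx : x ∈ gammaFiltration P a) :
    c * x ∈ gammaFiltration P a :=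
  (Groth.Agent.S3291.result K P).1 a c x hx

lemma one_mem_filt_zero (P : PosStructure K) : (1 : K) ∈ gammaFiltration P 0 := by
  rw [Groth.Agent.S3291.filt_zero]
  exact AddSubgroup.mem_top _

lemma filt_pow (P : PosStructure K) {a : ℕ} {x : K} (hx : x ∈ gammaFiltration P a) (n : ℕ) :
    x ^ n ∈ gammaFiltration P (a * n) := by
  induction n with
  | zero => rw [pow_zero, Nat.mul_zero]; exact one_mem_filt_zero P
  | succ n ih => rw [pow_succ, Nat.mul_succ]; exact filt_mul P ih hx

lemma filt_prod (P : PosStructure K) {ι : Type*} (s : Finset ι) (g : ι → K) (w : ι → ℕ)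
    (h : ∀ k ∈ s, g k ∈ gammaFiltration P (w k)) :
    ∏ k ∈ s, g k ∈ gammaFiltration P (∑ k ∈ s, w k) := by
  classical
  induction s using Finset.induction_on with
  | empty => rw [Finset.prod_empty, Finset.sum_empty]; exact one_mem_filt_zero P
  | insert k s hk ih =>
    rw [Finset.prod_insert hk, Finset.sum_insert hk]
    exact filt_mul P (h k (Finset.mem_insert_self k s))
      (ih fun k' hk' => h k' (Finset.mem_insert_of_mem hk'))

/-- a polynomial in the `γ^k(z)` all of whose monomials have weight `≥ n` lies in `F^n` -/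
lemma aeval_gamma_mem (P : PosStructure K) {z : K} (hz : P.aug z = 0) (m n : ℕ)
    (Q' : MvPolynomial (Fin m) ℤ) (hwt : ∀ α ∈ Q'.support, n ≤ wt α) :
    MvPolynomial.aeval (fun k : Fin m => gamma (k.1 + 1) z) Q' ∈ gammaFiltration P n := by
  rw [MvPolynomial.aeval_def, MvPolynomial.eval₂_eq']
  apply AddSubgroup.sum_mem
  intro α hα
  have h1 : ∏ k : Fin m, gamma (k.1 + 1) z ^ α k ∈ gammaFiltration P (wt α) := by
    apply filt_prod
    intro k _
    exact filt_pow P (gamma_mem_gammaFiltration P hz _) _
  exact filt_smul P _ (filt_anti P (hwt α hα) h1)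

/-! ### Adams operations and the augmentation -/

lemma aug_adams_of_pos {P : PosStructure K} (hK : HasSplitting K P) (j : ℕ) {e : K}
    (he : e ∈ P.pos) : P.aug (adams P j e) = P.aug e := by
  obtain ⟨L, f, hf, s, hs, hsum⟩ := exists_split hK he
  rw [← hf.aug_comp, map_adams hf, ← hsum, adams_multiset_sum, ← hf.aug_comp e, ← hsum,
    aug_sum_lines _ s hs]
  have h : ∀ a ∈ s.map (adams L.posStr j), L.posStr.IsLine a := by
    intro a ha
    obtain ⟨b, hb, rfl⟩ := Multiset.mem_map.mp ha
    rw [adams_of_isLine _ (hs b hb)]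
    exact isLine_pow _ (hs b hb) j
  rw [aug_sum_lines _ _ h, Multiset.card_map]

lemma aug_adams {P : PosStructure K} (hK : HasSplitting K P) (j : ℕ) (x : K) :
    P.aug (adams P j x) = P.aug x := by
  obtain ⟨e1, e2, he1, he2, rfl⟩ := P.exists_sub x
  rw [adams_sub, map_sub, map_sub, aug_adams_of_pos hK j he1, aug_adams_of_pos hK j he2]

/-! ### the key congruence -/

/-- `y` has exact weight `r` for `ψ^j` -/
def Good (P : PosStructure K) (j r : ℕ) (y : K) : Prop :=
  y ∈ gammaFiltration P r ∧ adams P j y - (j : K) ^ r * y ∈ gammaFiltration P (r + 1)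

lemma Good.add {P : PosStructure K} {j r : ℕ} {y z : K} (hy : Good P j r y) (hz : Good P j r z) :
    Good P j r (y + z) := by
  refine ⟨AddSubgroup.add_mem _ hy.1 hz.1, ?_⟩
  have h : adams P j (y + z) - (j : K) ^ r * (y + z) =
      (adams P j y - (j : K) ^ r * y) + (adams P j z - (j : K) ^ r * z) := by
    rw [adams_add]; ring
  rw [h]
  exact AddSubgroup.add_mem _ hy.2 hz.2

lemma Good.neg {P : PosStructure K} {j r : ℕ} {y : K} (hy : Good P j r y) :
    Good P j r (-y) := by
  refine ⟨AddSubgroup.neg_mem _ hy.1, ?_⟩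
  have h : adams P j (-y) - (j : K) ^ r * (-y) = -(adams P j y - (j : K) ^ r * y) := by
    rw [adams_neg]; ring
  rw [h]
  exact AddSubgroup.neg_mem _ hy.2

lemma Good.zero (P : PosStructure K) (j r : ℕ) : Good P j r (0 : K) := by
  refine ⟨AddSubgroup.zero_mem _, ?_⟩
  rw [adams_zero, mul_zero, sub_zero]
  exact AddSubgroup.zero_mem _

lemma Good.sum {P : PosStructure K} {j r : ℕ} {ι : Type*} (s : Finset ι) (y : ι → K)
    (h : ∀ k ∈ s, Good P j r (y k)) : Good P j r (∑ k ∈ s, y k) := by
  classical
  induction s using Finset.induction_on with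
  | empty => rw [Finset.sum_empty]; exact Good.zero P j r
  | insert k s hk ih =>
    rw [Finset.sum_insert hk]
    exact (h k (Finset.mem_insert_self k s)).add
      (ih fun k' hk' => h k' (Finset.mem_insert_of_mem hk'))

lemma Good.one (P : PosStructure K) (j : ℕ) : Good P j 0 (1 : K) := by
  refine ⟨one_mem_filt_zero P, ?_⟩
  rw [adams_one, pow_zero, mul_one, sub_self]
  exact AddSubgroup.zero_mem _

lemma Good.adams_mem {P : PosStructure K} {j r : ℕ} {y : K} (hy : Good P j r y) :
    adams P j y ∈ gammaFiltration P r := by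
  have h : adams P j y = (adams P j y - (j : K) ^ r * y) + (j : K) ^ r * y := by ring
  rw [h]
  exact AddSubgroup.add_mem _ (filt_anti P (Nat.le_succ r) hy.2) (filt_smul P _ hy.1)

lemma Good.mul {P : PosStructure K} (hK : HasSplitting K P) {j a b : ℕ} {y z : K}
    (hy : Good P j a y) (hz : Good P j b z) : Good P j (a + b) (y * z) := by
  refine ⟨filt_mul P hy.1 hz.1, ?_⟩
  have h : adams P j (y * z) - (j : K) ^ (a + b) * (y * z) =
      (adams P j y - (j : K) ^ a * y) * adams P j z +
        (j : K) ^ a * (y * (adams P j z - (j : K) ^ b * z)) := by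
    rw [adams_mul hK, pow_add]; ring
  rw [h]
  apply AddSubgroup.add_mem
  · have := filt_mul P hy.2 hz.adams_mem
    rwa [show a + 1 + b = a + b + 1 by ring] at this
  · have h3 : y * (adams P j z - (j : K) ^ b * z) ∈ gammaFiltration P (a + (b + 1)) :=
      filt_mul P hy.1 hz.2
    exact filt_smul P _ h3

/-- the universal symmetric polynomial argument: `ψ^j γ^i(e - m) ≡ j^i γ^i(e - m)` -/
lemma good_gamma_pos {P : PosStructure K} (hK : HasSplitting K P) (j : ℕ) {e : K} (he : e ∈ P.pos)
    (i : ℕ) : Good P j i (gamma i (e - ((P.aug e).toNat : K))) := by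
  have haugz : P.aug (e - ((P.aug e).toNat : K)) = 0 := by
    rw [map_sub, map_natCast, aug_toNat he, sub_self]
  refine ⟨gamma_mem_gammaFiltration P haugz i, ?_⟩
  obtain ⟨L, f, hf, hL, s, hs, hsum⟩ := exists_split' hK he
  have haug : P.aug e = (Multiset.card s : ℤ) := by
    rw [← hf.aug_comp, ← hsum, aug_sum_lines _ s hs]
  set m := (P.aug e).toNat with hm
  have hcard : Multiset.card s = m := by rw [hm, haug, Int.toNat_natCast]
  obtain ⟨U, hU⟩ := exists_enum s m hcard
  have hUline : ∀ k, L.posStr.IsLine (U k) := by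
    intro k
    apply hs
    rw [← hU]
    exact Multiset.mem_map_of_mem U (Finset.mem_univ_val k)
  set z := e - (m : K) with hz
  have hfz : f z = ∑ k : Fin m, (U k - 1) := by
    rw [hz, map_sub, map_natCast, ← hsum, ← hU, Finset.sum_sub_distrib]
    simp [List.sum_ofFn]
  obtain ⟨Q', hwt, hQ'⟩ := exists_adPoly m i j
  have hval : adams P j (gamma i z) - (j : K) ^ i * gamma i z =
      MvPolynomial.aeval (fun k : Fin m => gamma (k.1 + 1) z) Q' := by
    apply hf.injective
    have h1 : f (MvPolynomial.aeval (fun k : Fin m => gamma (k.1 + 1) z) Q') =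
        MvPolynomial.aeval (fun k : Fin m => f (gamma (k.1 + 1) z)) Q' :=
      MvPolynomial.comp_aeval_apply _ (f.toIntAlgHom) Q'
    rw [h1, map_sub, map_mul, map_pow, map_natCast, map_adams hf]
    simp only [map_gamma hf.isLambdaHom, hfz, gamma_sum_sub_one L.posStr U hUline]
    rw [aeval_adPoly m i j Q' hQ' (fun k => U k - 1)]
    congr 1
    change adamsRingHom hL j _ = _
    rw [map_sum]
    apply Finset.sum_congr rfl
    intro t _
    rw [map_prod]
    apply Finset.prod_congr rfl
    intro a _
    rw [map_sub, map_one]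
    change adams L.posStr j (U a) - 1 = _
    rw [adams_of_isLine _ (hUline a), add_sub_cancel]
  rw [hval]
  exact aeval_gamma_mem P haugz m (i + 1) Q' hwt

lemma gamma_zero_left (x : K) : gamma 0 x = 1 := by
  unfold gamma
  rw [if_pos rfl]

lemma gamma_zero_right (k : ℕ) : gamma k (0 : K) = if k = 0 then 1 else 0 := by
  rw [← coeff_gamSeries, gamSeries_zero, coeff_one]

lemma Good.cast {P : PosStructure K} {j a b : ℕ} {y : K} (h : Good P j a y) (hab : a = b) :
    Good P j b y := hab ▸ h

/-- `γ^b(-z)` is good once all `γ^i(z)` are -/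
lemma good_gamma_neg {P : PosStructure K} (hK : HasSplitting K P) (j : ℕ) {z : K}
    (hz : ∀ i, Good P j i (gamma i z)) : ∀ b, Good P j b (gamma b (-z)) := by
  intro b
  induction b using Nat.strong_induction_on with
  | _ b ih =>
    rcases Nat.eq_zero_or_pos b with rfl | hb
    · rw [gamma_zero_left]
      exact Good.one P j
    · have h := gamma_add b z (-z)
      rw [add_neg_cancel, gamma_zero_right, if_neg hb.ne', Finset.sum_range_succ', gamma_zero_left,
        one_mul, Nat.sub_zero] at h
      have h2 : gamma b (-z) = -∑ i ∈ range b, gamma (i + 1) z * gamma (b - (i + 1)) (-z) :=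
        eq_neg_of_add_eq_zero_right h.symm
      rw [h2]
      apply Good.neg
      apply Good.sum
      intro i hi
      have hib : i < b := Finset.mem_range.mp hi
      exact (Good.mul hK (hz (i + 1)) (ih (b - (i + 1)) (by omega))).cast (by omega)

/-- every `γ^r(x)` with `ε x = 0` is good -/
lemma good_gamma {P : PosStructure K} (hK : HasSplitting K P) (j : ℕ) {x : K} (hx : P.aug x = 0)
    (r : ℕ) : Good P j r (gamma r x) := by
  obtain ⟨e1, e2, he1, he2, rfl⟩ := P.exists_sub x
  have haug : P.aug e1 = P.aug e2 := by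
    rw [map_sub] at hx
    exact sub_eq_zero.mp hx
  have hx2 : e1 - e2 = (e1 - ((P.aug e1).toNat : K)) + -(e2 - ((P.aug e2).toNat : K)) := by
    rw [haug]; ring
  rw [hx2, gamma_add]
  apply Good.sum
  intro i hi
  have hir : i < r + 1 := Finset.mem_range.mp hi
  exact (Good.mul hK (good_gamma_pos hK j he1 i)
    (good_gamma_neg hK j (fun i => good_gamma_pos hK j he2 i) (r - i))).cast (by omega)

lemma good_list {P : PosStructure K} (hK : HasSplitting K P) (j : ℕ) (l : List (ℕ × K))
    (hl : ∀ p ∈ l, P.aug p.2 = 0) :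
    Good P j (l.map Prod.fst).sum (l.map fun p => gamma p.1 p.2).prod := by
  induction l with
  | nil => simpa using Good.one P j
  | cons p l ih =>
    rw [List.map_cons, List.sum_cons, List.map_cons, List.prod_cons]
    exact Good.mul hK (good_gamma hK j (hl p List.mem_cons_self) p.1)
      (ih fun q hq => hl q (List.mem_cons_of_mem p hq))

/-- `ψ^j x - j^n x ∈ F^{n+1}` for `x ∈ F^n` (S3292) -/
theorem adams_sub_pow_mul_mem {P : PosStructure K} (hK : HasSplitting K P) (j n : ℕ) {x : K}
    (hx : x ∈ gammaFiltration P n) :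
    adams P j x - (j : K) ^ n * x ∈ gammaFiltration P (n + 1) := by
  by_cases hn : n = 0
  · subst hn
    apply mem_gammaFiltration_one_of_aug_eq_zero
    rw [pow_zero, one_mul, map_sub, aug_adams hK, sub_self]
  · rw [Groth.Agent.S3291.filt_pos P hn] at hx
    induction hx using AddSubgroup.closure_induction with
    | mem y hy =>
      obtain ⟨l, hl, hsum, rfl⟩ := hy
      have hg := good_list hK j l hl
      set R := (l.map Prod.fst).sum with hR
      set y := (l.map fun p => gamma p.1 p.2).prod with hy
      rcases Nat.eq_or_lt_of_le hsum with h | h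
      · rw [h]; exact hg.2
      · apply AddSubgroup.sub_mem
        · exact filt_anti P h hg.adams_mem
        · exact filt_smul P _ (filt_anti P h hg.1)
    | zero =>
      rw [adams_zero, mul_zero, sub_zero]
      exact AddSubgroup.zero_mem _
    | add y z _ _ hy hz =>
      have h : adams P j (y + z) - (j : K) ^ n * (y + z) =
          (adams P j y - (j : K) ^ n * y) + (adams P j z - (j : K) ^ n * z) := by
        rw [adams_add]; ring
      rw [h]
      exact AddSubgroup.add_mem _ hy hz
    | neg y _ hy =>
      have h : adams P j (-y) - (j : K) ^ n * (-y) = -(adams P j y - (j : K) ^ n * y) := by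
        rw [adams_neg]; ring
      rw [h]
      exact AddSubgroup.neg_mem _ hy

/-- `ψ^j` preserves the γ-filtration -/
theorem adams_mem_gammaFiltration {P : PosStructure K} (hK : HasSplitting K P) (j n : ℕ) {x : K}
    (hx : x ∈ gammaFiltration P n) : adams P j x ∈ gammaFiltration P n := by
  have h : adams P j x = (adams P j x - (j : K) ^ n * x) + (j : K) ^ n * x := by ring
  rw [h]
  exact AddSubgroup.add_mem _ (filt_anti P (Nat.le_succ n) (adams_sub_pow_mul_mem hK j n hx))
    (filt_smul P _ hx)

end Groth.Agent.Lib.Helper17.Lam
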