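import Groth.Agent.Lib.Helper17.LambdaBott
import Groth.Agent.Lib.Helper17.LambdaAdamsFilt
import Mathlib.RingTheory.AdjoinRoot
import Mathlib.Algebra.Polynomial.Expand
import Mathlib.Algebra.Ring.GeomSum

/-!
# λ-ring input for the Adams–Riemann–Roch formula of an elementary projection (helper17)

* `lam_line_mul`: `λ^n(u y) = u^n λ^n(y)` for a line element `u` (splitting principle);
* `bott_mul_pow_eq`: `θ^j(e ℓ⁻¹) ℓ^{(j-1)m} = q(ℓ)` where `p_e^{ψ}(X^j) = p_e q`;
* `aug_bott`, `pow_eq_zero_of_aug_eq_zero`.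
-/

set_option autoImplicit false

universe u

open Finset LambdaRing

namespace Groth.Agent.Lib.Helper17.Lam

variable {K : Type u} [CommRing K] [LambdaOps K]

/-! ### multiplication by a line element -/

lemma coeff_linProd_map_mul {R : Type*} [CommRing R] (c : R) (s : Multiset R) (n : ℕ) :
    (linProd (s.map fun a => c * a)).coeff n = c ^ n * (linProd s).coeff n := by
  by_cases hn : n ≤ Multiset.card s
  · rw [coeff_linProd_eq_esymm _ _ (by rw [Multiset.card_map]; exact hn),
      coeff_linProd_eq_esymm _ _ hn]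
    have := Multiset.pow_smul_esymm c n s
    simp only [smul_eq_mul] at this
    exact this.symm
  · push Not at hn
    rw [Polynomial.coeff_eq_zero_of_natDegree_lt, Polynomial.coeff_eq_zero_of_natDegree_lt,
      mul_zero]
    · exact lt_of_le_of_lt (natDegree_linProd_le s) hn
    · refine lt_of_le_of_lt (natDegree_linProd_le _) ?_
      rw [Multiset.card_map]; exact hn

lemma lam_line_mul_pos {P : PosStructure K} (hK : HasSplitting K P) {u : K} (hu : P.IsLine u)
    {y : K} (hy : y ∈ P.pos) (n : ℕ) :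
    LambdaOps.lam n (u * y) = u ^ n * LambdaOps.lam n y := by
  obtain ⟨L, f, hf, -, s, hs, hsum⟩ := exists_split' hK hy
  apply hf.injective
  rw [hf.isLambdaHom, map_mul, map_mul, map_pow, hf.isLambdaHom, ← hsum]
  have hfu : L.posStr.IsLine (f u) := IsExtension.isLine hf hu
  have h1 : f u * s.sum = (s.map fun a => f u * a).sum := by
    rw [Multiset.sum_map_mul_left, Multiset.map_id']
  have hs' : ∀ a ∈ s.map (fun a => f u * a), L.posStr.IsLine a := by
    intro a ha
    obtain ⟨b, hb, rfl⟩ := Multiset.mem_map.mp ha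
    exact isLine_mul _ hfu (hs b hb)
  rw [h1, lam_sum_lines _ _ hs', lam_sum_lines _ _ hs, coeff_linProd_map_mul]

open PowerSeries in
/-- `λ^n(u y) = u^n λ^n(y)` for a line element `u` -/
theorem lam_line_mul {P : PosStructure K} (hK : HasSplitting K P) {u : K} (hu : P.IsLine u)
    (n : ℕ) (y : K) : LambdaOps.lam n (u * y) = u ^ n * LambdaOps.lam n y := by
  obtain ⟨a, b, ha, hb, rfl⟩ := P.exists_sub y
  have hpos : ∀ z ∈ P.pos, lamSeries (u * z) = rescale u (lamSeries z) := by
    intro z hz
    ext k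
    rw [coeff_rescale, coeff_lamSeries, coeff_lamSeries, lam_line_mul_pos hK hu hz]
  have h1 : lamSeries (u * (a - b)) * lamSeries (u * b) = lamSeries (u * a) := by
    rw [← lamSeries_add]; congr 1; ring
  have h2 : lamSeries (a - b) * lamSeries b = lamSeries a := by
    rw [← lamSeries_add]; congr 1; ring
  rw [hpos a ha, hpos b hb, ← h2, map_mul] at h1
  have hunit : IsUnit (rescale u (lamSeries b)) := by
    rw [PowerSeries.isUnit_iff_constantCoeff, ← coeff_zero_eq_constantCoeff_apply, coeff_rescale,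
      pow_zero, one_mul, coeff_lamSeries, LambdaOps.lam_zero]
    exact isUnit_one
  have h3 := hunit.mul_left_injective h1
  have h4 := congrArg (coeff n) h3
  rwa [coeff_rescale, coeff_lamSeries, coeff_lamSeries] at h4

/-- the same for the inverse of a line element -/
theorem lam_inv_line_mul {P : PosStructure K} (hK : HasSplitting K P) {u v : K} (hu : P.IsLine u)
    (huv : v * u = 1) (n : ℕ) (y : K) : LambdaOps.lam n (v * y) = v ^ n * LambdaOps.lam n y := by
  have h1 : LambdaOps.lam n y = u ^ n * LambdaOps.lam n (v * y) := by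
    rw [← lam_line_mul hK hu]
    congr 1
    calc y = (v * u) * y := by rw [huv, one_mul]
      _ = u * (v * y) := by ring
  rw [h1]
  calc LambdaOps.lam n (v * y) = (v * u) ^ n * LambdaOps.lam n (v * y) := by
        rw [huv, one_pow, one_mul]
    _ = _ := by ring

/-! ### nilpotency -/

lemma pow_eq_zero_of_aug_eq_zero (P : PosStructure K) (N : ℕ) (hN : gammaFiltration P N = ⊥)
    {y : K} (hy : P.aug y = 0) : y ^ N = 0 := by
  have h1 := filt_pow P (mem_gammaFiltration_one_of_aug_eq_zero P hy) N
  rw [one_mul, hN] at h1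
  exact (AddSubgroup.mem_bot).mp h1


/-! ### the Bott class of `e ℓ⁻¹` -/

section Bott

variable {B : Type u} [CommRing B] [LambdaOps B]

lemma aug_inv_line {PB : PosStructure B} {ℓ linv : B} (hℓ : PB.IsLine ℓ) (hlinv : linv * ℓ = 1) :
    PB.aug linv = 1 := by
  have h := congrArg PB.aug hlinv
  rwa [map_mul, hℓ.2, mul_one, map_one] at h

/-- splitting `e` after the extension to `B`, with the value of the Bott class of `e ℓ⁻¹` -/
lemma exists_split_bott {P : PosStructure K} {PB : PosStructure B} (hB : HasSplitting B PB)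
    {φ : K →+* B} (hφ : IsExtension P PB φ) {e : K} (he : e ∈ P.pos) (m : ℕ)
    (hm : P.aug e = m) {ℓ linv : B} (hℓ : PB.IsLine ℓ) (hlinv : linv * ℓ = 1) (j : ℕ) :
    ∃ (L : PosLambdaRing.{u}) (g : B →+* L.carrier), IsExtension PB L.posStr g ∧
      HasSplitting L.carrier L.posStr ∧
      ∃ s : Multiset L.carrier, (∀ a ∈ s, L.posStr.IsLine a) ∧ s.sum = g (φ e) ∧
        Multiset.card s = m ∧
        g (KRR.bott PB j (φ e * linv)) =
          (s.map fun v => ∑ k ∈ range j, (g linv * v) ^ k).prod := by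
  have he' : φ e ∈ PB.pos := hφ.pos_subset e he
  obtain ⟨L, g, hg, hL, s, hs, hsum⟩ := exists_split' hB he'
  have hcard : Multiset.card s = m := by
    have h1 : PB.aug (φ e) = (Multiset.card s : ℤ) := by
      rw [← hg.aug_comp, ← hsum, aug_sum_lines _ s hs]
    rw [hφ.aug_comp, hm] at h1
    exact_mod_cast h1.symm
  refine ⟨L, g, hg, hL, s, hs, hsum, hcard, ?_⟩
  have haug : (PB.aug (φ e * linv)).toNat = m := by
    rw [map_mul, aug_inv_line hℓ hlinv, mul_one, hφ.aug_comp, hm, Int.toNat_natCast]
  unfold KRR.bott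
  have e1 := MvPolynomial.comp_aeval_apply (R := ℤ) (φ := g.toIntAlgHom)
    (f := fun i : Fin (PB.aug (φ e * linv)).toNat => LambdaOps.lam (i.1 + 1) (φ e * linv))
    (KRR.bottPoly j (PB.aug (φ e * linv)).toNat)
  rw [show g (MvPolynomial.aeval (fun i : Fin (PB.aug (φ e * linv)).toNat =>
      LambdaOps.lam (i.1 + 1) (φ e * linv)) (KRR.bottPoly j (PB.aug (φ e * linv)).toNat)) =
    g.toIntAlgHom (MvPolynomial.aeval (fun i : Fin (PB.aug (φ e * linv)).toNat =>
      LambdaOps.lam (i.1 + 1) (φ e * linv)) (KRR.bottPoly j (PB.aug (φ e * linv)).toNat))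
    from rfl, e1]
  have h2 := aeval_bottPoly_multiset j (PB.aug (φ e * linv)).toNat (s.map fun v => g linv * v)
    (by rw [Multiset.card_map, hcard, haug])
    (fun i => g.toIntAlgHom (LambdaOps.lam i (φ e * linv))) (by
      intro i _ hi
      change g (LambdaOps.lam i (φ e * linv)) = _
      rw [mul_comm (φ e) linv, lam_inv_line_mul hB hℓ hlinv, map_mul, map_pow, hg.isLambdaHom,
        ← hsum, lam_sum_lines L.posStr s hs,
        coeff_linProd_eq_esymm s i (by rw [hcard, ← haug]; exact hi)]
      have := Multiset.pow_smul_esymm (g linv) i s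
      simp only [smul_eq_mul] at this
      exact this)
  rw [Multiset.map_map] at h2
  exact h2

/-- `ε(θ^j(e ℓ⁻¹)) = j^m` -/
lemma aug_bott {P : PosStructure K} {PB : PosStructure B} (hB : HasSplitting B PB)
    {φ : K →+* B} (hφ : IsExtension P PB φ) {e : K} (he : e ∈ P.pos) (m : ℕ)
    (hm : P.aug e = m) {ℓ linv : B} (hℓ : PB.IsLine ℓ) (hlinv : linv * ℓ = 1) (j : ℕ) :
    PB.aug (KRR.bott PB j (φ e * linv)) = (j : ℤ) ^ m := by
  obtain ⟨L, g, hg, -, s, hs, -, hcard, hθ⟩ := exists_split_bott hB hφ he m hm hℓ hlinv j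
  rw [← hg.aug_comp, hθ, map_multiset_prod, Multiset.map_map]
  have : (s.map (⇑L.posStr.aug ∘ fun v => ∑ k ∈ range j, (g linv * v) ^ k)) =
      s.map (fun _ => (j : ℤ)) := by
    apply Multiset.map_congr rfl
    intro v hv
    simp only [Function.comp_apply, map_sum, map_pow, map_mul]
    rw [hg.aug_comp, aug_inv_line hℓ hlinv, (hs v hv).2]
    simp
  rw [this, Multiset.map_const', Multiset.prod_replicate, hcard]

open Polynomial in
/-- `θ^j(e ℓ⁻¹) ℓ^{(j-1)m} = q(ℓ)` where `p_e^{ψ^j}(X^j) = p_e q` -/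
theorem bott_mul_pow_eq {P : PosStructure K} (hK : HasSplitting K P) {PB : PosStructure B}
    (hB : HasSplitting B PB) {φ : K →+* B} (hφ : IsExtension P PB φ) {e : K} (he : e ∈ P.pos)
    (m : ℕ) (hm : P.aug e = m) {ℓ linv : B} (hℓ : PB.IsLine ℓ) (hlinv : linv * ℓ = 1) (j : ℕ)
    (hj : 1 ≤ j) (q : K[X])
    (hpq : expand K j ((KRR.extPoly P e).map (adamsRingHom hK j)) = KRR.extPoly P e * q) :
    KRR.bott PB j (φ e * linv) * ℓ ^ ((j - 1) * m) = eval₂ φ ℓ q := by
  obtain ⟨L, g, hg, hL, s, hs, hsum, hcard, hθ⟩ := exists_split_bott hB hφ he m hm hℓ hlinv j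
  apply hg.injective
  set G : K →+* L.carrier := g.comp φ with hG
  set b := g ℓ with hb
  set c := g linv with hc
  have hcb : c * b = 1 := by rw [hc, hb, ← map_mul, hlinv, map_one]
  have htoNat : (P.aug e).toNat = m := by rw [hm, Int.toNat_natCast]
  -- T1
  have hT1 : (KRR.extPoly P e).map G = (s.map fun v => X - C v).prod := by
    rw [Multiset.prod_X_sub_X_eq_sum_esymm, hcard]
    unfold KRR.extPoly
    rw [htoNat, Polynomial.map_sum]
    apply Finset.sum_congr rfl
    intro i hi
    have hi' : i ≤ m := Nat.lt_succ_iff.mp (Finset.mem_range.mp hi)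
    rw [Polynomial.map_mul, Polynomial.map_C, Polynomial.map_pow, Polynomial.map_X, map_mul,
      map_pow, map_neg, map_one]
    have h1 : G (LambdaOps.lam i e) = s.esymm i := by
      rw [hG, RingHom.comp_apply, hφ.isLambdaHom, hg.isLambdaHom, ← hsum,
        lam_sum_lines L.posStr s hs, coeff_linProd_eq_esymm s i (by rw [hcard]; exact hi')]
    rw [h1, map_mul, map_pow, map_neg, map_one]
    ring
  -- T2
  have hcomm : G.comp (adamsRingHom hK j) = (adamsRingHom hL j).comp G := by
    ext a
    change g (φ (adams P j a)) = adams L.posStr j (g (φ a))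
    rw [map_adams hφ, map_adams hg]
  have hT2 : ((KRR.extPoly P e).map (adamsRingHom hK j)).map G =
      (s.map fun v => X - C (v ^ j)).prod := by
    rw [Polynomial.map_map, hcomm, ← Polynomial.map_map, hT1, Polynomial.map_multiset_prod,
      Multiset.map_map]
    congr 1
    apply Multiset.map_congr rfl
    intro v hv
    simp only [Function.comp_apply, Polynomial.map_sub, Polynomial.map_X, Polynomial.map_C]
    congr 2
    change adams L.posStr j v = v ^ j
    exact adams_of_isLine _ (hs v hv) j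
  -- T3, T4
  have hH : ∀ v : L.carrier, (X : L.carrier[X]) ^ j - C (v ^ j) =
      (X - C v) * ∑ i ∈ range j, X ^ i * (C v) ^ (j - 1 - i) := by
    intro v
    rw [mul_comm, geom_sum₂_mul, map_pow]
  have hT3 : expand L.carrier j ((s.map fun v => X - C (v ^ j)).prod) =
      (s.map fun v => X - C v).prod *
        (s.map fun v => ∑ i ∈ range j, (X : L.carrier[X]) ^ i * (C v) ^ (j - 1 - i)).prod := by
    rw [map_multiset_prod, Multiset.map_map, ← Multiset.prod_map_mul]
    congr 1
    apply Multiset.map_congr rfl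
    intro v _
    simp only [Function.comp_apply, map_sub, expand_X, expand_C]
    exact hH v
  have hT4 : q.map G =
      (s.map fun v => ∑ i ∈ range j, (X : L.carrier[X]) ^ i * (C v) ^ (j - 1 - i)).prod := by
    have h1 := congrArg (Polynomial.map G) hpq
    rw [Polynomial.map_expand, hT2, hT3, Polynomial.map_mul, hT1] at h1
    have hmonic : ((s.map fun v => (X : L.carrier[X]) - C v).prod).Monic :=
      monic_multiset_prod_of_monic _ _ (fun v _ => monic_X_sub_C v)
    exact (hmonic.isRegular.left h1).symm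
  -- T5
  have hT5 : g (eval₂ φ ℓ q) = (s.map fun v => ∑ i ∈ range j, b ^ i * v ^ (j - 1 - i)).prod := by
    rw [Polynomial.hom_eval₂, ← Polynomial.eval_map, ← hG, hT4, Polynomial.eval_multiset_prod,
      Multiset.map_map]
    congr 1
    apply Multiset.map_congr rfl
    intro v _
    simp only [Function.comp_apply, Polynomial.eval_finsetSum, Polynomial.eval_mul,
      Polynomial.eval_pow, Polynomial.eval_X, Polynomial.eval_C]
    rfl
  -- T7
  rw [hT5, map_mul, map_pow, hθ, ← hb]
  have hpw : b ^ ((j - 1) * m) = (s.map fun _ => b ^ (j - 1)).prod := by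
    rw [Multiset.map_const', Multiset.prod_replicate, hcard, pow_mul]
  rw [hpw, ← Multiset.prod_map_mul]
  congr 1
  apply Multiset.map_congr rfl
  intro v _
  rw [Finset.sum_mul, ← Finset.sum_range_reflect]
  apply Finset.sum_congr rfl
  intro k hk
  have hk' := Finset.mem_range.mp hk
  have e1 : j - 1 = (j - 1 - k) + k := by omega
  calc (c * v) ^ (j - 1 - k) * b ^ (j - 1) = (c * v) ^ (j - 1 - k) * b ^ ((j - 1 - k) + k) := by
        rw [← e1]
    _ = (c * b) ^ (j - 1 - k) * (v ^ (j - 1 - k) * b ^ k) := by rw [pow_add]; ring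
    _ = b ^ k * v ^ (j - 1 - k) := by rw [hcb, one_pow, one_mul, mul_comm]

end Bott

end Groth.Agent.Lib.Helper17.Lam
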