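import Mathlib.RingTheory.AdjoinRoot
import Mathlib.Algebra.Ring.GeomSum
import Mathlib.Algebra.Polynomial.Monic

/-!
# Elements of `A[T]/(p)` killed by `1 - T` (helper17)
-/

set_option autoImplicit false

open Polynomial Finset

namespace Groth.Agent.Lib.Helper17.Euler

variable {A : Type*} [CommRing A]

/-- `p = ∑_{i ≤ m} μ_i X^{m-i}` -/
noncomputable def pol (μ : ℕ → A) (m : ℕ) : A[X] := ∑ i ∈ range (m + 1), C (μ i) * X ^ (m - i)

/-- `(p - p(1))/(X - 1)` -/
noncomputable def quo (μ : ℕ → A) (m : ℕ) : A[X] :=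
  ∑ i ∈ range (m + 1), C (μ i) * ∑ j ∈ range (m - i), X ^ j

lemma pol_eq (μ : ℕ → A) (m : ℕ) :
    pol μ m = C (∑ i ∈ range (m + 1), μ i) + (X - 1) * quo μ m := by
  unfold pol quo
  rw [Finset.mul_sum, map_sum, ← Finset.sum_add_distrib]
  apply Finset.sum_congr rfl
  intro i _
  rw [mul_left_comm, mul_geom_sum]
  ring

lemma pol_natDegree_le (μ : ℕ → A) (m : ℕ) : (pol μ m).natDegree ≤ m := by
  unfold pol
  apply natDegree_sum_le_of_forall_le
  intro i _
  exact (natDegree_C_mul_X_pow_le _ _).trans (Nat.sub_le _ _)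

lemma pol_coeff (μ : ℕ → A) (hμ : μ 0 = 1) (m : ℕ) : (pol μ m).coeff m = 1 := by
  unfold pol
  rw [finsetSum_coeff, Finset.sum_eq_single 0]
  · rw [coeff_C_mul_X_pow, Nat.sub_zero, if_pos rfl, hμ]
  · intro i hi hi0
    have := Finset.mem_range.mp hi
    rw [coeff_C_mul_X_pow, if_neg (by omega)]
  · intro h
    exact absurd (Finset.mem_range.mpr (Nat.succ_pos m)) h

lemma pol_monic (μ : ℕ → A) (hμ : μ 0 = 1) (m : ℕ) : (pol μ m).Monic :=
  monic_of_natDegree_le_of_coeff_eq_one m (pol_natDegree_le μ m) (pol_coeff μ hμ m)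

lemma pol_natDegree [Nontrivial A] (μ : ℕ → A) (hμ : μ 0 = 1) (m : ℕ) :
    (pol μ m).natDegree = m := by
  apply le_antisymm (pol_natDegree_le μ m)
  apply le_natDegree_of_ne_zero
  rw [pol_coeff μ hμ m]
  exact one_ne_zero

/-- elements killed by `1 - root` are multiples of `quo(root)` -/
theorem exists_eq_of_mul (μ : ℕ → A) (hμ : μ 0 = 1) (r : ℕ) (p : A[X]) (hp : p = pol μ (r + 1))
    (z : AdjoinRoot p) (hz : z * (1 - AdjoinRoot.root p) = 0) :
    ∃ a : A, z = AdjoinRoot.of p a *
      ∑ i ∈ range (r + 1 + 1), AdjoinRoot.of p (μ i) * ∑ j ∈ range (r + 1 - i), AdjoinRoot.root p ^ j := by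
  subst hp
  rcases subsingleton_or_nontrivial A with hA | hA
  · have : Subsingleton (AdjoinRoot (pol μ (r + 1))) := by
      have h01 : (0 : AdjoinRoot (pol μ (r + 1))) = 1 := by
        rw [← map_zero (AdjoinRoot.of (pol μ (r + 1))), ← map_one (AdjoinRoot.of (pol μ (r + 1))),
          Subsingleton.elim (0 : A) 1]
      exact subsingleton_of_zero_eq_one h01
    exact ⟨0, Subsingleton.elim _ _⟩
  have hmonic := pol_monic μ hμ (r + 1)
  have hnat := pol_natDegree μ hμ (r + 1)
  set g := AdjoinRoot.modByMonicHom hmonic z with hg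
  have hgz : AdjoinRoot.mk (pol μ (r + 1)) g = z := AdjoinRoot.mk_leftInverse hmonic z
  have hgdeg : g.natDegree ≤ r := by
    have h1 : g = (AdjoinRoot.modByMonicHom hmonic) (AdjoinRoot.mk (pol μ (r + 1)) g) := by
      rw [hgz]
    rw [AdjoinRoot.modByMonicHom_mk] at h1
    by_cases hg0 : g = 0
    · rw [hg0]; simp
    · have h2 := natDegree_modByMonic_lt g hmonic (by
        intro h1'
        have := hnat
        rw [h1', natDegree_one] at this
        omega)
      rw [← h1, hnat] at h2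
      omega
  have h1 : pol μ (r + 1) ∣ g * (1 - X) := by
    rw [← AdjoinRoot.mk_eq_zero, map_mul, map_sub, map_one, AdjoinRoot.mk_X, hgz]
    exact hz
  obtain ⟨k, hk⟩ := h1
  -- `k` is a constant
  obtain ⟨b, hb⟩ : ∃ b : A, k = C b := by
    by_cases hk0 : k = 0
    · exact ⟨0, by rw [hk0, map_zero]⟩
    · have h2 : (pol μ (r + 1) * k).natDegree = (pol μ (r + 1)).natDegree + k.natDegree :=
        hmonic.natDegree_mul' hk0
      have h3 : (g * (1 - X)).natDegree ≤ r + 1 := by
        refine natDegree_mul_le.trans ?_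
        have : (1 - X : A[X]).natDegree ≤ 1 := by
          refine (natDegree_sub_le _ _).trans ?_
          simp
        omega
      rw [hk, h2, hnat] at h3
      exact ⟨k.coeff 0, eq_C_of_natDegree_eq_zero (by omega)⟩
  rw [hb] at hk
  -- evaluate at `1`
  have heval : (∑ i ∈ range (r + 1 + 1), μ i) * b = 0 := by
    have h2 := congrArg (eval 1) hk
    rw [eval_mul, eval_sub, eval_one, eval_X, sub_self, mul_zero, eval_mul, eval_C, pol_eq,
      eval_add, eval_C, eval_mul, eval_sub, eval_X, eval_one, sub_self, zero_mul, add_zero] at h2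
    exact h2.symm
  have hg2 : g = C (-b) * quo μ (r + 1) := by
    have hreg : IsRegular (X - C 1 : A[X]) := (monic_X_sub_C (1 : A)).isRegular
    apply hreg.left
    change (X - C 1) * g = (X - C 1) * (C (-b) * quo μ (r + 1))
    have h3 : (X - C 1) * g = -(g * (1 - X)) := by
      rw [map_one]; ring
    rw [h3, hk, pol_eq, map_one, add_mul, ← C_mul, heval, map_zero, zero_add, map_neg]
    ring
  refine ⟨-b, ?_⟩
  rw [← hgz, hg2, map_mul, AdjoinRoot.mk_C]
  congr 1
  unfold quo
  rw [map_sum]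
  apply Finset.sum_congr rfl
  intro i _
  rw [map_mul, AdjoinRoot.mk_C, map_sum]
  simp only [map_pow, AdjoinRoot.mk_X]

end Groth.Agent.Lib.Helper17.Euler
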