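import Groth.Agent.Lib.Helper17.ARRAlg
import Groth.Agent.Lib.Helper17.AdjoinRootEuler
import Mathlib.RingTheory.Nilpotent.Basic

/-!
# The abstract Adams–Riemann–Roch formula for `K[T]/(p)` (helper17)
-/

set_option autoImplicit false

open Polynomial Finset

namespace Groth.Agent.Lib.Helper17.ARR

section Dvd

variable {K : Type*} [CommRing K]

/-- `p ∣ p^ψ(X^j)` when `ψ` lifts to an endomorphism `Ψ` of `K[T]/(p)` with `Ψ(ℓ) = ℓ^j` -/
lemma dvd_expand_map (p : K[X]) (ψ : K →+* K) (Ψ : AdjoinRoot p →+* AdjoinRoot p)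
    (hΨof : ∀ c, Ψ (AdjoinRoot.of p c) = AdjoinRoot.of p (ψ c)) (j : ℕ)
    (hΨℓ : Ψ (AdjoinRoot.root p) = AdjoinRoot.root p ^ j) : p ∣ expand K j (p.map ψ) := by
  rw [← AdjoinRoot.mk_eq_zero, ← AdjoinRoot.aeval_eq, expand_aeval, aeval_def, eval₂_map]
  have h1 : (algebraMap K (AdjoinRoot p)).comp ψ = Ψ.comp (AdjoinRoot.of p) := by
    ext c
    simp only [RingHom.comp_apply, AdjoinRoot.algebraMap_eq]
    exact (hΨof c).symm
  rw [h1, ← hΨℓ, ← Polynomial.hom_eval₂, AdjoinRoot.eval₂_root, map_zero]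

end Dvd

section Assembly

variable {K : Type*} [CommRing K] {A : Type*} [CommRing A] {BR : Type*} [CommRing BR]

theorem arr_abstract
    (a σ : ℕ → K) (r : ℕ) (ha0 : a 0 = 1) (ha_big : ∀ i, r + 1 < i → a i = 0) (hσ0 : σ 0 = 1)
    (hnewton : ∀ n, 0 < n → ∑ i ∈ range (n + 1), a i * σ (n - i) = 0)
    (hau : IsUnit (a (r + 1)))
    (p : K[X]) (hp : p = ∑ i ∈ range (r + 1 + 1), C (a i) * X ^ (r + 1 - i))
    (f : AdjoinRoot p →ₗ[K] K) (hf : ∀ i, f (AdjoinRoot.root p ^ i) = σ i)
    (ψ : K →+* K) (Ψ : AdjoinRoot p →+* AdjoinRoot p)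
    (hΨof : ∀ c, Ψ (AdjoinRoot.of p c) = AdjoinRoot.of p (ψ c))
    (j : ℕ) (hj : 1 ≤ j) (hΨℓ : Ψ (AdjoinRoot.root p) = AdjoinRoot.root p ^ j)
    (q : K[X]) (hpq : expand K j (p.map ψ) = p * q)
    (θ : AdjoinRoot p) (hθ : θ * AdjoinRoot.root p ^ ((j - 1) * (r + 1)) = AdjoinRoot.mk p q)
    (N : ℕ) (hN1 : (AdjoinRoot.root p - 1) ^ N = 0)
    (hN2 : (θ - (j : AdjoinRoot p) ^ (r + 1)) ^ N = 0)
    (iA : K →+* A) (jinv : A) (hjinv : (j : A) * jinv = 1)
    (iB : AdjoinRoot p →+* BR) (ofR : A →+* BR)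
    (hcomm : ∀ c, ofR (iA c) = iB (AdjoinRoot.of p c))
    (FR : BR →+ A) (hFRlin : ∀ c y, FR (ofR c * y) = c * FR y)
    (hFRi : ∀ b, FR (iB b) = iA (f b))
    (w : BR) (hw : w * iB θ = 1) (x : AdjoinRoot p) :
    iA (ψ (f x)) = FR ((j : BR) * w * iB (Ψ x)) := by
  nontriviality A
  have : Nontrivial K := iA.domain_nontrivial
  have hpm : p.Monic := by rw [hp]; exact Euler.pol_monic a ha0 (r + 1)
  have hdeg : p.natDegree = r + 1 := by rw [hp]; exact Euler.pol_natDegree a ha0 (r + 1)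
  have hp0 : p.coeff 0 = a (r + 1) := by
    rw [hp, finsetSum_coeff, Finset.sum_eq_single_of_mem (r + 1) (Finset.mem_range.mpr (by omega))]
    · simp
    · intro i hi hne
      have := Finset.mem_range.mp hi
      rw [coeff_C_mul, coeff_X_pow, if_neg (by omega), mul_zero]
  have hp2m : (p.map ψ).Monic := hpm.map ψ
  have hqm : q.Monic := by
    have h1 : (expand K j (p.map ψ)).Monic := hp2m.expand (by omega)
    rw [hpq] at h1
    exact hpm.of_mul_monic_left h1
  have hpAm : (p.map iA).Monic := hpm.map iA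
  have hp2Am : ((p.map ψ).map iA).Monic := hp2m.map iA
  have hqAm : (q.map iA).Monic := hqm.map iA
  have hdegA : (p.map iA).natDegree = r + 1 := by rw [hpm.natDegree_map, hdeg]
  have hdeg2A : ((p.map ψ).map iA).natDegree = r + 1 := by
    rw [hp2m.natDegree_map, hpm.natDegree_map, hdeg]
  have hpqA : expand A j ((p.map ψ).map iA) = p.map iA * q.map iA := by
    rw [← Polynomial.map_expand, hpq, Polynomial.map_mul]
  -- the comparison maps
  set β : AdjoinRoot p →+* AdjoinRoot (p.map iA) := AdjoinRoot.map iA p (p.map iA) dvd_rfl with hβ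
  have hκ0 : (p.map iA).eval₂ ofR (iB (AdjoinRoot.root p)) = 0 := by
    rw [eval₂_map]
    have h1 : ofR.comp iA = iB.comp (AdjoinRoot.of p) := by
      ext c; exact hcomm c
    rw [h1, ← Polynomial.hom_eval₂, AdjoinRoot.eval₂_root, map_zero]
  set κ : AdjoinRoot (p.map iA) →+* BR := AdjoinRoot.lift ofR (iB (AdjoinRoot.root p)) hκ0 with hκ
  have hκβ : ∀ b, κ (β b) = iB b := by
    intro b
    have : κ.comp β = iB := by
      apply AdjoinRoot.ringHom_ext
      · ext c
        simp only [RingHom.comp_apply, hβ, hκ, AdjoinRoot.map_of, AdjoinRoot.lift_of]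
        exact hcomm c
      · simp only [RingHom.comp_apply, hβ, hκ, AdjoinRoot.map_root, AdjoinRoot.lift_root]
    exact congrFun (congrArg DFunLike.coe this) b
  have hκof : ∀ c, κ (AdjoinRoot.of (p.map iA) c) = ofR c := fun c => by
    rw [hκ, AdjoinRoot.lift_of]
  have hκroot : κ (AdjoinRoot.root (p.map iA)) = iB (AdjoinRoot.root p) := by
    rw [hκ, AdjoinRoot.lift_root]
  have hβroot : β (AdjoinRoot.root p) = AdjoinRoot.root (p.map iA) := by
    rw [hβ, AdjoinRoot.map_root]
  have hβof : ∀ c, β (AdjoinRoot.of p c) = AdjoinRoot.of (p.map iA) (iA c) := fun c => by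
    rw [hβ, AdjoinRoot.map_of]
  have hβmk : ∀ g : K[X], β (AdjoinRoot.mk p g) = AdjoinRoot.mk (p.map iA) (g.map iA) := by
    intro g
    rw [← AdjoinRoot.aeval_eq, ← AdjoinRoot.aeval_eq, aeval_def, aeval_def, eval₂_map,
      Polynomial.hom_eval₂, hβroot]
    congr 1
    ext c
    simp only [RingHom.comp_apply, AdjoinRoot.algebraMap_eq]
    exact hβof c
  -- Newton data over `A`
  have hpA : p.map iA = ∑ i ∈ range (r + 1 + 1), C (iA (a i)) * X ^ (r + 1 - i) := by
    rw [hp, Polynomial.map_sum]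
    apply Finset.sum_congr rfl
    intro i _
    rw [Polynomial.map_mul, Polynomial.map_C, Polynomial.map_pow, Polynomial.map_X]
  have hp2A : (p.map ψ).map iA =
      ∑ i ∈ range (r + 1 + 1), C (iA (ψ (a i))) * X ^ (r + 1 - i) := by
    rw [hp, Polynomial.map_sum, Polynomial.map_sum]
    apply Finset.sum_congr rfl
    intro i _
    simp only [Polynomial.map_mul, Polynomial.map_C, Polynomial.map_pow, Polynomial.map_X]
  have htauA : ∀ n, tau hpAm (AdjoinRoot.root (p.map iA) ^ (r + n)) = iA (σ n) := by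
    intro n
    refine tau_pow (fun i => iA (a i)) (fun i => iA (σ i)) r ?_ ?_ ?_ ?_ hpA hpAm n
    · simp only [ha0, map_one]
    · intro i hi; simp only [ha_big i hi, map_zero]
    · simp only [hσ0, map_one]
    · intro n hn
      have := congrArg iA (hnewton n hn)
      simpa only [map_sum, map_mul, map_zero] using this
  have htau2A : ∀ n, tau hp2Am (AdjoinRoot.root ((p.map ψ).map iA) ^ (r + n)) = iA (ψ (σ n)) := by
    intro n
    refine tau_pow (fun i => iA (ψ (a i))) (fun i => iA (ψ (σ i))) r ?_ ?_ ?_ ?_ hp2A hp2Am n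
    · simp only [ha0, map_one]
    · intro i hi; simp only [ha_big i hi, map_zero]
    · simp only [hσ0, map_one]
    · intro n hn
      have := congrArg (fun z => iA (ψ z)) (hnewton n hn)
      simpa only [map_sum, map_mul, map_zero] using this
  -- the functional `FR ∘ κ`
  have hFκ : ∀ y : AdjoinRoot (p.map iA),
      FR (κ y) = tau hpAm (AdjoinRoot.root (p.map iA) ^ r * y) := by
    apply adjoinRoot_induction
    · intro y z hy hz
      rw [map_add, map_add, hy, hz, mul_add, map_add]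
    · intro c k
      rw [map_mul, map_pow, hκof, hκroot, hFRlin, ← map_pow, hFRi, hf]
      rw [show AdjoinRoot.root (p.map iA) ^ r * (AdjoinRoot.of (p.map iA) c *
        AdjoinRoot.root (p.map iA) ^ k) = AdjoinRoot.of (p.map iA) c *
        AdjoinRoot.root (p.map iA) ^ (r + k) by rw [pow_add]; ring, tau_of_mul, htauA]
  -- bijectivity of `φ`
  have hN1A : (AdjoinRoot.root (p.map iA) - 1) ^ N = 0 := by
    have := congrArg β hN1
    rwa [map_pow, map_sub, hβroot, map_one, map_zero] at this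
  have hφs := phiHom_surjective hpqA jinv hjinv N hN1A
  have hφi := phiHom_injective_of_surjective hpAm hp2Am (by rw [hdegA, hdeg2A]) hpqA hφs
  obtain ⟨t, ht⟩ := hφs (AdjoinRoot.root (p.map iA))
  -- units
  have hp20 : IsUnit (((p.map ψ).map iA).coeff 0) := by
    rw [coeff_map, coeff_map, hp0]
    exact (hau.map ψ).map iA
  have hpA0 : IsUnit ((p.map iA).coeff 0) := by
    rw [coeff_map, hp0]
    exact hau.map iA
  obtain ⟨rinv, hrinv⟩ := (isUnit_root hpA0).exists_left_inv
  have hjBA : (j : AdjoinRoot (p.map iA)) * AdjoinRoot.of (p.map iA) jinv = 1 := by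
    rw [← map_natCast (AdjoinRoot.of (p.map iA)), ← map_mul, hjinv, map_one]
  have hθunit : IsUnit (β θ) := by
    have h1 : IsNilpotent (β θ - (j : AdjoinRoot (p.map iA)) ^ (r + 1)) := by
      refine ⟨N, ?_⟩
      have := congrArg β hN2
      rwa [map_pow, map_sub, map_pow, map_natCast, map_zero] at this
    have h2 : IsUnit ((j : AdjoinRoot (p.map iA)) ^ (r + 1)) :=
      (IsUnit.of_mul_eq_one _ hjBA).pow _
    have := h1.isUnit_add_left_of_commute h2 (Commute.all _ _)
    rwa [add_sub_cancel] at this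
  obtain ⟨wA, hwA⟩ := hθunit.exists_left_inv
  have hmkq : AdjoinRoot.mk (p.map iA) (q.map iA) =
      β θ * AdjoinRoot.root (p.map iA) ^ ((j - 1) * (r + 1)) := by
    rw [← hβmk, ← hθ, map_mul, map_pow, hβroot]
  set u := wA * rinv ^ ((j - 1) * (r + 1)) with hu
  have hu1 : u * AdjoinRoot.mk (p.map iA) (q.map iA) = 1 := by
    rw [hmkq, hu]
    calc wA * rinv ^ ((j - 1) * (r + 1)) * (β θ * AdjoinRoot.root (p.map iA) ^ ((j - 1) * (r + 1)))
        = (wA * β θ) * (rinv * AdjoinRoot.root (p.map iA)) ^ ((j - 1) * (r + 1)) := by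
          rw [mul_pow]; ring
      _ = 1 := by rw [hwA, hrinv, one_pow, one_mul]
  have hwAu : wA = u * AdjoinRoot.root (p.map iA) ^ ((j - 1) * (r + 1)) := by
    rw [hu]
    calc wA = wA * (rinv * AdjoinRoot.root (p.map iA)) ^ ((j - 1) * (r + 1)) := by
          rw [hrinv, one_pow, mul_one]
      _ = _ := by rw [mul_pow]; ring
  -- `w = κ wA`
  have hwκ : w = κ wA := by
    have h1 : κ wA * iB θ = 1 := by rw [← hκβ, ← map_mul, hwA, map_one]
    calc w = w * (κ wA * iB θ) := by rw [h1, mul_one]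
      _ = (w * iB θ) * κ wA := by ring
      _ = κ wA := by rw [hw, one_mul]
  -- the transfer
  have htr := tau_transfer hpAm hp2Am hqAm (by omega : 0 < j) (by omega : 0 < r + 1) hdegA hdeg2A
    hpqA hφi t ht u hu1 jinv hjinv hp20
  -- reduce to monomials
  revert x
  apply adjoinRoot_induction
  · intro y z hy hz
    rw [map_add, map_add, map_add, map_add, map_add, mul_add, map_add, hy, hz]
  · intro c k
    have hL : f (AdjoinRoot.of p c * AdjoinRoot.root p ^ k) = c * σ k := by
      rw [← AdjoinRoot.algebraMap_eq, ← Algebra.smul_def, map_smul, smul_eq_mul, hf]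
    have hΨx : Ψ (AdjoinRoot.of p c * AdjoinRoot.root p ^ k) =
        AdjoinRoot.of p (ψ c) * (AdjoinRoot.root p ^ j) ^ k := by
      rw [map_mul, map_pow, hΨof, hΨℓ]
    rw [hL, hΨx, map_mul, map_mul]
    have e1 : (j : BR) * w * iB (AdjoinRoot.of p (ψ c) * (AdjoinRoot.root p ^ j) ^ k) =
        κ (AdjoinRoot.of (p.map iA) (iA (ψ c)) * ((j : AdjoinRoot (p.map iA)) * wA *
          (AdjoinRoot.root (p.map iA) ^ j) ^ k)) := by
      simp only [map_mul, map_pow, map_natCast, hκof, hκroot, ← hwκ, ← hcomm]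
      ring
    rw [e1, map_mul, hκof, hFRlin, hFκ]
    congr 1
    have e2 : AdjoinRoot.root (p.map iA) ^ r * ((j : AdjoinRoot (p.map iA)) * wA *
        (AdjoinRoot.root (p.map iA) ^ j) ^ k) =
        (j : AdjoinRoot (p.map iA)) * AdjoinRoot.root (p.map iA) ^ (j - 1) * u *
          phiHom hpqA (AdjoinRoot.root ((p.map ψ).map iA) ^ (r + k)) := by
      rw [map_pow, phiHom_root, hwAu]
      have e3 : r + (j - 1) * (r + 1) + j * k = (j - 1) + j * (r + k) := by
        obtain ⟨j', rfl⟩ : ∃ j', j = j' + 1 := ⟨j - 1, by omega⟩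
        simp only [Nat.add_sub_cancel]
        ring
      calc AdjoinRoot.root (p.map iA) ^ r * ((j : AdjoinRoot (p.map iA)) *
            (u * AdjoinRoot.root (p.map iA) ^ ((j - 1) * (r + 1))) *
            (AdjoinRoot.root (p.map iA) ^ j) ^ k)
          = (j : AdjoinRoot (p.map iA)) * u *
            AdjoinRoot.root (p.map iA) ^ (r + (j - 1) * (r + 1) + j * k) := by
            rw [pow_add, pow_add, pow_mul]; ring
        _ = (j : AdjoinRoot (p.map iA)) * u *
            AdjoinRoot.root (p.map iA) ^ ((j - 1) + j * (r + k)) := by rw [e3]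
        _ = _ := by rw [pow_add, pow_mul]; ring
    rw [e2, htr, htau2A]

end Assembly

end Groth.Agent.Lib.Helper17.ARR
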