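import Groth.Agent.Lib.Helper17.ProCPreimage
import Mathlib.RingTheory.Localization.Away.AdjoinRoot
import Mathlib.RingTheory.RingHom.FinitePresentation
import Mathlib.RingTheory.Spectrum.Prime.ConstructibleSet

/-!
# Constructible subsets are images of finitely presented affine morphisms (helper17)
-/

set_option autoImplicit false

open Topology Set AlgebraicGeometry CategoryTheory CategoryTheory.Limits PrimeSpectrum

universe u

namespace Groth.Agent.Lib.Helper17

variable {R : Type u} [CommRing R]

/-- the finitely presented `R`-algebra `(R / (g₁,…,gₙ))_f` attached to basic constructible data -/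
abbrev BasicAlg (D : BasicConstructibleSetData R) : Type u :=
  Localization.Away (Ideal.Quotient.mk (Ideal.span (Set.range D.g)) D.f)

lemma range_comap_basicAlg (D : BasicConstructibleSetData R) :
    Set.range (comap (algebraMap R (BasicAlg D))) = D.toSet := by
  let I := Ideal.span (Set.range D.g)
  let f := Ideal.Quotient.mk I D.f
  trans comap (Ideal.Quotient.mk I) '' (Set.range (comap (algebraMap _ (Localization.Away f))))
  · rw [← Set.range_comp]; rfl
  · rw [localization_away_comap_range _ f, ← comap_basicOpen, TopologicalSpace.Opens.coe_comap,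
      ContinuousMap.coe_mk, Set.image_preimage_eq_inter_range,
      range_comap_of_surjective _ _ Ideal.Quotient.mk_surjective, BasicConstructibleSetData.toSet,
      Set.sdiff_eq_compl_inter, basicOpen_eq_zeroLocus_compl, Ideal.mk_ker, zeroLocus_span]

lemma finitePresentation_basicAlg (D : BasicConstructibleSetData R) :
    (algebraMap R (BasicAlg D)).FinitePresentation := by
  rw [RingHom.finitePresentation_algebraMap]
  let I := Ideal.span (Set.range D.g)
  haveI : Algebra.FinitePresentation R (R ⧸ I) :=
    Algebra.FinitePresentation.quotient ⟨(Set.finite_range D.g).toFinset, by simp [I]⟩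
  haveI : Algebra.FinitePresentation (R ⧸ I) (BasicAlg D) :=
    IsLocalization.Away.finitePresentation (Ideal.Quotient.mk I D.f)
  exact Algebra.FinitePresentation.trans R (R ⧸ I) (BasicAlg D)

/-- EGA IV 1.8.? / Stacks 00F8, scheme form: a constructible subset of a qcqs scheme is the image
of a finitely presented morphism from an affine scheme. -/
theorem exists_affine_fp_range_eq (X : Scheme.{u}) [CompactSpace X] [QuasiSeparatedSpace X]
    (Z : Set X) (hZ : IsConstructible Z) :
    ∃ (X' : Scheme.{u}) (f : X' ⟶ X), IsAffine X' ∧ LocallyOfFinitePresentation f ∧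
      QuasiCompact f ∧ QuasiSeparated f ∧ Set.range f.base = Z := by
  obtain ⟨s, hs, hcov⟩ := isCompact_and_isOpen_iff_finite_and_eq_biUnion_affineOpens.mp
    ⟨(isCompact_univ : IsCompact (univ : Set X)), isOpen_univ⟩
  haveI : Finite ↥s := hs.to_subtype
  have key : ∀ k : ↥s, ∃ S : ConstructibleSetData Γ(X, k.1.1),
      S.toSet = k.1.2.fromSpec.base ⁻¹' Z :=
    fun k => exists_constructibleSetData_iff.mpr (Scheme.Hom.isConstructible_preimage _ hZ)
  choose S hS using key
  let g : (Σ k : ↥s, ↥(S k)) → Scheme.{u} := fun a => Spec (CommRingCat.of (BasicAlg a.2.1))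
  let F : ∀ a, g a ⟶ X := fun a =>
    Spec.map (CommRingCat.ofHom (algebraMap Γ(X, a.1.1.1) (BasicAlg a.2.1))) ≫ a.1.1.2.fromSpec
  have hF : ∀ a, LocallyOfFinitePresentation (F a) := by
    intro a
    haveI : LocallyOfFinitePresentation
        (Spec.map (CommRingCat.ofHom (algebraMap Γ(X, a.1.1.1) (BasicAlg a.2.1)))) := by
      rw [HasRingHomProperty.Spec_iff (P := @LocallyOfFinitePresentation)]
      exact finitePresentation_basicAlg a.2.1
    infer_instance
  refine ⟨∐ g, Sigma.desc F, inferInstance, ?_, inferInstance, inferInstance, ?_⟩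
  · rw [IsZariskiLocalAtSource.iff_of_openCover (P := @LocallyOfFinitePresentation)
      (sigmaOpenCover g)]
    intro a
    have : (sigmaOpenCover g).f a ≫ Sigma.desc F = F a := Sigma.ι_desc F a
    rw [this]
    exact hF a
  · ext y
    constructor
    · rintro ⟨z, rfl⟩
      obtain ⟨⟨a, x⟩, rfl⟩ := (sigmaMk g).surjective z
      rw [sigmaMk_mk]
      have e1 : (Sigma.desc F).base ((Sigma.ι g a).base x) = (F a).base x := by
        rw [← Scheme.Hom.comp_apply, Sigma.ι_desc]
      rw [e1]
      have e2 : comap (algebraMap Γ(X, a.1.1.1) (BasicAlg a.2.1)) x ∈ a.2.1.toSet :=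
        (range_comap_basicAlg a.2.1).subset ⟨x, rfl⟩
      have e3 : comap (algebraMap Γ(X, a.1.1.1) (BasicAlg a.2.1)) x ∈ (S a.1).toSet :=
        mem_iUnion₂.mpr ⟨a.2.1, a.2.2, e2⟩
      rw [hS a.1] at e3
      exact e3
    · intro hy
      have hy' : y ∈ ⋃ i ∈ s, ((i : X.Opens) : Set X) := hcov ▸ mem_univ y
      obtain ⟨i, hi, hyi⟩ := mem_iUnion₂.mp hy'
      have hyr : y ∈ range i.2.fromSpec.base := by
        rw [IsAffineOpen.range_fromSpec]; exact hyi
      obtain ⟨w, rfl⟩ := hyr
      have hw : w ∈ (S ⟨i, hi⟩).toSet := by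
        rw [hS ⟨i, hi⟩]; exact hy
      obtain ⟨D, hD, hwD⟩ := mem_iUnion₂.mp hw
      obtain ⟨x, rfl⟩ := (range_comap_basicAlg D).superset hwD
      refine ⟨(Sigma.ι g ⟨⟨i, hi⟩, ⟨D, hD⟩⟩).base x, ?_⟩
      rw [← Scheme.Hom.comp_apply, Sigma.ι_desc]
      rfl

end Groth.Agent.Lib.Helper17
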