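import Mathlib.Topology.Constructible
import Mathlib.Topology.Spectral.ConstructibleTopology
import Mathlib.Topology.Sober
import Mathlib.AlgebraicGeometry.Properties
import Mathlib.AlgebraicGeometry.AffineScheme
import Mathlib.AlgebraicGeometry.Morphisms.QuasiSeparated

/-!
# Constructible topology toolkit (helper17)

* constructible sets are clopen in the constructible topology of a qcqs space;
* finite subfamily property for constructible sets in a spectral-like space;
* every point of a scheme has arbitrarily small open neighbourhoods that are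
  compact, quasi-separated, quasi-sober and prespectral (affine opens).
-/

set_option autoImplicit false

open Topology Set

namespace Groth.Agent.Lib.Helper17

variable {X : Type*} [TopologicalSpace X]

lemma isConstructible_isOpen_constructibleTopology_aux [CompactSpace X] [QuasiSeparatedSpace X]
    {s : Set X} (hs : IsConstructible s) :
    IsOpen[constructibleTopology X] s ∧ IsOpen[constructibleTopology X] sᶜ := by
  induction hs using IsConstructible.empty_union_induction with
  | open_retrocompact U hUopen hUcomp =>
    have hc : IsCompact U := hUcomp.isCompact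
    refine ⟨hc.isOpen_constructibleTopology_of_isOpen hUopen, ?_⟩
    apply IsCompact.isOpen_constructibleTopology_of_isClosed
    · rwa [compl_compl]
    · exact hUopen.isClosed_compl
  | union s hs t ht ihs iht =>
    refine ⟨@IsOpen.union X s t (constructibleTopology X) ihs.1 iht.1, ?_⟩
    rw [compl_union]
    exact @IsOpen.inter X (constructibleTopology X) sᶜ tᶜ ihs.2 iht.2
  | compl s hs ih =>
    refine ⟨ih.2, ?_⟩
    rw [compl_compl]
    exact ih.1

/-- A constructible subset of a qcqs space is open in the constructible topology. -/
lemma isOpen_constructibleTopology_of_isConstructible [CompactSpace X] [QuasiSeparatedSpace X]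
    {s : Set X} (hs : IsConstructible s) : IsOpen[constructibleTopology X] s :=
  (isConstructible_isOpen_constructibleTopology_aux hs).1

/-- A constructible subset of a qcqs space is closed in the constructible topology. -/
lemma isClosed_constructibleTopology_of_isConstructible [CompactSpace X] [QuasiSeparatedSpace X]
    {s : Set X} (hs : IsConstructible s) : IsClosed[constructibleTopology X] s :=
  @IsClosed.mk X (constructibleTopology X) s (isConstructible_isOpen_constructibleTopology_aux hs).2

/-- Finite subfamily property: a family of constructible sets in a spectral space with empty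
intersection has a finite subfamily with empty intersection. -/
theorem exists_finset_iInter_eq_empty [CompactSpace X] [QuasiSober X] [PrespectralSpace X]
    [QuasiSeparatedSpace X] {ι : Type*} (C : ι → Set X) (hC : ∀ i, IsConstructible (C i))
    (h : ⋂ i, C i = ∅) : ∃ s : Finset ι, ⋂ i ∈ s, C i = ∅ := by
  let D : ι → Set (WithConstructibleTopology X) := fun i => WithTopology.ofTopology ⁻¹' C i
  have hD : ∀ i, IsClosed (D i) := by
    intro i
    rw [WithConstructibleTopology.isClosed_iff]
    exact isClosed_constructibleTopology_of_isConstructible (hC i)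
  have hempty : (univ : Set (WithConstructibleTopology X)) ∩ ⋂ i, D i = ∅ := by
    rw [univ_inter, eq_empty_iff_forall_notMem]
    intro y hy
    have : WithTopology.ofTopology y ∈ ⋂ i, C i := by
      rw [mem_iInter] at hy ⊢
      exact hy
    rw [h] at this
    exact this
  obtain ⟨u, hu⟩ := isCompact_univ.elim_finite_subfamily_closed D hD hempty
  refine ⟨u, ?_⟩
  rw [eq_empty_iff_forall_notMem]
  intro x hx
  have : WithTopology.toTopology _ x ∈ (univ : Set (WithConstructibleTopology X)) ∩
      ⋂ i ∈ u, D i := by
    refine ⟨mem_univ _, ?_⟩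
    rw [mem_iInter₂] at hx ⊢
    exact hx
  rw [hu] at this
  exact this

/-- Variant: if an intersection of constructible sets is contained in a union of constructible
sets, then finitely many already suffice. -/
theorem exists_finset_iInter_subset_iUnion [CompactSpace X] [QuasiSober X] [PrespectralSpace X]
    [QuasiSeparatedSpace X] {ι κ : Type*} (C : ι → Set X) (hC : ∀ i, IsConstructible (C i))
    (S : κ → Set X) (hS : ∀ j, IsConstructible (S j)) (h : ⋂ i, C i ⊆ ⋃ j, S j) :
    ∃ (s : Finset ι) (t : Finset κ), ⋂ i ∈ s, C i ⊆ ⋃ j ∈ t, S j := by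
  classical
  let F : ι ⊕ κ → Set X := Sum.elim C (fun j => (S j)ᶜ)
  have hF : ∀ a, IsConstructible (F a) := by
    rintro (i | j)
    · exact hC i
    · exact (hS j).compl
  have hempty : ⋂ a, F a = ∅ := by
    rw [eq_empty_iff_forall_notMem]
    intro x hx
    rw [mem_iInter] at hx
    have h1 : x ∈ ⋂ i, C i := mem_iInter.mpr fun i => hx (Sum.inl i)
    obtain ⟨j, hj⟩ := mem_iUnion.mp (h h1)
    exact hx (Sum.inr j) hj
  obtain ⟨u, hu⟩ := exists_finset_iInter_eq_empty F hF hempty
  refine ⟨u.preimage Sum.inl Sum.inl_injective.injOn, u.preimage Sum.inr Sum.inr_injective.injOn, ?_⟩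
  intro x hx
  by_contra hcon
  have : x ∈ ⋂ a ∈ u, F a := by
    rw [mem_iInter₂]
    rintro (i | j) ha
    · rw [mem_iInter₂] at hx
      exact hx i (by simpa using ha)
    · intro hxS
      apply hcon
      rw [mem_iUnion₂]
      exact ⟨j, by simpa using ha, hxS⟩
  rw [hu] at this
  exact this

open AlgebraicGeometry in
/-- Every point of a scheme has arbitrarily small "spectral" open neighbourhoods. -/
theorem exists_spectral_open_nhd (X : Scheme) (x : X) (W : Set X) (hW : IsOpen W) (hx : x ∈ W) :
    ∃ U : Set X, IsOpen U ∧ x ∈ U ∧ U ⊆ W ∧ CompactSpace ↥U ∧ QuasiSeparatedSpace ↥U ∧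
      QuasiSober ↥U ∧ PrespectralSpace ↥U := by
  have hb : ∀ {U : TopologicalSpace.Opens ↥X} {x : ↥X}, x ∈ U →
      ∃ U' ∈ X.affineOpens, x ∈ U' ∧ U' ≤ U :=
    TopologicalSpace.Opens.isBasis_iff_nbhd.mp X.isBasis_affineOpens
  obtain ⟨V, hV, hxV, hVW⟩ := @hb ⟨W, hW⟩ x hx
  have hV' : IsAffineOpen V := hV
  refine ⟨(V : Set X), V.2, hxV, hVW, ?_, ?_, ?_, ?_⟩
  · exact isCompact_iff_compactSpace.mp hV'.isCompact
  · exact (isQuasiSeparated_iff_quasiSeparatedSpace _ V.2).mp hV'.isQuasiSeparated
  · exact V.2.isOpenEmbedding_subtypeVal.quasiSober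
  · exact V.2.isOpenEmbedding_subtypeVal.prespectralSpace

end Groth.Agent.Lib.Helper17
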