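import Groth.Agent.Lib.Helper17.ConstrTop

/-!
# Constructible topology toolkit, part 2 (helper17)

* in a prespectral space (no compactness) constructible sets are clopen for the constructible
  topology;
* in a spectral space, a subset that is clopen for the constructible topology is constructible.
-/

set_option autoImplicit false

open Topology Set

namespace Groth.Agent.Lib.Helper17

variable {X : Type*} [TopologicalSpace X]

lemma isConstructible_isClopen_constructibleTopology_aux [PrespectralSpace X]
    {s : Set X} (hs : IsConstructible s) :
    IsOpen[constructibleTopology X] s ∧ IsOpen[constructibleTopology X] sᶜ := by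
  induction hs using IsConstructible.empty_union_induction with
  | open_retrocompact U hUopen hUcomp =>
    constructor
    · obtain ⟨S, hS, rfl⟩ := (PrespectralSpace.isTopologicalBasis (X := X)).open_eq_sUnion hUopen
      exact @isOpen_sUnion _ (constructibleTopology X) _ fun t ht =>
        (hS ht).2.isOpen_constructibleTopology_of_isOpen (hS ht).1
    · have hU : Uᶜ = ⋃ W ∈ {W : Set X | IsOpen W ∧ IsCompact W}, (W ∩ (U ∩ W)ᶜ) := by
        ext x
        simp only [mem_compl_iff, mem_iUnion, mem_inter_iff, mem_setOf_eq, exists_prop]
        constructor
        · intro hx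
          obtain ⟨W, ⟨hWo, hWc⟩, hxW, -⟩ :=
            (PrespectralSpace.isTopologicalBasis (X := X)).exists_subset_of_mem_open
              (mem_univ x) isOpen_univ
          exact ⟨W, ⟨hWo, hWc⟩, hxW, fun h => hx h.1⟩
        · rintro ⟨W, -, hxW, hx⟩ hxU
          exact hx ⟨hxU, hxW⟩
      rw [hU]
      refine @isOpen_biUnion _ _ (constructibleTopology X) _ _ fun W hW => ?_
      refine @IsOpen.inter _ (constructibleTopology X) _ _ ?_ ?_
      · exact hW.2.isOpen_constructibleTopology_of_isOpen hW.1
      · apply IsCompact.isOpen_constructibleTopology_of_isClosed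
        · rw [compl_compl]; exact hUcomp hW.2 hW.1
        · exact (hUopen.inter hW.1).isClosed_compl
  | union s hs t ht ihs iht =>
    refine ⟨@IsOpen.union X s t (constructibleTopology X) ihs.1 iht.1, ?_⟩
    rw [compl_union]
    exact @IsOpen.inter X (constructibleTopology X) sᶜ tᶜ ihs.2 iht.2
  | compl s hs ih =>
    refine ⟨ih.2, ?_⟩
    rw [compl_compl]
    exact ih.1

/-- constructible ⟹ open in the constructible topology (prespectral, no compactness) -/
lemma isOpen_constructibleTopology_of_isConstructible' [PrespectralSpace X]
    {s : Set X} (hs : IsConstructible s) : IsOpen[constructibleTopology X] s :=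
  (isConstructible_isClopen_constructibleTopology_aux hs).1

lemma isConstructible_of_mem_constructibleTopologySubbasis [QuasiSeparatedSpace X] {t : Set X}
    (ht : t ∈ constructibleTopologySubbasis X) : IsConstructible t := by
  rcases ht with ⟨ho, hc⟩ | ⟨hcl, hc⟩
  · exact hc.isConstructible ho
  · exact (hc.isConstructible hcl.isOpen_compl).of_compl

/-- In a spectral space, a set that is clopen for the constructible topology is constructible. -/
theorem isConstructible_of_isClopen_constructibleTopology [CompactSpace X] [QuasiSober X]
    [PrespectralSpace X] [QuasiSeparatedSpace X] {s : Set X}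
    (ho : IsOpen[constructibleTopology X] s) (hc : IsClosed[constructibleTopology X] s) :
    IsConstructible s := by
  have hcs : @CompactSpace X (constructibleTopology X) :=
    @Function.Surjective.compactSpace (WithConstructibleTopology X) X _
      (constructibleTopology X) _ (WithTopology.continuous_ofTopology _) inferInstance
      (WithTopology.ofTopology_surjective _)
  have hsc : @IsCompact X (constructibleTopology X) s :=
    @IsClosed.isCompact X (constructibleTopology X) s hcs hc
  have hbasis := TopologicalSpace.isTopologicalBasis_of_subbasis
    (t := constructibleTopology X) (s := constructibleTopologySubbasis X) rfl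
  have hB : ∀ b ∈ (fun f => ⋂₀ f) '' {f : Set (Set X) | f.Finite ∧
      f ⊆ constructibleTopologySubbasis X}, IsConstructible b := by
    rintro _ ⟨f, ⟨hf, hfs⟩, rfl⟩
    exact IsConstructible.sInter hf fun t ht =>
      isConstructible_of_mem_constructibleTopologySubbasis (hfs ht)
  obtain ⟨S, hS, rfl⟩ := @TopologicalSpace.IsTopologicalBasis.open_eq_sUnion X
    (constructibleTopology X) _ hbasis _ ho
  obtain ⟨t, ht⟩ := @IsCompact.elim_finite_subcover X (constructibleTopology X) _ ↥S hsc
    (fun i => i.1) (fun i => @TopologicalSpace.IsTopologicalBasis.isOpen X
      (constructibleTopology X) _ _ hbasis (hS i.2)) (by rw [sUnion_eq_iUnion])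
  have heq : ⋃₀ S = ⋃ i ∈ t, (i : Set X) := by
    apply Subset.antisymm ht
    exact iUnion₂_subset fun i _ => subset_sUnion_of_mem i.2
  rw [heq]
  exact IsConstructible.biUnion t.finite_toSet fun i _ => hB _ (hS i.2)

end Groth.Agent.Lib.Helper17
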