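import Groth.Prelude.Def_Dyn
import Mathlib

/-! Helper API for the triple convolution product `Dyn.conv3` of points of an affine group. -/

set_option autoImplicit false
universe u
open TensorProduct LaurentPolynomial

namespace Groth.Agent.Lib.Helper17.Conv3

open WithConv

variable {k : Type u} [CommRing k] {A : Type u} [CommRing A] [HopfAlgebra k A]
  {R : Type u} [CommRing R] [Algebra k R]

theorem conv3_eq (f g h : A →ₐ[k] R) :
    (Dyn.conv3 k A f g h).toLinearMap =
      (toConv f.toLinearMap * toConv g.toLinearMap * toConv h.toLinearMap).ofConv := by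
  ext a
  simp only [Dyn.conv3, AlgHom.toLinearMap_apply, AlgHom.comp_apply, Bialgebra.comulAlgHom_apply,
    LinearMap.convMul_def, WithConv.ofConv_toConv, LinearMap.comp_apply]
  induction (Coalgebra.comul (R := k) a) using TensorProduct.induction_on with
  | zero => simp
  | tmul u v =>
    simp only [Algebra.TensorProduct.map_tmul, Bialgebra.comulAlgHom_apply, AlgHom.id_apply,
      AlgHom.comp_apply, Algebra.TensorProduct.lmul'_apply_tmul, TensorProduct.map_tmul,
      LinearMap.comp_apply, LinearMap.mul'_apply, AlgHom.toLinearMap_apply]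
    congr 1
  | add p q hp hq => simp only [map_add, hp, hq]

theorem conv_antipode (f : A →ₐ[k] R) :
    toConv f.toLinearMap * toConv (f.comp (HopfAlgebra.antipodeAlgHom k A)).toLinearMap =
      (1 : WithConv (A →ₗ[k] R)) := by
  have h := LinearMap.algHom_comp_convMul_distrib (R := k) f
    (toConv (LinearMap.id : A →ₗ[k] A)) (toConv (HopfAlgebra.antipode k (A := A)))
  rw [LinearMap.id_mul_antipode] at h
  have e1 : f.toLinearMap ∘ₗ (toConv (LinearMap.id : A →ₗ[k] A)).ofConv = f.toLinearMap := rfl
  have e2 : f.toLinearMap ∘ₗ (toConv (HopfAlgebra.antipode k (A := A))).ofConv =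
      (f.comp (HopfAlgebra.antipodeAlgHom k A)).toLinearMap := rfl
  rw [e1, e2] at h
  apply WithConv.ofConv_injective
  rw [← h]
  ext a
  simp [LinearMap.convOne_def]

theorem antipode_conv (f : A →ₐ[k] R) :
    toConv (f.comp (HopfAlgebra.antipodeAlgHom k A)).toLinearMap * toConv f.toLinearMap =
      (1 : WithConv (A →ₗ[k] R)) := by
  have h := LinearMap.algHom_comp_convMul_distrib (R := k) f
    (toConv (HopfAlgebra.antipode k (A := A))) (toConv (LinearMap.id : A →ₗ[k] A))
  rw [LinearMap.antipode_mul_id] at h
  have e1 : f.toLinearMap ∘ₗ (toConv (LinearMap.id : A →ₗ[k] A)).ofConv = f.toLinearMap := rfl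
  have e2 : f.toLinearMap ∘ₗ (toConv (HopfAlgebra.antipode k (A := A))).ofConv =
      (f.comp (HopfAlgebra.antipodeAlgHom k A)).toLinearMap := rfl
  rw [e1, e2] at h
  apply WithConv.ofConv_injective
  rw [← h]
  ext a
  simp [LinearMap.convOne_def]

theorem toConv_counit :
    toConv ((Algebra.ofId k R).comp (Bialgebra.counitAlgHom k A)).toLinearMap =
      (1 : WithConv (A →ₗ[k] R)) := by
  apply WithConv.ofConv_injective
  ext a
  simp [LinearMap.convOne_def]

/-- Post-composition with an algebra map commutes with `conv3`. -/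
theorem comp_conv3 {S : Type u} [CommRing S] [Algebra k S] (φ : R →ₐ[k] S) (f g h : A →ₐ[k] R) :
    φ.comp (Dyn.conv3 k A f g h) = Dyn.conv3 k A (φ.comp f) (φ.comp g) (φ.comp h) := by
  apply AlgHom.toLinearMap_injective
  rw [conv3_eq]
  have h1 : (φ.comp (Dyn.conv3 k A f g h)).toLinearMap =
      φ.toLinearMap ∘ₗ (Dyn.conv3 k A f g h).toLinearMap := rfl
  rw [h1, conv3_eq, LinearMap.algHom_comp_convMul_distrib, WithConv.ofConv_toConv,
    LinearMap.algHom_comp_convMul_distrib]
  rfl

/-- Points equal as linear maps are equal. -/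
theorem algHom_ext_of_toConv {f g : A →ₐ[k] R}
    (h : toConv f.toLinearMap = toConv g.toLinearMap) : f = g := by
  apply AlgHom.toLinearMap_injective
  exact WithConv.toConv_injective h

end Groth.Agent.Lib.Helper17.Conv3
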