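import Groth.Agent.Lib.Helper17.Conv3
import Mathlib

/-! The group of points of an affine group `Spec A` (convolution group of algebra maps), the
conjugated orbit map as a group homomorphism, its naturality and cocycle identity. -/

set_option autoImplicit false
universe u
open TensorProduct LaurentPolynomial

namespace Groth.Agent.Lib.Helper17.DynG

open WithConv Groth.Agent.Lib.Helper17.Conv3

variable {k : Type u} [CommRing k] {A : Type u} [CommRing A] [HopfAlgebra k A]

section grp

variable {C : Type u} [CommRing C] [Algebra k C]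

theorem toLin_injective :
    Function.Injective (fun f : WithConv (A →ₐ[k] C) => toConv f.ofConv.toLinearMap) :=
  WithConv.toConv_injective.comp (AlgHom.toLinearMap_injective.comp WithConv.ofConv_injective)

/-- The group structure on the points of an affine group (inverse = composition with the
antipode); Mathlib only has it for a bialgebra target. -/
@[instance_reducible] noncomputable def ptGroup : Group (WithConv (A →ₐ[k] C)) :=
  { (inferInstance : Monoid (WithConv (A →ₐ[k] C))) with
    inv := fun f => toConv (f.ofConv.comp (HopfAlgebra.antipodeAlgHom k A))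
    inv_mul_cancel := by
      intro f
      apply toLin_injective
      change toConv (((toConv (f.ofConv.comp (HopfAlgebra.antipodeAlgHom k A))) * f).ofConv).toLinearMap
        = toConv ((1 : WithConv (A →ₐ[k] C)).ofConv).toLinearMap
      rw [AlgHom.toLinearMap_convMul, AlgHom.toLinearMap_convOne]
      exact antipode_conv f.ofConv }

end grp

attribute [local instance] ptGroup

section push

variable {C D E : Type u} [CommRing C] [CommRing D] [CommRing E] [Algebra k C] [Algebra k D]
  [Algebra k E]

/-- Pushforward of points along an algebra map, as a group homomorphism. -/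
noncomputable def push (φ : C →ₐ[k] D) : WithConv (A →ₐ[k] C) →* WithConv (A →ₐ[k] D) where
  toFun f := toConv (φ.comp f.ofConv)
  map_one' := by
    apply WithConv.ofConv_injective
    ext a
    simp [AlgHom.convOne_def]
  map_mul' f g := by
    apply WithConv.ofConv_injective
    exact AlgHom.comp_convMul_distrib φ f g

@[simp] theorem push_apply (φ : C →ₐ[k] D) (f : WithConv (A →ₐ[k] C)) :
    push φ f = toConv (φ.comp f.ofConv) := rfl

theorem push_push (ψ : D →ₐ[k] E) (φ : C →ₐ[k] D) (f : WithConv (A →ₐ[k] C)) :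
    push ψ (push φ f) = push (ψ.comp φ) f := rfl

theorem push_id (f : WithConv (A →ₐ[k] C)) : push (AlgHom.id k C) f = f := rfl

theorem push_injective (φ : C →ₐ[k] D) (hφ : Function.Injective φ) :
    Function.Injective (push (A := A) φ) := by
  intro f g h
  apply WithConv.ofConv_injective
  ext a
  apply hφ
  have := congrArg (fun x : WithConv (A →ₐ[k] D) => x.ofConv a) h
  simpa using this

end push

theorem conv3_eq_mul {C : Type u} [CommRing C] [Algebra k C] (f g h : A →ₐ[k] C) :
    Dyn.conv3 k A f g h = (toConv f * toConv g * toConv h).ofConv := by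
  apply AlgHom.toLinearMap_injective
  rw [conv3_eq]
  rfl

section gam

variable (lam : A →ₐc[k] k[T;T⁻¹])

/-- the constant-point map. -/
noncomputable def iota (k : Type u) [CommRing k] (C : Type u) [CommRing C] [Algebra k C] :
    C →ₐ[k] C[T;T⁻¹] := IsScalarTower.toAlgHom k C C[T;T⁻¹]

/-- the one-parameter subgroup as a point over `C[T;T⁻¹]`. -/
noncomputable def L (C : Type u) [CommRing C] [Algebra k C] : WithConv (A →ₐ[k] C[T;T⁻¹]) :=
  toConv (Dyn.lamR k A lam C)

/-- the conjugated orbit map as a group homomorphism. -/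
noncomputable def gam (C : Type u) [CommRing C] [Algebra k C] :
    WithConv (A →ₐ[k] C) →* WithConv (A →ₐ[k] C[T;T⁻¹]) :=
  (MulAut.conj (L lam C)).toMonoidHom.comp (push (iota k C))

theorem gam_apply (C : Type u) [CommRing C] [Algebra k C] (g : WithConv (A →ₐ[k] C)) :
    gam lam C g = L lam C * push (iota k C) g * (L lam C)⁻¹ := rfl

theorem conjOrbit_eq (C : Type u) [CommRing C] [Algebra k C] (g : A →ₐ[k] C) :
    Dyn.conjOrbit k A lam C g = (gam lam C (toConv g)).ofConv := by
  unfold Dyn.conjOrbit
  rw [conv3_eq_mul]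
  rfl

variable {C D : Type u} [CommRing C] [CommRing D] [Algebra k C] [Algebra k D]

theorem map_comp_iota (φ : C →ₐ[k] D) :
    (AddMonoidAlgebra.mapAlgHom ℤ φ).comp (iota k C) = (iota k D).comp φ := by
  ext1 c
  simp only [iota, AlgHom.comp_apply, IsScalarTower.coe_toAlgHom']
  rw [LaurentPolynomial.algebraMap_apply, LaurentPolynomial.algebraMap_apply]
  change (AddMonoidAlgebra.mapAlgHom ℤ φ) (AddMonoidAlgebra.single (0 : ℤ) _) =
    AddMonoidAlgebra.single (0 : ℤ) _
  rw [AddMonoidAlgebra.mapAlgHom_single]
  rfl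

theorem push_L (φ : C →ₐ[k] D) :
    push (AddMonoidAlgebra.mapAlgHom ℤ φ) (L lam C) = L lam D := by
  apply WithConv.ofConv_injective
  simp only [push_apply, L, WithConv.ofConv_toConv, Dyn.lamR]
  rw [← AlgHom.comp_assoc]
  congr 1
  refine AddMonoidAlgebra.algHom_ext (fun n => ?_) (Subsingleton.elim _ _)
  simp only [AlgHom.comp_apply, AddMonoidAlgebra.mapAlgHom_single, map_one]

/-- Naturality of the conjugated orbit. -/
theorem push_gam (φ : C →ₐ[k] D) (f : WithConv (A →ₐ[k] C)) :
    push (AddMonoidAlgebra.mapAlgHom ℤ φ) (gam lam C f) = gam lam D (push φ f) := by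
  rw [gam_apply, gam_apply, map_mul, map_mul, map_inv, push_L, push_push, push_push,
    map_comp_iota]

end gam

theorem conj_conj {G : Type*} [Group G] (x y z : G) :
    x * (y * z * y⁻¹) * x⁻¹ = x * y * z * (x * y)⁻¹ := by group

section cocycle

variable (lam : A →ₐc[k] k[T;T⁻¹]) (R : Type u) [CommRing R] [Algebra k R]

/-- `n ↦ T^n S^n`. -/
noncomputable def muHom : Multiplicative ℤ →* (R[T;T⁻¹])[T;T⁻¹] where
  toFun n := AddMonoidAlgebra.single (Multiplicative.toAdd n)
    (AddMonoidAlgebra.single (Multiplicative.toAdd n) (1 : R))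
  map_one' := rfl
  map_mul' m n := by
    rw [AddMonoidAlgebra.single_mul_single, AddMonoidAlgebra.single_mul_single, one_mul]
    rfl

/-- `T ↦ T S` as an `R`-algebra map. -/
noncomputable def muR : R[T;T⁻¹] →ₐ[R] (R[T;T⁻¹])[T;T⁻¹] :=
  AddMonoidAlgebra.lift R _ ℤ (muHom R)

theorem muR_single (n : ℤ) :
    muR R (AddMonoidAlgebra.single n (1 : R)) =
      AddMonoidAlgebra.single n (AddMonoidAlgebra.single n (1 : R)) := by
  rw [muR, AddMonoidAlgebra.lift_single, one_smul]
  rfl

/-- `T ↦ T S` as a `k`-algebra map. -/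
noncomputable def mu : R[T;T⁻¹] →ₐ[k] (R[T;T⁻¹])[T;T⁻¹] := (muR R).restrictScalars k

theorem mu_comp_iota : (mu (k := k) R).comp (iota k R) = (iota k R[T;T⁻¹]).comp (iota k R) := by
  ext1 r
  simp only [mu, iota, AlgHom.comp_apply, IsScalarTower.coe_toAlgHom', AlgHom.coe_restrictScalars']
  rw [(muR R).commutes]
  rfl

theorem push_mu_L :
    push (mu (k := k) R) (L lam R) = L lam R[T;T⁻¹] * push (iota k R[T;T⁻¹]) (L lam R) := by
  have key : (mu (k := k) R).comp (AddMonoidAlgebra.mapAlgHom ℤ (Algebra.ofId k R)) =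
      (toConv (AddMonoidAlgebra.mapAlgHom ℤ (Algebra.ofId k R[T;T⁻¹])) *
        toConv ((iota k R[T;T⁻¹]).comp (AddMonoidAlgebra.mapAlgHom ℤ (Algebra.ofId k R)))).ofConv := by
    refine AddMonoidAlgebra.algHom_ext (fun n => ?_) (Subsingleton.elim _ _)
    have h1 : (WithConv.ofConv (toConv (AddMonoidAlgebra.mapAlgHom ℤ (Algebra.ofId k R[T;T⁻¹])) *
        toConv ((iota k R[T;T⁻¹]).comp (AddMonoidAlgebra.mapAlgHom ℤ (Algebra.ofId k R)))))
        (AddMonoidAlgebra.single n (1 : k)) = _ :=
      AlgHom.convMul_apply _ _ _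
    rw [h1, AddMonoidAlgebra.comul_single]
    simp only [AlgHom.comp_apply, AddMonoidAlgebra.mapAlgHom_single, map_one,
      Bialgebra.comul_one, TensorProduct.map_tmul, Algebra.TensorProduct.lift_tmul,
      WithConv.ofConv_toConv]
    rw [Algebra.TensorProduct.one_def, TensorProduct.map_tmul, Algebra.TensorProduct.lift_tmul]
    simp only [AddMonoidAlgebra.lsingle_apply, AlgHom.comp_apply, AddMonoidAlgebra.mapAlgHom_single,
      map_one]
    have h3 : (mu (k := k) R) (AddMonoidAlgebra.single n (1 : R)) =
        AddMonoidAlgebra.single n (AddMonoidAlgebra.single n (1 : R)) := muR_single R n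
    have h4 : (iota k R[T;T⁻¹]) (AddMonoidAlgebra.single n (1 : R)) =
        AddMonoidAlgebra.single (0 : ℤ) (AddMonoidAlgebra.single n (1 : R)) := by
      simp only [iota, IsScalarTower.coe_toAlgHom']
      rw [LaurentPolynomial.algebraMap_apply]
      rfl
    rw [h3, h4, AddMonoidAlgebra.single_mul_single, add_zero, one_mul]
  apply WithConv.ofConv_injective
  have h2 := AlgHom.convMul_comp_bialgHom_distrib
    (toConv (AddMonoidAlgebra.mapAlgHom ℤ (Algebra.ofId k R[T;T⁻¹])))
    (toConv ((iota k R[T;T⁻¹]).comp (AddMonoidAlgebra.mapAlgHom ℤ (Algebra.ofId k R)))) lam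
  rw [← key] at h2
  exact h2

/-- The cocycle identity `γ_s (γ_t g) = γ_{st} g`. -/
theorem gam_gam (g : WithConv (A →ₐ[k] R)) :
    gam lam R[T;T⁻¹] (gam lam R g) = push (mu (k := k) R) (gam lam R g) := by
  rw [gam_apply lam R[T;T⁻¹], gam_apply lam R g]
  simp only [map_mul, map_inv, push_push]
  rw [push_mu_L, mu_comp_iota, ← push_push]
  exact conj_conj _ _ _

end cocycle

section limit

variable (lam : A →ₐc[k] k[T;T⁻¹]) (R : Type u) [CommRing R] [Algebra k R]

/-- `R[X] → R[T;T⁻¹]` as a `k`-algebra map. -/
noncomputable def jj (k : Type u) [CommRing k] (R : Type u) [CommRing R] [Algebra k R] :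
    Polynomial R →ₐ[k] R[T;T⁻¹] := (Polynomial.toLaurentAlg (R := R)).restrictScalars k

/-- evaluation at `0` as a `k`-algebra map. -/
noncomputable def e0 (k : Type u) [CommRing k] (R : Type u) [CommRing R] [Algebra k R] :
    Polynomial R →ₐ[k] R := (Polynomial.aeval (R := R) (0 : R)).restrictScalars k

/-- constants as a `k`-algebra map. -/
noncomputable def cc (k : Type u) [CommRing k] (R : Type u) [CommRing R] [Algebra k R] :
    R →ₐ[k] Polynomial R := IsScalarTower.toAlgHom k R (Polynomial R)

/-- `X ↦ X S`. -/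
noncomputable def nu (k : Type u) [CommRing k] (R : Type u) [CommRing R] [Algebra k R] :
    Polynomial R →ₐ[k] (Polynomial R)[T;T⁻¹] :=
  (Polynomial.aeval (R := R)
    (AddMonoidAlgebra.single (1 : ℤ) (Polynomial.X : Polynomial R))).restrictScalars k

theorem algHom_poly_ext {B : Type u} [CommRing B] [Algebra k B] (f g : Polynomial R →ₐ[k] B)
    (hC : ∀ r : R, f (Polynomial.C r) = g (Polynomial.C r))
    (hX : f Polynomial.X = g Polynomial.X) : f = g := by
  have h : (f : Polynomial R →+* B) = (g : Polynomial R →+* B) :=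
    Polynomial.ringHom_ext (fun r => hC r) hX
  apply AlgHom.ext
  intro p
  exact RingHom.congr_fun h p

theorem jj_comp_cc : (jj k R).comp (cc k R) = iota k R := by
  ext1 r
  simp only [jj, cc, iota, AlgHom.comp_apply, IsScalarTower.coe_toAlgHom',
    AlgHom.coe_restrictScalars']
  exact (Polynomial.toLaurentAlg (R := R)).commutes r

theorem e0_comp_cc : (e0 k R).comp (cc k R) = AlgHom.id k R := by
  ext1 r
  simp only [e0, cc, AlgHom.comp_apply, IsScalarTower.coe_toAlgHom',
    AlgHom.coe_restrictScalars', AlgHom.id_apply]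
  exact (Polynomial.aeval (R := R) (0 : R)).commutes r

theorem jj_injective : Function.Injective (jj k R) := by
  intro p q h
  exact Polynomial.toLaurent_injective h

theorem map_jj_injective : Function.Injective (AddMonoidAlgebra.mapAlgHom ℤ (jj k R)) := by
  intro p q h
  refine LaurentPolynomial.ext (fun n => ?_)
  apply jj_injective (k := k) R
  have := congrArg (fun x : (R[T;T⁻¹])[T;T⁻¹] => x.coeff n) h
  simpa only [AddMonoidAlgebra.coeff_mapAlgHom] using this

theorem mu_comp_jj :
    (mu (k := k) R).comp (jj k R) = (AddMonoidAlgebra.mapAlgHom ℤ (jj k R)).comp (nu k R) := by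
  apply algHom_poly_ext
  · intro r
    simp only [AlgHom.comp_apply, jj, nu, mu, AlgHom.coe_restrictScalars', Polynomial.aeval_C,
      Polynomial.toLaurentAlg_apply, Polynomial.toLaurent_C]
    have h1 : (LaurentPolynomial.C r : R[T;T⁻¹]) = algebraMap R R[T;T⁻¹] r := rfl
    rw [h1, (muR R).commutes]
    have h2 : algebraMap R (Polynomial R)[T;T⁻¹] r =
        AddMonoidAlgebra.single (0 : ℤ) (Polynomial.C r) := rfl
    rw [h2, AddMonoidAlgebra.mapAlgHom_single]
    simp only [AlgHom.coe_restrictScalars', Polynomial.toLaurentAlg_apply, Polynomial.toLaurent_C]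
    rfl
  · simp only [AlgHom.comp_apply, jj, nu, mu, AlgHom.coe_restrictScalars', Polynomial.aeval_X,
      Polynomial.toLaurentAlg_apply, Polynomial.toLaurent_X]
    rw [AddMonoidAlgebra.mapAlgHom_single]
    simp only [AlgHom.coe_restrictScalars', Polynomial.toLaurentAlg_apply, Polynomial.toLaurent_X]
    exact muR_single R 1

theorem map_e0_comp_nu :
    (AddMonoidAlgebra.mapAlgHom ℤ (e0 k R)).comp (nu k R) = (iota k R).comp (e0 k R) := by
  apply algHom_poly_ext
  · intro r
    simp only [AlgHom.comp_apply, e0, nu, iota, AlgHom.coe_restrictScalars', Polynomial.aeval_C,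
      IsScalarTower.coe_toAlgHom']
    have h2 : algebraMap R (Polynomial R)[T;T⁻¹] r =
        AddMonoidAlgebra.single (0 : ℤ) (Polynomial.C r) := rfl
    rw [h2, AddMonoidAlgebra.mapAlgHom_single]
    simp only [AlgHom.coe_restrictScalars', Polynomial.aeval_C]
    rfl
  · simp only [AlgHom.comp_apply, e0, nu, iota, AlgHom.coe_restrictScalars', Polynomial.aeval_X,
      IsScalarTower.coe_toAlgHom', map_zero]
    rw [AddMonoidAlgebra.mapAlgHom_single]
    simp only [AlgHom.coe_restrictScalars', Polynomial.aeval_X, AddMonoidAlgebra.single_zero]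

/-- The limit point of a conjugated orbit commutes with the one-parameter subgroup. -/
theorem gam_e0 (h : WithConv (A →ₐ[k] Polynomial R)) (g : WithConv (A →ₐ[k] R))
    (hh : push (jj k R) h = gam lam R g) :
    gam lam R (push (e0 k R) h) = push (iota k R) (push (e0 k R) h) := by
  have s1 : push (AddMonoidAlgebra.mapAlgHom ℤ (jj k R)) (gam lam (Polynomial R) h) =
      push (AddMonoidAlgebra.mapAlgHom ℤ (jj k R)) (push (nu k R) h) := by
    rw [push_gam, hh, gam_gam, ← hh, push_push, mu_comp_jj, push_push]
  have s2 : gam lam (Polynomial R) h = push (nu k R) h :=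
    push_injective _ (map_jj_injective R) s1
  rw [← push_gam, s2, push_push, map_e0_comp_nu, push_push]

end limit

end Groth.Agent.Lib.Helper17.DynG
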