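import Mathlib

/-!
# Tools for filtrations on tensor powers of finite projective modules (helper17)

Global arguments replacing localisation at primes: scalars vanish iff they are killed by an element
outside each prime; a direct summand of a finite projective module is, at each prime, either killed
by an element outside the prime or contains a vector on which some functional takes a value outside
the prime.
-/

set_option autoImplicit false

namespace Groth.Agent.Lib.Helper17.FiltT

open scoped TensorProduct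
open PiTensorProduct DirectSum

section basic

variable {R : Type*} [CommRing R] {M : Type*} [AddCommGroup M] [Module R M]

/-- the product functional `⊗ xᵢ ↦ ∏ fᵢ(xᵢ)` on a tensor power. -/
noncomputable def prodFun {k : ℕ} (f : Fin k → Module.Dual R M) : (⨂[R] _ : Fin k, M) →ₗ[R] R :=
  PiTensorProduct.lift (MultilinearMap.mkPiAlgebra R (Fin k) R) ∘ₗ
    PiTensorProduct.map (R := R) (fun i => (f i : M →ₗ[R] R))

lemma prodFun_tprod {k : ℕ} (f : Fin k → Module.Dual R M) (x : Fin k → M) :
    prodFun f (tprod R x) = ∏ i, f i (x i) := by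
  simp [prodFun, PiTensorProduct.map_tprod, PiTensorProduct.lift.tprod]

lemma map_eq_zero_of_eq_zero {ι : Type*} [Fintype ι] {s t : ι → Type*}
    [∀ i, AddCommGroup (s i)] [∀ i, Module R (s i)] [∀ i, AddCommGroup (t i)] [∀ i, Module R (t i)]
    (f : ∀ i, s i →ₗ[R] t i) (i₀ : ι) (h : f i₀ = 0) : PiTensorProduct.map f = 0 := by
  classical
  ext x
  simp only [LinearMap.compMultilinearMap_apply, PiTensorProduct.map_tprod, LinearMap.zero_apply]
  exact (PiTensorProduct.tprod R).map_coord_zero i₀ (by simp [h])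

/-- a scalar vanishes if it is killed by an element outside every prime. -/
lemma eq_zero_of_forall_prime (a : R)
    (h : ∀ p : Ideal R, p.IsPrime → ∃ r, r ∉ p ∧ r * a = 0) : a = 0 := by
  by_contra ha
  set I : Ideal R := LinearMap.ker (LinearMap.toSpanSingleton R R a) with hI
  have hne : I ≠ ⊤ := by
    intro htop
    have : (1 : R) ∈ I := htop ▸ Submodule.mem_top
    rw [hI, LinearMap.mem_ker, LinearMap.toSpanSingleton_apply, one_smul] at this
    exact ha this
  obtain ⟨m, hm, hIm⟩ := Ideal.exists_le_maximal I hne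
  obtain ⟨r, hr, hra⟩ := h m hm.isPrime
  apply hr
  apply hIm
  rw [hI, LinearMap.mem_ker, LinearMap.toSpanSingleton_apply, smul_eq_mul, hra]

/-- an element of a projective module vanishes if all functionals kill it. -/
lemma eq_zero_of_forall_dual [Module.Projective R M] (z : M)
    (h : ∀ ψ : Module.Dual R M, ψ z = 0) : z = 0 := by
  by_contra hz
  obtain ⟨ψ, hψ⟩ := Module.Projective.exists_dual_ne_zero R hz
  exact hψ (h ψ)

/-- At a prime `p`, a direct summand `N` (the image of an idempotent endomorphism `π`) of a finite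
projective module is either killed by an element outside `p`, or contains a vector on which some
functional of `M` takes a value outside `p`. -/
lemma exists_smul_eq_zero_or_exists_dual [Module.Finite R M] [Module.Projective R M]
    (π : M →ₗ[R] M) (N : Submodule R M) (hπN : ∀ x, π x ∈ N) (hπ : ∀ x ∈ N, π x = x)
    (p : Ideal R) [hp : p.IsPrime] :
    (∃ s, s ∉ p ∧ ∀ n ∈ N, s • n = 0) ∨ (∃ e ∈ N, ∃ φ : Module.Dual R M, φ e ∉ p) := by
  by_contra hcon
  rw [not_or] at hcon
  obtain ⟨h1, h2⟩ := hcon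
  push Not at h1 h2
  have hNfg : N.FG := by
    have : N = Submodule.map π ⊤ := by
      apply le_antisymm
      · intro n hn
        exact ⟨n, Submodule.mem_top, hπ n hn⟩
      · rintro _ ⟨x, -, rfl⟩
        exact hπN x
    rw [this]
    exact Submodule.FG.map π (Module.finite_def.mp inferInstance)
  obtain ⟨k, f, g, -, -, hfg⟩ := Module.Finite.exists_comp_eq_id_of_projective R M
  have hle : N ≤ p • N := by
    intro n hn
    have h3 : n = ∑ i, (g n i) • π (f (Pi.single i 1)) := by
      have h4 : g n = ∑ i, (g n i) • (Pi.single i 1 : Fin k → R) := by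
        ext j
        simp [Finset.sum_apply, Pi.single_apply]
      have h5 : n = f (g n) := by
        have := congrArg (fun F => F n) hfg
        simpa using this.symm
      calc n = π n := (hπ n hn).symm
        _ = π (f (g n)) := by rw [← h5]
        _ = π (f (∑ i, (g n i) • (Pi.single i 1 : Fin k → R))) := by rw [← h4]
        _ = _ := by simp [map_sum]
    rw [h3]
    refine Submodule.sum_mem _ fun i _ => ?_
    refine Submodule.smul_mem_smul ?_ (hπN _)
    exact h2 n hn ((LinearMap.proj i : (Fin k → R) →ₗ[R] R) ∘ₗ g)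
  obtain ⟨r, hr1, hr2⟩ :=
    Submodule.exists_sub_one_mem_and_smul_eq_zero_of_fg_of_le_smul p N hNfg hle
  have hrp : r ∉ p := by
    intro hr
    apply hp.ne_top
    rw [Ideal.eq_top_iff_one]
    have := p.sub_mem hr hr1
    simpa using this
  obtain ⟨n, hn, hne⟩ := h1 r hrp
  exact hne (hr2 n hn)

end basic

section grading

variable {Γ : Type*} [LinearOrder Γ] {R : Type*} [CommRing R]
  {M : Type*} [AddCommGroup M] [Module R M]

/-- the projection onto the `γ`-th graded piece, as an endomorphism of `M`. -/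
noncomputable def proj (G : Γ → Submodule R M) [Decomposition G] (γ : Γ) : M →ₗ[R] M :=
  (G γ).subtype ∘ₗ (DirectSum.component R Γ (fun i => G i) γ) ∘ₗ
    (decomposeLinearEquiv G).toLinearMap

lemma proj_apply (G : Γ → Submodule R M) [Decomposition G] (γ : Γ) (y : M) :
    proj G γ y = (decompose G y γ : M) := rfl

lemma proj_mem (G : Γ → Submodule R M) [Decomposition G] (γ : Γ) (y : M) :
    proj G γ y ∈ G γ := by
  rw [proj_apply]; exact (decompose G y γ).2

lemma proj_of_mem_same (G : Γ → Submodule R M) [Decomposition G] {γ : Γ} {y : M} (hy : y ∈ G γ) :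
    proj G γ y = y := by
  rw [proj_apply]; exact decompose_of_mem_same G hy

lemma proj_of_mem_ne (G : Γ → Submodule R M) [Decomposition G] {γ η : Γ} {y : M} (hy : y ∈ G η)
    (h : η ≠ γ) : proj G γ y = 0 := by
  rw [proj_apply]; exact decompose_of_mem_ne G hy h

lemma proj_of_mem_iSup (G : Γ → Submodule R M) [Decomposition G] {γ : Γ} (S : Set Γ) (hγ : γ ∉ S)
    {y : M} (hy : y ∈ ⨆ η ∈ S, G η) : proj G γ y = 0 := by
  have : (⨆ η ∈ S, G η) ≤ LinearMap.ker (proj G γ) := by
    refine iSup₂_le fun η hη z hz => ?_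
    rw [LinearMap.mem_ker]
    exact proj_of_mem_ne G hz (fun h => hγ (h ▸ hη))
  exact LinearMap.mem_ker.mp (this hy)

lemma exists_finset_proj_eq_zero (G : Γ → Submodule R M) [Decomposition G] [Module.Finite R M] :
    ∃ T : Finset Γ, ∀ γ ∉ T, proj G γ = 0 := by
  classical
  obtain ⟨S, hS⟩ := (Module.finite_def (R := R) (M := M)).mp inferInstance
  refine ⟨S.biUnion fun m => (decompose G m).support, fun γ hγ => ?_⟩
  apply LinearMap.ext_on hS
  intro m hm
  rw [LinearMap.zero_apply, proj_apply]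
  have : γ ∉ (decompose G m).support := fun h => hγ (Finset.mem_biUnion.mpr ⟨m, hm, h⟩)
  rw [DFinsupp.mem_support_iff, not_not] at this
  rw [this]; rfl

lemma sum_proj (G : Γ → Submodule R M) [Decomposition G] (T : Finset Γ)
    (hT : ∀ γ ∉ T, proj G γ = 0) (y : M) : ∑ γ ∈ T, proj G γ y = y := by
  classical
  conv_rhs => rw [← sum_support_decompose G y]
  symm
  apply Finset.sum_subset
  · intro γ hγ
    by_contra h
    rw [DFinsupp.mem_support_iff] at hγ
    apply hγ
    have := congrArg (fun f => f y) (hT γ h)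
    simp only [LinearMap.zero_apply, proj_apply] at this
    exact Subtype.ext this
  · intro γ _ hγ
    rw [DFinsupp.mem_support_iff, not_not] at hγ
    rw [hγ]; rfl

/-- membership in `⨆ η ≥ γ, G η` is detected by the vanishing of the lower projections. -/
lemma mem_iSup_Ici_of_proj_eq_zero (G : Γ → Submodule R M) [Decomposition G] [Module.Finite R M]
    (γ : Γ) (x : M) (h : ∀ η, η < γ → proj G η x = 0) : x ∈ ⨆ η ∈ Set.Ici γ, G η := by
  classical
  obtain ⟨T, hT⟩ := exists_finset_proj_eq_zero G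
  rw [← sum_proj G T hT x]
  refine Submodule.sum_mem _ fun η _ => ?_
  by_cases hη : η < γ
  · rw [h η hη]; exact Submodule.zero_mem _
  · exact Submodule.mem_iSup_of_mem η (Submodule.mem_iSup_of_mem (Set.mem_Ici.mpr (not_lt.mp hη))
      (proj_mem G η x))

/-- The local minimal weight of a grading at a prime `p`: either `M` is killed by an element outside
`p`, or there are a weight `a`, an element `s ∉ p` with `s • M ⊆ ⨆ η ≥ a, G η`, and a vector
`e ∈ G a` with a functional taking a value outside `p` on `e`. -/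
lemma exists_local_min [Module.Finite R M] [Module.Projective R M]
    (G : Γ → Submodule R M) [Decomposition G] (p : Ideal R) [hp : p.IsPrime] :
    (∃ s, s ∉ p ∧ ∀ m : M, s • m = 0) ∨
    (∃ (a : Γ) (s : R) (e : M) (φ : Module.Dual R M), s ∉ p ∧ e ∈ G a ∧ φ e ∉ p ∧
      ∀ m : M, s • m ∈ ⨆ η ∈ Set.Ici a, G η) := by
  classical
  obtain ⟨T, hT⟩ := exists_finset_proj_eq_zero G
  -- the chosen killers
  set kil : Γ → R := fun η =>
    if h : ∃ s, s ∉ p ∧ ∀ n ∈ G η, s • n = 0 then h.choose else 1 with hkil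
  have hkil_not : ∀ η, kil η ∉ p := by
    intro η
    simp only [hkil]
    split_ifs with h
    · exact h.choose_spec.1
    · exact fun h1 => hp.ne_top ((Ideal.eq_top_iff_one _).mpr h1)
  have hkil_kill : ∀ η, (∃ s, s ∉ p ∧ ∀ n ∈ G η, s • n = 0) → ∀ n ∈ G η, kil η • n = 0 := by
    intro η h
    simp only [hkil]
    rw [dif_pos h]
    exact h.choose_spec.2
  set S : Finset Γ := T.filter (fun η => ¬ ∃ s, s ∉ p ∧ ∀ n ∈ G η, s • n = 0) with hS
  by_cases hSe : S.Nonempty
  · right
    set a := S.min' hSe with ha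
    have haS : a ∈ S := Finset.min'_mem S hSe
    have ha_not : ¬ ∃ s, s ∉ p ∧ ∀ n ∈ G a, s • n = 0 := (Finset.mem_filter.mp haS).2
    obtain h | ⟨e, he, φ, hφ⟩ := exists_smul_eq_zero_or_exists_dual (proj G a) (G a)
      (proj_mem G a) (fun x hx => proj_of_mem_same G hx) p
    · exact absurd h ha_not
    set s : R := ∏ η ∈ T.filter (fun η => η < a), kil η with hs
    refine ⟨a, s, e, φ, ?_, he, hφ, ?_⟩
    · rw [hs, Ideal.IsPrime.prod_mem_iff]
      rintro ⟨η, -, hη⟩
      exact hkil_not η hη
    · intro m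
      apply mem_iSup_Ici_of_proj_eq_zero
      intro η hη
      rw [map_smul]
      by_cases hηT : η ∈ T
      · have hηS : η ∉ S := fun h => absurd (Finset.min'_le S η h) (not_le.mpr hη)
        have hex : ∃ s, s ∉ p ∧ ∀ n ∈ G η, s • n = 0 := by
          by_contra hne
          exact hηS (Finset.mem_filter.mpr ⟨hηT, hne⟩)
        have hmem : η ∈ T.filter (fun η => η < a) := Finset.mem_filter.mpr ⟨hηT, hη⟩
        rw [hs, ← Finset.mul_prod_erase _ _ hmem, mul_comm, mul_smul,
          hkil_kill η hex _ (proj_mem G η m), smul_zero]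
      · rw [hT η hηT, LinearMap.zero_apply, smul_zero]
  · left
    rw [Finset.not_nonempty_iff_eq_empty] at hSe
    refine ⟨∏ η ∈ T, kil η, ?_, ?_⟩
    · rw [Ideal.IsPrime.prod_mem_iff]
      rintro ⟨η, -, hη⟩
      exact hkil_not η hη
    · intro m
      rw [← sum_proj G T hT m, Finset.smul_sum]
      refine Finset.sum_eq_zero fun η hηT => ?_
      have hηS : η ∉ S := by rw [hSe]; exact Finset.notMem_empty η
      have hex : ∃ s, s ∉ p ∧ ∀ n ∈ G η, s • n = 0 := by
        by_contra hne
        exact hηS (Finset.mem_filter.mpr ⟨hηT, hne⟩)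
      rw [← Finset.mul_prod_erase _ _ hηT, mul_comm, mul_smul,
        hkil_kill η hex _ (proj_mem G η m), smul_zero]

end grading

section tensorfilt

variable {Γ : Type*} [AddCommGroup Γ] [LinearOrder Γ] [IsOrderedAddMonoid Γ]
  {R : Type*} [CommRing R] {M : Type*} [AddCommGroup M] [Module R M]

/-- the induced filtration on the `k`-th tensor power. -/
def tensFilt (F : Γ → Submodule R M) (k : ℕ) (γ : Γ) : Submodule R (⨂[R] _ : Fin k, M) :=
  ⨆ c : {c : Fin k → Γ // ∑ i, c i = γ},
    LinearMap.range (PiTensorProduct.map (R := R) (fun i => (F (c.1 i)).subtype))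

omit [LinearOrder Γ] [IsOrderedAddMonoid Γ] in
lemma tprod_mem_tensFilt (F : Γ → Submodule R M) (k : ℕ) (c : Fin k → Γ) (x : Fin k → M)
    (hx : ∀ i, x i ∈ F (c i)) : tprod R x ∈ tensFilt F k (∑ i, c i) := by
  refine Submodule.mem_iSup_of_mem ⟨c, rfl⟩ ⟨tprod R (fun i => (⟨x i, hx i⟩ : F (c i))), ?_⟩
  simp [PiTensorProduct.map_tprod]

/-- the component projections of a splitting kill the tensor filtration in lower total weight. -/
lemma tensProj_eq_zero_of_mem [Module.Finite R M] (F : Γ → Submodule R M)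
    (G : Γ → Submodule R M) [Decomposition G]
    (hFG : ∀ γ, F γ = ⨆ η ∈ Set.Ici γ, G η) (k : ℕ) (γ : Γ) (η : Fin k → Γ) (hη : ∑ i, η i < γ)
    (y : ⨂[R] _ : Fin k, M) (hy : y ∈ tensFilt F k γ) :
    PiTensorProduct.map (R := R) (fun i => proj G (η i)) y = 0 := by
  have hle : tensFilt F k γ ≤
      LinearMap.ker (PiTensorProduct.map (R := R) (fun i => proj G (η i))) := by
    refine iSup_le fun c => ?_
    rw [LinearMap.range_le_ker_iff, ← PiTensorProduct.map_comp]
    obtain ⟨c, hc⟩ := c
    have hex : ∃ i, η i < c i := by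
      by_contra hcon
      push Not at hcon
      have := Finset.sum_le_sum (fun i (_ : i ∈ Finset.univ) => hcon i)
      rw [hc] at this
      exact absurd hη (not_lt.mpr this)
    obtain ⟨i₀, hi₀⟩ := hex
    apply map_eq_zero_of_eq_zero _ i₀
    ext ⟨z, hz⟩
    simp only [LinearMap.comp_apply, Submodule.subtype_apply, LinearMap.zero_apply]
    rw [hFG] at hz
    exact proj_of_mem_iSup G (Set.Ici (c i₀)) (by simpa using hi₀) hz
  exact LinearMap.mem_ker.mp (hle hy)

end tensorfilt

end Groth.Agent.Lib.Helper17.FiltT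

namespace Groth.Agent.Lib.Helper17.FiltT

open scoped TensorProduct
open PiTensorProduct DirectSum

section main

variable {Γ : Type*} [AddCommGroup Γ] [LinearOrder Γ] [IsOrderedAddMonoid Γ]
  {R : Type*} [CommRing R] {M : Type*} [AddCommGroup M] [Module R M]
  [Module.Finite R M] [Module.Projective R M]

/-- One inclusion of the uniqueness theorem: two split filtrations inducing the same filtration on a
tensor power satisfy `F₁ γ ≤ F₂ γ`. -/
theorem le_of_tensFilt_eq (F₁ F₂ : Γ → Submodule R M)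
    (G₁ : Γ → Submodule R M) [Decomposition G₁] (hFG₁ : ∀ γ, F₁ γ = ⨆ η ∈ Set.Ici γ, G₁ η)
    (G₂ : Γ → Submodule R M) [Decomposition G₂] (hFG₂ : ∀ γ, F₂ γ = ⨆ η ∈ Set.Ici γ, G₂ η)
    (k : ℕ) (hk : 1 ≤ k) (h : ∀ γ, tensFilt F₁ k γ = tensFilt F₂ k γ) (γ : Γ) :
    F₁ γ ≤ F₂ γ := by
  classical
  intro x hx
  rw [hFG₂]
  apply mem_iSup_Ici_of_proj_eq_zero
  intro η hη
  apply eq_zero_of_forall_dual (R := R)
  intro ψ
  apply eq_zero_of_forall_prime
  intro p hp
  have := hp
  set i₀ : Fin k := ⟨0, hk⟩ with hi₀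
  obtain ⟨s, hs, hsM⟩ | ⟨a₁, s₁, e₁, φ₁, hs₁, he₁, hφ₁, hsM₁⟩ := exists_local_min G₁ p
  · refine ⟨s, hs, ?_⟩
    rw [← smul_eq_mul, ← map_smul, ← map_smul, hsM, map_zero, map_zero]
  obtain ⟨s, hs, hsM⟩ | ⟨a₂, s₂, e₂, φ₂, hs₂, he₂, hφ₂, hsM₂⟩ := exists_local_min G₂ p
  · refine ⟨s, hs, ?_⟩
    rw [← smul_eq_mul, ← map_smul, ← map_smul, hsM, map_zero, map_zero]
  -- step 1: `a₂ ≤ a₁`
  have ha : a₂ ≤ a₁ := by
    by_contra hlt
    rw [not_le] at hlt
    have hmem : tprod R (fun _ : Fin k => s₂ • e₁) ∈ tensFilt F₂ k (∑ _i : Fin k, a₂) :=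
      tprod_mem_tensFilt F₂ k (fun _ => a₂) _ (fun _ => by rw [hFG₂]; exact hsM₂ e₁)
    rw [← h] at hmem
    have hsum : ∑ _i : Fin k, a₁ < ∑ _i : Fin k, a₂ := by
      apply Finset.sum_lt_sum_of_nonempty
      · exact ⟨i₀, Finset.mem_univ _⟩
      · intro _ _; exact hlt
    have h0 := tensProj_eq_zero_of_mem F₁ G₁ hFG₁ k _ (fun _ => a₁) hsum _ hmem
    rw [PiTensorProduct.map_tprod] at h0
    have h1 := congrArg (prodFun (fun _ : Fin k => φ₁)) h0
    rw [prodFun_tprod, map_zero] at h1
    have h2 : (s₂ * φ₁ e₁) ^ k ∈ p := by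
      have : (∏ _i : Fin k, φ₁ (proj G₁ a₁ (s₂ • e₁))) = (s₂ * φ₁ e₁) ^ k := by
        rw [Finset.prod_const, Finset.card_univ, Fintype.card_fin, map_smul, map_smul,
          proj_of_mem_same G₁ he₁, smul_eq_mul]
      rw [← this, h1]
      exact p.zero_mem
    have h3 := hp.mem_of_pow_mem k h2
    rcases hp.mem_or_mem h3 with h4 | h4
    · exact hs₂ h4
    · exact hφ₁ h4
  -- step 2
  set c : Fin k → Γ := fun i => if i = i₀ then γ else a₁ with hc
  set ηs : Fin k → Γ := fun i => if i = i₀ then η else a₂ with hηs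
  set xs : Fin k → M := fun i => if i = i₀ then x else s₁ • e₂ with hxs
  have hmem : tprod R xs ∈ tensFilt F₁ k (∑ i, c i) := by
    apply tprod_mem_tensFilt
    intro i
    simp only [hxs, hc]
    split_ifs
    · exact hx
    · rw [hFG₁]; exact hsM₁ e₂
  rw [h] at hmem
  have hsum : ∑ i, ηs i < ∑ i, c i := by
    apply Finset.sum_lt_sum
    · intro i _
      simp only [hηs, hc]
      split_ifs
      · exact hη.le
      · exact ha
    · exact ⟨i₀, Finset.mem_univ _, by simp [hηs, hc, hη]⟩
  have h0 := tensProj_eq_zero_of_mem F₂ G₂ hFG₂ k _ ηs hsum _ hmem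
  rw [PiTensorProduct.map_tprod] at h0
  have h1 := congrArg (prodFun (fun i : Fin k => if i = i₀ then ψ else φ₂)) h0
  rw [prodFun_tprod, map_zero, ← Finset.mul_prod_erase _ _ (Finset.mem_univ i₀)] at h1
  simp only [hηs, hxs, if_true] at h1
  refine ⟨_, ?_, by rw [mul_comm]; exact h1⟩
  rw [Ideal.IsPrime.prod_mem_iff]
  rintro ⟨i, hi, hmemp⟩
  have hne : i ≠ i₀ := (Finset.mem_erase.mp hi).1
  simp only [if_neg hne, map_smul, proj_of_mem_same G₂ he₂, smul_eq_mul] at hmemp
  rcases hp.mem_or_mem hmemp with h4 | h4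
  · exact hs₁ h4
  · exact hφ₂ h4

end main

end Groth.Agent.Lib.Helper17.FiltT
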