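import Mathlib
import Groth.Agent.Lib.Helper17.FiltTensor

/-!
# Splitting filtrations of finite projective modules (helper17)

* `fd_iSup_eq_top`: a dimension count for filtrations of finite-dimensional vector spaces.
* `split_of_sections`: sections of the graded pieces of a filtration split it once they span.
-/

set_option autoImplicit false

namespace Groth.Agent.Lib.Helper17.FiltS

open scoped TensorProduct
open DirectSum Groth.Agent.Lib.Helper17.FiltT

section fd

variable {κ : Type*} [Field κ] {V : Type*} [AddCommGroup V] [Module κ V] [FiniteDimensional κ V]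
  {Γ : Type*} [LinearOrder Γ]

/-- the jump of a filtration at `γ`. -/
noncomputable def jump (Fx : Γ → Submodule κ V) (γ : Γ) : ℕ :=
  Module.finrank κ ↥(Fx γ) - Module.finrank κ ↥(⨆ η ∈ Set.Ioi γ, Fx η)

omit [FiniteDimensional κ V] in
lemma plus_le (Fx : Γ → Submodule κ V) (hFx : Antitone Fx) (γ : Γ) :
    (⨆ η ∈ Set.Ioi γ, Fx η) ≤ Fx γ :=
  iSup₂_le fun _ hη => hFx (le_of_lt hη)

lemma jump_sum_le (Fx : Γ → Submodule κ V) (hFx : Antitone Fx) (B : Submodule κ V)
    (S : Finset Γ) : ∀ A : Submodule κ V, B ≤ A → (∀ γ ∈ S, Fx γ ≤ A) →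
      (∀ γ ∈ S, B ≤ ⨆ η ∈ Set.Ioi γ, Fx η) →
      ∑ γ ∈ S, jump Fx γ + Module.finrank κ B ≤ Module.finrank κ A := by
  classical
  induction S using Finset.induction_on_min with
  | empty =>
    intro A hBA _ _
    simpa using Submodule.finrank_mono hBA
  | insert a s has ih =>
    intro A hBA hA hB
    have hnot : a ∉ s := fun h => lt_irrefl a (has a h)
    rw [Finset.sum_insert hnot]
    have h1 := ih (⨆ η ∈ Set.Ioi a, Fx η) (hB a (Finset.mem_insert_self a s))
      (fun γ hγ => le_iSup₂_of_le γ (Set.mem_Ioi.mpr (has γ hγ)) le_rfl)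
      (fun γ hγ => hB γ (Finset.mem_insert_of_mem hγ))
    have h2 : Module.finrank κ ↥(⨆ η ∈ Set.Ioi a, Fx η) ≤ Module.finrank κ ↥(Fx a) :=
      Submodule.finrank_mono (plus_le Fx hFx a)
    have h3 : Module.finrank κ ↥(Fx a) ≤ Module.finrank κ A :=
      Submodule.finrank_mono (hA a (Finset.mem_insert_self a s))
    unfold jump at *
    omega

/-- The dimension count: if the jumps of an antitone filtration `Fx` of a finite-dimensional space
add up to the dimension, and `Gb γ` generates `Fx γ` modulo the higher steps, then the `Gb γ`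
span. -/
theorem fd_iSup_eq_top (Fx : Γ → Submodule κ V) (hFx : Antitone Fx) (Gb : Γ → Submodule κ V)
    (hG : ∀ γ, Fx γ ≤ Gb γ ⊔ ⨆ η ∈ Set.Ioi γ, Fx η)
    (hsum : Module.finrank κ V = ∑ᶠ γ, jump Fx γ) : ⨆ γ, Gb γ = ⊤ := by
  classical
  set W : Submodule κ V := ⨆ γ, Gb γ with hW
  set n := Module.finrank κ V with hn
  by_cases hn0 : n = 0
  · have : Subsingleton V := Module.finrank_zero_iff.mp hn0
    exact Subsingleton.elim _ _
  have hfin : (Function.support (jump Fx)).Finite := by
    by_contra hinf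
    rw [finsum_of_infinite_support hinf] at hsum
    exact hn0 hsum
  set J : Finset Γ := hfin.toFinset with hJ
  have hsumJ : n = ∑ γ ∈ J, jump Fx γ := by
    rw [hsum, finsum_eq_sum_of_support_subset (s := J) _ (by rw [hJ, Set.Finite.coe_toFinset])]
  have hJmem : ∀ γ, γ ∈ J ↔ jump Fx γ ≠ 0 := by
    intro γ; simp [hJ]
  -- Step A: every `Fx γ` lies in `W`
  have hA : ∀ k : ℕ, ∀ γ, Module.finrank κ ↥(Fx γ) = k → Fx γ ≤ W := by
    intro k
    induction k using Nat.strong_induction_on with
    | _ k ih =>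
    intro γs hγs
    by_contra hbad
    set U := Fx γs with hU
    have hk1 : 1 ≤ k := by
      rcases Nat.eq_zero_or_pos k with h0 | h0
      · exfalso
        apply hbad
        rw [h0] at hγs
        rw [Submodule.finrank_eq_zero.mp hγs]
        exact bot_le
      · exact h0
    -- no jump at a point with the same step
    have hnojump : ∀ γ, Fx γ = U → jump Fx γ = 0 := by
      intro γ hγU
      have h1 : ¬ (⨆ η ∈ Set.Ioi γ, Fx η) ≤ W := by
        intro hle
        apply hbad
        rw [← hγU]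
        refine (hG γ).trans (sup_le (le_iSup Gb γ) hle)
      have h2 : ∃ η, γ < η ∧ ¬ Fx η ≤ W := by
        by_contra hcon
        push Not at hcon
        exact h1 (iSup₂_le fun η hη => hcon η hη)
      obtain ⟨η, hη, hηW⟩ := h2
      have h3 : Fx η ≤ Fx γ := hFx hη.le
      have h4 : ¬ Module.finrank κ ↥(Fx η) < k := fun hlt => hηW (ih _ hlt η rfl)
      have h5 : Module.finrank κ ↥(Fx η) ≤ Module.finrank κ ↥(Fx γ) := Submodule.finrank_mono h3
      have h6 : Module.finrank κ ↥(Fx γ) = k := by rw [hγU]; exact hγs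
      have h7 : Fx η = Fx γ := Submodule.eq_of_le_of_finrank_eq h3 (by omega)
      have h8 : Fx γ ≤ ⨆ η ∈ Set.Ioi γ, Fx η := by
        rw [← h7]; exact le_iSup₂_of_le η (Set.mem_Ioi.mpr hη) le_rfl
      have h9 := Submodule.finrank_mono h8
      unfold jump
      omega
    set J₁ := J.filter (fun γ => k < Module.finrank κ ↥(Fx γ)) with hJ₁
    set J₃ := J.filter (fun γ => Module.finrank κ ↥(Fx γ) < k) with hJ₃
    have hsplit : ∑ γ ∈ J, jump Fx γ = ∑ γ ∈ J₁, jump Fx γ + ∑ γ ∈ J₃, jump Fx γ := by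
      rw [← Finset.sum_filter_add_sum_filter_not J (fun γ => k < Module.finrank κ ↥(Fx γ))]
      congr 1
      apply Finset.sum_congr _ (fun _ _ => rfl)
      ext γ
      simp only [Finset.mem_filter, hJ₃, not_lt]
      constructor
      · rintro ⟨hγJ, hle⟩
        refine ⟨hγJ, lt_of_le_of_ne hle ?_⟩
        intro heq
        have hcmp : Fx γ = U := by
          rcases le_total γ γs with h | h
          · exact (Submodule.eq_of_le_of_finrank_eq (hFx h) (by rw [heq]; exact hγs)).symm
          · exact Submodule.eq_of_le_of_finrank_eq (hFx h) (by rw [heq]; exact hγs.symm)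
        exact (hJmem γ).mp hγJ (hnojump γ hcmp)
      · rintro ⟨hγJ, hlt⟩
        exact ⟨hγJ, hlt.le⟩
    have hb1 : ∑ γ ∈ J₁, jump Fx γ + Module.finrank κ U ≤ Module.finrank κ (⊤ : Submodule κ V) := by
      apply jump_sum_le Fx hFx U J₁ ⊤ le_top (fun _ _ => le_top)
      intro γ hγ
      have hlt : k < Module.finrank κ ↥(Fx γ) := (Finset.mem_filter.mp hγ).2
      have hγlt : γ < γs := by
        by_contra hge
        rw [not_lt] at hge
        have := Submodule.finrank_mono (hFx hge)
        rw [← hU, hγs] at this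
        omega
      exact le_iSup₂_of_le γs (Set.mem_Ioi.mpr hγlt) le_rfl
    rw [finrank_top] at hb1
    have hb3 : ∑ γ ∈ J₃, jump Fx γ ≤ k - 1 := by
      by_cases hne : J₃.Nonempty
      · set η₀ := J₃.min' hne with hη₀
        have hη₀mem : η₀ ∈ J₃ := Finset.min'_mem J₃ hne
        have hlt : Module.finrank κ ↥(Fx η₀) < k := (Finset.mem_filter.mp hη₀mem).2
        have := jump_sum_le Fx hFx ⊥ J₃ (Fx η₀) bot_le
          (fun γ hγ => hFx (Finset.min'_le J₃ γ hγ)) (fun _ _ => bot_le)
        rw [finrank_bot] at this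
        omega
      · rw [Finset.not_nonempty_iff_eq_empty] at hne
        rw [hne, Finset.sum_empty]
        exact Nat.zero_le _
    have hUk : Module.finrank κ U = k := hγs
    omega
  have hAll : ∀ γ, Fx γ ≤ W := fun γ => hA _ γ rfl
  -- Step B
  by_contra hWtop
  have hlt : Module.finrank κ W < n := Submodule.finrank_lt hWtop
  have := jump_sum_le Fx hFx ⊥ J W bot_le (fun γ _ => hAll γ) (fun _ _ => bot_le)
  rw [finrank_bot] at this
  omega

end fd

section split

variable {Γ : Type*} [LinearOrder Γ] {R : Type*} [CommRing R]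
  {M : Type*} [AddCommGroup M] [Module R M]

/-- triangular vanishing of the low components of a sum of elements of the sections. -/
lemma eq_zero_of_sum_mem (F G : Γ → Submodule R M)
    (hGF : ∀ γ, G γ ≤ F γ) (hdisj : ∀ γ, G γ ⊓ (⨆ η ∈ Set.Ioi γ, F η) = ⊥)
    (low : Γ → Prop) (hlow : ∀ η η', low η → η' ≤ η → low η')
    (X : Submodule R M) (hX : ∀ η, low η → X ≤ ⨆ ζ ∈ Set.Ioi η, F ζ)
    (g : Γ → M) (S : Finset Γ) :
    (∀ η ∈ S, g η ∈ G η) → ∑ η ∈ S, g η ∈ X → ∀ η ∈ S, low η → g η = 0 := by
  classical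
  induction S using Finset.induction_on_min with
  | empty => intro _ _ η hη; exact absurd hη (Finset.notMem_empty η)
  | insert a s has ih =>
    intro hg hsum η hη hlowη
    have hnot : a ∉ s := fun h => lt_irrefl a (has a h)
    rw [Finset.sum_insert hnot] at hsum
    have hgs : ∀ η ∈ s, g η ∈ G η := fun η hη => hg η (Finset.mem_insert_of_mem hη)
    by_cases hla : low a
    · have hs_mem : ∑ η ∈ s, g η ∈ ⨆ ζ ∈ Set.Ioi a, F ζ := by
        refine Submodule.sum_mem _ fun ζ hζ => ?_
        exact (le_iSup₂_of_le ζ (Set.mem_Ioi.mpr (has ζ hζ)) le_rfl : F ζ ≤ _) (hGF ζ (hgs ζ hζ))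
      have ha_mem : g a ∈ ⨆ ζ ∈ Set.Ioi a, F ζ := by
        have : g a = (g a + ∑ η ∈ s, g η) - ∑ η ∈ s, g η := by abel
        rw [this]
        exact Submodule.sub_mem _ (hX a hla hsum) hs_mem
      have ha0 : g a = 0 := by
        have : g a ∈ G a ⊓ ⨆ ζ ∈ Set.Ioi a, F ζ :=
          ⟨hg a (Finset.mem_insert_self a s), ha_mem⟩
        rw [hdisj a] at this
        exact (Submodule.mem_bot R).mp this
      rw [ha0, zero_add] at hsum
      rcases Finset.mem_insert.mp hη with rfl | hηs
      · exact ha0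
      · exact ih hgs hsum η hηs hlowη
    · exfalso
      rcases Finset.mem_insert.mp hη with rfl | hηs
      · exact hla hlowη
      · exact hla (hlow η a hlowη (has η hηs).le)

/-- sections of the graded pieces of a filtration split it as soon as they span. -/
theorem split_of_sections (F G : Γ → Submodule R M) (hF : Antitone F)
    (hGF : ∀ γ, G γ ≤ F γ) (hdisj : ∀ γ, G γ ⊓ (⨆ η ∈ Set.Ioi γ, F η) = ⊥)
    (htop : ⨆ γ, G γ = ⊤) :
    DirectSum.IsInternal G ∧ ∀ γ, F γ = ⨆ η ∈ Set.Ici γ, G η := by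
  classical
  constructor
  · apply DirectSum.isInternal_submodule_of_iSupIndep_of_iSup_eq_top _ htop
    rw [iSupIndep_iff_finsetSum_eq_zero_imp_eq_zero]
    intro s v hv hsum i hi
    refine eq_zero_of_sum_mem F G hGF hdisj (fun _ => True) (fun _ _ _ _ => trivial) ⊥
      (fun _ _ => bot_le) v s hv ?_ i hi trivial
    rw [hsum]; exact Submodule.zero_mem _
  · intro γ
    apply le_antisymm
    · intro x hx
      have hxtop : x ∈ ⨆ γ, G γ := by rw [htop]; exact Submodule.mem_top
      obtain ⟨f, hf, rfl⟩ := (Submodule.mem_iSup_iff_exists_finsupp ..).mp hxtop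
      have h0 : ∀ η ∈ f.support, η < γ → f η = 0 := by
        refine eq_zero_of_sum_mem F G hGF hdisj (fun η => η < γ)
          (fun η η' h h' => lt_of_le_of_lt h' h) (F γ)
          (fun η hη => le_iSup₂_of_le γ (Set.mem_Ioi.mpr hη) le_rfl) f f.support
          (fun η _ => hf η) hx
      refine Submodule.sum_mem _ fun η hη => ?_
      by_cases hlt : η < γ
      · rw [h0 η hη hlt]; exact Submodule.zero_mem _
      · exact Submodule.mem_iSup_of_mem η (Submodule.mem_iSup_of_mem
          (Set.mem_Ici.mpr (not_lt.mp hlt)) (hf η))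
    · exact iSup₂_le fun η hη => (hGF η).trans (hF hη)

end split

section bc

variable {R : Type*} [CommRing R] {M : Type*} [AddCommGroup M] [Module R M]
  (κ : Type*) [Field κ] [Algebra R κ]

lemma baseChange_iSup {ι : Sort*} (N : ι → Submodule R M) :
    (⨆ i, N i).baseChange κ = ⨆ i, (N i).baseChange κ := by
  apply le_antisymm
  · rw [Submodule.baseChange_eq_span, Submodule.span_le]
    rintro _ ⟨m, hm, rfl⟩
    simp only [TensorProduct.mk_apply, SetLike.mem_coe]
    induction hm using Submodule.iSup_induction' with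
    | mem i x hx =>
      exact (le_iSup (fun i => (N i).baseChange κ) i) (Submodule.tmul_mem_baseChange_of_mem 1 hx)
    | zero => rw [TensorProduct.tmul_zero]; exact Submodule.zero_mem _
    | add x y _ _ hx hy => rw [TensorProduct.tmul_add]; exact Submodule.add_mem _ hx hy
  · exact iSup_le fun i => Submodule.baseChange_mono κ (le_iSup N i)

lemma baseChange_biSup {ι : Type*} (S : Set ι) (N : ι → Submodule R M) :
    (⨆ i ∈ S, N i).baseChange κ = ⨆ i ∈ S, (N i).baseChange κ := by
  simp only [baseChange_iSup]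

lemma baseChange_sup (p q : Submodule R M) :
    (p ⊔ q).baseChange κ = p.baseChange κ ⊔ q.baseChange κ := by
  apply le_antisymm
  · rw [Submodule.baseChange_eq_span, Submodule.span_le]
    rintro _ ⟨m, hm, rfl⟩
    obtain ⟨a, ha, b, hb, rfl⟩ := Submodule.mem_sup.mp hm
    simp only [TensorProduct.mk_apply, SetLike.mem_coe, TensorProduct.tmul_add]
    exact Submodule.add_mem _
      (le_sup_left (a := p.baseChange κ) (Submodule.tmul_mem_baseChange_of_mem 1 ha))
      (le_sup_right (b := q.baseChange κ) (Submodule.tmul_mem_baseChange_of_mem 1 hb))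
  · exact sup_le (Submodule.baseChange_mono κ le_sup_left) (Submodule.baseChange_mono κ le_sup_right)

end bc

section naka

variable {R : Type*} [CommRing R] {M : Type*} [AddCommGroup M] [Module R M] [Module.Finite R M]

/-- a submodule of a finite module is everything if it is so in every fibre. -/
lemma eq_top_of_forall_baseChange_eq_top (N : Submodule R M)
    (h : ∀ p : PrimeSpectrum R, N.baseChange p.asIdeal.ResidueField = ⊤) : N = ⊤ := by
  rw [← Submodule.Quotient.subsingleton_iff, ← Module.support_eq_empty_iff (R := R)]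
  rw [Set.eq_empty_iff_forall_notMem]
  intro p
  rw [Module.mem_support_iff_nontrivial_residueField_tensorProduct, not_nontrivial_iff_subsingleton]
  have hzero : (N.mkQ.baseChange p.asIdeal.ResidueField) = 0 := by
    apply LinearMap.ext
    intro v
    have hv : v ∈ N.baseChange p.asIdeal.ResidueField := by rw [h p]; exact Submodule.mem_top
    obtain ⟨w, rfl⟩ := hv
    rw [← LinearMap.comp_apply, ← LinearMap.baseChange_comp]
    have : N.mkQ ∘ₗ N.subtype = 0 := by
      ext x; simp
    rw [this, LinearMap.baseChange_zero, LinearMap.zero_apply, LinearMap.zero_apply]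
  refine ⟨fun a b => ?_⟩
  have hall : ∀ z : p.asIdeal.ResidueField ⊗[R] (M ⧸ N), z = 0 := by
    intro z
    induction z using TensorProduct.induction_on with
    | zero => rfl
    | tmul c q =>
      obtain ⟨m, rfl⟩ := N.mkQ_surjective q
      have := congrArg (fun f => f (c ⊗ₜ[R] m)) hzero
      simpa using this
    | add x y hx hy => rw [hx, hy, add_zero]
  rw [hall a, hall b]

end naka

section fourToOne

variable {Γ : Type*} [LinearOrder Γ] {R : Type*} [CommRing R]
  {M : Type*} [AddCommGroup M] [Module R M] [Module.Finite R M]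

/-- (4) ⇒ (1): projective graded pieces plus the fibrewise jump count give a splitting. -/
theorem exists_split_of_gr_projective (F : Γ → Submodule R M) (hF : Antitone F)
    (hproj : ∀ γ, Module.Projective R
      (↥(F γ) ⧸ Submodule.comap (F γ).subtype (⨆ η ∈ Set.Ioi γ, F η)))
    (hrank : ∀ p : PrimeSpectrum R,
      Module.finrank p.asIdeal.ResidueField (p.asIdeal.ResidueField ⊗[R] M) =
        ∑ᶠ γ, jump (fun γ => (F γ).baseChange p.asIdeal.ResidueField) γ) :
    ∃ G : Γ → Submodule R M, DirectSum.IsInternal G ∧ ∀ γ, F γ = ⨆ η ∈ Set.Ici γ, G η := by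
  classical
  -- sections of the graded pieces
  have hsec : ∀ γ, ∃ s : (↥(F γ) ⧸ Submodule.comap (F γ).subtype (⨆ η ∈ Set.Ioi γ, F η))
      →ₗ[R] ↥(F γ), (Submodule.comap (F γ).subtype (⨆ η ∈ Set.Ioi γ, F η)).mkQ ∘ₗ s
        = LinearMap.id := by
    intro γ
    have := hproj γ
    exact Module.projective_lifting_property _ _ (Submodule.mkQ_surjective _)
  choose s hs using hsec
  set G : Γ → Submodule R M := fun γ => Submodule.map (F γ).subtype (LinearMap.range (s γ))
    with hGdef
  have hGF : ∀ γ, G γ ≤ F γ := fun γ => Submodule.map_subtype_le _ _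
  have hsq : ∀ γ q, (Submodule.comap (F γ).subtype (⨆ η ∈ Set.Ioi γ, F η)).mkQ (s γ q) = q := by
    intro γ q
    have := congrArg (fun f => f q) (hs γ)
    simpa using this
  have hcover : ∀ γ, F γ ≤ G γ ⊔ ⨆ η ∈ Set.Ioi γ, F η := by
    intro γ x hx
    set x' : ↥(F γ) := ⟨x, hx⟩ with hx'
    set y : ↥(F γ) := s γ ((Submodule.comap (F γ).subtype (⨆ η ∈ Set.Ioi γ, F η)).mkQ x') with hy
    have hker : x' - y ∈ Submodule.comap (F γ).subtype (⨆ η ∈ Set.Ioi γ, F η) := by
      rw [← Submodule.ker_mkQ (Submodule.comap (F γ).subtype (⨆ η ∈ Set.Ioi γ, F η)),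
        LinearMap.mem_ker, map_sub, hy, hsq, sub_self]
    have hxy : x = (y : M) + ((x' - y : ↥(F γ)) : M) := by
      simp [hx']
    rw [hxy]
    refine Submodule.add_mem_sup ?_ hker
    exact ⟨y, ⟨_, rfl⟩, rfl⟩
  have hdisj : ∀ γ, G γ ⊓ (⨆ η ∈ Set.Ioi γ, F η) = ⊥ := by
    intro γ
    rw [eq_bot_iff]
    rintro z ⟨⟨y, ⟨q, rfl⟩, rfl⟩, hz2⟩
    have hmem : s γ q ∈ Submodule.comap (F γ).subtype (⨆ η ∈ Set.Ioi γ, F η) := hz2
    have h0 : (Submodule.comap (F γ).subtype (⨆ η ∈ Set.Ioi γ, F η)).mkQ (s γ q) = 0 := by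
      rw [Submodule.mkQ_apply]
      exact (Submodule.Quotient.mk_eq_zero _).mpr hmem
    rw [hsq] at h0
    rw [h0, map_zero, map_zero]
    exact Submodule.zero_mem _
  have htop : ⨆ γ, G γ = ⊤ := by
    apply eq_top_of_forall_baseChange_eq_top
    intro p
    rw [baseChange_iSup]
    apply fd_iSup_eq_top (fun γ => (F γ).baseChange p.asIdeal.ResidueField)
      (fun a b hab => Submodule.baseChange_mono _ (hF hab))
    · intro γ
      have := Submodule.baseChange_mono p.asIdeal.ResidueField (hcover γ)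
      rw [baseChange_sup, baseChange_biSup] at this
      exact this
    · exact hrank p
  exact ⟨G, split_of_sections F G hF hGF hdisj htop⟩

end fourToOne

section oneToFour

variable {Γ : Type*} [LinearOrder Γ] {R : Type*} [CommRing R]
  {M : Type*} [AddCommGroup M] [Module R M]
  (G : Γ → Submodule R M) [Decomposition G]

lemma mem_biSup_of_proj_eq_zero [Module.Finite R M] (S : Set Γ) (x : M)
    (h : ∀ η, η ∉ S → proj G η x = 0) : x ∈ ⨆ η ∈ S, G η := by
  classical
  obtain ⟨T, hT⟩ := exists_finset_proj_eq_zero G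
  rw [← sum_proj G T hT x]
  refine Submodule.sum_mem _ fun η _ => ?_
  by_cases hη : η ∈ S
  · exact Submodule.mem_iSup_of_mem η (Submodule.mem_iSup_of_mem hη (proj_mem G η x))
  · rw [h η hη]; exact Submodule.zero_mem _

omit [Decomposition G] in
lemma plus_eq (F : Γ → Submodule R M) (hFG : ∀ γ, F γ = ⨆ η ∈ Set.Ici γ, G η) (γ : Γ) :
    (⨆ η ∈ Set.Ioi γ, F η) = ⨆ η ∈ Set.Ioi γ, G η := by
  apply le_antisymm
  · refine iSup₂_le fun η hη => ?_
    rw [hFG]
    exact iSup₂_le fun ζ hζ => le_iSup₂_of_le ζ (lt_of_lt_of_le hη hζ) le_rfl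
  · refine iSup₂_le fun η hη => le_iSup₂_of_le η hη ?_
    rw [hFG]
    exact le_iSup₂_of_le η (Set.mem_Ici.mpr le_rfl) le_rfl

/-- (1) ⇒ (4a): the graded pieces of a split filtration are finite projective. -/
theorem gr_finite_projective [Module.Finite R M] [Module.Projective R M]
    (F : Γ → Submodule R M) (hFG : ∀ γ, F γ = ⨆ η ∈ Set.Ici γ, G η) (γ : Γ) :
    Module.Finite R (↥(F γ) ⧸ Submodule.comap (F γ).subtype (⨆ η ∈ Set.Ioi γ, F η)) ∧
    Module.Projective R (↥(F γ) ⧸ Submodule.comap (F γ).subtype (⨆ η ∈ Set.Ioi γ, F η)) := by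
  classical
  have hGF : G γ ≤ F γ := by
    rw [hFG]; exact le_iSup₂_of_le γ (Set.mem_Ici.mpr le_rfl) le_rfl
  set r : M →ₗ[R] ↥(G γ) := (proj G γ).codRestrict (G γ) (proj_mem G γ) with hr
  have hr_apply : ∀ x, ((r x : ↥(G γ)) : M) = proj G γ x := fun x => rfl
  have hr_surj : Function.Surjective r := by
    intro g
    refine ⟨g, Subtype.ext ?_⟩
    rw [hr_apply]; exact proj_of_mem_same G g.2
  have : Module.Finite R ↥(G γ) := Module.Finite.of_surjective r hr_surj
  have : Module.Projective R ↥(G γ) := by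
    apply Module.Projective.of_split (G γ).subtype r
    ext g
    simp only [LinearMap.comp_apply, Submodule.subtype_apply, LinearMap.id_apply]
    rw [hr_apply]; exact proj_of_mem_same G g.2
  set f : ↥(F γ) →ₗ[R] ↥(G γ) := r ∘ₗ (F γ).subtype with hf
  have hf_surj : Function.Surjective f := by
    intro g
    obtain ⟨x, hx⟩ := hr_surj g
    refine ⟨⟨g, hGF g.2⟩, Subtype.ext ?_⟩
    simp only [hf, LinearMap.comp_apply, Submodule.subtype_apply]
    rw [hr_apply]; exact proj_of_mem_same G g.2
  have hker : Submodule.comap (F γ).subtype (⨆ η ∈ Set.Ioi γ, F η) = LinearMap.ker f := by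
    rw [plus_eq G F hFG γ]
    ext ⟨x, hx⟩
    simp only [Submodule.mem_comap, Submodule.subtype_apply, LinearMap.mem_ker, hf,
      LinearMap.comp_apply]
    constructor
    · intro hmem
      apply Subtype.ext
      rw [hr_apply]
      exact proj_of_mem_iSup G (Set.Ioi γ) (by simp) hmem
    · intro h0
      have h0' : proj G γ x = 0 := by
        have := congrArg Subtype.val h0
        rwa [hr_apply] at this
      apply mem_biSup_of_proj_eq_zero
      intro η hη
      rw [Set.mem_Ioi, not_lt] at hη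
      rcases hη.lt_or_eq with hlt | rfl
      · rw [hFG] at hx
        exact proj_of_mem_iSup G (Set.Ici γ) (by simpa using hlt) hx
      · exact h0'
  set e : (↥(F γ) ⧸ Submodule.comap (F γ).subtype (⨆ η ∈ Set.Ioi γ, F η)) ≃ₗ[R] ↥(G γ) :=
    (Submodule.quotEquivOfEq _ _ hker).trans (f.quotKerEquivOfSurjective hf_surj) with he
  exact ⟨Module.Finite.equiv e.symm, Module.Projective.of_equiv e.symm⟩

end oneToFour

section rank

variable {Γ : Type*} [LinearOrder Γ] {R : Type*} [CommRing R]
  {M : Type*} [AddCommGroup M] [Module R M] [Module.Finite R M]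
  (κ : Type*) [Field κ] [Algebra R κ]
  (G : Γ → Submodule R M) [Decomposition G]

/-- base change of the projections. -/
noncomputable def Pb (η : Γ) : κ ⊗[R] M →ₗ[κ] κ ⊗[R] M := (proj G η).baseChange κ

omit [Module.Finite R M] in
lemma Pb_mem (η : Γ) (v : κ ⊗[R] M) : Pb κ G η v ∈ (G η).baseChange κ := by
  induction v using TensorProduct.induction_on with
  | zero => rw [map_zero]; exact Submodule.zero_mem _
  | tmul c m =>
    simp only [Pb, LinearMap.baseChange_tmul]
    exact Submodule.tmul_mem_baseChange_of_mem c (proj_mem G η m)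
  | add x y hx hy => rw [map_add]; exact Submodule.add_mem _ hx hy

omit [Module.Finite R M] in
lemma Pb_of_mem_same {η : Γ} {v : κ ⊗[R] M} (hv : v ∈ (G η).baseChange κ) : Pb κ G η v = v := by
  obtain ⟨w, rfl⟩ := hv
  rw [Pb, ← LinearMap.comp_apply, ← LinearMap.baseChange_comp]
  congr 2
  ext g
  simp only [LinearMap.comp_apply, Submodule.subtype_apply]
  exact proj_of_mem_same G g.2

omit [Module.Finite R M] in
lemma Pb_of_mem_ne {η η' : Γ} {v : κ ⊗[R] M} (hv : v ∈ (G η').baseChange κ) (hne : η' ≠ η) :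
    Pb κ G η v = 0 := by
  obtain ⟨w, rfl⟩ := hv
  rw [Pb, ← LinearMap.comp_apply, ← LinearMap.baseChange_comp]
  have : proj G η ∘ₗ (G η').subtype = 0 := by
    ext g
    simp only [LinearMap.comp_apply, Submodule.subtype_apply, LinearMap.zero_apply]
    exact proj_of_mem_ne G g.2 hne
  rw [this, LinearMap.baseChange_zero, LinearMap.zero_apply]

omit [Module.Finite R M] in
lemma sum_Pb (T : Finset Γ) (hT : ∀ γ ∉ T, proj G γ = 0) (v : κ ⊗[R] M) :
    ∑ η ∈ T, Pb κ G η v = v := by
  induction v using TensorProduct.induction_on with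
  | zero => simp
  | tmul c m =>
    simp only [Pb, LinearMap.baseChange_tmul]
    rw [← TensorProduct.tmul_sum, sum_proj G T hT m]
  | add x y hx hy => simp only [map_add, Finset.sum_add_distrib, hx, hy]

omit [Module.Finite R M] in
lemma disjoint_baseChange (γ : Γ) (S : Set Γ) (hγ : γ ∉ S) :
    (G γ).baseChange κ ⊓ ⨆ η ∈ S, (G η).baseChange κ = ⊥ := by
  rw [eq_bot_iff]
  rintro v ⟨hv1, hv2⟩
  have h1 : Pb κ G γ v = v := Pb_of_mem_same κ G hv1
  have hle : (⨆ η ∈ S, (G η).baseChange κ) ≤ LinearMap.ker (Pb κ G γ) := by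
    refine iSup₂_le fun η hη w hw => ?_
    rw [LinearMap.mem_ker]
    exact Pb_of_mem_ne κ G hw (fun h => hγ (h ▸ hη))
  have h2 : Pb κ G γ v = 0 := LinearMap.mem_ker.mp (hle hv2)
  rw [Submodule.mem_bot, ← h1, h2]

lemma finrank_biSup_finset (S : Finset Γ) :
    Module.finrank κ ↥(⨆ η ∈ S, (G η).baseChange κ) =
      ∑ η ∈ S, Module.finrank κ ↥((G η).baseChange κ) := by
  classical
  induction S using Finset.induction_on with
  | empty => simp
  | insert a s ha ih =>
    rw [Finset.sum_insert ha, ← ih, Finset.iSup_insert]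
    have h1 := Submodule.finrank_sup_add_finrank_inf_eq ((G a).baseChange κ)
      (⨆ η ∈ s, (G η).baseChange κ)
    have h2 := disjoint_baseChange κ G a (↑s : Set Γ) (by simpa using ha)
    simp only [Finset.mem_coe] at h2
    rw [h2, finrank_bot, add_zero] at h1
    exact h1

lemma finrank_eq_finsum :
    Module.finrank κ (κ ⊗[R] M) = ∑ᶠ γ, Module.finrank κ ↥((G γ).baseChange κ) := by
  classical
  obtain ⟨T, hT⟩ := exists_finset_proj_eq_zero G
  have hsupp : Function.support (fun γ => Module.finrank κ ↥((G γ).baseChange κ)) ⊆ ↑T := by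
    intro γ hγ
    by_contra hγT
    apply hγ
    have hbot : G γ = ⊥ := by
      rw [eq_bot_iff]
      intro x hx
      rw [Submodule.mem_bot, ← proj_of_mem_same G hx, hT γ hγT, LinearMap.zero_apply]
    show Module.finrank κ ↥((G γ).baseChange κ) = 0
    rw [hbot, Submodule.baseChange_bot, finrank_bot]
  rw [finsum_eq_sum_of_support_subset _ hsupp, ← finrank_biSup_finset]
  have htop : (⨆ η ∈ T, (G η).baseChange κ) = ⊤ := by
    rw [eq_top_iff]
    intro v _
    rw [← sum_Pb κ G T hT v]
    refine Submodule.sum_mem _ fun η hη => ?_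
    exact Submodule.mem_iSup_of_mem η (Submodule.mem_iSup_of_mem hη (Pb_mem κ G η v))
  rw [htop, finrank_top]

/-- (1) ⇒ (4b): the jump count in a fibre of a split filtration. -/
theorem rank_formula (F : Γ → Submodule R M) (hFG : ∀ γ, F γ = ⨆ η ∈ Set.Ici γ, G η) :
    Module.finrank κ (κ ⊗[R] M) = ∑ᶠ γ, jump (fun γ => (F γ).baseChange κ) γ := by
  classical
  rw [finrank_eq_finsum κ G]
  congr 1
  funext γ
  unfold jump
  beta_reduce
  have h1 : (F γ).baseChange κ = (G γ).baseChange κ ⊔ ⨆ η ∈ Set.Ioi γ, (G η).baseChange κ := by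
    rw [hFG, baseChange_biSup, ← Set.Ioi_insert, iSup_insert]
  have h2 : (⨆ η ∈ Set.Ioi γ, (F η).baseChange κ) = ⨆ η ∈ Set.Ioi γ, (G η).baseChange κ := by
    rw [← baseChange_biSup, plus_eq G F hFG γ, baseChange_biSup]
  rw [h2, h1]
  have h3 := Submodule.finrank_sup_add_finrank_inf_eq ((G γ).baseChange κ)
    (⨆ η ∈ Set.Ioi γ, (G η).baseChange κ)
  rw [disjoint_baseChange κ G γ (Set.Ioi γ) (by simp), finrank_bot, add_zero] at h3
  omega

end rank

end Groth.Agent.Lib.Helper17.FiltS
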