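import Mathlib
import Groth.Prelude.Def_CAlgX
import Groth.Prelude.Def_Found
import Groth.Agent.Lib.Helper96.GRingComplete
import Groth.Agent.Lib.Helper96.GeomRegular
import Groth.Agent.Lib.Helper96.GeomRegular2
import Groth.Agent.Lib.Helper96.SmoothRegular
import Groth.Agent.Lib.Helper96.SmoothRegular2

/-!
# Local rings of the generic formal fibre are formally smooth over the fraction field (helper17)

For a complete Noetherian local domain `A`, `B = A_p`, and a prime `q` of the completion `B̂` of `B`
with `q ∩ B = 0`, the local ring `B̂_q` is formally smooth over `Frac A` for the adic topology.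
This combines: complete local rings are G-rings (helper96, S0598), the local-global principle for
geometric regularity (helper96), and Mathlib's description of the local rings of a fibre.
-/

set_option autoImplicit false

universe u

namespace Groth.Agent.Lib.Helper17.GenFibFS

open IsLocalRing TensorProduct Groth.Agent.Lib.Helper96

/-- The residue field at the zero ideal of a domain is formally smooth over the domain. -/
theorem formallySmooth_residueField_bot (B : Type u) [CommRing B] [IsDomain B] :
    Algebra.FormallySmooth B (⊥ : Ideal B).ResidueField := by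
  haveI h1 : Algebra.FormallySmooth B (B ⧸ (⊥ : Ideal B)) :=
    Algebra.FormallySmooth.of_equiv (AlgEquiv.quotientBot B B).symm
  haveI h2 : Algebra.FormallySmooth (B ⧸ (⊥ : Ideal B)) (⊥ : Ideal B).ResidueField :=
    Algebra.FormallySmooth.of_isLocalization (nonZeroDivisors (B ⧸ (⊥ : Ideal B)))
  exact Algebra.FormallySmooth.comp B (B ⧸ (⊥ : Ideal B)) (⊥ : Ideal B).ResidueField

/-- For a `B`-algebra `S` (`B` a domain) whose generic fibre is Noetherian and geometrically regular,
the local rings of `S` at primes contracting to `0` are formally smooth over `B` for the adic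
topology. -/
theorem isAdicFormallySmooth_atPrime_of_fibre_bot (B S : Type u) [CommRing B] [IsDomain B]
    [CommRing S] [Algebra B S]
    (hN : IsNoetherianRing ((⊥ : Ideal B).Fiber S))
    (hgeo : CAlg.IsGeometricallyRegular (⊥ : Ideal B).ResidueField ((⊥ : Ideal B).Fiber S))
    (q : Ideal S) [q.IsPrime] (hq : q.comap (algebraMap B S) = ⊥) :
    CAlgX.IsAdicFormallySmooth B (Localization.AtPrime q) (maximalIdeal (Localization.AtPrime q)) := by
  haveI := hN
  have h1 := (isGeometricallyRegular_iff_forall_adicFormallySmooth
    (k := (⊥ : Ideal B).ResidueField) (A := (⊥ : Ideal B).Fiber S)).mp hgeo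
  haveI := formallySmooth_residueField_bot B
  -- formally smooth over `B`
  have h2 : ∀ (Q : Ideal ((⊥ : Ideal B).Fiber S)) [Q.IsPrime],
      CAlgX.IsAdicFormallySmooth B (Localization.AtPrime Q)
        (maximalIdeal (Localization.AtPrime Q)) := by
    intro Q _
    exact isAdicFormallySmooth_of_tower B (⊥ : Ideal B).ResidueField (Localization.AtPrime Q) _
      (h1 Q)
  -- transport to the local rings of `S`
  have h3 : ∀ (Q : Ideal ((⊥ : Ideal B).Fiber S)) [Q.IsPrime],
      CAlgX.IsAdicFormallySmooth B
        (Localization.AtPrime (Q.comap Algebra.TensorProduct.includeRight))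
        (maximalIdeal (Localization.AtPrime (Q.comap Algebra.TensorProduct.includeRight))) := by
    intro Q _
    have hbot : Ideal.map (algebraMap S (Localization.AtPrime
        (Q.comap (Algebra.TensorProduct.includeRight
          (R := B) (A := (⊥ : Ideal B).ResidueField) (B := S)))))
        (Ideal.map (algebraMap B S) (⊥ : Ideal B)) = ⊥ := by
      rw [Ideal.map_bot, Ideal.map_bot]
    let e1 := Ideal.Fiber.algEquivAux₂ (⊥ : Ideal B) Q
    let e2 := Ideal.quotientEquivAlgOfEq B hbot
    let e3 := AlgEquiv.quotientBot B (Localization.AtPrime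
      (Q.comap (Algebra.TensorProduct.includeRight
        (R := B) (A := (⊥ : Ideal B).ResidueField) (B := S))))
    exact isAdicFormallySmooth_of_algEquiv ((e1.trans e2).trans e3).symm (h2 Q)
  -- the prime of the fibre corresponding to `q`
  haveI hlo : q.LiesOver (⊥ : Ideal B) := ⟨hq.symm⟩
  let Q' : PrimeSpectrum ((⊥ : Ideal B).Fiber S) :=
    PrimeSpectrum.primesOverOrderIsoFiber B S (⊥ : Ideal B) ⟨q, ⟨inferInstance, hlo⟩⟩
  have hQ' : Q'.asIdeal.comap Algebra.TensorProduct.includeRight = q := by
    have h1 := (PrimeSpectrum.primesOverOrderIsoFiber B S (⊥ : Ideal B)).symm_apply_apply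
      ⟨q, ⟨inferInstance, hlo⟩⟩
    have h2 := PrimeSpectrum.coe_primesOverOrderIsoFiber_symm_apply (R := B) (S := S)
      (p := (⊥ : Ideal B)) Q'
    rw [← h2]
    exact congrArg Subtype.val h1
  haveI hQprime : Q'.asIdeal.IsPrime := Q'.2
  have key : ∀ (r : Ideal S) [r.IsPrime], r = q →
      CAlgX.IsAdicFormallySmooth B (Localization.AtPrime r)
        (maximalIdeal (Localization.AtPrime r)) →
      CAlgX.IsAdicFormallySmooth B (Localization.AtPrime q)
        (maximalIdeal (Localization.AtPrime q)) := by
    intro r _ hr
    subst hr
    exact id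
  haveI : (Q'.asIdeal.comap (Algebra.TensorProduct.includeRight
      (R := B) (A := (⊥ : Ideal B).ResidueField) (B := S))).IsPrime := by
    rw [hQ']; infer_instance
  exact key _ hQ' (h3 Q'.asIdeal)

/-- **S4583**: local rings of the generic formal fibre of `A_p` (for `A` a complete Noetherian local
domain) are formally smooth over `Frac A` for the adic topology. -/
theorem main {A : Type u} [CommRing A]
    [IsDomain A] [IsLocalRing A] [IsNoetherianRing A] [IsAdicComplete (maximalIdeal A) A]
    (p : Ideal A) [p.IsPrime]
    (q : Ideal (AdicCompletion (maximalIdeal (Localization.AtPrime p)) (Localization.AtPrime p)))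
    [q.IsPrime]
    (hq : q.comap (algebraMap (Localization.AtPrime p)
      (AdicCompletion (maximalIdeal (Localization.AtPrime p)) (Localization.AtPrime p))) = ⊥)
    [Algebra (FractionRing A) (Localization.AtPrime q)]
    [IsScalarTower A (FractionRing A) (Localization.AtPrime q)] :
    CAlgX.IsAdicFormallySmooth (FractionRing A) (Localization.AtPrime q)
      (maximalIdeal (Localization.AtPrime q)) := by
  have hG := Groth.Agent.Lib.Helper96.GRingComplete.isGRing_of_isAdicComplete A
  obtain ⟨hflat, hfib⟩ := hG.2 p
  obtain ⟨hN, hgeo⟩ := hfib (⊥ : Ideal (Localization.AtPrime p))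
  have hB := isAdicFormallySmooth_atPrime_of_fibre_bot (Localization.AtPrime p)
    (AdicCompletion (maximalIdeal (Localization.AtPrime p)) (Localization.AtPrime p)) hN hgeo q hq
  have hA := isAdicFormallySmooth_of_tower A (Localization.AtPrime p) (Localization.AtPrime q) _ hB
  exact isAdicFormallySmooth_of_formallyUnramified A (FractionRing A) (Localization.AtPrime q) _ hA

end Groth.Agent.Lib.Helper17.GenFibFS
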