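import Mathlib.RingTheory.MvPolynomial.WeightedHomogeneous
import Mathlib.RingTheory.MvPolynomial.Ideal
import Mathlib.Algebra.Module.GradedModule
import Mathlib.Algebra.Module.Projective
import Mathlib.LinearAlgebra.Matrix.Adjugate
import Mathlib.LinearAlgebra.Matrix.Charpoly.LinearMap
import Mathlib.LinearAlgebra.LinearIndependent.Lemmas
import Mathlib.RingTheory.LocalRing.ResidueField.Ideal
import Mathlib.RingTheory.Localization.BaseChange
import Mathlib.RingTheory.TensorProduct.Quotient
import Mathlib.LinearAlgebra.TensorProduct.Quotient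
import Mathlib.RingTheory.Finiteness.Quotient

/-!
# Graded projective modules over polynomial rings are graded free locally on the base (helper17)

* `exists_smul_mem_of_tmul_eq_zero'`: universe-general kernel of `M → κ(p) ⊗ M`.
* `exists_smul_mem_of_fibre_quotient`: Nakayama at a prime in elementwise form.
* `decompose_smul_eq`, `decompose_mem_span`: homogeneous components of `a • g`.
* `main`: the statement of S19649.
-/

set_option autoImplicit false
universe u v

open TensorProduct

namespace Groth.Agent.Lib.Helper17.GradedFree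

section Kernel

theorem mem_smul_top_of_one_tmul_eq_zero {k K : Type u} [CommRing k] [CommRing K] [Algebra k K]
    {M : Type v} [AddCommGroup M] [Module k M]
    (hsurj : Function.Surjective (algebraMap k K)) {y : M}
    (h : (1 : K) ⊗ₜ[k] y = 0) :
    y ∈ RingHom.ker (algebraMap k K) • (⊤ : Submodule k M) := by
  set J := RingHom.ker (algebraMap k K)
  have hs : Function.Surjective (Algebra.ofId k K) := hsurj
  let e : (k ⧸ J) ≃ₗ[k] K := (Ideal.quotientKerAlgEquivOfSurjective hs).toLinearEquiv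
  have he : e 1 = 1 := map_one (Ideal.quotientKerAlgEquivOfSurjective hs)
  have h3 : ((1 : k ⧸ J) ⊗ₜ[k] y : (k ⧸ J) ⊗[k] M) = 0 := by
    apply (LinearEquiv.rTensor M e).injective
    rw [map_zero, LinearEquiv.rTensor_tmul, he, h]
  have h4 := congrArg (TensorProduct.quotTensorEquivQuotSMul M J) h3
  rw [TensorProduct.quotTensorEquivQuotSMul_mk_one_tmul, map_zero,
    Submodule.Quotient.mk_eq_zero] at h4
  exact h4

variable {A : Type u} [CommRing A]

/-- the kernel of `M → κ(p) ⊗ M` -/
theorem exists_smul_mem_of_tmul_eq_zero' (p : Ideal A) [p.IsPrime]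
    {M : Type v} [AddCommGroup M] [Module A M] (m : M)
    (h : (1 : p.ResidueField) ⊗ₜ[A] m = 0) :
    ∃ s : A, s ∉ p ∧ s • m ∈ p • (⊤ : Submodule A M) := by
  have h1 : (1 : p.ResidueField) ⊗ₜ[A ⧸ p] ((1 : A ⧸ p) ⊗ₜ[A] m) = 0 := by
    apply (TensorProduct.AlgebraTensorModule.cancelBaseChange A (A ⧸ p) p.ResidueField
      p.ResidueField M).injective
    rw [map_zero, TensorProduct.AlgebraTensorModule.cancelBaseChange_tmul, one_smul]
    exact h
  have h2 := (IsLocalizedModule.eq_zero_iff (nonZeroDivisors (A ⧸ p))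
    (TensorProduct.mk (A ⧸ p) p.ResidueField ((A ⧸ p) ⊗[A] M) 1)
    (m := (1 : A ⧸ p) ⊗ₜ[A] m)).mp h1
  obtain ⟨c, hc⟩ := h2
  obtain ⟨s, hs⟩ := Ideal.Quotient.mk_surjective (c : A ⧸ p)
  refine ⟨s, ?_, ?_⟩
  · intro hsp
    have h0 : (c : A ⧸ p) = 0 := by
      rw [← hs]
      exact Ideal.Quotient.eq_zero_iff_mem.2 hsp
    exact nonZeroDivisors.ne_zero c.2 h0
  · have h3 : (1 : A ⧸ p) ⊗ₜ[A] (s • m) = 0 := by
      have h4 : (c : A ⧸ p) • ((1 : A ⧸ p) ⊗ₜ[A] m) = 0 := hc
      rw [TensorProduct.smul_tmul', smul_eq_mul, mul_one, ← hs] at h4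
      rw [TensorProduct.tmul_smul, TensorProduct.smul_tmul']
      have h5 : s • (1 : A ⧸ p) = Ideal.Quotient.mk p s := by
        rw [Algebra.smul_def, mul_one]
        rfl
      rw [h5]
      exact h4
    have h6 := mem_smul_top_of_one_tmul_eq_zero (k := A) (K := A ⧸ p)
      Ideal.Quotient.mk_surjective h3
    rwa [Ideal.Quotient.algebraMap_eq, Ideal.mk_ker] at h6

/-- evaluation of a monic polynomial with lower coefficients in a prime `p` at `s ∉ p` -/
theorem eval_notMem_of_monic (p : Ideal A) [hp : p.IsPrime] (Pc : Polynomial A) (hm : Pc.Monic)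
    (hc : ∀ k, Pc.coeff k ∈ p ^ (Pc.natDegree - k)) (s : A) (hs : s ∉ p) :
    Pc.eval s ∉ p := by
  rw [Polynomial.eval_eq_sum_range, Finset.sum_range_succ, hm.coeff_natDegree, one_mul]
  have hlow : ∑ i ∈ Finset.range Pc.natDegree, Pc.coeff i * s ^ i ∈ p := by
    refine Ideal.sum_mem _ fun i hi => Ideal.mul_mem_right _ _ ?_
    have hi' : i < Pc.natDegree := Finset.mem_range.1 hi
    have h2 : p ^ (Pc.natDegree - i) ≤ p := Ideal.pow_le_self (by omega)
    exact h2 (hc i)
  intro hmem
  have h3 := (Ideal.add_mem_iff_right _ hlow).1 hmem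
  exact hs (hp.mem_of_pow_mem _ h3)

/-- Nakayama at a prime, in elementwise form. -/
theorem exists_smul_mem_of_fibre_quotient (p : Ideal A) [p.IsPrime]
    {M : Type v} [AddCommGroup M] [Module A M] [Module.Finite A M] (N : Submodule A M)
    (h : ∀ y : M, (1 : p.ResidueField) ⊗ₜ[A] (N.mkQ y) = 0) :
    ∃ r : A, r ∉ p ∧ ∀ y : M, r • y ∈ N := by
  classical
  obtain ⟨k, t, ht⟩ := Module.Finite.exists_fin (R := A) (M := M ⧸ N)
  have hs : ∀ i, ∃ s : A, s ∉ p ∧ s • t i ∈ p • (⊤ : Submodule A (M ⧸ N)) := by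
    intro i
    obtain ⟨y, hy⟩ := N.mkQ_surjective (t i)
    exact exists_smul_mem_of_tmul_eq_zero' p _ (hy ▸ h y)
  choose s hsp hsm using hs
  set s0 : A := ∏ i, s i with hs0
  have hs0p : s0 ∉ p := by
    intro hmem
    obtain ⟨i, -, hi⟩ := (Ideal.IsPrime.prod_mem_iff).1 hmem
    exact hsp i hi
  have hs0m : ∀ i, s0 • t i ∈ p • (⊤ : Submodule A (M ⧸ N)) := by
    intro i
    have h1 : s0 = (∏ j ∈ Finset.univ.erase i, s j) * s i := by
      rw [hs0, Finset.prod_erase_mul _ _ (Finset.mem_univ i)]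
    rw [h1, mul_smul]
    exact Submodule.smul_mem _ _ (hsm i)
  set g : Module.End A (M ⧸ N) := algebraMap A (Module.End A (M ⧸ N)) s0 with hg
  have hgapp : ∀ z, g z = s0 • z := fun z => by
    rw [hg, Module.algebraMap_end_apply]
  have hrange : LinearMap.range g ≤ p • (⊤ : Submodule A (M ⧸ N)) := by
    have h1 : LinearMap.range g = Submodule.map g (Submodule.span A (Set.range t)) := by
      rw [ht, LinearMap.range_eq_map]
    rw [h1, Submodule.map_span, Submodule.span_le]
    rintro _ ⟨_, ⟨i, rfl⟩, rfl⟩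
    rw [SetLike.mem_coe, hgapp]
    exact hs0m i
  obtain ⟨Pc, hPm, -, hPc, hPa⟩ :=
    LinearMap.exists_monic_and_natDegree_eq_and_coeff_mem_pow_and_aeval_eq_zero A g p hrange
  refine ⟨Pc.eval s0, eval_notMem_of_monic p Pc hPm hPc s0 hs0p, fun y => ?_⟩
  rw [hg, Polynomial.aeval_algebraMap_apply_eq_algebraMap_eval] at hPa
  have h2 := LinearMap.congr_fun hPa (N.mkQ y)
  rw [Module.algebraMap_end_apply, LinearMap.zero_apply, ← map_smul, Submodule.mkQ_apply,
    Submodule.Quotient.mk_eq_zero] at h2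
  exact h2

end Kernel

section Graded

variable {R : Type u} [CommRing R] {n : ℕ} {P : Type v} [AddCommGroup P]
  [Module (MvPolynomial (Fin n) R) P] [Module R P] [IsScalarTower R (MvPolynomial (Fin n) R) P]
  (ℳ : (Fin n → ℤ) → Submodule R P) [DirectSum.Decomposition ℳ]
  [SetLike.GradedSMul (MvPolynomial.weightedHomogeneousSubmodule R
    (fun i : Fin n => (Pi.single i 1 : Fin n → ℤ))) ℳ]

/-- the weight of a monomial -/
noncomputable abbrev wt (α : Fin n →₀ ℕ) : Fin n → ℤ :=
  Finsupp.weight (fun i : Fin n => (Pi.single i 1 : Fin n → ℤ)) α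

theorem wt_apply (α : Fin n →₀ ℕ) (j : Fin n) : wt α j = (α j : ℤ) := by
  classical
  rw [wt, Finsupp.weight_apply, Finsupp.sum_fintype _ _ (by intro i; simp)]
  simp [Finset.sum_apply, Pi.single_apply]

theorem wt_eq_zero {α : Fin n →₀ ℕ} (h : wt α = 0) : α = 0 := by
  ext j
  have h1 := congrFun h j
  rw [wt_apply] at h1
  simpa using h1

include ℳ in
theorem monomial_smul_mem (α : Fin n →₀ ℕ) (c : R) {d : Fin n → ℤ} {g : P} (hg : g ∈ ℳ d) :
    (MvPolynomial.monomial α c) • g ∈ ℳ (wt α + d) := by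
  have h1 : MvPolynomial.monomial α c ∈ MvPolynomial.weightedHomogeneousSubmodule R
      (fun i : Fin n => (Pi.single i 1 : Fin n → ℤ)) (wt α) :=
    (MvPolynomial.mem_weightedHomogeneousSubmodule R _ _ _).2
      (MvPolynomial.isWeightedHomogeneous_monomial _ α c rfl)
  exact SetLike.GradedSMul.smul_mem h1 hg

/-- the homogeneous components of `a • g` for homogeneous `g` -/
theorem decompose_smul_eq (a : MvPolynomial (Fin n) R) {d : Fin n → ℤ} {g : P} (hg : g ∈ ℳ d)
    (e : Fin n → ℤ) :
    ((DirectSum.decompose ℳ (a • g) e : ℳ e) : P) =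
      (∑ α ∈ a.support.filter (fun α => wt α + d = e),
        MvPolynomial.monomial α (MvPolynomial.coeff α a)) • g := by
  classical
  have h1 : a • g = ∑ α ∈ a.support, (MvPolynomial.monomial α (MvPolynomial.coeff α a)) • g := by
    rw [← Finset.sum_smul, MvPolynomial.support_sum_monomial_coeff]
  rw [h1, DirectSum.decompose_sum, DFinsupp.finsetSum_apply, AddSubmonoidClass.coe_finsetSum,
    Finset.sum_smul, Finset.sum_filter]
  refine Finset.sum_congr rfl fun α _ => ?_
  have h2 := monomial_smul_mem ℳ α (MvPolynomial.coeff α a) hg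
  split_ifs with h3
  · rw [← h3]
    exact DirectSum.decompose_of_mem_same ℳ h2
  · exact DirectSum.decompose_of_mem_ne ℳ h2 h3

/-- if `a` has no constant term then `a • g` has no component in the degree of `g` -/
theorem decompose_smul_same_eq_zero (a : MvPolynomial (Fin n) R)
    (ha : MvPolynomial.coeff 0 a = 0) {d : Fin n → ℤ} {g : P} (hg : g ∈ ℳ d) :
    ((DirectSum.decompose ℳ (a • g) d : ℳ d) : P) = 0 := by
  classical
  rw [decompose_smul_eq ℳ a hg d]
  have h1 : a.support.filter (fun α => wt α + d = d) = ∅ := by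
    rw [Finset.filter_eq_empty_iff]
    intro α hα h2
    have h3 : wt α = 0 := by simpa using h2
    rw [wt_eq_zero h3, MvPolynomial.mem_support_iff] at hα
    exact hα ha
  rw [h1, Finset.sum_empty, zero_smul]

/-- submodules spanned by homogeneous elements are closed under homogeneous components -/
theorem decompose_mem_span (J : Set P) (hJ : ∀ g ∈ J, ∃ d, g ∈ ℳ d) (y : P)
    (hy : y ∈ Submodule.span (MvPolynomial (Fin n) R) J) (e : Fin n → ℤ) :
    ((DirectSum.decompose ℳ y e : ℳ e) : P) ∈ Submodule.span (MvPolynomial (Fin n) R) J := by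
  classical
  induction hy using Submodule.span_induction generalizing e with
  | mem g hg =>
    obtain ⟨d, hd⟩ := hJ g hg
    by_cases h : d = e
    · subst h
      rw [DirectSum.decompose_of_mem_same ℳ hd]
      exact Submodule.subset_span hg
    · rw [DirectSum.decompose_of_mem_ne ℳ hd h]
      exact Submodule.zero_mem _
  | zero =>
    rw [DirectSum.decompose_zero]
    exact Submodule.zero_mem _
  | add y z _ _ hy hz =>
    rw [DirectSum.decompose_add]
    exact Submodule.add_mem _ (hy e) (hz e)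
  | smul a y _ hy =>
    have h1 : a • y = ∑ e' ∈ (DirectSum.decompose ℳ y).support,
        a • ((DirectSum.decompose ℳ y e' : ℳ e') : P) := by
      rw [← Finset.smul_sum, DirectSum.sum_support_decompose ℳ y]
    rw [h1, DirectSum.decompose_sum, DFinsupp.finsetSum_apply, AddSubmonoidClass.coe_finsetSum]
    refine Submodule.sum_mem _ fun e' _ => ?_
    rw [decompose_smul_eq ℳ a (DirectSum.decompose ℳ y e').2 e]
    exact Submodule.smul_mem _ _ (hy e')

end Graded

section Main

variable {R : Type u} [CommRing R] {n : ℕ} {P : Type v} [AddCommGroup P]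
  [Module (MvPolynomial (Fin n) R) P] [Module R P] [IsScalarTower R (MvPolynomial (Fin n) R) P]

theorem C_smul_eq (r : R) (z : P) : (MvPolynomial.C r : MvPolynomial (Fin n) R) • z = r • z := by
  rw [← MvPolynomial.algebraMap_eq, algebraMap_smul]

theorem coeff_zero_of_mem_idealOfVars {a : MvPolynomial (Fin n) R}
    (ha : a ∈ MvPolynomial.idealOfVars (Fin n) R) : MvPolynomial.coeff 0 a = 0 := by
  have h1 : a ∈ MvPolynomial.idealOfVars (Fin n) R ^ 1 := by rwa [pow_one]
  exact (MvPolynomial.mem_pow_idealOfVars_iff' 1 a).1 h1 0 (by simp)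

theorem mem_idealOfVars_of_coeff_zero {a : MvPolynomial (Fin n) R}
    (ha : MvPolynomial.coeff 0 a = 0) : a ∈ MvPolynomial.idealOfVars (Fin n) R := by
  have h1 : a ∈ MvPolynomial.idealOfVars (Fin n) R ^ 1 := by
    rw [MvPolynomial.mem_pow_idealOfVars_iff']
    intro x hx
    have hx0 : x = 0 := by
      have h2 : Finsupp.degree x = 0 := by omega
      exact (Finsupp.degree_eq_zero_iff x).1 h2
    rw [hx0, ha]
  rwa [pow_one] at h1

/-- `P / (x) P` is an `R`-module on which a polynomial acts through its constant term. -/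
theorem mkQ_smul_eq (a : MvPolynomial (Fin n) R) (z : P) :
    (MvPolynomial.idealOfVars (Fin n) R • (⊤ : Submodule (MvPolynomial (Fin n) R) P)).mkQ (a • z) =
      (MvPolynomial.constantCoeff a) •
        (MvPolynomial.idealOfVars (Fin n) R • (⊤ : Submodule (MvPolynomial (Fin n) R) P)).mkQ z := by
  have h1 : a - MvPolynomial.C (MvPolynomial.constantCoeff a) ∈
      MvPolynomial.idealOfVars (Fin n) R := by
    apply mem_idealOfVars_of_coeff_zero
    rw [MvPolynomial.coeff_sub, MvPolynomial.coeff_C, if_pos rfl, MvPolynomial.constantCoeff_eq,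
      sub_self]
  have h2 : a • z - (MvPolynomial.constantCoeff a) • z ∈
      MvPolynomial.idealOfVars (Fin n) R • (⊤ : Submodule (MvPolynomial (Fin n) R) P) := by
    have h3 : a • z - (MvPolynomial.constantCoeff a) • z =
        (a - MvPolynomial.C (MvPolynomial.constantCoeff a)) • z := by
      rw [sub_smul, C_smul_eq]
    rw [h3]
    exact Submodule.smul_mem_smul h1 Submodule.mem_top
  rw [Submodule.mkQ_apply, Submodule.mkQ_apply, ← Submodule.Quotient.mk_smul, ← sub_eq_zero,
    ← Submodule.Quotient.mk_sub, Submodule.Quotient.mk_eq_zero]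
  exact h2

theorem main (ℳ : (Fin n → ℤ) → Submodule R P) [DirectSum.Decomposition ℳ]
    [SetLike.GradedSMul (MvPolynomial.weightedHomogeneousSubmodule R
      (fun i : Fin n => (Pi.single i 1 : Fin n → ℤ))) ℳ]
    [Module.Finite (MvPolynomial (Fin n) R) P] [Module.Projective (MvPolynomial (Fin n) R) P]
    (p : PrimeSpectrum R) :
    ∃ r : R, r ∉ p.asIdeal ∧ ∃ (m : ℕ) (d : Fin m → (Fin n → ℤ)) (f : Fin m → P),
      (∀ i, f i ∈ ℳ (d i)) ∧
      (∀ q : P, ∃ (N : ℕ) (c : Fin m → MvPolynomial (Fin n) R),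
        (MvPolynomial.C r : MvPolynomial (Fin n) R) ^ N • q = ∑ i, c i • f i) ∧
      (∀ c : Fin m → MvPolynomial (Fin n) R, ∑ i, c i • f i = 0 →
        ∃ N : ℕ, ∀ i, (MvPolynomial.C r : MvPolynomial (Fin n) R) ^ N * c i = 0) := by
  classical
  set I : Ideal (MvPolynomial (Fin n) R) := MvPolynomial.idealOfVars (Fin n) R with hI
  set IP : Submodule (MvPolynomial (Fin n) R) P := I • ⊤ with hIP
  haveI := p.isPrime
  -- homogeneous generators
  obtain ⟨k, y, hy⟩ := Module.Finite.exists_fin (R := MvPolynomial (Fin n) R) (M := P)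
  let G : Finset P := Finset.univ.biUnion fun i : Fin k =>
    (DirectSum.decompose ℳ (y i)).support.image fun e => ((DirectSum.decompose ℳ (y i) e : ℳ e) : P)
  have hGhom : ∀ g ∈ G, ∃ d, g ∈ ℳ d := by
    intro g hg
    obtain ⟨i, -, hg'⟩ := Finset.mem_biUnion.1 hg
    obtain ⟨e, -, rfl⟩ := Finset.mem_image.1 hg'
    exact ⟨e, (DirectSum.decompose ℳ (y i) e).2⟩
  have hGspan : Submodule.span (MvPolynomial (Fin n) R) (G : Set P) = ⊤ := by
    rw [eq_top_iff, ← hy, Submodule.span_le]
    rintro _ ⟨i, rfl⟩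
    rw [SetLike.mem_coe, ← DirectSum.sum_support_decompose ℳ (y i)]
    refine Submodule.sum_mem _ fun e he => Submodule.subset_span ?_
    exact Finset.mem_coe.2 (Finset.mem_biUnion.2 ⟨i, Finset.mem_univ _,
      Finset.mem_image.2 ⟨e, he, rfl⟩⟩)
  -- the quotient
  have hQ1 : ∀ (a : MvPolynomial (Fin n) R) (z : P),
      IP.mkQ (a • z) = (MvPolynomial.constantCoeff a) • IP.mkQ z := mkQ_smul_eq
  have hQspan : ∀ z : P, IP.mkQ z ∈ Submodule.span R ((fun g => IP.mkQ g) '' (G : Set P)) := by
    intro z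
    have hz : z ∈ Submodule.span (MvPolynomial (Fin n) R) (G : Set P) :=
      hGspan ▸ Submodule.mem_top
    induction hz using Submodule.span_induction with
    | mem g hg => exact Submodule.subset_span ⟨g, hg, rfl⟩
    | zero => rw [map_zero]; exact Submodule.zero_mem _
    | add a b _ _ ha hb => rw [map_add]; exact Submodule.add_mem _ ha hb
    | smul a z _ hz => rw [hQ1]; exact Submodule.smul_mem _ _ hz
  haveI : Module.Finite R (P ⧸ IP) := by
    refine ⟨⟨G.image (fun g => IP.mkQ g), ?_⟩⟩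
    rw [eq_top_iff]
    rintro q -
    obtain ⟨z, rfl⟩ := IP.mkQ_surjective q
    rw [Finset.coe_image]
    exact hQspan z
  -- the fibre
  set κ := p.asIdeal.ResidueField with hκ
  let v : {g // g ∈ G} → κ ⊗[R] (P ⧸ IP) := fun g => (1 : κ) ⊗ₜ[R] IP.mkQ (g : P)
  have h1q' : ∀ q ∈ Submodule.span R ((fun g => IP.mkQ g) '' (G : Set P)),
      (1 : κ) ⊗ₜ[R] q ∈ Submodule.span κ (Set.range v) := by
    intro q hq
    induction hq using Submodule.span_induction with
    | mem q hq =>
      obtain ⟨g, hg, rfl⟩ := hq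
      exact Submodule.subset_span ⟨⟨g, hg⟩, rfl⟩
    | zero => rw [TensorProduct.tmul_zero]; exact Submodule.zero_mem _
    | add a b _ _ ha hb => rw [TensorProduct.tmul_add]; exact Submodule.add_mem _ ha hb
    | smul r q _ hq =>
      rw [TensorProduct.tmul_smul, ← algebraMap_smul κ r]
      exact Submodule.smul_mem _ _ hq
  have hvspan : Submodule.span κ (Set.range v) = ⊤ := by
    rw [eq_top_iff]
    rintro x -
    induction x using TensorProduct.induction_on with
    | zero => exact Submodule.zero_mem _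
    | tmul c q =>
      have h1 : c ⊗ₜ[R] q = c • ((1 : κ) ⊗ₜ[R] q) := by
        rw [TensorProduct.smul_tmul', smul_eq_mul, mul_one]
      rw [h1]
      obtain ⟨z, rfl⟩ := IP.mkQ_surjective q
      exact Submodule.smul_mem _ _ (h1q' _ (hQspan z))
    | add a b ha hb => exact Submodule.add_mem _ ha hb
  obtain ⟨ι', a, ha, hsp, hli⟩ := exists_linearIndependent' κ v
  haveI : Finite ι' := Finite.of_injective a ha
  obtain ⟨m, ⟨eqv⟩⟩ : ∃ m : ℕ, Nonempty (ι' ≃ Fin m) := Finite.exists_equiv_fin ι'
  let f : Fin m → P := fun i => ((a (eqv.symm i)) : P)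
  have hfG : ∀ i, f i ∈ G := fun i => (a (eqv.symm i)).2
  have hfhom : ∀ i, ∃ d, f i ∈ ℳ d := fun i => hGhom _ (hfG i)
  choose d hd using hfhom
  let w : Fin m → κ ⊗[R] (P ⧸ IP) := fun i => (1 : κ) ⊗ₜ[R] IP.mkQ (f i)
  have hwv : w = (v ∘ a) ∘ eqv.symm := rfl
  have hwli : LinearIndependent κ w := by
    rw [hwv]
    exact hli.comp _ eqv.symm.injective
  have hwsp : Submodule.span κ (Set.range w) = ⊤ := by
    rw [hwv, eqv.symm.surjective.range_comp, hsp, hvspan]
  -- Step A
  set Nbar : Submodule R (P ⧸ IP) := Submodule.span R (Set.range fun i => IP.mkQ (f i)) with hNbar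
  have hfib : ∀ q : P ⧸ IP, (1 : κ) ⊗ₜ[R] (Nbar.mkQ q) = 0 := by
    intro q
    have hΦ : (Nbar.mkQ).baseChange κ = 0 := by
      refine LinearMap.ext_on_range hwsp fun i => ?_
      rw [LinearMap.baseChange_tmul, LinearMap.zero_apply]
      have h1 : Nbar.mkQ (IP.mkQ (f i)) = 0 := by
        rw [Submodule.mkQ_apply, Submodule.Quotient.mk_eq_zero]
        exact Submodule.subset_span ⟨i, rfl⟩
      rw [h1, TensorProduct.tmul_zero]
    have h2 := LinearMap.congr_fun hΦ ((1 : κ) ⊗ₜ[R] q)
    rwa [LinearMap.baseChange_tmul, LinearMap.zero_apply] at h2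
  obtain ⟨r₁, hr₁p, hr₁⟩ := exists_smul_mem_of_fibre_quotient p.asIdeal Nbar hfib
  have hA : ∀ z : P, ∃ b : Fin m → R, r₁ • z - ∑ i, b i • f i ∈ IP := by
    intro z
    have h1 := hr₁ (IP.mkQ z)
    obtain ⟨b, hb⟩ := (Submodule.mem_span_range_iff_exists_fun R).1 h1
    refine ⟨b, ?_⟩
    have hmkR : ∀ (r : R) (z : P), IP.mkQ (r • z) = r • IP.mkQ z :=
      fun r z => Submodule.Quotient.mk_smul IP r z
    rw [← Submodule.Quotient.mk_eq_zero, ← Submodule.mkQ_apply, map_sub, map_sum, hmkR,
      sub_eq_zero, ← hb]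
    exact Finset.sum_congr rfl fun i _ => (hmkR _ _).symm
  -- Step (a)
  set N' : Submodule (MvPolynomial (Fin n) R) P :=
    Submodule.span (MvPolynomial (Fin n) R) (Set.range f) with hN'
  set g : Module.End (MvPolynomial (Fin n) R) (P ⧸ N') :=
    algebraMap (MvPolynomial (Fin n) R) (Module.End (MvPolynomial (Fin n) R) (P ⧸ N'))
      (MvPolynomial.C r₁) with hg
  have hrange : LinearMap.range g ≤ I • (⊤ : Submodule (MvPolynomial (Fin n) R) (P ⧸ N')) := by
    rintro _ ⟨t, rfl⟩
    obtain ⟨z, rfl⟩ := N'.mkQ_surjective t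
    obtain ⟨b, hb⟩ := hA z
    have h0 : N'.mkQ (∑ i, b i • f i) = 0 := by
      rw [Submodule.mkQ_apply, Submodule.Quotient.mk_eq_zero]
      refine Submodule.sum_mem _ fun i _ => ?_
      rw [← C_smul_eq (n := n) (b i) (f i)]
      exact Submodule.smul_mem _ _ (Submodule.subset_span ⟨i, rfl⟩)
    have h1 : g (N'.mkQ z) = N'.mkQ (r₁ • z - ∑ i, b i • f i) := by
      rw [hg, Module.algebraMap_end_apply, ← map_smul, map_sub, h0, sub_zero, C_smul_eq]
    rw [h1]
    have h2 : N'.mkQ (r₁ • z - ∑ i, b i • f i) ∈ Submodule.map N'.mkQ IP :=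
      Submodule.mem_map_of_mem hb
    rw [hIP, Submodule.map_smul''] at h2
    exact Submodule.smul_mono le_rfl le_top h2
  obtain ⟨Pc, hPm, -, hPc, hPa⟩ :=
    LinearMap.exists_monic_and_natDegree_eq_and_coeff_mem_pow_and_aeval_eq_zero
      (MvPolynomial (Fin n) R) g I hrange
  set dd := Pc.natDegree with hdd
  set b₀ : MvPolynomial (Fin n) R := Pc.eval (MvPolynomial.C r₁) with hb₀
  have hb₀N : ∀ z : P, b₀ • z ∈ N' := by
    intro z
    rw [hg, Polynomial.aeval_algebraMap_apply_eq_algebraMap_eval] at hPa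
    have h2 := LinearMap.congr_fun hPa (N'.mkQ z)
    rw [Module.algebraMap_end_apply, LinearMap.zero_apply, ← map_smul, Submodule.mkQ_apply,
      Submodule.Quotient.mk_eq_zero] at h2
    exact h2
  set a₀ : MvPolynomial (Fin n) R :=
    ∑ i ∈ Finset.range dd, Pc.coeff i * (MvPolynomial.C r₁) ^ i with ha₀
  have hb₀eq : b₀ = a₀ + (MvPolynomial.C r₁) ^ dd := by
    rw [hb₀, Polynomial.eval_eq_sum_range, Finset.sum_range_succ, hPm.coeff_natDegree, one_mul]
  have ha₀I : a₀ ∈ I := by
    refine Ideal.sum_mem _ fun i hi => Ideal.mul_mem_right _ _ ?_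
    have hi' : i < dd := Finset.mem_range.1 hi
    have h2 : I ^ (Pc.natDegree - i) ≤ I := Ideal.pow_le_self (by omega)
    exact h2 (hPc i)
  have ha₀0 : MvPolynomial.coeff 0 a₀ = 0 := coeff_zero_of_mem_idealOfVars ha₀I
  have hfhom' : ∀ g ∈ Set.range f, ∃ d, g ∈ ℳ d := by
    rintro _ ⟨i, rfl⟩
    exact ⟨d i, hd i⟩
  have hG' : ∀ g ∈ G, (r₁ ^ dd) • g ∈ N' := by
    intro g hg
    obtain ⟨e, he⟩ := hGhom g hg
    have h1 := decompose_mem_span ℳ (Set.range f) hfhom' (b₀ • g) (hb₀N g) e
    have h2 : (MvPolynomial.C r₁ : MvPolynomial (Fin n) R) ^ dd • g = (r₁ ^ dd) • g := by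
      rw [← map_pow, C_smul_eq]
    have h3 : ((DirectSum.decompose ℳ (b₀ • g) e : ℳ e) : P) = (r₁ ^ dd) • g := by
      rw [hb₀eq, add_smul, DirectSum.decompose_add, DFinsupp.add_apply, Submodule.coe_add,
        decompose_smul_same_eq_zero ℳ a₀ ha₀0 he, zero_add, h2,
        DirectSum.decompose_of_mem_same ℳ ((ℳ e).smul_mem _ he)]
    rwa [h3] at h1
  have hall : ∀ z : P, (r₁ ^ dd) • z ∈ N' := by
    intro z
    have hz : z ∈ Submodule.span (MvPolynomial (Fin n) R) (G : Set P) :=
      hGspan ▸ Submodule.mem_top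
    induction hz using Submodule.span_induction with
    | mem g hg => exact hG' g hg
    | zero => rw [smul_zero]; exact Submodule.zero_mem _
    | add a b _ _ ha hb => rw [smul_add]; exact Submodule.add_mem _ ha hb
    | smul a z _ hz => rw [smul_comm]; exact Submodule.smul_mem _ _ hz
  set ra : R := r₁ ^ dd with hra
  have hrap : ra ∉ p.asIdeal := fun h => hr₁p (p.isPrime.mem_of_pow_mem _ h)
  -- Step B
  set π : (Fin m → MvPolynomial (Fin n) R) →ₗ[MvPolynomial (Fin n) R] P :=
    Fintype.linearCombination (MvPolynomial (Fin n) R) f with hπ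
  have hπapp : ∀ c, π c = ∑ i, c i • f i := fun c => Fintype.linearCombination_apply _ _ _
  have hrangeπ : LinearMap.range π = N' := Fintype.range_linearCombination _ _
  let g₁ : P →ₗ[MvPolynomial (Fin n) R] ↥(LinearMap.range π) :=
    LinearMap.codRestrict (LinearMap.range π)
      ((MvPolynomial.C ra : MvPolynomial (Fin n) R) • (LinearMap.id : P →ₗ[MvPolynomial (Fin n) R] P))
      (fun z => by
        rw [hrangeπ, LinearMap.smul_apply, LinearMap.id_apply, C_smul_eq]
        exact hall z)
  obtain ⟨σ, hσ⟩ := Module.projective_lifting_property π.rangeRestrict g₁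
    (LinearMap.surjective_rangeRestrict π)
  have hσ' : ∀ z, π (σ z) = (MvPolynomial.C ra : MvPolynomial (Fin n) R) • z := by
    intro z
    have h1 := congrArg Subtype.val (LinearMap.congr_fun hσ z)
    simpa [g₁] using h1
  set T : Matrix (Fin m) (Fin m) (MvPolynomial (Fin n) R) :=
    Matrix.of fun j i => σ (f i) j with hT
  have hTmul : ∀ c : Fin m → MvPolynomial (Fin n) R, σ (π c) = T.mulVec c := by
    intro c
    funext j
    rw [hπapp, map_sum, Finset.sum_apply]
    simp only [map_smul, Pi.smul_apply, smul_eq_mul, Matrix.mulVec, dotProduct, hT, Matrix.of_apply]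
    exact Finset.sum_congr rfl fun i _ => mul_comm _ _
  have hrel : ∀ c : Fin m → MvPolynomial (Fin n) R, ∑ i, c i • f i = 0 →
      ∀ i, T.det * c i = 0 := by
    intro c hc i
    have h1 : T.mulVec c = 0 := by rw [← hTmul, hπapp, hc, map_zero]
    have h2 : (T.adjugate * T).mulVec c = 0 := by
      rw [← Matrix.mulVec_mulVec, h1, Matrix.mulVec_zero]
    rw [Matrix.adjugate_mul, Matrix.smul_mulVec, Matrix.one_mulVec] at h2
    have h3 := congrFun h2 i
    simpa using h3
  have hkey : ∀ i, ∑ j, T j i • f j = (MvPolynomial.C ra : MvPolynomial (Fin n) R) • f i := by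
    intro i
    have h1 := hσ' (f i)
    rw [hπapp] at h1
    exact h1
  have hkeyQ : ∀ i, ∑ j, (MvPolynomial.constantCoeff (T j i)) • IP.mkQ (f j) =
      ra • IP.mkQ (f i) := by
    intro i
    have h1 := congrArg IP.mkQ (hkey i)
    rw [map_sum, hQ1, MvPolynomial.constantCoeff_C] at h1
    rw [← h1]
    exact Finset.sum_congr rfl fun j _ => (hQ1 _ _).symm
  have hkeyV : ∀ i, ∑ j, (algebraMap R κ (MvPolynomial.constantCoeff (T j i))) • w j =
      (algebraMap R κ ra) • w i := by
    intro i
    have h1 := congrArg (fun q => (1 : κ) ⊗ₜ[R] q) (hkeyQ i)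
    simp only [TensorProduct.tmul_sum, TensorProduct.tmul_smul] at h1
    rw [algebraMap_smul, ← h1]
    exact Finset.sum_congr rfl fun j _ => algebraMap_smul κ _ _
  have hTκ : ∀ j i, algebraMap R κ (MvPolynomial.constantCoeff (T j i)) =
      if j = i then algebraMap R κ ra else 0 := by
    intro j i
    have h1 := Fintype.linearIndependent_iff.1 hwli
      (fun j => algebraMap R κ (MvPolynomial.constantCoeff (T j i)) -
        if j = i then algebraMap R κ ra else 0) (by
        simp only [sub_smul, Finset.sum_sub_distrib, ite_smul, zero_smul,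
          Finset.sum_ite_eq', Finset.mem_univ, if_true]
        rw [hkeyV i, sub_self]) j
    exact sub_eq_zero.1 h1
  set φ : MvPolynomial (Fin n) R →+* κ :=
    (algebraMap R κ).comp MvPolynomial.constantCoeff with hφ
  have hmat : φ.mapMatrix T = (algebraMap R κ ra) • (1 : Matrix (Fin m) (Fin m) κ) := by
    ext j i
    rw [RingHom.mapMatrix_apply, Matrix.map_apply, Matrix.smul_apply, Matrix.one_apply, hφ,
      RingHom.comp_apply, hTκ j i]
    split_ifs <;> simp
  have hdet : φ T.det = (algebraMap R κ ra) ^ m := by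
    rw [RingHom.map_det, hmat, Matrix.det_smul, Matrix.det_one, mul_one, Fintype.card_fin]
  set D₀ : R := MvPolynomial.constantCoeff T.det with hD₀
  have hD₀p : D₀ ∉ p.asIdeal := by
    intro h
    have h1 : algebraMap R κ D₀ = 0 := Ideal.algebraMap_residueField_eq_zero.2 h
    have h2 : (algebraMap R κ ra) ^ m = 0 := by rw [← hdet, hφ, RingHom.comp_apply, ← hD₀, h1]
    have h3 : algebraMap R κ ra = 0 := by
      by_cases hm : m = 0
      · subst hm
        simp at h2
      · exact (pow_eq_zero_iff hm).1 h2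
    exact hrap (Ideal.algebraMap_residueField_eq_zero.1 h3)
  refine ⟨ra * D₀, fun h => (p.isPrime.mem_or_mem h).elim hrap hD₀p, m, d, f, hd, ?_, ?_⟩
  · intro q
    refine ⟨1, ?_⟩
    have h1 : (MvPolynomial.C (ra * D₀) : MvPolynomial (Fin n) R) ^ 1 • q =
        (MvPolynomial.C D₀ : MvPolynomial (Fin n) R) • (ra • q) := by
      rw [pow_one, mul_comm, map_mul, mul_smul, C_smul_eq ra q]
    have h2 : (MvPolynomial.C D₀ : MvPolynomial (Fin n) R) • (ra • q) ∈ N' :=
      Submodule.smul_mem _ _ (hall q)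
    obtain ⟨c, hc⟩ := (Submodule.mem_span_range_iff_exists_fun (MvPolynomial (Fin n) R)).1 h2
    exact ⟨c, by rw [h1, hc]⟩
  · intro c hc
    set N : ℕ := (Finset.univ.sup fun i => (c i).totalDegree) + 1 with hN
    refine ⟨N, fun i => ?_⟩
    have h0 := hrel c hc i
    set Dp : MvPolynomial (Fin n) R := T.det - MvPolynomial.C D₀ with hDp
    have hDpI : Dp ∈ I := by
      apply mem_idealOfVars_of_coeff_zero
      rw [hDp, MvPolynomial.coeff_sub, MvPolynomial.coeff_C, if_pos rfl, hD₀,
        MvPolynomial.constantCoeff_eq, sub_self]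
    have h1 : ∀ j : ℕ, (MvPolynomial.C D₀ : MvPolynomial (Fin n) R) ^ j * c i = (-Dp) ^ j * c i := by
      intro j
      induction j with
      | zero => simp
      | succ j ih =>
        have h2 : (MvPolynomial.C D₀ : MvPolynomial (Fin n) R) * c i = -Dp * c i := by
          have h3 : (MvPolynomial.C D₀ : MvPolynomial (Fin n) R) = T.det - Dp := by
            rw [hDp]; ring
          rw [h3, sub_mul, h0, zero_sub, neg_mul]
        calc (MvPolynomial.C D₀ : MvPolynomial (Fin n) R) ^ (j + 1) * c i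
            = (MvPolynomial.C D₀) ^ j * ((MvPolynomial.C D₀) * c i) := by ring
          _ = (MvPolynomial.C D₀) ^ j * (-Dp * c i) := by rw [h2]
          _ = -Dp * ((MvPolynomial.C D₀) ^ j * c i) := by ring
          _ = -Dp * ((-Dp) ^ j * c i) := by rw [ih]
          _ = (-Dp) ^ (j + 1) * c i := by ring
    have h2 : (MvPolynomial.C D₀ : MvPolynomial (Fin n) R) ^ N * c i ∈ I ^ N := by
      rw [h1]
      exact Ideal.mul_mem_right _ _ (Ideal.pow_mem_pow (neg_mem hDpI) N)
    have h3 : (MvPolynomial.C D₀ : MvPolynomial (Fin n) R) ^ N * c i = 0 := by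
      ext x
      rw [MvPolynomial.coeff_zero]
      by_cases hx : Finsupp.degree x < N
      · exact (MvPolynomial.mem_pow_idealOfVars_iff' N _).1 h2 x hx
      · rw [← map_pow, MvPolynomial.coeff_C_mul]
        have h4 : MvPolynomial.coeff x (c i) = 0 := by
          apply MvPolynomial.coeff_eq_zero_of_totalDegree_lt
          have h5 : (c i).totalDegree ≤ Finset.univ.sup fun i => (c i).totalDegree :=
            Finset.le_sup (f := fun i => (c i).totalDegree) (Finset.mem_univ i)
          rw [← Finsupp.degree_apply]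
          omega
        rw [h4, mul_zero]
    rw [map_mul, mul_pow, mul_assoc, h3, mul_zero]

end Main

end Groth.Agent.Lib.Helper17.GradedFree
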