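import Groth.Agent.Lib.Helper75.ComodField
import Groth.Agent.Lib.Helper75.UnipPoints
import Mathlib.RingTheory.Idempotents
import Mathlib.RingTheory.Nilpotent.Lemmas
import Mathlib.RingTheory.FiniteType
import Mathlib.RingTheory.Flat.Basic
import Mathlib.RingTheory.TensorProduct.Basic
import Mathlib.FieldTheory.Separable
import Mathlib.FieldTheory.IsAlgClosed.Basic

/-!
# Idempotents of a tensor product over an algebraically closed field (helper17)

Over an algebraically closed field `k`:
* `mem_spanIdem_of_isSeparable`: a separable element of a commutative `k`-algebra is a linear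
  combination of idempotents;
* `mem_spanTmul`: an idempotent of `A ⊗[k] B` is a linear combination of `e ⊗ f` with `e`, `f`
  idempotents (no finiteness assumption).
-/

set_option autoImplicit false
universe u

open TensorProduct Groth.Agent.Lib.Helper75

namespace Groth.Agent.Lib.Helper17.IdemTensor

section Sep

variable {k : Type u} [Field k] {T : Type u} [CommRing T] [Algebra k T]

/-- span of the idempotents -/
def spanIdem (k : Type u) [Field k] (T : Type u) [CommRing T] [Algebra k T] : Submodule k T :=
  Submodule.span k {e : T | IsIdempotentElem e}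

theorem mul_idem_mem_spanIdem {y e : T} (hy : y ∈ spanIdem k T) (he : IsIdempotentElem e) :
    y * e ∈ spanIdem k T := by
  unfold spanIdem at hy ⊢
  induction hy using Submodule.span_induction with
  | mem x hx => exact Submodule.subset_span (IsIdempotentElem.mul hx he)
  | zero => rw [zero_mul]; exact Submodule.zero_mem _
  | add x y _ _ hx hy => rw [add_mul]; exact Submodule.add_mem _ hx hy
  | smul c x _ hx => rw [smul_mul_assoc]; exact Submodule.smul_mem _ c hx

theorem prod_split {ι : Type*} (u : Finset ι) (a b : ι → T) {e : T} (he : IsIdempotentElem e) :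
    ∏ i ∈ u, (a i * (1 - e) + b i * e) = (∏ i ∈ u, a i) * (1 - e) + (∏ i ∈ u, b i) * e := by
  classical
  have h1 : (1 - e) * (1 - e) = 1 - e := he.one_sub.eq
  have h2 : e * (1 - e) = 0 := by rw [mul_sub, mul_one, he.eq, sub_self]
  induction u using Finset.induction_on with
  | empty => simp
  | insert i u hi ih =>
    rw [Finset.prod_insert hi, Finset.prod_insert hi, Finset.prod_insert hi, ih]
    have e1 : a i * (1 - e) * ((∏ i ∈ u, a i) * (1 - e)) = a i * (∏ i ∈ u, a i) * (1 - e) := by
      rw [mul_mul_mul_comm, h1]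
    have e2 : a i * (1 - e) * ((∏ i ∈ u, b i) * e) = 0 := by
      rw [mul_mul_mul_comm, mul_comm (1 - e) e, h2, mul_zero]
    have e3 : b i * e * ((∏ i ∈ u, a i) * (1 - e)) = 0 := by
      rw [mul_mul_mul_comm, h2, mul_zero]
    have e4 : b i * e * ((∏ i ∈ u, b i) * e) = b i * (∏ i ∈ u, b i) * e := by
      rw [mul_mul_mul_comm, he.eq]
    rw [mul_add, add_mul, add_mul, e1, e2, e3, e4, add_zero, zero_add]

/-- an element killed by a product of distinct linear factors is a combination of idempotents -/
theorem mem_spanIdem_of_prod_eq_zero (s : Finset k) :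
    ∀ x : T, ∏ l ∈ s, (x - algebraMap k T l) = 0 → x ∈ spanIdem k T := by
  classical
  induction s using Finset.induction_on with
  | empty =>
    intro x hx
    rw [Finset.prod_empty] at hx
    have : x = 0 := by rw [← mul_one x, hx, mul_zero]
    rw [this]
    exact Submodule.zero_mem _
  | insert μ s hμ ih =>
    intro x hx
    rw [Finset.prod_insert hμ] at hx
    set q := ∏ l ∈ s, (x - algebraMap k T l) with hq
    have hqx : q * x = algebraMap k T μ * q := by
      have : (x - algebraMap k T μ) * q = 0 := hx
      rw [sub_mul, sub_eq_zero] at this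
      rw [mul_comm, this]
    -- q * (x - l) = q * (μ - l)
    have hq1 : ∀ u : Finset k, q * ∏ l ∈ u, (x - algebraMap k T l) =
        algebraMap k T (∏ l ∈ u, (μ - l)) * q := by
      intro u
      induction u using Finset.induction_on with
      | empty => simp
      | insert l u hl ihu =>
        rw [Finset.prod_insert hl, Finset.prod_insert hl, mul_left_comm, ihu, map_mul, map_sub]
        have : (x - algebraMap k T l) * q = (algebraMap k T μ - algebraMap k T l) * q := by
          rw [sub_mul, sub_mul, mul_comm x q, hqx]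
        rw [mul_left_comm, this]
        ring
    set c := ∏ l ∈ s, (μ - l) with hc
    have hc0 : c ≠ 0 := by
      rw [hc, Finset.prod_ne_zero_iff]
      intro l hl
      rw [sub_ne_zero]
      rintro rfl
      exact hμ hl
    have hqq : q * q = algebraMap k T c * q := hq1 s
    set e := algebraMap k T c⁻¹ * q with he
    have hcc : algebraMap k T c⁻¹ * algebraMap k T c = 1 := by
      rw [← map_mul, inv_mul_cancel₀ hc0, map_one]
    have hidem : IsIdempotentElem e := by
      show e * e = e
      rw [he, mul_mul_mul_comm, hqq, ← mul_assoc, mul_assoc (algebraMap k T c⁻¹), hcc, mul_one]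
    have hxe : x * e = algebraMap k T μ * e := by
      rw [he, mul_left_comm, mul_comm x q, hqx, mul_left_comm]
    have hqe : q * e = q := by
      rw [he, mul_left_comm, hqq, ← mul_assoc, hcc, one_mul]
    have hsplit : x = x * (1 - e) + algebraMap k T μ * e := by
      rw [← hxe]; ring
    by_cases hs : s.Nonempty
    · obtain ⟨l0, hl0⟩ := hs
      set y := x * (1 - e) + algebraMap k T l0 * e with hy
      have hyprod : ∏ l ∈ s, (y - algebraMap k T l) = 0 := by
        have h1 : ∀ l ∈ s, y - algebraMap k T l =
            (x - algebraMap k T l) * (1 - e) + (algebraMap k T l0 - algebraMap k T l) * e := by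
          intro l _
          rw [hy]; ring
        rw [Finset.prod_congr rfl h1, prod_split s _ _ hidem]
        have h2 : ∏ l ∈ s, (algebraMap k T l0 - algebraMap k T l) = 0 :=
          Finset.prod_eq_zero hl0 (sub_self _)
        rw [h2, zero_mul, add_zero, ← hq, mul_sub, mul_one, hqe, sub_self]
      have hymem := ih y hyprod
      have h3 : x * (1 - e) = y * (1 - e) := by
        rw [hy, add_mul, mul_assoc, mul_assoc, hidem.one_sub.eq]
        have : e * (1 - e) = 0 := by rw [mul_sub, mul_one, hidem.eq, sub_self]
        rw [this, mul_zero, add_zero]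
      rw [hsplit, h3]
      refine Submodule.add_mem _ (mul_idem_mem_spanIdem hymem hidem.one_sub) ?_
      rw [← Algebra.smul_def]
      exact Submodule.smul_mem _ _ (Submodule.subset_span hidem)
    · rw [Finset.not_nonempty_iff_eq_empty] at hs
      have hq1' : q = 1 := by rw [hq, hs, Finset.prod_empty]
      have hc1 : c = 1 := by rw [hc, hs, Finset.prod_empty]
      have he1 : e = 1 := by rw [he, hq1', hc1, inv_one, map_one, mul_one]
      rw [hsplit, he1, sub_self, mul_zero, zero_add, mul_one, Algebra.algebraMap_eq_smul_one]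
      exact Submodule.smul_mem _ _ (Submodule.subset_span IsIdempotentElem.one)

theorem mem_spanIdem_of_isSeparable [IsAlgClosed k] (x : T) (hx : IsSeparable k x) :
    x ∈ spanIdem k T := by
  classical
  have hint : IsIntegral k x := hx.isIntegral
  have hmonic := minpoly.monic hint
  have hsplit : (minpoly k x).Splits := IsAlgClosed.splits _
  have hnodup : (minpoly k x).roots.Nodup := Polynomial.nodup_roots hx
  have hprod := hsplit.eq_prod_roots_of_monic hmonic
  apply mem_spanIdem_of_prod_eq_zero (minpoly k x).roots.toFinset x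
  have h0 := minpoly.aeval k x
  rw [hprod] at h0
  have h1 : ((minpoly k x).roots.map fun a => Polynomial.X - Polynomial.C a).prod =
      ∏ a ∈ (minpoly k x).roots.toFinset, (Polynomial.X - Polynomial.C a) := by
    rw [Finset.prod, Multiset.toFinset_val, hnodup.dedup]
  rw [h1, map_prod] at h0
  simpa using h0

theorem isSeparable_of_isIdempotentElem {e : T} (he : IsIdempotentElem e) : IsSeparable k e := by
  have h1 : Polynomial.aeval e ((Polynomial.X : Polynomial k) * Polynomial.X - Polynomial.X) = 0 := by
    simp [he.eq]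
  have hsep : ((Polynomial.X : Polynomial k) * Polynomial.X - Polynomial.X).Separable := by
    rw [Polynomial.separable_def]
    refine ⟨-4, 2 * Polynomial.X - 1, ?_⟩
    simp only [Polynomial.derivative_sub, Polynomial.derivative_mul, Polynomial.derivative_X]
    ring
  exact hsep.of_dvd (minpoly.dvd k e h1)

end Sep

section Tensor

variable {k : Type u} [Field k] [IsAlgClosed k]

theorem isNilpotent_of_forall_point {A : Type u} [CommRing A] [Algebra k A]
    [Algebra.FiniteType k A] (a : A) (h : ∀ m : A →ₐ[k] k, m a = 0) : IsNilpotent a := by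
  by_contra hn
  have hrad : (nilradical A).IsRadical := Ideal.radical_isRadical _
  have hred : IsReduced (A ⧸ nilradical A) :=
    (Ideal.isRadical_iff_quotient_reduced _).1 hrad
  have hft : Algebra.FiniteType k (A ⧸ nilradical A) :=
    Algebra.FiniteType.of_surjective (Ideal.Quotient.mkₐ k (nilradical A))
      (Ideal.Quotient.mkₐ_surjective k _)
  have hne : Ideal.Quotient.mk (nilradical A) a ≠ 0 := by
    rw [Ne, Ideal.Quotient.eq_zero_iff_mem, mem_nilradical]
    exact hn
  obtain ⟨g, hg⟩ := exists_point_ne_zero' (k := k) _ hne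
  exact hg (h (g.comp (Ideal.Quotient.mkₐ k (nilradical A))))

variable {A B : Type u} [CommRing A] [CommRing B] [Algebra k A] [Algebra k B]

/-- evaluation of the left factor at a point -/
noncomputable def evL (m : A →ₐ[k] k) : A ⊗[k] B →ₐ[k] B :=
  (Algebra.TensorProduct.lid k B).toAlgHom.comp (Algebra.TensorProduct.map m (AlgHom.id k B))

@[simp] theorem evL_tmul (m : A →ₐ[k] k) (a : A) (b : B) : evL m (a ⊗ₜ[k] b) = m a • b := by
  simp [evL]

theorem apply_contractR (m : A →ₐ[k] k) (φ : B →ₗ[k] k) (x : A ⊗[k] B) :
    m (contractR A φ x) = φ (evL m x) := by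
  induction x using TensorProduct.induction_on with
  | zero => simp
  | tmul a b => simp [mul_comm]
  | add x y hx hy => simp only [map_add, hx, hy]

theorem isNilpotent_of_mem_range (y : ((nilradical A).restrictScalars k) ⊗[k] B) :
    IsNilpotent ((((nilradical A).restrictScalars k).subtype.rTensor B) y) := by
  induction y using TensorProduct.induction_on with
  | zero => rw [map_zero]; exact IsNilpotent.zero
  | tmul w b =>
    obtain ⟨n, hn⟩ := mem_nilradical.1 w.2
    refine ⟨n, ?_⟩
    rw [LinearMap.rTensor_tmul]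
    show ((w : A) ⊗ₜ[k] b) ^ n = 0
    rw [Algebra.TensorProduct.tmul_pow, hn, TensorProduct.zero_tmul]
  | add x y hx hy =>
    rw [map_add]
    exact (Commute.all _ _).isNilpotent_add hx hy

theorem isNilpotent_of_forall_contractR (X : A ⊗[k] B)
    (h : ∀ φ : B →ₗ[k] k, IsNilpotent (contractR A φ X)) : IsNilpotent X := by
  have : X ∈ LinearMap.range (((nilradical A).restrictScalars k).subtype.rTensor B) := by
    rw [mem_range_rTensor_iff]
    intro φ
    exact mem_nilradical.2 (h φ)
  obtain ⟨y, rfl⟩ := this
  exact isNilpotent_of_mem_range y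

/-- the relative connected case -/
theorem eq_tmul_of_minimal [Algebra.FiniteType k A] (f : B) (hf : IsIdempotentElem f)
    (hmin : ∀ g : B, IsIdempotentElem g → g * f = g → g = 0 ∨ g = f)
    (E : A ⊗[k] B) (hE : IsIdempotentElem E) (hEf : E * ((1 : A) ⊗ₜ[k] f) = E) :
    ∃ e : A, IsIdempotentElem e ∧ E = e ⊗ₜ[k] f := by
  by_cases hf0 : f = 0
  · refine ⟨0, IsIdempotentElem.zero, ?_⟩
    rw [← hEf, hf0, TensorProduct.tmul_zero, mul_zero, TensorProduct.zero_tmul]
  -- a functional with φ₀ f = 1
  obtain ⟨φ₀, hφ₀⟩ : ∃ φ₀ : B →ₗ[k] k, φ₀ f = 1 := by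
    have : ¬ ∀ φ : Module.Dual k B, φ f = 0 := by
      rw [Module.forall_dual_apply_eq_zero_iff]
      exact hf0
    push Not at this
    obtain ⟨φ, hφ⟩ := this
    refine ⟨(φ f)⁻¹ • φ, ?_⟩
    rw [LinearMap.smul_apply, smul_eq_mul, inv_mul_cancel₀ hφ]
  -- values at points
  have hpt : ∀ m : A →ₐ[k] k, evL m E = 0 ∨ evL m E = f := by
    intro m
    apply hmin
    · exact hE.map (evL m)
    · have := congrArg (evL m) hEf
      rw [map_mul, evL_tmul, map_one, one_smul] at this
      exact this
  set a' := contractR A φ₀ E with ha'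
  have hma' : ∀ m : A →ₐ[k] k, m a' = 0 ∨ m a' = 1 := by
    intro m
    rw [ha', apply_contractR]
    rcases hpt m with h | h
    · left; rw [h, map_zero]
    · right; rw [h, hφ₀]
  -- E - a' ⊗ f is nilpotent
  have hX : IsNilpotent (E - a' ⊗ₜ[k] f) := by
    apply isNilpotent_of_forall_contractR
    intro φ
    apply isNilpotent_of_forall_point (k := k)
    intro m
    rw [map_sub, contractR_tmul, map_sub, apply_contractR, map_smul, smul_eq_mul, ha',
      apply_contractR]
    rcases hpt m with h | h
    · rw [h, map_zero, map_zero, mul_zero, sub_zero]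
    · rw [h, hφ₀, mul_one, sub_self]
  have ha'nil : IsNilpotent (a' * a' - a') := by
    apply isNilpotent_of_forall_point (k := k)
    intro m
    rw [map_sub, map_mul]
    rcases hma' m with h | h <;> rw [h] <;> ring
  -- lift the idempotent
  obtain ⟨e, he, hea⟩ := exists_isIdempotentElem_eq_of_ker_isNilpotent
    (Ideal.Quotient.mk (nilradical A))
    (fun x hx => mem_nilradical.1 (Ideal.Quotient.eq_zero_iff_mem.1 hx))
    (Ideal.Quotient.mk (nilradical A) a') ⟨a', rfl⟩
    (by
      show Ideal.Quotient.mk (nilradical A) a' * Ideal.Quotient.mk (nilradical A) a' =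
        Ideal.Quotient.mk (nilradical A) a'
      rw [← map_mul, ← sub_eq_zero, ← map_sub, Ideal.Quotient.eq_zero_iff_mem, mem_nilradical]
      exact ha'nil)
  have hea' : IsNilpotent (a' - e) := by
    rw [← mem_nilradical, ← Ideal.Quotient.eq_zero_iff_mem, map_sub, hea, sub_self]
  refine ⟨e, he, ?_⟩
  apply eq_of_isNilpotent_sub_of_isIdempotentElem hE
  · show (e ⊗ₜ[k] f) * (e ⊗ₜ[k] f) = e ⊗ₜ[k] f
    rw [Algebra.TensorProduct.tmul_mul_tmul, he.eq, hf.eq]
  · have h1 : E - e ⊗ₜ[k] f = (E - a' ⊗ₜ[k] f) + (a' - e) ⊗ₜ[k] f := by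
      rw [TensorProduct.sub_tmul]; abel
    rw [h1]
    refine (Commute.all _ _).isNilpotent_add hX ?_
    obtain ⟨n, hn⟩ := hea'
    exact ⟨n, by rw [Algebra.TensorProduct.tmul_pow, hn, TensorProduct.zero_tmul]⟩

/-- span of the products of idempotents -/
def spanTmul (k : Type u) [Field k] (A B : Type u) [CommRing A] [CommRing B] [Algebra k A]
    [Algebra k B] : Submodule k (A ⊗[k] B) :=
  Submodule.span k {x | ∃ (e : A) (f : B), IsIdempotentElem e ∧ IsIdempotentElem f ∧ x = e ⊗ₜ[k] f}

theorem mem_spanTmul_of_finiteType [Algebra.FiniteType k A] [Algebra.FiniteType k B]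
    (E : A ⊗[k] B) (hE : IsIdempotentElem E) : E ∈ spanTmul k A B := by
  have hnoeth : IsNoetherianRing B := Algebra.FiniteType.isNoetherianRing k B
  have key : ∀ I : Ideal B, ∀ f : B, IsIdempotentElem f → Ideal.span {1 - f} = I →
      ∀ E : A ⊗[k] B, IsIdempotentElem E → E * ((1 : A) ⊗ₜ[k] f) = E → E ∈ spanTmul k A B := by
    intro I
    induction I using IsNoetherian.induction with
    | hgt I ih =>
    intro f hf hI E hE hEf
    by_cases hmin : ∀ g : B, IsIdempotentElem g → g * f = g → g = 0 ∨ g = f
    · obtain ⟨e, he, rfl⟩ := eq_tmul_of_minimal f hf hmin E hE hEf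
      exact Submodule.subset_span ⟨e, f, he, hf, rfl⟩
    · push Not at hmin
      obtain ⟨g, hg, hgf, hg0, hgne⟩ := hmin
      have hfg : f * g = g := by rw [mul_comm, hgf]
      have hfg' : IsIdempotentElem (f - g) := by
        show (f - g) * (f - g) = f - g
        have : (f - g) * (f - g) = f * f - f * g - g * f + g * g := by ring
        rw [this, hf.eq, hg.eq, hfg, hgf]; ring
      have h1g : IsIdempotentElem ((1 : A) ⊗ₜ[k] g) := by
        show ((1 : A) ⊗ₜ[k] g) * ((1 : A) ⊗ₜ[k] g) = _
        rw [Algebra.TensorProduct.tmul_mul_tmul, one_mul, hg.eq]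
      have h1fg : IsIdempotentElem ((1 : A) ⊗ₜ[k] (f - g)) := by
        show ((1 : A) ⊗ₜ[k] (f - g)) * ((1 : A) ⊗ₜ[k] (f - g)) = _
        rw [Algebra.TensorProduct.tmul_mul_tmul, one_mul, hfg'.eq]
      have hsum : E = E * ((1 : A) ⊗ₜ[k] g) + E * ((1 : A) ⊗ₜ[k] (f - g)) := by
        rw [← mul_add, ← TensorProduct.tmul_add, add_sub_cancel, hEf]
      rw [hsum]
      refine Submodule.add_mem _ ?_ ?_
      · refine ih (Ideal.span {1 - g}) ?_ g hg rfl _ (hE.mul h1g) ?_
        · rw [← hI]
          refine lt_of_le_of_ne ?_ ?_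
          · rw [Ideal.span_singleton_le_iff_mem, Ideal.mem_span_singleton']
            refine ⟨1 - f, ?_⟩
            have : (1 - f) * (1 - g) = 1 - f - g + f * g := by ring
            rw [this, hfg]; ring
          · intro heq
            have hmem : 1 - g ∈ Ideal.span {1 - f} := by
              rw [heq]; exact Ideal.subset_span rfl
            rw [Ideal.mem_span_singleton'] at hmem
            obtain ⟨r, hr⟩ := hmem
            have h0 : (1 - g) * f = 0 := by
              rw [← hr, mul_assoc, sub_mul, one_mul, hf.eq, sub_self, mul_zero]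
            rw [sub_mul, one_mul, hgf, sub_eq_zero] at h0
            exact hgne h0.symm
        · rw [mul_assoc, h1g.eq]
      · refine ih (Ideal.span {1 - (f - g)}) ?_ (f - g) hfg' rfl _ (hE.mul h1fg) ?_
        · rw [← hI]
          refine lt_of_le_of_ne ?_ ?_
          · rw [Ideal.span_singleton_le_iff_mem, Ideal.mem_span_singleton']
            refine ⟨1 - f, ?_⟩
            have : (1 - f) * (1 - (f - g)) = 1 - f - f + f * f + g - f * g := by ring
            rw [this, hf.eq, hfg]; ring
          · intro heq
            have hmem : 1 - (f - g) ∈ Ideal.span {1 - f} := by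
              rw [heq]; exact Ideal.subset_span rfl
            rw [Ideal.mem_span_singleton'] at hmem
            obtain ⟨r, hr⟩ := hmem
            have h0 : (1 - (f - g)) * f = 0 := by
              rw [← hr, mul_assoc, sub_mul, one_mul, hf.eq, sub_self, mul_zero]
            have h1 : (1 - (f - g)) * f = g := by
              have : (1 - (f - g)) * f = f - f * f + g * f := by ring
              rw [this, hf.eq, hgf]; ring
            rw [h1] at h0
            exact hg0 h0
        · rw [mul_assoc, h1fg.eq]
  refine key ⊥ 1 IsIdempotentElem.one ?_ E hE ?_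
  · rw [sub_self, Ideal.span_singleton_eq_bot]
  · rw [← Algebra.TensorProduct.one_def, mul_one]

/-- every tensor lies in the image of the tensor product of two finitely generated subalgebras -/
theorem exists_fg_range (x : A ⊗[k] B) : ∃ (A₁ : Subalgebra k A) (B₁ : Subalgebra k B),
    A₁.FG ∧ B₁.FG ∧ x ∈ (Algebra.TensorProduct.map A₁.val B₁.val).range := by
  have hmono : ∀ {A₁ A₂ : Subalgebra k A} {B₁ B₂ : Subalgebra k B}, A₁ ≤ A₂ → B₁ ≤ B₂ →
      (Algebra.TensorProduct.map A₁.val B₁.val).range ≤
        (Algebra.TensorProduct.map A₂.val B₂.val).range := by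
    intro A₁ A₂ B₁ B₂ hA hB
    rintro _ ⟨y, rfl⟩
    refine ⟨Algebra.TensorProduct.map (Subalgebra.inclusion hA) (Subalgebra.inclusion hB) y, ?_⟩
    induction y using TensorProduct.induction_on with
    | zero => simp
    | tmul a b => simp
    | add x y hx hy => simp only [map_add, hx, hy]
  induction x using TensorProduct.induction_on with
  | zero => exact ⟨⊥, ⊥, Subalgebra.fg_bot, Subalgebra.fg_bot, Subalgebra.zero_mem _⟩
  | tmul a b =>
    refine ⟨Algebra.adjoin k {a}, Algebra.adjoin k {b}, ?_, ?_, ?_⟩
    · exact Subalgebra.fg_def.2 ⟨{a}, Set.finite_singleton a, rfl⟩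
    · exact Subalgebra.fg_def.2 ⟨{b}, Set.finite_singleton b, rfl⟩
    · exact ⟨(⟨a, Algebra.self_mem_adjoin_singleton k a⟩ : Algebra.adjoin k {a}) ⊗ₜ[k]
        (⟨b, Algebra.self_mem_adjoin_singleton k b⟩ : Algebra.adjoin k {b}), by simp⟩
  | add x y hx hy =>
    obtain ⟨A₁, B₁, hA₁, hB₁, h1⟩ := hx
    obtain ⟨A₂, B₂, hA₂, hB₂, h2⟩ := hy
    refine ⟨A₁ ⊔ A₂, B₁ ⊔ B₂, hA₁.sup hA₂, hB₁.sup hB₂, ?_⟩
    exact Subalgebra.add_mem _ (hmono le_sup_left le_sup_left h1) (hmono le_sup_right le_sup_right h2)

/-- Künneth for idempotents over an algebraically closed field -/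
theorem mem_spanTmul (E : A ⊗[k] B) (hE : IsIdempotentElem E) : E ∈ spanTmul k A B := by
  obtain ⟨A₁, B₁, hA₁, hB₁, E₁, hE₁eq⟩ := exists_fg_range E
  have hE₁eq' : Algebra.TensorProduct.map A₁.val B₁.val E₁ = E := hE₁eq
  have : Algebra.FiniteType k A₁ := (Subalgebra.fg_iff_finiteType A₁).1 hA₁
  have : Algebra.FiniteType k B₁ := (Subalgebra.fg_iff_finiteType B₁).1 hB₁
  have hinj : Function.Injective (Algebra.TensorProduct.map A₁.val B₁.val) := by
    have := TensorProduct.map_injective_of_flat_flat A₁.val.toLinearMap B₁.val.toLinearMap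
      Subtype.val_injective Subtype.val_injective
    exact this
  have hE₁ : IsIdempotentElem E₁ := by
    apply hinj
    rw [map_mul, hE₁eq']
    exact hE
  have hmem := mem_spanTmul_of_finiteType E₁ hE₁
  have hmap : ∀ y ∈ spanTmul k (↥A₁) (↥B₁),
      Algebra.TensorProduct.map A₁.val B₁.val y ∈ spanTmul k A B := by
    intro y hy
    unfold spanTmul at hy ⊢
    induction hy using Submodule.span_induction with
    | mem x hx =>
      obtain ⟨e, f, he, hf, rfl⟩ := hx
      refine Submodule.subset_span ⟨e.1, f.1, ?_, ?_, by simp⟩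
      · exact he.map A₁.val
      · exact hf.map B₁.val
    | zero => rw [map_zero]; exact Submodule.zero_mem _
    | add x y _ _ hx hy => rw [map_add]; exact Submodule.add_mem _ hx hy
    | smul c x _ hx => rw [map_smul]; exact Submodule.smul_mem _ c hx
  rw [← hE₁eq']
  exact hmap _ hmem

end Tensor

end Groth.Agent.Lib.Helper17.IdemTensor
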