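import Groth.Prelude.Def_KGr
import Groth.Agent.Lib.Helper17.LambdaAdamsFilt
import Mathlib.RingTheory.Localization.BaseChange

/-!
# Basic API for `KGr.grK` and the structure of the Rees ring (helper17)
-/

set_option autoImplicit false

universe v

open Finset LambdaRing TensorProduct LaurentPolynomial
open Groth.Agent.Lib.Helper17.Lam

namespace Groth.Agent.Lib.Helper17.KGrB

variable {K : Type v} [CommRing K] [LambdaOps K] (P : PosStructure K)

lemma mono_mem {n : ℕ} {x : K} (hx : x ∈ gammaFiltration P n) :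
    C x * T (-(n : ℤ)) ∈ KGr.rees P :=
  Subring.subset_closure (Set.mem_insert_of_mem _ ⟨n, x, hx, rfl⟩)

lemma T_mem : (T 1 : LaurentPolynomial K) ∈ KGr.rees P :=
  Subring.subset_closure (Set.mem_insert _ _)

/-- the class of `x t^{-n}` in `GrZ` -/
noncomputable def cls (n : ℤ) (x : K) (hx : C x * T (-n) ∈ KGr.rees P) : KGr.GrZ P :=
  Ideal.Quotient.mk (Ideal.span {KGr.tGen P}) ⟨C x * T (-n), hx⟩

lemma natCast_mono_mem {n : ℤ} {x : K} (hx : C x * T (-n) ∈ KGr.rees P) (N : ℕ) :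
    C ((N : K) * x) * T (-n) ∈ KGr.rees P := by
  have h : C ((N : K) * x) * T (-n) = (N : LaurentPolynomial K) * (C x * T (-n)) := by
    rw [map_mul, map_natCast, mul_assoc]
  rw [h]
  exact (KGr.rees P).mul_mem (natCast_mem _ N) hx

lemma cls_natCast_mul {n : ℤ} {x : K} (hx : C x * T (-n) ∈ KGr.rees P) (N : ℕ)
    (hN : C ((N : K) * x) * T (-n) ∈ KGr.rees P) :
    cls P n ((N : K) * x) hN = (N : ℤ) • cls P n x hx := by
  unfold cls
  rw [← map_zsmul]
  congr 1
  apply Subtype.ext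
  simp only [map_mul, map_natCast, natCast_zsmul]
  rw [nsmul_eq_mul]
  push_cast
  ring

/-- `grK` of an element whose monomial lies in the Rees ring -/
theorem grK_eq (n : ℤ) (x : K) (hx : C x * T (-n) ∈ KGr.rees P) :
    KGr.grK P n x = (1 : ℚ) ⊗ₜ[ℤ] cls P n x hx := by
  have hex : ∃ N : ℕ, 1 ≤ N ∧ C ((N : K) * x) * T (-n) ∈ KGr.rees P :=
    ⟨1, le_rfl, by simpa using hx⟩
  unfold KGr.grK
  rw [dif_pos hex]
  have hN := hex.choose_spec
  set N := hex.choose with hNdef
  change ((1 : ℚ) / (N : ℚ)) ⊗ₜ[ℤ] cls P n ((N : K) * x) hN.2 = _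
  rw [cls_natCast_mul P hx N hN.2, TensorProduct.tmul_smul, TensorProduct.smul_tmul']
  congr 1
  have hN0 : (N : ℚ) ≠ 0 := by
    have := hN.1
    positivity
  rw [zsmul_eq_mul]
  push_cast
  field_simp

theorem grK_of_mem {n : ℕ} {x : K} (hx : x ∈ gammaFiltration P n) :
    KGr.grK P (n : ℤ) x = (1 : ℚ) ⊗ₜ[ℤ] cls P n x (mono_mem P hx) :=
  grK_eq P n x (mono_mem P hx)

lemma cls_add {n : ℤ} {x y : K} (hx : C x * T (-n) ∈ KGr.rees P) (hy : C y * T (-n) ∈ KGr.rees P)
    (hxy : C (x + y) * T (-n) ∈ KGr.rees P) :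
    cls P n (x + y) hxy = cls P n x hx + cls P n y hy := by
  unfold cls
  rw [← map_add]
  congr 1
  apply Subtype.ext
  simp only [map_add, add_mul, Subring.coe_add]

lemma cls_mul {a b : ℤ} {x y : K} (hx : C x * T (-a) ∈ KGr.rees P) (hy : C y * T (-b) ∈ KGr.rees P)
    (hxy : C (x * y) * T (-(a + b)) ∈ KGr.rees P) :
    cls P (a + b) (x * y) hxy = cls P a x hx * cls P b y hy := by
  unfold cls
  rw [← map_mul]
  congr 1
  apply Subtype.ext
  simp only [map_mul, Subring.coe_mul, neg_add, T_add]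
  ring

theorem grK_add {n : ℕ} {x y : K} (hx : x ∈ gammaFiltration P n) (hy : y ∈ gammaFiltration P n) :
    KGr.grK P (n : ℤ) (x + y) = KGr.grK P n x + KGr.grK P n y := by
  rw [grK_of_mem P hx, grK_of_mem P hy, grK_of_mem P (add_mem hx hy), ← TensorProduct.tmul_add,
    cls_add P (mono_mem P hx) (mono_mem P hy)]

theorem grK_zero (n : ℕ) : KGr.grK P (n : ℤ) (0 : K) = 0 := by
  have h := grK_add P (zero_mem (gammaFiltration P n)) (zero_mem (gammaFiltration P n))
  rw [add_zero] at h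
  exact left_eq_add.mp h

theorem grK_neg {n : ℕ} {x : K} (hx : x ∈ gammaFiltration P n) :
    KGr.grK P (n : ℤ) (-x) = -KGr.grK P n x := by
  have h := grK_add P hx (neg_mem hx)
  rw [add_neg_cancel, grK_zero] at h
  exact eq_neg_of_add_eq_zero_right h.symm

theorem grK_sub {n : ℕ} {x y : K} (hx : x ∈ gammaFiltration P n) (hy : y ∈ gammaFiltration P n) :
    KGr.grK P (n : ℤ) (x - y) = KGr.grK P n x - KGr.grK P n y := by
  rw [sub_eq_add_neg, grK_add P hx (neg_mem hy), grK_neg P hy, ← sub_eq_add_neg]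

theorem grK_sum {n : ℕ} {ι : Type*} (s : Finset ι) (y : ι → K)
    (hy : ∀ i ∈ s, y i ∈ gammaFiltration P n) :
    KGr.grK P (n : ℤ) (∑ i ∈ s, y i) = ∑ i ∈ s, KGr.grK P n (y i) := by
  classical
  induction s using Finset.induction_on with
  | empty => simp [grK_zero]
  | insert a s ha ih =>
    rw [Finset.sum_insert ha, Finset.sum_insert ha,
      grK_add P (hy a (Finset.mem_insert_self a s))
        (sum_mem fun i hi => hy i (Finset.mem_insert_of_mem hi)),
      ih fun i hi => hy i (Finset.mem_insert_of_mem hi)]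

theorem grK_mul {a b : ℕ} {x y : K} (hx : x ∈ gammaFiltration P a)
    (hy : y ∈ gammaFiltration P b) :
    KGr.grK P ((a + b : ℕ) : ℤ) (x * y) = KGr.grK P a x * KGr.grK P b y := by
  rw [grK_of_mem P hx, grK_of_mem P hy, grK_of_mem P (filt_mul P hx hy),
    Algebra.TensorProduct.tmul_mul_tmul, mul_one]
  congr 1
  have h := cls_mul P (mono_mem P hx) (mono_mem P hy)
    (by have := mono_mem P (filt_mul P hx hy); rwa [Nat.cast_add] at this)
  rw [← h]
  congr 1

theorem grK_natCast_mul {n : ℕ} {x : K} (hx : x ∈ gammaFiltration P n) (N : ℕ) :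
    KGr.grK P (n : ℤ) ((N : K) * x) = (N : ℚ) • KGr.grK P n x := by
  rw [grK_of_mem P hx, grK_of_mem P (filt_smul P _ hx),
    cls_natCast_mul P (mono_mem P hx) N, TensorProduct.tmul_smul, TensorProduct.smul_tmul',
    TensorProduct.smul_tmul']
  congr 1

theorem grK_intCast_mul {n : ℕ} {x : K} (hx : x ∈ gammaFiltration P n) (k : ℤ) :
    KGr.grK P (n : ℤ) ((k : K) * x) = (k : ℚ) • KGr.grK P n x := by
  obtain ⟨N, rfl | rfl⟩ := Int.eq_nat_or_neg k
  · simpa using grK_natCast_mul P hx N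
  · have h := grK_natCast_mul P hx N
    push_cast
    rw [neg_mul, grK_neg P (filt_smul P _ hx), h, neg_smul]

/-- classes of elements of `F^{n+1}` vanish in degree `n` -/
theorem grK_eq_zero_of_mem_succ {n : ℕ} {x : K} (hx : x ∈ gammaFiltration P (n + 1)) :
    KGr.grK P (n : ℤ) x = 0 := by
  rw [grK_of_mem P (filt_anti P (Nat.le_succ n) hx)]
  have : cls P n x (mono_mem P (filt_anti P (Nat.le_succ n) hx)) = 0 := by
    unfold cls
    rw [Ideal.Quotient.eq_zero_iff_mem, Ideal.mem_span_singleton']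
    refine ⟨⟨C x * T (-((n + 1 : ℕ) : ℤ)), mono_mem P hx⟩, ?_⟩
    apply Subtype.ext
    unfold KGr.tGen
    simp only [Subring.coe_mul]
    rw [mul_assoc, ← T_add]
    congr 2
    push_cast
    ring
  rw [this, TensorProduct.tmul_zero]

/-- classes of torsion elements vanish -/
theorem grK_eq_zero_of_torsion {n : ℕ} {x : K} (hx : x ∈ gammaFiltration P n) {M : ℕ}
    (hM : 1 ≤ M) (h : (M : K) * x = 0) : KGr.grK P (n : ℤ) x = 0 := by
  have h1 := grK_natCast_mul P hx M
  rw [h, grK_zero] at h1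
  have hM0 : (M : ℚ) ≠ 0 := by positivity
  have h2 := congrArg (fun v => (M : ℚ)⁻¹ • v) h1
  simp only [smul_zero, smul_smul, inv_mul_cancel₀ hM0, one_smul] at h2
  exact h2.symm

theorem grK_zero_one : KGr.grK P ((0 : ℕ) : ℤ) (1 : K) = 1 := by
  rw [grK_of_mem P (one_mem_filt_zero P)]
  have : cls P ((0 : ℕ) : ℤ) (1 : K) (mono_mem P (one_mem_filt_zero P)) = 1 := by
    unfold cls
    rw [← map_one (Ideal.Quotient.mk (Ideal.span {KGr.tGen P}))]
    congr 1
    apply Subtype.ext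
    simp
  rw [this]
  rfl

theorem grK_zero_intCast (k : ℤ) :
    KGr.grK P ((0 : ℕ) : ℤ) (k : K) = algebraMap ℚ (KGr.Gr P) (k : ℚ) := by
  have h := grK_intCast_mul P (one_mem_filt_zero P) k
  rw [mul_one, grK_zero_one] at h
  rw [h, Algebra.algebraMap_eq_smul_one]

/-! ### Structure of the Rees ring -/

/-- the additive group generated by the admissible monomials -/
noncomputable def Mono : AddSubgroup (LaurentPolynomial K) :=
  AddSubgroup.closure {q | ∃ (k : ℤ) (x : K), x ∈ gammaFiltration P (-k).toNat ∧ q = C x * T k}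

lemma filt_zero_eq_top : gammaFiltration P 0 = ⊤ := Groth.Agent.S3291.filt_zero P

lemma mono_mul_mem_Mono {k l : ℤ} {x y : K} (hx : x ∈ gammaFiltration P (-k).toNat)
    (hy : y ∈ gammaFiltration P (-l).toNat) : (C x * T k) * (C y * T l) ∈ Mono P := by
  apply AddSubgroup.subset_closure
  refine ⟨k + l, x * y, filt_anti P (by omega) (filt_mul P hx hy), ?_⟩
  rw [map_mul, T_add]
  ring

lemma mul_mem_Mono {p q : LaurentPolynomial K} (hp : p ∈ Mono P) (hq : q ∈ Mono P) :
    p * q ∈ Mono P := by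
  unfold Mono at hp
  induction hp using AddSubgroup.closure_induction with
  | mem a ha =>
    obtain ⟨k, x, hx, rfl⟩ := ha
    unfold Mono at hq
    induction hq using AddSubgroup.closure_induction with
    | mem b hb =>
      obtain ⟨l, y, hy, rfl⟩ := hb
      exact mono_mul_mem_Mono P hx hy
    | zero => rw [mul_zero]; exact zero_mem _
    | add b c _ _ hb hc => rw [mul_add]; exact add_mem hb hc
    | neg b _ hb => rw [mul_neg]; exact neg_mem hb
  | zero => rw [zero_mul]; exact zero_mem _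
  | add a b _ _ ha hb => rw [add_mul]; exact add_mem ha hb
  | neg a _ ha => rw [neg_mul]; exact neg_mem ha

lemma rees_le_Mono {p : LaurentPolynomial K} (hp : p ∈ KGr.rees P) : p ∈ Mono P := by
  unfold KGr.rees at hp
  induction hp using Subring.closure_induction with
  | mem a ha =>
    rcases ha with rfl | ⟨n, x, hx, rfl⟩
    · apply AddSubgroup.subset_closure
      refine ⟨1, 1, ?_, by simp⟩
      rw [show (-(1 : ℤ)).toNat = 0 by rfl, filt_zero_eq_top]
      exact AddSubgroup.mem_top _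
    · apply AddSubgroup.subset_closure
      refine ⟨-(n : ℤ), x, ?_, rfl⟩
      rw [neg_neg, Int.toNat_natCast]
      exact hx
  | zero => exact zero_mem _
  | one =>
    apply AddSubgroup.subset_closure
    refine ⟨0, 1, ?_, by simp⟩
    rw [show (-(0 : ℤ)).toNat = 0 by rfl, filt_zero_eq_top]
    exact AddSubgroup.mem_top _
  | add a b _ _ ha hb => exact add_mem ha hb
  | neg a _ ha => exact neg_mem ha
  | mul a b _ _ ha hb => exact mul_mem_Mono P ha hb

lemma coeff_C_mul_T (x : K) (k m : ℤ) :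
    (C x * T k : LaurentPolynomial K).coeff m = if k = m then x else 0 := by
  rw [← single_eq_C_mul_T, AddMonoidAlgebra.coeff_single, Finsupp.single_apply]

lemma coeff_mem_of_mem_Mono {p : LaurentPolynomial K} (hp : p ∈ Mono P) (n : ℕ) :
    p.coeff (-(n : ℤ)) ∈ gammaFiltration P n := by
  unfold Mono at hp
  induction hp using AddSubgroup.closure_induction with
  | mem a ha =>
    obtain ⟨k, x, hx, rfl⟩ := ha
    rw [coeff_C_mul_T]
    split_ifs with h
    · subst h
      rwa [neg_neg, Int.toNat_natCast] at hx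
    · exact zero_mem _
  | zero => simp
  | add a b _ _ ha hb =>
    rw [AddMonoidAlgebra.coeff_add, Finsupp.add_apply]
    exact add_mem ha hb
  | neg a _ ha =>
    rw [AddMonoidAlgebra.coeff_neg, Finsupp.neg_apply]
    exact neg_mem ha

/-- coefficients of elements of the Rees ring -/
theorem coeff_mem {p : LaurentPolynomial K} (hp : p ∈ KGr.rees P) (n : ℕ) :
    p.coeff (-(n : ℤ)) ∈ gammaFiltration P n :=
  coeff_mem_of_mem_Mono P (rees_le_Mono P hp) n

lemma mono_nonneg_mem (x : K) {k : ℤ} (hk : 0 ≤ k) : C x * T k ∈ KGr.rees P := by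
  have h0 : C x * T (-((0 : ℕ) : ℤ)) ∈ KGr.rees P :=
    mono_mem P (by rw [filt_zero_eq_top]; exact AddSubgroup.mem_top _)
  have h1 : (T k : LaurentPolynomial K) = T 1 ^ k.toNat := by
    rw [T_pow, mul_one, Int.toNat_of_nonneg hk]
  have h2 : C x * T k = (C x * T (-((0 : ℕ) : ℤ))) * T 1 ^ k.toNat := by
    rw [h1]; simp
  rw [h2]
  exact (KGr.rees P).mul_mem h0 ((KGr.rees P).pow_mem (T_mem P) _)

/-- the set of classes `[x]_n`, `x ∈ F^n` -/
def classes : Set (KGr.Gr P) :=
  {g | ∃ (n : ℕ) (x : K), x ∈ gammaFiltration P n ∧ g = KGr.grK P (n : ℤ) x}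

lemma one_tmul_mk_mem_span {p : LaurentPolynomial K} (hp : p ∈ Mono P) :
    ∃ h : p ∈ KGr.rees P, (1 : ℚ) ⊗ₜ[ℤ] (Ideal.Quotient.mk (Ideal.span {KGr.tGen P}) ⟨p, h⟩) ∈
      Submodule.span ℚ (classes P) := by
  unfold Mono at hp
  induction hp using AddSubgroup.closure_induction with
  | mem a ha =>
    obtain ⟨k, x, hx, rfl⟩ := ha
    rcases le_or_gt k 0 with hk | hk
    · obtain ⟨n, rfl⟩ : ∃ n : ℕ, k = -(n : ℤ) := ⟨(-k).toNat, by omega⟩
      rw [neg_neg, Int.toNat_natCast] at hx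
      refine ⟨mono_mem P hx, ?_⟩
      apply Submodule.subset_span
      refine ⟨n, x, hx, ?_⟩
      rw [grK_of_mem P hx]
      rfl
    · have hmem : C x * T (k - 1) ∈ KGr.rees P := mono_nonneg_mem P x (by omega)
      have hmem' : C x * T k ∈ KGr.rees P := mono_nonneg_mem P x (by omega)
      refine ⟨hmem', ?_⟩
      have : Ideal.Quotient.mk (Ideal.span {KGr.tGen P}) ⟨C x * T k, hmem'⟩ = 0 := by
        rw [Ideal.Quotient.eq_zero_iff_mem, Ideal.mem_span_singleton']
        refine ⟨⟨C x * T (k - 1), hmem⟩, ?_⟩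
        apply Subtype.ext
        unfold KGr.tGen
        simp only [Subring.coe_mul]
        rw [mul_assoc, ← T_add]
        congr 2
        ring
      rw [this, TensorProduct.tmul_zero]
      exact zero_mem _
  | zero =>
    refine ⟨zero_mem _, ?_⟩
    have : (⟨0, zero_mem _⟩ : KGr.rees P) = 0 := rfl
    rw [this, map_zero, TensorProduct.tmul_zero]
    exact zero_mem _
  | add a b _ _ ha hb =>
    obtain ⟨ha1, ha2⟩ := ha
    obtain ⟨hb1, hb2⟩ := hb
    refine ⟨add_mem ha1 hb1, ?_⟩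
    have : (⟨a + b, add_mem ha1 hb1⟩ : KGr.rees P) = ⟨a, ha1⟩ + ⟨b, hb1⟩ := rfl
    rw [this, map_add, TensorProduct.tmul_add]
    exact add_mem ha2 hb2
  | neg a _ ha =>
    obtain ⟨ha1, ha2⟩ := ha
    refine ⟨neg_mem ha1, ?_⟩
    have : (⟨-a, neg_mem ha1⟩ : KGr.rees P) = -⟨a, ha1⟩ := rfl
    rw [this, map_neg, TensorProduct.tmul_neg]
    exact neg_mem ha2

/-- `ℚGr K` is spanned by the classes `[x]_n`, `x ∈ F^n` -/
theorem span_classes : Submodule.span ℚ (classes P) = ⊤ := by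
  rw [eq_top_iff]
  rintro g -
  induction g using TensorProduct.induction_on with
  | zero => exact zero_mem _
  | tmul q z =>
    obtain ⟨p, rfl⟩ := Ideal.Quotient.mk_surjective z
    obtain ⟨h, hmem⟩ := one_tmul_mk_mem_span P (rees_le_Mono P p.2)
    have : q ⊗ₜ[ℤ] (Ideal.Quotient.mk (Ideal.span {KGr.tGen P}) p) =
        q • ((1 : ℚ) ⊗ₜ[ℤ] (Ideal.Quotient.mk (Ideal.span {KGr.tGen P}) ⟨p.1, h⟩)) := by
      rw [TensorProduct.smul_tmul', smul_eq_mul, mul_one]
    rw [this]
    exact Submodule.smul_mem _ _ hmem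
  | add a b ha hb => exact add_mem ha hb

/-- torsion criterion in `ℚ ⊗ M` -/
lemma one_tmul_eq_zero_iff {M : Type*} [AddCommGroup M] (m : M) :
    (1 : ℚ) ⊗ₜ[ℤ] m = 0 ↔ ∃ N : ℕ, 1 ≤ N ∧ N • m = 0 := by
  have : IsLocalizedModule (nonZeroDivisors ℤ) (TensorProduct.mk ℤ ℚ M 1) :=
    (isLocalizedModule_iff_isBaseChange (nonZeroDivisors ℤ) ℚ _).mpr
      (TensorProduct.isBaseChange ℤ M ℚ)
  have h := IsLocalizedModule.eq_zero_iff (nonZeroDivisors ℤ) (TensorProduct.mk ℤ ℚ M 1) (m := m)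
  rw [TensorProduct.mk_apply] at h
  rw [h]
  constructor
  · rintro ⟨s, hs⟩
    have hs0 : (s : ℤ) ≠ 0 := nonZeroDivisors.ne_zero s.2
    refine ⟨(s : ℤ).natAbs, by omega, ?_⟩
    rw [Submonoid.smul_def] at hs
    rcases Int.natAbs_eq (s : ℤ) with h' | h'
    · rw [h'] at hs
      rwa [natCast_zsmul] at hs
    · rw [h', neg_smul, natCast_zsmul, neg_eq_zero] at hs
      exact hs
  · rintro ⟨N, hN, hNm⟩
    refine ⟨⟨(N : ℤ), mem_nonZeroDivisors_of_ne_zero (by omega)⟩, ?_⟩
    rw [Submonoid.smul_def]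
    simpa using hNm

/-- extraction of the degree `n` part of a relation among classes -/
theorem exists_mul_mem_of_sum_eq_zero (d : ℕ) (y : ℕ → K) (hy : ∀ m, y m ∈ gammaFiltration P m)
    (h : ∑ m ∈ range (d + 1), KGr.grK P (m : ℤ) (y m) = 0) (n : ℕ) (hn : n ≤ d) :
    ∃ M : ℕ, 1 ≤ M ∧ (M : K) * y n ∈ gammaFiltration P (n + 1) := by
  set p : KGr.rees P := ∑ m ∈ range (d + 1), ⟨C (y m) * T (-(m : ℤ)), mono_mem P (hy m)⟩ with hp
  have h1 : ∑ m ∈ range (d + 1), KGr.grK P (m : ℤ) (y m) =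
      (1 : ℚ) ⊗ₜ[ℤ] (Ideal.Quotient.mk (Ideal.span {KGr.tGen P}) p) := by
    rw [hp, map_sum, TensorProduct.tmul_sum]
    apply Finset.sum_congr rfl
    intro m _
    rw [grK_of_mem P (hy m)]
    rfl
  rw [h1, one_tmul_eq_zero_iff] at h
  obtain ⟨N, hN, hNp⟩ := h
  rw [← map_nsmul, Ideal.Quotient.eq_zero_iff_mem, Ideal.mem_span_singleton'] at hNp
  obtain ⟨q, hq⟩ := hNp
  refine ⟨N, hN, ?_⟩
  have hq' := congrArg (fun r : KGr.rees P => (r : LaurentPolynomial K).coeff (-(n : ℤ))) hq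
  simp only [Subring.coe_mul] at hq'
  have hT : ((KGr.tGen P : KGr.rees P) : LaurentPolynomial K) = AddMonoidAlgebra.single (1 : ℤ) 1 := rfl
  rw [hT, AddMonoidAlgebra.coeff_mul_single_apply, mul_one] at hq'
  have hcoef : ((N • p : KGr.rees P) : LaurentPolynomial K).coeff (-(n : ℤ)) = (N : K) * y n := by
    rw [hp]
    simp only [nsmul_eq_mul]
    push_cast
    rw [show ((N : LaurentPolynomial K)) = C (N : K) by simp, Finset.mul_sum,
      AddMonoidAlgebra.coeff_sum, Finsupp.finsetSum_apply]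
    have : ∀ m ∈ range (d + 1), (C (N : K) * (C (y m) * T (-(m : ℤ))) : LaurentPolynomial K).coeff
        (-(n : ℤ)) = if m = n then (N : K) * y n else 0 := by
      intro m _
      rw [← mul_assoc, ← map_mul, coeff_C_mul_T]
      by_cases hmn : m = n
      · subst hmn; simp
      · rw [if_neg hmn, if_neg]
        intro h'
        apply hmn
        exact_mod_cast neg_injective h'
    rw [Finset.sum_congr rfl this, Finset.sum_ite_eq' (range (d + 1)) n,
      if_pos (Finset.mem_range.mpr (by omega))]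
  rw [← hcoef, ← hq']
  have h2 := coeff_mem P q.2 (n + 1)
  have h3 : -((n + 1 : ℕ) : ℤ) = -(n : ℤ) + -1 := by push_cast; ring
  rwa [h3] at h2

end Groth.Agent.Lib.Helper17.KGrB
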