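import Groth.Agent.Lib.Helper17.LambdaSplit
import Groth.Agent.S8649
import Groth.Agent.S8650
import Groth.Agent.S3291

/-!
# γ-operations and the γ-filtration: basic tools (helper17)
-/

set_option autoImplicit false

universe u

open PowerSeries Finset LambdaRing

namespace Groth.Agent.Lib.Helper17.Lam

variable {K : Type u} [CommRing K] [LambdaOps K]

lemma lam_one_eq_zero (P : PosStructure K) (k : ℕ) (hk : 2 ≤ k) :
    LambdaOps.lam k (1 : K) = 0 := by
  apply P.lam_eq_zero 1 (isLine_one P).1
  rw [(isLine_one P).2]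
  exact_mod_cast hk

/-- `λ_{-1}(q) = (-1)^d γ^d(q - d)` for `d` a natural number -/
lemma lamAlt_eq_gamma (P : PosStructure K) (q : K) (d : ℕ) :
    ∑ i ∈ range (d + 1), (-1 : K) ^ i * LambdaOps.lam i q = (-1 : K) ^ d * gamma d (q - (d : K)) := by
  have h1 := Groth.Agent.S8649.result K (lam_one_eq_zero P) d (q - (d : K))
  have h2 := Groth.Agent.S8650.result K (lam_one_eq_zero P) d (q - (d : K))
  rw [h1, h2, sub_add_cancel, ← mul_assoc, ← mul_pow]
  norm_num

lemma aug_toNat {P : PosStructure K} {q : K} (hq : q ∈ P.pos) :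
    ((P.aug q).toNat : ℤ) = P.aug q := Int.toNat_of_nonneg (P.aug_pos q hq).le

lemma toNat_aug_pos {P : PosStructure K} {q : K} (hq : q ∈ P.pos) : 0 < (P.aug q).toNat := by
  have := P.aug_pos q hq
  omega

/-- a single `γ^r(x)` with `ε x = 0` lies in `F^r` -/
lemma gamma_mem_gammaFiltration (P : PosStructure K) {x : K} (hx : P.aug x = 0) (r : ℕ) :
    gamma r x ∈ gammaFiltration P r := by
  unfold gammaFiltration
  split_ifs with h
  · trivial
  · apply AddSubgroup.subset_closure
    exact ⟨[(r, x)], by simpa using hx, by simp, by simp⟩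

/-- `λ_{-1}(q) ∈ F^d` for positive `q` of augmentation `d` -/
lemma lamAlt_mem_gammaFiltration (P : PosStructure K) {q : K} (hq : q ∈ P.pos) :
    ∑ i ∈ range ((P.aug q).toNat + 1), (-1 : K) ^ i * LambdaOps.lam i q ∈
      gammaFiltration P (P.aug q).toNat := by
  rw [lamAlt_eq_gamma P q]
  apply (Groth.Agent.S3291.result K P).1
  apply gamma_mem_gammaFiltration
  rw [map_sub, map_natCast, aug_toNat hq, sub_self]

variable {K' : Type u} [CommRing K'] [LambdaOps K']

lemma map_gamma {f : K →+* K'} (hf : IsLambdaHom f) (k : ℕ) (x : K) :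
    f (gamma k x) = gamma k (f x) := by
  unfold gamma
  split_ifs with h
  · exact map_one f
  · rw [map_sum]
    apply Finset.sum_congr rfl
    intro j _
    rw [map_mul, map_natCast]
    split_ifs with hj
    · rw [map_zero]
    · rw [hf]

/-- under a surjective augmentation-compatible λ-homomorphism, `F^m` of the target is the image of
`F^m` of the source -/
lemma exists_preimage_mem_gammaFiltration (PY : PosStructure K) (PX : PosStructure K')
    (g : K →+* K') (hg : IsLambdaHom g) (hgaug : ∀ y : K, PX.aug (g y) = PY.aug y)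
    (hgsurj : Function.Surjective g) (m : ℕ) (x : K') (hx : x ∈ gammaFiltration PX m) :
    ∃ z ∈ gammaFiltration PY m, g z = x := by
  by_cases hm : m = 0
  · subst hm
    obtain ⟨z, rfl⟩ := hgsurj x
    exact ⟨z, by unfold gammaFiltration; simp, rfl⟩
  · have hX : gammaFiltration PX m = AddSubgroup.closure
        {y | ∃ (l : List (ℕ × K')), (∀ p ∈ l, PX.aug p.2 = 0) ∧ m ≤ (l.map Prod.fst).sum ∧
          y = (l.map fun p => gamma p.1 p.2).prod} := by
      unfold gammaFiltration; rw [if_neg hm]
    have hY : gammaFiltration PY m = AddSubgroup.closure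
        {y | ∃ (l : List (ℕ × K)), (∀ p ∈ l, PY.aug p.2 = 0) ∧ m ≤ (l.map Prod.fst).sum ∧
          y = (l.map fun p => gamma p.1 p.2).prod} := by
      unfold gammaFiltration; rw [if_neg hm]
    rw [hX] at hx
    induction hx using AddSubgroup.closure_induction with
    | mem y hy =>
      obtain ⟨l, hl, hsum, rfl⟩ := hy
      -- lift the list
      have hlift : ∀ l : List (ℕ × K'), (∀ p ∈ l, PX.aug p.2 = 0) →
          ∃ l' : List (ℕ × K), (∀ p ∈ l', PY.aug p.2 = 0) ∧ l'.map Prod.fst = l.map Prod.fst ∧
            g ((l'.map fun p => gamma p.1 p.2).prod) = (l.map fun p => gamma p.1 p.2).prod := by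
        intro l
        induction l with
        | nil => intro _; exact ⟨[], by simp, rfl, by simp⟩
        | cons a t ih =>
          intro ht
          obtain ⟨t', ht', hfst, hprod⟩ := ih fun p hp => ht p (List.mem_cons_of_mem _ hp)
          obtain ⟨b, hb⟩ := hgsurj a.2
          refine ⟨(a.1, b) :: t', ?_, ?_, ?_⟩
          · intro p hp
            rcases List.mem_cons.mp hp with rfl | hp
            · have := ht a (List.mem_cons_self ..)
              rw [← hb, hgaug] at this
              exact this
            · exact ht' p hp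
          · simp [hfst]
          · simp only [List.map_cons, List.prod_cons, map_mul, hprod, map_gamma hg, hb]
      obtain ⟨l', hl', hfst, hprod⟩ := hlift l hl
      refine ⟨_, ?_, hprod⟩
      rw [hY]
      apply AddSubgroup.subset_closure
      exact ⟨l', hl', by rw [hfst]; exact hsum, rfl⟩
    | zero => exact ⟨0, AddSubgroup.zero_mem _, map_zero g⟩
    | add a b _ _ iha ihb =>
      obtain ⟨za, hza, rfl⟩ := iha
      obtain ⟨zb, hzb, rfl⟩ := ihb
      exact ⟨za + zb, AddSubgroup.add_mem _ hza hzb, map_add g za zb⟩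
    | neg a _ iha =>
      obtain ⟨za, hza, rfl⟩ := iha
      exact ⟨-za, AddSubgroup.neg_mem _ hza, map_neg g za⟩

end Groth.Agent.Lib.Helper17.Lam
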