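import Groth.Agent.Lib.Helper17.LambdaAdamsFilt
import Groth.Agent.Lib.Helper17.LambdaGamma

/-!
# Newton-type relation between γ-operations and Adams operations (helper17)

`t · γ_t'(z) = Q_t(z) · γ_t(z)` with `Q_m(z) = Σ_{j=1}^m (-1)^{j+1} C(m,j) ψ^j(z)`.
-/

set_option autoImplicit false

universe u

open PowerSeries Finset LambdaRing

namespace Groth.Agent.Lib.Helper17.Lam

variable {K : Type u} [CommRing K] [LambdaOps K]

/-- `S_t(z) = Σ_{k ≥ 1} (-1)^{k+1} ψ^k(z) t^k` -/
noncomputable def SS (P : PosStructure K) (z : K) : PowerSeries K :=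
  C (P.aug z : K) - rescale (-1 : K) (adamsSeries P z)

lemma rescale_neg_one_g (x : K) : rescale (-1 : K) (g x) = lamSeries x := by
  unfold g
  rw [rescale_rescale]
  simp

lemma adamsSeries_mul_g (P : PosStructure K) (x : K) :
    (C (P.aug x : K) - adamsSeries P x) * g x = X * derivative K (g x) := by
  rw [adamsSeries_eq]
  have h := g_mul_inv x
  linear_combination (X * derivative K (g x)) * h

lemma rescale_X_mul_derivative (f : PowerSeries K) :
    rescale (-1 : K) (X * derivative K f) = X * derivative K (rescale (-1 : K) f) := by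
  ext n
  rw [coeff_rescale]
  rcases n with _ | k
  · simp
  · rw [coeff_succ_X_mul, coeff_succ_X_mul, coeff_derivative, coeff_derivative, coeff_rescale]
    ring

/-- `t λ_t'(z) = S_t(z) λ_t(z)` -/
lemma X_mul_derivative_lamSeries (P : PosStructure K) (x : K) :
    X * derivative K (lamSeries x) = SS P x * lamSeries x := by
  have h := congrArg (rescale (-1 : K)) (adamsSeries_mul_g P x)
  rw [map_mul, map_sub, rescale_X_mul_derivative, rescale_neg_one_g] at h
  rw [← h]
  unfold SS
  congr 2
  ext n
  rw [coeff_rescale, coeff_C]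
  split_ifs with hn
  · subst hn; simp
  · simp

lemma coeff_SS (P : PosStructure K) (z : K) (k : ℕ) :
    coeff k (SS P z) = if k = 0 then 0 else (-1 : K) ^ (k + 1) * adams P k z := by
  unfold SS adams
  rw [map_sub, coeff_rescale, coeff_C]
  split_ifs with hk
  · subst hk
    rw [adamsSeries_eq]
    simp
  · rw [pow_succ]; ring

lemma SS_add (P : PosStructure K) (x y : K) : SS P (x + y) = SS P x + SS P y := by
  unfold SS
  rw [adamsSeries_add, map_add, map_add, Int.cast_add, map_add]
  ring

/-- `Q_t(z) = (1-t)⁻¹ S_{t/(1-t)}(z)` -/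
noncomputable def QS (P : PosStructure K) (z : K) : PowerSeries K :=
  (PowerSeries.mk 1 : PowerSeries K) * (SS P z).subst (phi K)

/-- `Q_m(z)` -/
noncomputable def Qc (P : PosStructure K) (m : ℕ) (z : K) : K := coeff m (QS P z)

lemma mk_one_mul_one_sub_X : (PowerSeries.mk 1 : PowerSeries K) * (1 - X) = 1 := by
  have h := PowerSeries.mk_one_mul_one_sub_eq_one K
  exact h

lemma derivative_phi : derivative K (phi K) = (PowerSeries.mk 1 : PowerSeries K) ^ 2 := by
  have h1 := phi_mul_one_sub_X K
  have h2 := congrArg (derivative K) h1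
  rw [Derivation.leibniz, derivative_X, map_sub, derivative_one, derivative_X, zero_sub,
    smul_eq_mul, smul_eq_mul] at h2
  have h3 := mk_one_mul_one_sub_X (K := K)
  have h4 : (1 : PowerSeries K) + phi K = (PowerSeries.mk 1 : PowerSeries K) := by
    calc (1 : PowerSeries K) + phi K = (1 + phi K) * ((PowerSeries.mk 1 : PowerSeries K) * (1 - X)) := by
          rw [h3, mul_one]
      _ = (PowerSeries.mk 1 : PowerSeries K) * ((1 - X) + phi K * (1 - X)) := by ring
      _ = (PowerSeries.mk 1 : PowerSeries K) := by rw [h1]; ring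
  calc derivative K (phi K)
      = derivative K (phi K) * ((PowerSeries.mk 1 : PowerSeries K) * (1 - X)) := by rw [h3, mul_one]
    _ = (PowerSeries.mk 1 : PowerSeries K) * ((1 - X) * derivative K (phi K)) := by ring
    _ = (PowerSeries.mk 1 : PowerSeries K) * (1 + phi K) := by
        congr 1
        linear_combination h2
    _ = (PowerSeries.mk 1 : PowerSeries K) ^ 2 := by rw [h4]; ring

/-- `t γ_t'(z) = Q_t(z) γ_t(z)` -/
theorem X_mul_derivative_gamSeries (P : PosStructure K) (z : K) :
    X * derivative K (gamSeries z) = QS P z * gamSeries z := by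
  unfold gamSeries QS
  rw [derivative_subst (hasSubst_phi K), derivative_phi]
  have h := congrArg (fun f => subst (phi K) f) (X_mul_derivative_lamSeries P z)
  simp only [subst_mul (hasSubst_phi K), subst_X (hasSubst_phi K)] at h
  have hphi : phi K = X * (PowerSeries.mk 1 : PowerSeries K) := rfl
  calc X * (subst (phi K) (derivative K (lamSeries z)) * (PowerSeries.mk 1 : PowerSeries K) ^ 2)
      = (PowerSeries.mk 1 : PowerSeries K) * (phi K * subst (phi K) (derivative K (lamSeries z))) := by
        rw [hphi]; ring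
    _ = _ := by rw [h]; ring

omit [LambdaOps K] in
lemma sum_choose_hockey (m j : ℕ) (hj : j ≠ 0) :
    ∑ i ∈ range (m + 1), (if j ≤ i then (i - 1).choose (j - 1) else 0) = m.choose j := by
  induction m with
  | zero =>
    simp only [zero_add, range_one, sum_singleton]
    rw [if_neg (by omega), Nat.choose_eq_zero_of_lt (by omega)]
  | succ m ih =>
    rw [sum_range_succ, ih]
    obtain ⟨j', rfl⟩ := Nat.exists_eq_succ_of_ne_zero hj
    by_cases h : j' + 1 ≤ m + 1
    · rw [if_pos h]
      simp only [Nat.succ_eq_add_one, Nat.add_sub_cancel]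
      rw [Nat.choose_succ_succ, add_comm]
    · rw [if_neg h, add_zero, Nat.choose_eq_zero_of_lt (by omega),
        Nat.choose_eq_zero_of_lt (by omega)]

lemma Qc_eq_sum (P : PosStructure K) (m : ℕ) (z : K) :
    Qc P m z = ∑ j ∈ range (m + 1), coeff j (SS P z) * (m.choose j : K) := by
  unfold Qc QS
  rw [coeff_mul, Finset.Nat.sum_antidiagonal_eq_sum_range_succ_mk]
  simp only [coeff_mk, Pi.one_apply, one_mul]
  -- Σ_{i ≤ m} coeff (m - i) (S.subst φ); reindex
  rw [← Finset.sum_range_reflect]
  have h1 : ∀ i ∈ range (m + 1), coeff (m - (m + 1 - 1 - i)) ((SS P z).subst (phi K)) =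
      ∑ j ∈ range (m + 1), coeff j (SS P z) *
        (if j = 0 then 0 else ((if j ≤ i then (i - 1).choose (j - 1) else 0 : ℕ) : K)) := by
    intro i hi
    have hi' : i ≤ m := by have := Finset.mem_range.mp hi; omega
    rw [show m - (m + 1 - 1 - i) = i by omega, coeff_subst_phi]
    have hsub : range (i + 1) ⊆ range (m + 1) := Finset.range_subset_range.mpr (by omega)
    rw [← Finset.sum_subset hsub]
    · apply Finset.sum_congr rfl
      intro j hj
      have hji : j ≤ i := by have := Finset.mem_range.mp hj; omega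
      rw [coeff_phi_pow]
      by_cases hj0 : j = 0
      · subst hj0
        rw [coeff_SS, if_pos rfl, zero_mul, zero_mul]
      · rw [if_neg hj0, if_neg hj0, if_pos hji, if_pos hji]
    · intro j _ hj
      have hji : ¬ j ≤ i := by
        intro h; exact hj (Finset.mem_range.mpr (by omega))
      have hj0 : j ≠ 0 := by omega
      rw [if_neg hj0, if_neg hji, Nat.cast_zero, mul_zero]
  rw [Finset.sum_congr rfl h1, Finset.sum_comm]
  apply Finset.sum_congr rfl
  intro j _
  rw [← Finset.mul_sum]
  by_cases hj0 : j = 0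
  · subst hj0
    rw [coeff_SS, if_pos rfl, zero_mul, zero_mul]
  · simp only [if_neg hj0]
    rw [← Nat.cast_sum, sum_choose_hockey m j hj0]

lemma Qc_zero_left (P : PosStructure K) (z : K) : Qc P 0 z = 0 := by
  rw [Qc_eq_sum]
  simp [coeff_SS]

lemma Qc_add (P : PosStructure K) (m : ℕ) (x y : K) :
    Qc P m (x + y) = Qc P m x + Qc P m y := by
  rw [Qc_eq_sum, Qc_eq_sum, Qc_eq_sum, ← Finset.sum_add_distrib]
  apply Finset.sum_congr rfl
  intro j _
  rw [SS_add, map_add, add_mul]

lemma Qc_zero_right (P : PosStructure K) (m : ℕ) : Qc P m (0 : K) = 0 := by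
  have := Qc_add P m (0 : K) 0
  rw [add_zero] at this
  exact left_eq_add.mp this

/-- explicit form `Q_m(z) = Σ_{j=1}^m (-1)^{j+1} C(m,j) ψ^j(z)` -/
lemma Qc_eq_adams (P : PosStructure K) (m : ℕ) (z : K) :
    Qc P m z = ∑ j ∈ range (m + 1),
      (if j = 0 then 0 else (-1 : K) ^ (j + 1) * (m.choose j : K) * adams P j z) := by
  rw [Qc_eq_sum]
  apply Finset.sum_congr rfl
  intro j _
  rw [coeff_SS]
  split_ifs with h
  · rw [zero_mul]
  · ring

/-- the Newton-type recursion `m γ^m(z) = Σ_{a+b=m} Q_a(z) γ^b(z)` -/
theorem gamma_recursion (P : PosStructure K) (m : ℕ) (z : K) :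
    (m : K) * gamma m z = ∑ a ∈ antidiagonal m, Qc P a.1 z * gamma a.2 z := by
  have h := congrArg (coeff m) (X_mul_derivative_gamSeries P z)
  rw [coeff_mul (φ := QS P z)] at h
  simp only [coeff_gamSeries] at h
  change _ = ∑ a ∈ antidiagonal m, coeff a.1 (QS P z) * gamma a.2 z
  rw [← h]
  rcases m with _ | k
  · simp
  · rw [coeff_succ_X_mul, coeff_derivative, coeff_gamSeries]
    push_cast
    ring

lemma Qc_mem (P : PosStructure K) {z : K} (hz : P.aug z = 0) (m : ℕ) :
    Qc P m z ∈ gammaFiltration P m := by
  induction m using Nat.strong_induction_on with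
  | _ m ih =>
    rcases Nat.eq_zero_or_pos m with rfl | hm
    · rw [Qc_zero_left]; exact zero_mem _
    · have h := gamma_recursion P m z
      have hmem : (m, 0) ∈ antidiagonal m := by simp
      rw [← Finset.add_sum_erase _ _ hmem] at h
      simp only [gamma_zero_left, mul_one] at h
      have h2 : Qc P m z = (m : K) * gamma m z -
          ∑ a ∈ (antidiagonal m).erase (m, 0), Qc P a.1 z * gamma a.2 z := by
        linear_combination -h
      rw [h2]
      apply sub_mem
      · exact filt_smul P _ (gamma_mem_gammaFiltration P hz m)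
      · apply sum_mem
        intro a ha
        rw [Finset.mem_erase, Finset.mem_antidiagonal] at ha
        have hlt : a.1 < m := by
          rcases Nat.lt_or_ge a.1 m with h' | h'
          · exact h'
          · exfalso
            apply ha.1
            ext <;> simp <;> omega
        have h3 := filt_mul P (ih a.1 hlt) (gamma_mem_gammaFiltration P hz a.2)
        rwa [ha.2] at h3

end Groth.Agent.Lib.Helper17.Lam
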