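import Groth.Prelude.Def_KGr
import Mathlib.RingTheory.MvPolynomial.Symmetric.NewtonIdentities

/-!
# The polynomial `chPoly d` through signed Newton polynomials (helper17)
-/

set_option autoImplicit false

open Finset MvPolynomial

namespace Groth.Agent.Lib.Helper17.KGrPoly

noncomputable section

variable (d : ℕ)

/-- evaluation at the elementary symmetric polynomials -/
def E : MvPolynomial (Fin d) ℚ →ₐ[ℚ] MvPolynomial (Fin d) ℚ :=
  aeval (fun i : Fin d => esymm (Fin d) ℚ (i + 1))

lemma E_injective : Function.Injective (E d) := by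
  intro p q h
  apply esymmAlgHom_fin_injective (R := ℚ) (n := d) (m := d) le_rfl
  apply Subtype.ext
  rw [esymmAlgHom_apply, esymmAlgHom_apply]
  exact h

lemma E_symm (s : symmetricSubalgebra (Fin d) ℚ) :
    E d ((esymmAlgEquiv (Fin d) ℚ (Fintype.card_fin d)).symm s) = s.1 := by
  have h := (esymmAlgEquiv (Fin d) ℚ (Fintype.card_fin d)).apply_symm_apply s
  have h2 := congrArg Subtype.val h
  rw [esymmAlgEquiv_apply, esymmAlgHom_apply] at h2
  exact h2

/-- the variable standing for `e_k` (`1` for `k = 0`, `0` for `k > d`) -/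
def Xv (k : ℕ) : MvPolynomial (Fin d) ℚ :=
  if h0 : k = 0 then 1 else if h : k ≤ d then X ⟨k - 1, by omega⟩ else 0

lemma E_Xv (k : ℕ) : E d (Xv d k) = esymm (Fin d) ℚ k := by
  unfold Xv
  split_ifs with h0 h
  · subst h0; simp
  · unfold E
    rw [aeval_X]
    congr 1
    simp only []
    omega
  · rw [map_zero]
    symm
    unfold esymm
    rw [Finset.powersetCard_eq_empty.mpr (by simp; omega), Finset.sum_empty]

/-- the signed Newton polynomial: `(-1)^(m+1) p_m` in terms of the `e_k` -/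
def Qw (m : ℕ) : MvPolynomial (Fin d) ℚ :=
  (esymmAlgEquiv (Fin d) ℚ (Fintype.card_fin d)).symm
    ⟨(-1) ^ (m + 1) * psum (Fin d) ℚ m,
      (symmetricSubalgebra (Fin d) ℚ).mul_mem
        ((symmetricSubalgebra (Fin d) ℚ).pow_mem
          ((symmetricSubalgebra (Fin d) ℚ).neg_mem (symmetricSubalgebra (Fin d) ℚ).one_mem) _)
        (psum_isSymmetric (Fin d) ℚ m)⟩

lemma E_Qw (m : ℕ) : E d (Qw d m) = (-1) ^ (m + 1) * psum (Fin d) ℚ m := by
  unfold Qw
  rw [E_symm]

lemma E_chPoly : E d (KGr.chPoly d) =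
    ∑ i : Fin d, Polynomial.aeval (X i : MvPolynomial (Fin d) ℚ) (KGr.expTrunc d) := by
  unfold KGr.chPoly
  rw [E_symm]

/-- `chPoly d = d + Σ_{m=1}^d (-1)^(m+1)/m! · Qw_m` -/
theorem chPoly_eq : KGr.chPoly d =
    C (d : ℚ) + ∑ m ∈ Icc 1 d, C ((-1 : ℚ) ^ (m + 1) / (m.factorial : ℚ)) * Qw d m := by
  apply E_injective
  rw [E_chPoly, map_add, map_sum]
  simp only [map_mul, E_Qw]
  unfold KGr.expTrunc
  simp only [map_sum, map_mul, Polynomial.aeval_C, map_pow, Polynomial.aeval_X]
  rw [Finset.sum_comm]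
  rw [Finset.range_eq_Ico, Finset.sum_eq_sum_Ico_succ_bot (by omega)]
  congr 1
  · simp [E]
  · have : Finset.Ico (0 + 1) (d + 1) = Finset.Icc 1 d := by
      ext x; simp [Finset.mem_Ico, Finset.mem_Icc]
    rw [this]
    apply Finset.sum_congr rfl
    intro m _
    rw [← Finset.mul_sum]
    unfold psum E
    rw [aeval_C, algebraMap_eq]
    have h1 : (C ((-1 : ℚ) ^ (m + 1) / (m.factorial : ℚ)) : MvPolynomial (Fin d) ℚ) =
        C (1 / (m.factorial : ℚ)) * (-1) ^ (m + 1) := by
      rw [show ((-1 : MvPolynomial (Fin d) ℚ)) = C (-1) by simp, ← C_pow, ← C_mul]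
      congr 1
      ring
    rw [h1]
    have h2 : ((-1 : MvPolynomial (Fin d) ℚ)) ^ (m + 1) * (-1) ^ (m + 1) = 1 := by
      rw [← mul_pow]; simp
    calc C (1 / (m.factorial : ℚ)) * ∑ i : Fin d, X i ^ m
        = C (1 / (m.factorial : ℚ)) * (((-1 : MvPolynomial (Fin d) ℚ)) ^ (m + 1) * (-1) ^ (m + 1)) *
            ∑ i : Fin d, X i ^ m := by rw [h2, mul_one]
      _ = _ := by ring

/-- Newton's identities in terms of `Xv`, `Qw` -/
theorem Xv_recursion (m : ℕ) :
    (m : MvPolynomial (Fin d) ℚ) * Xv d m =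
      ∑ a ∈ antidiagonal m with a.1 < m, Xv d a.1 * Qw d a.2 := by
  apply E_injective
  rw [map_mul, map_natCast, E_Xv, map_sum, mul_esymm_eq_sum, Finset.mul_sum]
  apply Finset.sum_congr rfl
  intro a ha
  rw [Finset.mem_filter, Finset.mem_antidiagonal] at ha
  rw [map_mul, E_Xv, E_Qw]
  have hs : ((-1 : MvPolynomial (Fin d) ℚ)) ^ (m + 1) * (-1) ^ a.1 = (-1) ^ (a.2 + 1) := by
    rw [← pow_add, ← ha.1, show a.1 + a.2 + 1 + a.1 = (a.2 + 1) + 2 * a.1 by ring, pow_add, pow_mul]
    simp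
  rw [← hs]
  ring

/-- uniqueness of solutions of the Newton recursion -/
theorem newton_unique {G : Type*} [CommRing G] (cv s s' : ℕ → G) (h0 : cv 0 = 1)
    (hs : ∀ m, 1 ≤ m → m ≤ d → (m : G) * cv m = ∑ a ∈ antidiagonal m with a.1 < m, cv a.1 * s a.2)
    (hs' : ∀ m, 1 ≤ m → m ≤ d →
      (m : G) * cv m = ∑ a ∈ antidiagonal m with a.1 < m, cv a.1 * s' a.2) :
    ∀ m, 1 ≤ m → m ≤ d → s m = s' m := by
  intro m
  induction m using Nat.strong_induction_on with
  | _ m ih =>
    intro h1 hd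
    have e := (hs m h1 hd).symm.trans (hs' m h1 hd)
    have hmem : (0, m) ∈ (antidiagonal m).filter (fun a => a.1 < m) := by
      rw [Finset.mem_filter, Finset.mem_antidiagonal]
      exact ⟨by simp, by simp; omega⟩
    rw [← Finset.add_sum_erase _ _ hmem, ← Finset.add_sum_erase _ _ hmem] at e
    simp only [h0, one_mul] at e
    have hrest : ∑ a ∈ ((antidiagonal m).filter (fun a => a.1 < m)).erase (0, m), cv a.1 * s a.2 =
        ∑ a ∈ ((antidiagonal m).filter (fun a => a.1 < m)).erase (0, m), cv a.1 * s' a.2 := by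
      apply Finset.sum_congr rfl
      intro a ha
      rw [Finset.mem_erase, Finset.mem_filter, Finset.mem_antidiagonal] at ha
      have ha1 : a.1 ≠ 0 := by
        intro h
        apply ha.1
        ext
        · simpa using h
        · simp; omega
      rw [ih a.2 (by omega) (by omega) (by omega)]
    rw [hrest] at e
    exact add_right_cancel e

variable {d} in
/-- the Newton recursion after evaluating at `c` -/
theorem aeval_recursion {G : Type*} [CommSemiring G] [Algebra ℚ G] (c : Fin d → G) (m : ℕ) :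
    (m : G) * aeval c (Xv d m) =
      ∑ a ∈ antidiagonal m with a.1 < m, aeval c (Xv d a.1) * aeval c (Qw d a.2) := by
  have h := congrArg (aeval c) (Xv_recursion d m)
  rw [map_mul, map_natCast, map_sum] at h
  rw [h]
  apply Finset.sum_congr rfl
  intro a _
  rw [map_mul]

variable {d} in
lemma aeval_Xv {G : Type*} [CommSemiring G] [Algebra ℚ G] (c : Fin d → G) (k : ℕ) :
    aeval c (Xv d k) = if h0 : k = 0 then 1 else if h : k ≤ d then c ⟨k - 1, by omega⟩ else 0 := by
  unfold Xv
  split_ifs <;> simp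

variable {d} in
/-- evaluation of `chPoly` -/
theorem aeval_chPoly {G : Type*} [CommSemiring G] [Algebra ℚ G] (c : Fin d → G) :
    aeval c (KGr.chPoly d) = algebraMap ℚ G (d : ℚ) +
      ∑ m ∈ Icc 1 d, ((-1 : ℚ) ^ (m + 1) / (m.factorial : ℚ)) • aeval c (Qw d m) := by
  rw [chPoly_eq, map_add, aeval_C, map_sum]
  congr 1
  apply Finset.sum_congr rfl
  intro m _
  rw [map_mul, aeval_C, Algebra.smul_def]

end

end Groth.Agent.Lib.Helper17.KGrPoly
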