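import Groth.Agent.Lib.Helper17.LambdaAdamsFilt

/-!
# The determinant of a λ-ring with positive structure (helper17)

`det : (K, +) → (Kˣ, ·)`, `det e = λ^{ε e}(e)` for positive `e`; it is trivial on `F^2`.
-/

set_option autoImplicit false

universe u

open PowerSeries Finset LambdaRing

namespace Groth.Agent.Lib.Helper17.Lam

section poly

open Polynomial

lemma coeff_card_linProd' {R : Type*} [CommRing R] (s : Multiset R) :
    (linProd s).coeff (Multiset.card s) = s.prod := by
  induction s using Multiset.induction_on with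
  | empty => simp [linProd_zero]
  | cons a t ih =>
    rw [linProd_cons, Multiset.card_cons, Multiset.prod_cons, add_mul, one_mul, Polynomial.coeff_add,
      mul_assoc, Polynomial.coeff_C_mul, Polynomial.coeff_X_mul, ih,
      Polynomial.coeff_eq_zero_of_natDegree_lt
        (lt_of_le_of_lt (natDegree_linProd_le t) (Nat.lt_succ_self _)), zero_add]

end poly

variable {K : Type u} [CommRing K] [LambdaOps K]

/-! ### augmentation of λ and γ operations -/

lemma map_aug_lamSeries_of_pos {P : PosStructure K} (hK : HasSplitting K P) {e : K}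
    (he : e ∈ P.pos) :
    PowerSeries.map P.aug (lamSeries e) = (1 + X) ^ ((P.aug e).toNat) := by
  ext i
  rw [coeff_map, coeff_lamSeries, aug_lam_eq_choose hK he, coeff_one_add_X_pow_int]

lemma map_aug_lamSeries_of_aug_zero {P : PosStructure K} (hK : HasSplitting K P) {z : K}
    (hz : P.aug z = 0) : PowerSeries.map P.aug (lamSeries z) = 1 := by
  obtain ⟨e, f, he, hf, rfl⟩ := P.exists_sub z
  have haug : P.aug e = P.aug f := by
    rw [map_sub] at hz
    exact sub_eq_zero.mp hz
  have h := lamSeries_add (e - f) f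
  rw [sub_add_cancel] at h
  have h2 := congrArg (PowerSeries.map P.aug) h
  rw [map_mul, map_aug_lamSeries_of_pos hK he, map_aug_lamSeries_of_pos hK hf, haug] at h2
  have hne : ((1 + X : PowerSeries ℤ) ^ ((P.aug f).toNat)) ≠ 0 := by
    apply pow_ne_zero
    intro h0
    have := congrArg (PowerSeries.coeff 0) h0
    simp at this
  have h3 : (1 : PowerSeries ℤ) * (1 + X) ^ ((P.aug f).toNat) =
      PowerSeries.map P.aug (lamSeries (e - f)) * (1 + X) ^ ((P.aug f).toNat) := by
    rw [one_mul]; exact h2
  exact (mul_right_cancel₀ hne h3).symm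

lemma aug_lam_of_aug_zero {P : PosStructure K} (hK : HasSplitting K P) {z : K}
    (hz : P.aug z = 0) {j : ℕ} (hj : 1 ≤ j) : P.aug (LambdaOps.lam j z) = 0 := by
  have h := congrArg (PowerSeries.coeff j) (map_aug_lamSeries_of_aug_zero hK hz)
  rw [coeff_map, coeff_lamSeries, coeff_one, if_neg (by omega)] at h
  exact h

lemma aug_gamma_of_aug_zero {P : PosStructure K} (hK : HasSplitting K P) {z : K}
    (hz : P.aug z = 0) {r : ℕ} (hr : 1 ≤ r) : P.aug (gamma r z) = 0 := by
  unfold gamma
  rw [if_neg (by omega), map_sum]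
  apply Finset.sum_eq_zero
  intro j _
  rw [map_mul]
  by_cases hj : j = 0
  · rw [if_pos hj, map_zero, mul_zero]
  · rw [if_neg hj, aug_lam_of_aug_zero hK hz (by omega), mul_zero]

/-! ### the top exterior power -/

/-- `λ^{ε e}(e)` -/
def top (P : PosStructure K) (e : K) : K := LambdaOps.lam (P.aug e).toNat e

lemma top_sum_lines (P : PosStructure K) (s : Multiset K) (hs : ∀ a ∈ s, P.IsLine a) :
    top P s.sum = s.prod := by
  unfold top
  rw [aug_sum_lines P s hs, Int.toNat_natCast, lam_sum_lines P s hs, coeff_card_linProd']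

lemma top_sum_lines_fintype (P : PosStructure K) {ι : Type*} [Fintype ι] (W : ι → K)
    (hW : ∀ i, P.IsLine (W i)) : top P (∑ i, W i) = ∏ i, W i := by
  have hs : ∀ a ∈ (Finset.univ.val.map W), P.IsLine a := by
    intro a ha
    obtain ⟨k, -, rfl⟩ := Multiset.mem_map.mp ha
    exact hW k
  exact top_sum_lines P _ hs

lemma isUnit_top (P : PosStructure K) {e : K} (he : e ∈ P.pos) : IsUnit (top P e) :=
  P.isUnit_lam e he

lemma top_add (P : PosStructure K) {e f : K} (he : e ∈ P.pos) (hf : f ∈ P.pos) :
    top P (e + f) = top P e * top P f := by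
  unfold top
  have hr := aug_toNat he
  have hs := aug_toNat hf
  set r := (P.aug e).toNat
  set s := (P.aug f).toNat
  have hrs : (P.aug (e + f)).toNat = r + s := by
    rw [map_add, ← hr, ← hs]
    omega
  rw [hrs, LambdaOps.lam_add, Finset.sum_eq_single r]
  · rw [Nat.add_sub_cancel_left]
  · intro i hi hir
    rcases Nat.lt_or_gt_of_ne hir with h | h
    · have : LambdaOps.lam (r + s - i) f = 0 := by
        apply P.lam_eq_zero f hf
        rw [← hs]
        have := Finset.mem_range.mp hi
        omega
      rw [this, mul_zero]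
    · have : LambdaOps.lam i e = 0 := by
        apply P.lam_eq_zero e he
        rw [← hr]
        omega
      rw [this, zero_mul]
  · intro h
    exact absurd (Finset.mem_range.mpr (by omega)) h

lemma top_one (P : PosStructure K) : top P (1 : K) = 1 := by
  unfold top
  rw [map_one]
  exact LambdaOps.lam_one 1

lemma top_of_isLine (P : PosStructure K) {u : K} (hu : P.IsLine u) : top P u = u := by
  unfold top
  rw [hu.2]
  exact LambdaOps.lam_one u

lemma map_top {K' : Type u} [CommRing K'] [LambdaOps K'] {P : PosStructure K}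
    {P' : PosStructure K'} {f : K →+* K'} (hf : IsExtension P P' f) (e : K) :
    f (top P e) = top P' (f e) := by
  unfold top
  rw [hf.isLambdaHom, hf.aug_comp]

/-! ### the determinant -/

/-- a chosen numerator -/
noncomputable def detNum (P : PosStructure K) (x : K) : K := Classical.choose (P.exists_sub x)

/-- a chosen denominator -/
noncomputable def detDen (P : PosStructure K) (x : K) : K :=
  Classical.choose (Classical.choose_spec (P.exists_sub x))

lemma detNum_mem (P : PosStructure K) (x : K) : detNum P x ∈ P.pos :=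
  (Classical.choose_spec (Classical.choose_spec (P.exists_sub x))).1

lemma detDen_mem (P : PosStructure K) (x : K) : detDen P x ∈ P.pos :=
  (Classical.choose_spec (Classical.choose_spec (P.exists_sub x))).2.1

lemma detNum_sub_detDen (P : PosStructure K) (x : K) : x = detNum P x - detDen P x :=
  (Classical.choose_spec (Classical.choose_spec (P.exists_sub x))).2.2

/-- the determinant `det(e - f) = λ^{ε e}(e) / λ^{ε f}(f)` -/
noncomputable def det (P : PosStructure K) (x : K) : K :=
  top P (detNum P x) * Ring.inverse (top P (detDen P x))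

lemma det_mul_top (P : PosStructure K) {x e f : K} (he : e ∈ P.pos) (hf : f ∈ P.pos)
    (h : x = e - f) : det P x * top P f = top P e := by
  have h0 := detNum_sub_detDen P x
  have h1 : detNum P x + f = e + detDen P x := by
    have : detNum P x - detDen P x = e - f := by rw [← h0, h]
    linear_combination this
  have h2 : top P (detNum P x) * top P f = top P e * top P (detDen P x) := by
    rw [← top_add P (detNum_mem P x) hf, ← top_add P he (detDen_mem P x), h1]
  unfold det
  calc top P (detNum P x) * Ring.inverse (top P (detDen P x)) * top P f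
      = (top P (detNum P x) * top P f) * Ring.inverse (top P (detDen P x)) := by ring
    _ = top P e * (top P (detDen P x) * Ring.inverse (top P (detDen P x))) := by rw [h2]; ring
    _ = top P e := by
      rw [Ring.mul_inverse_cancel _ (isUnit_top P (detDen_mem P x)), mul_one]

lemma det_add (P : PosStructure K) (x y : K) : det P (x + y) = det P x * det P y := by
  have hx := detNum_sub_detDen P x
  have hy := detNum_sub_detDen P y
  have hxy : x + y = (detNum P x + detNum P y) - (detDen P x + detDen P y) := by
    nth_rw 1 [hx, hy]; ring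
  have h1 := det_mul_top P (P.add_mem _ _ (detNum_mem P x) (detNum_mem P y))
    (P.add_mem _ _ (detDen_mem P x) (detDen_mem P y)) hxy
  have h2 := det_mul_top P (detNum_mem P x) (detDen_mem P x) hx
  have h3 := det_mul_top P (detNum_mem P y) (detDen_mem P y) hy
  rw [top_add P (detNum_mem P x) (detNum_mem P y), top_add P (detDen_mem P x) (detDen_mem P y),
    ← h2, ← h3] at h1
  have hu : IsUnit (top P (detDen P x) * top P (detDen P y)) :=
    (isUnit_top P (detDen_mem P x)).mul (isUnit_top P (detDen_mem P y))
  apply hu.mul_right_cancel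
  rw [h1]; ring

lemma isUnit_det (P : PosStructure K) (x : K) : IsUnit (det P x) := by
  unfold det
  exact (isUnit_top P (detNum_mem P x)).mul (isUnit_top P (detDen_mem P x)).ringInverse

lemma det_zero (P : PosStructure K) : det P (0 : K) = 1 := by
  have h := det_add P 0 0
  rw [add_zero] at h
  have hu := isUnit_det P (0 : K)
  have h2 : det P 0 * 1 = det P 0 * det P 0 := by rw [mul_one]; exact h
  exact (hu.mul_left_cancel h2).symm

lemma det_neg_mul (P : PosStructure K) (x : K) : det P (-x) * det P x = 1 := by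
  rw [← det_add, neg_add_cancel, det_zero]

lemma det_neg_eq_one (P : PosStructure K) {x : K} (hx : det P x = 1) : det P (-x) = 1 := by
  have h := det_neg_mul P x
  rwa [hx, mul_one] at h

lemma det_sum (P : PosStructure K) {ι : Type*} (s : Finset ι) (y : ι → K) :
    det P (∑ i ∈ s, y i) = ∏ i ∈ s, det P (y i) := by
  classical
  induction s using Finset.induction_on with
  | empty => rw [Finset.sum_empty, Finset.prod_empty, det_zero]
  | insert k s hk ih => rw [Finset.sum_insert hk, Finset.prod_insert hk, det_add, ih]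

lemma det_sum_eq_one (P : PosStructure K) {ι : Type*} (s : Finset ι) (y : ι → K)
    (h : ∀ i ∈ s, det P (y i) = 1) : det P (∑ i ∈ s, y i) = 1 := by
  rw [det_sum]
  exact Finset.prod_eq_one h

lemma det_of_pos (P : PosStructure K) {e : K} (he : e ∈ P.pos) : det P e = top P e := by
  have h1 : (1 : K) ∈ P.pos := (isLine_one P).1
  have h := det_mul_top P (P.add_mem e 1 he h1) h1 (show e = (e + 1) - 1 by ring)
  rw [top_add P he h1, top_one, mul_one, mul_one] at h
  exact h

lemma det_of_isLine (P : PosStructure K) {u : K} (hu : P.IsLine u) : det P u = u := by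
  rw [det_of_pos P hu.1, top_of_isLine P hu]

lemma map_det {K' : Type u} [CommRing K'] [LambdaOps K'] {P : PosStructure K}
    {P' : PosStructure K'} {f : K →+* K'} (hf : IsExtension P P' f) (x : K) :
    f (det P x) = det P' (f x) := by
  have hx := detNum_sub_detDen P x
  have h1 := det_mul_top P (detNum_mem P x) (detDen_mem P x) hx
  have h2 := det_mul_top P' (hf.pos_subset _ (detNum_mem P x)) (hf.pos_subset _ (detDen_mem P x))
    (show f x = f (detNum P x) - f (detDen P x) by rw [← map_sub, ← hx])
  have h3 := congrArg f h1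
  rw [map_mul, map_top hf, map_top hf] at h3
  have hu : IsUnit (top P' (f (detDen P x))) := isUnit_top P' (hf.pos_subset _ (detDen_mem P x))
  apply hu.mul_right_cancel
  rw [h3, h2]

/-! ### the determinant of a product -/

lemma top_mul_of_pos {P : PosStructure K} (hK : HasSplitting K P) {e e' : K}
    (he : e ∈ P.pos) (he' : e' ∈ P.pos) :
    top P (e * e') = top P e ^ (P.aug e').toNat * top P e' ^ (P.aug e).toNat := by
  obtain ⟨L, f, hf, s, s', hs, hs', hsum, hsum'⟩ := exists_split_two hK he he'
  have haug : P.aug e = (Multiset.card s : ℤ) := by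
    rw [← hf.aug_comp, ← hsum, aug_sum_lines _ s hs]
  have haug' : P.aug e' = (Multiset.card s' : ℤ) := by
    rw [← hf.aug_comp, ← hsum', aug_sum_lines _ s' hs']
  rw [haug, haug', Int.toNat_natCast, Int.toNat_natCast]
  obtain ⟨m, hm⟩ : ∃ m, Multiset.card s = m := ⟨_, rfl⟩
  obtain ⟨m', hm'⟩ : ∃ m', Multiset.card s' = m' := ⟨_, rfl⟩
  rw [hm, hm']
  obtain ⟨U, hU⟩ := exists_enum s m hm
  obtain ⟨V, hV⟩ := exists_enum s' m' hm'
  have hUline : ∀ k, L.posStr.IsLine (U k) := by
    intro k
    apply hs
    rw [← hU]
    exact Multiset.mem_map_of_mem U (Finset.mem_univ_val k)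
  have hVline : ∀ k, L.posStr.IsLine (V k) := by
    intro k
    apply hs'
    rw [← hV]
    exact Multiset.mem_map_of_mem V (Finset.mem_univ_val k)
  have hsU : f e = ∑ k, U k := by rw [← hsum, ← hU]; rfl
  have hsV : f e' = ∑ k, V k := by rw [← hsum', ← hV]; rfl
  apply hf.injective
  rw [map_mul, map_pow, map_pow, map_top hf, map_top hf, map_top hf, map_mul, hsU, hsV,
    top_sum_lines_fintype _ U hUline, top_sum_lines_fintype _ V hVline, Finset.sum_mul_sum,
    ← Finset.sum_product', Finset.univ_product_univ]
  rw [top_sum_lines_fintype L.posStr (fun p : Fin m × Fin m' =>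
    U p.1 * V p.2) (fun p => isLine_mul _ (hUline p.1) (hVline p.2))]
  rw [← Finset.univ_product_univ,
    Finset.prod_product' (Finset.univ : Finset (Fin m)) (Finset.univ : Finset (Fin m'))
      (fun a b => U a * V b)]
  simp only [Finset.prod_mul_distrib, Finset.prod_const, Finset.card_univ, Fintype.card_fin,
    Finset.prod_pow]

lemma det_mul_of_aug_zero {P : PosStructure K} (hK : HasSplitting K P) {a b : K}
    (ha : P.aug a = 0) (hb : P.aug b = 0) : det P (a * b) = 1 := by
  obtain ⟨e, f, he, hf, rfl⟩ := P.exists_sub a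
  obtain ⟨e', f', he', hf', rfl⟩ := P.exists_sub b
  have haug : P.aug e = P.aug f := by
    rw [map_sub] at ha
    exact sub_eq_zero.mp ha
  have haug' : P.aug e' = P.aug f' := by
    rw [map_sub] at hb
    exact sub_eq_zero.mp hb
  have h := det_mul_top P (P.add_mem _ _ (P.mul_mem _ _ he he') (P.mul_mem _ _ hf hf'))
    (P.add_mem _ _ (P.mul_mem _ _ he hf') (P.mul_mem _ _ hf he'))
    (show (e - f) * (e' - f') = (e * e' + f * f') - (e * f' + f * e') by ring)
  rw [top_add P (P.mul_mem _ _ he he') (P.mul_mem _ _ hf hf'),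
    top_add P (P.mul_mem _ _ he hf') (P.mul_mem _ _ hf he'),
    top_mul_of_pos hK he he', top_mul_of_pos hK hf hf', top_mul_of_pos hK he hf',
    top_mul_of_pos hK hf he', haug, haug'] at h
  have hu : IsUnit (top P e ^ (P.aug f').toNat * top P f' ^ (P.aug f).toNat *
      (top P f ^ (P.aug f').toNat * top P e' ^ (P.aug f).toNat)) :=
    (((isUnit_top P he).pow _).mul ((isUnit_top P hf').pow _)).mul
      (((isUnit_top P hf).pow _).mul ((isUnit_top P he').pow _))
  apply hu.mul_right_cancel
  rw [h]; ring

lemma det_prod_of_aug_zero {P : PosStructure K} (hK : HasSplitting K P) {ι : Type*}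
    (t : Finset ι) (l : ι → K) (hl : ∀ a ∈ t, P.aug (l a) = 0) (ht : 2 ≤ t.card) :
    det P (∏ a ∈ t, l a) = 1 := by
  classical
  obtain ⟨a0, ha0⟩ := Finset.card_pos.mp (show 0 < t.card by omega)
  have hcard : 1 ≤ (t.erase a0).card := by
    rw [Finset.card_erase_of_mem ha0]; omega
  obtain ⟨a1, ha1⟩ := Finset.card_pos.mp hcard
  rw [← Finset.mul_prod_erase t l ha0]
  apply det_mul_of_aug_zero hK (hl a0 ha0)
  rw [map_prod]
  exact Finset.prod_eq_zero ha1 (hl a1 (Finset.mem_of_mem_erase ha1))

lemma det_gamma_pos {P : PosStructure K} (hK : HasSplitting K P) {e : K} (he : e ∈ P.pos)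
    {r : ℕ} (hr : 2 ≤ r) : det P (gamma r (e - ((P.aug e).toNat : K))) = 1 := by
  obtain ⟨L, f, hf, hL, s, hs, hsum⟩ := exists_split' hK he
  have haug : P.aug e = (Multiset.card s : ℤ) := by
    rw [← hf.aug_comp, ← hsum, aug_sum_lines _ s hs]
  set m := (P.aug e).toNat with hm
  have hcard : Multiset.card s = m := by rw [hm, haug, Int.toNat_natCast]
  obtain ⟨U, hU⟩ := exists_enum s m hcard
  have hUline : ∀ k, L.posStr.IsLine (U k) := by
    intro k
    apply hs
    rw [← hU]
    exact Multiset.mem_map_of_mem U (Finset.mem_univ_val k)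
  have hfz : f (e - (m : K)) = ∑ k : Fin m, (U k - 1) := by
    rw [map_sub, map_natCast, ← hsum, ← hU, Finset.sum_sub_distrib]
    simp [List.sum_ofFn]
  apply hf.injective
  rw [map_det hf, map_gamma hf.isLambdaHom, hfz, gamma_sum_sub_one L.posStr U hUline, map_one]
  apply det_sum_eq_one
  intro t ht
  apply det_prod_of_aug_zero hL
  · intro a _
    rw [map_sub, (hUline a).2, map_one, sub_self]
  · rw [(Finset.mem_powersetCard.mp ht).2]; exact hr

lemma det_gamma {P : PosStructure K} (hK : HasSplitting K P) {x : K} (hx : P.aug x = 0)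
    {r : ℕ} (hr : 2 ≤ r) : det P (gamma r x) = 1 := by
  obtain ⟨e1, e2, he1, he2, rfl⟩ := P.exists_sub x
  have haug : P.aug e1 = P.aug e2 := by
    rw [map_sub] at hx
    exact sub_eq_zero.mp hx
  set z := e1 - ((P.aug e1).toNat : K) with hz
  set z' := e2 - ((P.aug e2).toNat : K) with hz'
  have hzaug : P.aug z = 0 := by rw [hz, map_sub, map_natCast, aug_toNat he1, sub_self]
  have hz'aug : P.aug z' = 0 := by rw [hz', map_sub, map_natCast, aug_toNat he2, sub_self]
  have hnegaug : P.aug (-z') = 0 := by rw [map_neg, hz'aug, neg_zero]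
  have hx2 : e1 - e2 = z + -z' := by
    rw [hz, hz', haug]; ring
  -- `γ^r(-z')`
  have hneg : det P (gamma r (-z')) = 1 := by
    have h := gamma_add r z' (-z')
    rw [add_neg_cancel, gamma_zero_right, if_neg (by omega), Finset.sum_range_succ',
      gamma_zero_left, one_mul, Nat.sub_zero] at h
    have h2 : gamma r (-z') = -∑ i ∈ range r, gamma (i + 1) z' * gamma (r - (i + 1)) (-z') :=
      eq_neg_of_add_eq_zero_right h.symm
    rw [h2]
    apply det_neg_eq_one
    apply det_sum_eq_one
    intro i hi
    have hir : i < r := Finset.mem_range.mp hi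
    by_cases hlast : i + 1 = r
    · rw [hlast, Nat.sub_self, gamma_zero_left, mul_one, hz']
      exact det_gamma_pos hK he2 hr
    · exact det_mul_of_aug_zero hK (aug_gamma_of_aug_zero hK hz'aug (by omega))
        (aug_gamma_of_aug_zero hK hnegaug (by omega))
  rw [hx2, gamma_add]
  apply det_sum_eq_one
  intro i hi
  have hir : i < r + 1 := Finset.mem_range.mp hi
  by_cases h0 : i = 0
  · subst h0
    rw [gamma_zero_left, one_mul, Nat.sub_zero]
    exact hneg
  by_cases hlast : i = r
  · subst hlast
    rw [Nat.sub_self, gamma_zero_left, mul_one, hz]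
    exact det_gamma_pos hK he1 hr
  · exact det_mul_of_aug_zero hK (aug_gamma_of_aug_zero hK hzaug (by omega))
      (aug_gamma_of_aug_zero hK hnegaug (by omega))

/-- products of `γ`'s: trivial, augmentation zero, determinant one according to the weight -/
lemma list_prod_cases {P : PosStructure K} (hK : HasSplitting K P) (l : List (ℕ × K))
    (hl : ∀ p ∈ l, P.aug p.2 = 0) :
    ((l.map Prod.fst).sum = 0 → (l.map fun p => gamma p.1 p.2).prod = 1) ∧
    (1 ≤ (l.map Prod.fst).sum → P.aug (l.map fun p => gamma p.1 p.2).prod = 0) ∧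
    (2 ≤ (l.map Prod.fst).sum → det P (l.map fun p => gamma p.1 p.2).prod = 1) := by
  induction l with
  | nil => simp
  | cons p l ih =>
    obtain ⟨ih0, ih1, ih2⟩ := ih fun q hq => hl q (List.mem_cons_of_mem p hq)
    have hp : P.aug p.2 = 0 := hl p List.mem_cons_self
    rw [List.map_cons, List.sum_cons, List.map_cons, List.prod_cons]
    by_cases hp0 : p.1 = 0
    · rw [hp0, gamma_zero_left, one_mul, zero_add]
      exact ⟨ih0, ih1, ih2⟩
    · have hp1 : 1 ≤ p.1 := by omega
      refine ⟨fun h => by omega, fun _ => ?_, fun h2 => ?_⟩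
      · rw [map_mul, aug_gamma_of_aug_zero hK hp hp1, zero_mul]
      · by_cases hR : (l.map Prod.fst).sum = 0
        · rw [ih0 hR, mul_one]
          exact det_gamma hK hp (by omega)
        · exact det_mul_of_aug_zero hK (aug_gamma_of_aug_zero hK hp hp1) (ih1 (by omega))

/-- the determinant is trivial on `F^2` -/
theorem det_eq_one_of_mem_filt_two {P : PosStructure K} (hK : HasSplitting K P) {y : K}
    (hy : y ∈ gammaFiltration P 2) : det P y = 1 := by
  rw [Groth.Agent.S3291.filt_pos P two_ne_zero] at hy
  induction hy using AddSubgroup.closure_induction with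
  | mem y hy =>
    obtain ⟨l, hl, hsum, rfl⟩ := hy
    exact (list_prod_cases hK l hl).2.2 hsum
  | zero => exact det_zero P
  | add y z _ _ hy hz => rw [det_add, hy, hz, mul_one]
  | neg y _ hy => exact det_neg_eq_one P hy

/-- `F^1` lies in the kernel of the augmentation -/
theorem aug_eq_zero_of_mem_filt_one {P : PosStructure K} (hK : HasSplitting K P) {y : K}
    (hy : y ∈ gammaFiltration P 1) : P.aug y = 0 := by
  rw [Groth.Agent.S3291.filt_pos P one_ne_zero] at hy
  induction hy using AddSubgroup.closure_induction with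
  | mem y hy =>
    obtain ⟨l, hl, hsum, rfl⟩ := hy
    exact (list_prod_cases hK l hl).2.1 hsum
  | zero => exact map_zero _
  | add y z _ _ hy hz => rw [map_add, hy, hz, add_zero]
  | neg y _ hy => rw [map_neg, hy, neg_zero]

/-! ### the determinant modulo `F^2` -/

/-- `λ^r(e) = ∑_{i ≤ r} γ^i(e - r)` for positive `e` of augmentation `r` -/
lemma top_eq_sum_gamma {P : PosStructure K} (hK : HasSplitting K P) {e : K} (he : e ∈ P.pos) :
    top P e = ∑ i ∈ range ((P.aug e).toNat + 1), gamma i (e - ((P.aug e).toNat : K)) := by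
  classical
  obtain ⟨L, f, hf, hL, s, hs, hsum⟩ := exists_split' hK he
  have haug : P.aug e = (Multiset.card s : ℤ) := by
    rw [← hf.aug_comp, ← hsum, aug_sum_lines _ s hs]
  set m := (P.aug e).toNat with hm
  have hcard : Multiset.card s = m := by rw [hm, haug, Int.toNat_natCast]
  obtain ⟨U, hU⟩ := exists_enum s m hcard
  have hUline : ∀ k, L.posStr.IsLine (U k) := by
    intro k
    apply hs
    rw [← hU]
    exact Multiset.mem_map_of_mem U (Finset.mem_univ_val k)
  have hfe : f e = ∑ k : Fin m, U k := by rw [← hsum, ← hU]; rfl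
  have hfz : f (e - (m : K)) = ∑ k : Fin m, (U k - 1) := by
    rw [map_sub, map_natCast, hfe, Finset.sum_sub_distrib]
    simp
  apply hf.injective
  rw [map_top hf, map_sum]
  simp only [map_gamma hf.isLambdaHom, hfz, gamma_sum_sub_one L.posStr U hUline]
  rw [hfe, top_sum_lines_fintype _ U hUline]
  have h1 : ∏ k, U k = ∏ k, (1 + (U k - 1)) := by simp
  rw [h1, Finset.prod_one_add, Finset.powerset_card_disjiUnion, Finset.sum_disjiUnion,
    Finset.card_univ, Fintype.card_fin]

/-- `det e - 1 ≡ e - ε(e)` modulo `F^2` -/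
lemma top_sub_one_sub_mem {P : PosStructure K} (hK : HasSplitting K P) {e : K} (he : e ∈ P.pos) :
    (top P e - 1) - (e - ((P.aug e).toNat : K)) ∈ gammaFiltration P 2 := by
  have haugz : P.aug (e - ((P.aug e).toNat : K)) = 0 := by
    rw [map_sub, map_natCast, aug_toNat he, sub_self]
  rw [top_eq_sum_gamma hK he]
  obtain ⟨r', hr'⟩ : ∃ r', (P.aug e).toNat = r' + 1 := ⟨(P.aug e).toNat - 1, by
    have := toNat_aug_pos he; omega⟩
  rw [hr'] at haugz ⊢
  rw [Finset.sum_range_succ', Finset.sum_range_succ', gamma_zero_left, gamma_one]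
  have h : ∑ k ∈ range r', gamma (k + 1 + 1) (e - ((r' + 1 : ℕ) : K)) + (e - ((r' + 1 : ℕ) : K)) + 1
      - 1 - (e - ((r' + 1 : ℕ) : K)) = ∑ k ∈ range r', gamma (k + 1 + 1) (e - ((r' + 1 : ℕ) : K)) := by
    ring
  rw [h]
  apply AddSubgroup.sum_mem
  intro k _
  exact filt_anti P (by omega) (gamma_mem_gammaFiltration P haugz (k + 1 + 1))

end Groth.Agent.Lib.Helper17.Lam
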