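import Groth.Agent.Lib.Helper17.KGrBasic
import Groth.Agent.Lib.Helper17.KGrPoly
import Groth.Agent.Lib.Helper17.KGrNewton
import Groth.Agent.Lib.Helper17.LambdaDet
import Mathlib.Algebra.Group.ForwardDiff

/-!
# The Chern character through Adams operations (helper17)

`ch(x) = ε(x) + Σ_{m=1}^d (-1)^(m+1)/m! · [Q_m(x - ε x)]_m`.
-/

set_option autoImplicit false

universe v

open Finset LambdaRing TensorProduct MvPolynomial
open Groth.Agent.Lib.Helper17.Lam Groth.Agent.Lib.Helper17.KGrB Groth.Agent.Lib.Helper17.KGrPoly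

namespace Groth.Agent.Lib.Helper17.KGrC

variable {K : Type v} [CommRing K] [LambdaOps K] (P : PosStructure K)

/-- the recursion between `γ` and `Q` in the shape of Mathlib's Newton identities -/
lemma gamma_recursion' (m : ℕ) (z : K) :
    (m : K) * gamma m z = ∑ a ∈ antidiagonal m with a.1 < m, gamma a.1 z * Qc P a.2 z := by
  rw [gamma_recursion P m z, ← Finset.Nat.sum_antidiagonal_swap]
  simp only [Prod.fst_swap, Prod.snd_swap]
  rw [Finset.sum_filter]
  apply Finset.sum_congr rfl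
  intro a ha
  rw [Finset.mem_antidiagonal] at ha
  split_ifs with h
  · rw [mul_comm]
  · have : a.2 = 0 := by omega
    rw [this, Qc_zero_left, zero_mul]

variable (d : ℕ)

/-- the values of the variables `Xv` at the Chern classes -/
lemma aeval_Xv_chern (x : K) (k : ℕ) (hk : k ≤ d) :
    aeval (fun i : Fin d => KGr.chern P (i.1 + 1) x) (Xv d k) =
      KGr.grK P (k : ℤ) (gamma k (x - (P.aug x : K))) := by
  rw [aeval_Xv]
  split_ifs with h0
  · subst h0
    rw [gamma_zero_left]
    exact (grK_zero_one P).symm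
  · unfold KGr.chern
    have : k - 1 + 1 = k := by omega
    simp only [this]

lemma natCast_mul_eq_smul (m : ℕ) (g : KGr.Gr P) : (m : KGr.Gr P) * g = (m : ℚ) • g := by
  rw [Nat.cast_smul_eq_nsmul, nsmul_eq_mul]

/-- the key identification: the Newton polynomial of the Chern classes is the class of `Q_m` -/
theorem aeval_Qw_chern (x : K) (m : ℕ) (h1 : 1 ≤ m) (hd : m ≤ d) :
    aeval (fun i : Fin d => KGr.chern P (i.1 + 1) x) (Qw d m) =
      KGr.grK P (m : ℤ) (Qc P m (x - (P.aug x : K))) := by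
  set z := x - (P.aug x : K) with hz
  have hz0 : P.aug z = 0 := by
    rw [hz, map_sub, map_intCast]; simp
  set c : Fin d → KGr.Gr P := fun i : Fin d => KGr.chern P (i.1 + 1) x with hc
  refine newton_unique d (fun k => aeval c (Xv d k)) (fun k => aeval c (Qw d k))
    (fun k => KGr.grK P (k : ℤ) (Qc P k z)) ?_ ?_ ?_ m h1 hd
  · simp [aeval_Xv]
  · intro k _ _
    exact aeval_recursion c k
  · intro k hk1 hkd
    rw [aeval_Xv_chern P d x k hkd, natCast_mul_eq_smul,
      ← grK_natCast_mul P (gamma_mem_gammaFiltration P hz0 k), gamma_recursion' P k z,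
      grK_sum]
    · apply Finset.sum_congr rfl
      intro a ha
      rw [Finset.mem_filter, Finset.mem_antidiagonal] at ha
      rw [aeval_Xv_chern P d x a.1 (by omega)]
      have h := grK_mul P (gamma_mem_gammaFiltration P hz0 a.1) (Qc_mem P hz0 a.2)
      rw [ha.1] at h
      exact h
    · intro a ha
      rw [Finset.mem_filter, Finset.mem_antidiagonal] at ha
      have h := filt_mul P (gamma_mem_gammaFiltration P hz0 a.1) (Qc_mem P hz0 a.2)
      rwa [ha.1] at h

/-- the Chern character in terms of Adams operations -/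
theorem chK_eq (x : K) :
    KGr.chK P d x = algebraMap ℚ (KGr.Gr P) (P.aug x : ℚ) +
      ∑ m ∈ Icc 1 d, ((-1 : ℚ) ^ (m + 1) / (m.factorial : ℚ)) •
        KGr.grK P (m : ℤ) (Qc P m (x - (P.aug x : K))) := by
  unfold KGr.chK
  rw [aeval_chPoly, map_sub]
  have : ∀ a b c e : KGr.Gr P, c = e → a - b + (b + c) = a + e := by
    intro a b c e h; rw [h]; ring
  apply this
  apply Finset.sum_congr rfl
  intro m hm
  rw [Finset.mem_Icc] at hm
  rw [aeval_Qw_chern P d x m hm.1 hm.2]

theorem chK_add (x y : K) : KGr.chK P d (x + y) = KGr.chK P d x + KGr.chK P d y := by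
  rw [chK_eq, chK_eq, chK_eq, map_add, Int.cast_add, map_add]
  have hz : ∀ w : K, P.aug (w - (P.aug w : K)) = 0 := by
    intro w; rw [map_sub, map_intCast]; simp
  have : ∀ m ∈ Icc 1 d, ((-1 : ℚ) ^ (m + 1) / (m.factorial : ℚ)) •
        KGr.grK P (m : ℤ) (Qc P m (x + y - ((P.aug x + P.aug y : ℤ) : K))) =
      ((-1 : ℚ) ^ (m + 1) / (m.factorial : ℚ)) • KGr.grK P (m : ℤ) (Qc P m (x - (P.aug x : K))) +
      ((-1 : ℚ) ^ (m + 1) / (m.factorial : ℚ)) • KGr.grK P (m : ℤ) (Qc P m (y - (P.aug y : K))) := by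
    intro m _
    rw [← smul_add, ← grK_add P (Qc_mem P (hz x) m) (Qc_mem P (hz y) m), ← Qc_add]
    congr 3
    push_cast
    ring
  rw [Finset.sum_congr rfl this, Finset.sum_add_distrib]
  ring

theorem chK_intCast (k : ℤ) : KGr.chK P d (k : K) = algebraMap ℚ (KGr.Gr P) (k : ℚ) := by
  have hk : P.aug (k : K) = k := by simp
  rw [chK_eq, hk, sub_self]
  simp only [Qc_zero_right, grK_zero, smul_zero, Finset.sum_const_zero, add_zero]

theorem chK_one : KGr.chK P d (1 : K) = 1 := by
  have h := chK_intCast P d 1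
  rw [Int.cast_one, Int.cast_one, map_one] at h
  exact h

/-! ### Alternating binomial sums -/

lemma sum_choose_pow (m n : ℕ) :
    ∑ k ∈ range (m + 1), (-1 : ℤ) ^ (k + 1) * (m.choose k : ℤ) * (k : ℤ) ^ n =
      (-1) ^ (m + 1) * ((fwdDiff (1 : ℤ))^[m] (fun r : ℤ => r ^ n) 0) := by
  rw [fwdDiff_iter_eq_sum_shift, Finset.mul_sum]
  apply Finset.sum_congr rfl
  intro k hk
  have hkm : k ≤ m := by have := Finset.mem_range.mp hk; omega
  have hs : (-1 : ℤ) ^ (k + 1) = (-1) ^ (m + 1) * (-1) ^ (m - k) := by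
    rw [← pow_add, show m + 1 + (m - k) = (k + 1) + 2 * (m - k) by omega, pow_add (-1 : ℤ) (k + 1),
      pow_mul]
    simp
  rw [hs]
  simp only [smul_eq_mul, zero_add, nsmul_eq_mul, mul_one]
  ring

lemma sum_choose_pow_self (n : ℕ) :
    ∑ k ∈ range (n + 1), (-1 : ℤ) ^ (k + 1) * (n.choose k : ℤ) * (k : ℤ) ^ n =
      (-1) ^ (n + 1) * (n.factorial : ℤ) := by
  rw [sum_choose_pow, fwdDiff_iter_eq_factorial]
  simp

lemma sum_choose_pow_lt {m n : ℕ} (h : n < m) :
    ∑ k ∈ range (m + 1), (-1 : ℤ) ^ (k + 1) * (m.choose k : ℤ) * (k : ℤ) ^ n = 0 := by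
  rw [sum_choose_pow, fwdDiff_iter_pow_eq_zero_of_lt h]
  simp

/-! ### The Chern character on the filtration -/

variable {P}

lemma Qc_mem_of_mem (hK : HasSplitting K P) {n : ℕ} {x : K} (hx : x ∈ gammaFiltration P n)
    (m : ℕ) : Qc P m x ∈ gammaFiltration P n := by
  rw [Qc_eq_adams]
  apply sum_mem
  intro j _
  split_ifs
  · exact zero_mem _
  · exact filt_smul P _ (adams_mem_gammaFiltration hK j n hx)

lemma Qc_sub_mem (hK : HasSplitting K P) {n : ℕ} (hn : 1 ≤ n) {x : K}
    (hx : x ∈ gammaFiltration P n) :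
    Qc P n x - (((-1) ^ (n + 1) * (n.factorial : ℤ) : ℤ) : K) * x ∈ gammaFiltration P (n + 1) := by
  rw [← sum_choose_pow_self, Qc_eq_adams]
  push_cast
  rw [Finset.sum_mul, ← Finset.sum_sub_distrib]
  apply sum_mem
  intro j _
  split_ifs with hj
  · subst hj
    have : ((0 : ℕ) : K) ^ n = 0 := by
      rw [Nat.cast_zero, zero_pow (by omega)]
    rw [this]
    simp
  · have h := filt_smul P ((-1 : K) ^ (j + 1) * (n.choose j : K)) (adams_sub_pow_mul_mem hK j n hx)
    have e : (-1 : K) ^ (j + 1) * (n.choose j : K) * adams P j x -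
        (-1) ^ (j + 1) * (n.choose j : K) * (j : K) ^ n * x =
        (-1 : K) ^ (j + 1) * (n.choose j : K) * (adams P j x - (j : K) ^ n * x) := by ring
    rw [e]
    exact h

/-- the Chern character of an element of `F^n`: leading term `[x]_n` -/
theorem chK_of_mem (hK : HasSplitting K P) {n : ℕ} (h1 : 1 ≤ n) (hnd : n ≤ d) {x : K}
    (hx : x ∈ gammaFiltration P n) :
    KGr.chK P d x = KGr.grK P (n : ℤ) x +
      ∑ m ∈ Icc (n + 1) d, ((-1 : ℚ) ^ (m + 1) / (m.factorial : ℚ)) •
        KGr.grK P (m : ℤ) (Qc P m x) := by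
  have haug : P.aug x = 0 := aug_eq_zero_of_mem_filt_one hK (filt_anti P h1 hx)
  rw [chK_eq, haug, Int.cast_zero, Int.cast_zero, map_zero, sub_zero, zero_add]
  have hsub : Icc n d ⊆ Icc 1 d := Finset.Icc_subset_Icc_left h1
  rw [← Finset.sum_subset hsub]
  · have hins : insert n (Icc (n + 1) d) = Icc n d := by
      ext a; simp only [Finset.mem_insert, Finset.mem_Icc]; omega
    rw [← hins, Finset.sum_insert (by simp)]
    congr 1
    have h2 := Qc_sub_mem hK h1 hx
    have h3 : Qc P n x = (Qc P n x - (((-1) ^ (n + 1) * (n.factorial : ℤ) : ℤ) : K) * x) +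
        (((-1) ^ (n + 1) * (n.factorial : ℤ) : ℤ) : K) * x := by ring
    rw [h3, grK_add P (filt_anti P (Nat.le_succ n) h2) (filt_smul P _ hx),
      grK_eq_zero_of_mem_succ P h2, zero_add, grK_intCast_mul P hx, smul_smul]
    have : ((-1 : ℚ) ^ (n + 1) / (n.factorial : ℚ)) *
        (((-1) ^ (n + 1) * (n.factorial : ℤ) : ℤ) : ℚ) = 1 := by
      have hf : (n.factorial : ℚ) ≠ 0 := by positivity
      push_cast
      field_simp
      rw [← pow_mul, mul_comm, pow_mul]
      simp
    rw [this, one_smul]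
  · intro m hm hm'
    rw [Finset.mem_Icc] at hm hm'
    have hlt : m < n := by
      by_contra h
      exact hm' ⟨by omega, hm.2⟩
    rw [grK_eq_zero_of_mem_succ P (filt_anti P (by omega) (Qc_mem_of_mem hK hx m)), smul_zero]

end Groth.Agent.Lib.Helper17.KGrC
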