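import Groth.Agent.Lib.Helper17.LambdaAdamsFilt
import Mathlib.LinearAlgebra.Eigenspace.Basic
import Mathlib.LinearAlgebra.TensorProduct.Tower

/-!
# Eigenspaces of Adams operations on `ℚ ⊗ K` (helper17)
-/

set_option autoImplicit false

universe u

open Finset LambdaRing TensorProduct

namespace Groth.Agent.Lib.Helper17.Lam

variable {K : Type u} [CommRing K] [LambdaOps K]

/-- the `ℚ`-span of the image of `F^n` -/
def QF (P : PosStructure K) (n : ℕ) : Submodule ℚ (ℚ ⊗[ℤ] K) :=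
  Submodule.span ℚ ((fun x : K => (1 : ℚ) ⊗ₜ[ℤ] x) '' (gammaFiltration P n : Set K))

lemma QF_anti (P : PosStructure K) {a b : ℕ} (h : b ≤ a) : QF P a ≤ QF P b :=
  Submodule.span_mono (Set.image_mono (filt_anti P h))

lemma one_tmul_mem_QF (P : PosStructure K) {n : ℕ} {x : K} (hx : x ∈ gammaFiltration P n) :
    (1 : ℚ) ⊗ₜ[ℤ] x ∈ QF P n :=
  Submodule.subset_span ⟨x, hx, rfl⟩

lemma tmul_mem_QF (P : PosStructure K) {n : ℕ} (q : ℚ) {x : K} (hx : x ∈ gammaFiltration P n) :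
    q ⊗ₜ[ℤ] x ∈ QF P n := by
  have h : q ⊗ₜ[ℤ] x = q • ((1 : ℚ) ⊗ₜ[ℤ] x) := by
    rw [TensorProduct.smul_tmul', smul_eq_mul, mul_one]
  rw [h]
  exact Submodule.smul_mem _ _ (one_tmul_mem_QF P hx)

lemma QF_zero (P : PosStructure K) : QF P 0 = ⊤ := by
  rw [eq_top_iff]
  rintro v -
  induction v using TensorProduct.induction_on with
  | zero => exact Submodule.zero_mem _
  | tmul q x =>
    apply tmul_mem_QF
    rw [Groth.Agent.S3291.filt_zero]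
    exact AddSubgroup.mem_top _
  | add v w hv hw => exact Submodule.add_mem _ hv hw

lemma QF_eq_bot (P : PosStructure K) {n : ℕ} (hd : gammaFiltration P n = ⊥) : QF P n = ⊥ := by
  unfold QF
  rw [hd, AddSubgroup.coe_bot, Set.image_singleton, TensorProduct.tmul_zero,
    Submodule.span_zero_singleton]

lemma natCast_smul_one_tmul (c : ℕ) (x : K) :
    (c : ℚ) • ((1 : ℚ) ⊗ₜ[ℤ] x) = (1 : ℚ) ⊗ₜ[ℤ] ((c : K) * x) := by
  have h : (c : K) * x = (c : ℤ) • x := by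
    rw [zsmul_eq_mul]; push_cast; rfl
  rw [h, TensorProduct.tmul_smul, ← Int.cast_smul_eq_zsmul ℚ (c : ℤ)]
  push_cast
  rfl

section Psi

variable {P : PosStructure K} (hK : HasSplitting K P) {j : ℕ}
  {Ψ : ℚ ⊗[ℤ] K →ₗ[ℚ] ℚ ⊗[ℤ] K}
  (hΨ : ∀ x : K, Ψ (1 ⊗ₜ[ℤ] x) = 1 ⊗ₜ[ℤ] adams P j x)

include hK hΨ

lemma Psi_sub_mem (n : ℕ) {v : ℚ ⊗[ℤ] K} (hv : v ∈ QF P n) :
    Ψ v - ((j : ℚ) ^ n) • v ∈ QF P (n + 1) := by
  induction hv using Submodule.span_induction with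
  | mem v hv =>
    obtain ⟨x, hx, rfl⟩ := hv
    have h : ((j : ℚ) ^ n) • ((1 : ℚ) ⊗ₜ[ℤ] x) = (1 : ℚ) ⊗ₜ[ℤ] ((j : K) ^ n * x) := by
      rw [← Nat.cast_pow, natCast_smul_one_tmul, Nat.cast_pow]
    rw [hΨ, h, ← TensorProduct.tmul_sub]
    exact one_tmul_mem_QF P (adams_sub_pow_mul_mem hK j n hx)
  | zero =>
    rw [map_zero, smul_zero, sub_zero]
    exact Submodule.zero_mem _
  | add v w _ _ hv hw =>
    have h : Ψ (v + w) - ((j : ℚ) ^ n) • (v + w) =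
        (Ψ v - ((j : ℚ) ^ n) • v) + (Ψ w - ((j : ℚ) ^ n) • w) := by
      rw [map_add, smul_add]; abel
    rw [h]
    exact Submodule.add_mem _ hv hw
  | smul c v _ hv =>
    have h : Ψ (c • v) - ((j : ℚ) ^ n) • (c • v) = c • (Ψ v - ((j : ℚ) ^ n) • v) := by
      rw [map_smul, smul_sub, smul_comm]
    rw [h]
    exact Submodule.smul_mem _ _ hv

lemma Psi_mem (n : ℕ) {v : ℚ ⊗[ℤ] K} (hv : v ∈ QF P n) : Ψ v ∈ QF P n := by
  have h : Ψ v = (Ψ v - ((j : ℚ) ^ n) • v) + ((j : ℚ) ^ n) • v := by abel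
  rw [h]
  exact Submodule.add_mem _ (QF_anti P (Nat.le_succ n) (Psi_sub_mem hK hΨ n hv))
    (Submodule.smul_mem _ _ hv)

omit hK hΨ in
lemma pow_sub_pow_ne_zero' (hj : 2 ≤ j) {m k : ℕ} (hmk : m ≠ k) :
    ((j : ℚ) ^ m - (j : ℚ) ^ k) ≠ 0 := by
  intro h
  apply hmk
  have h2 : ((j ^ m : ℕ) : ℚ) = ((j ^ k : ℕ) : ℚ) := by
    push_cast
    exact sub_eq_zero.mp h
  exact Nat.pow_right_injective hj (Nat.cast_injective h2)

lemma mem_QF_succ_of_eigen (hj : 2 ≤ j) {m k : ℕ} (hmk : m ≠ k) {v : ℚ ⊗[ℤ] K}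
    (hv : Ψ v = ((j : ℚ) ^ m) • v) (hvk : v ∈ QF P k) : v ∈ QF P (k + 1) := by
  have h1 := Psi_sub_mem hK hΨ k hvk
  rw [hv, ← sub_smul] at h1
  have h2 := Submodule.smul_mem _ ((j : ℚ) ^ m - (j : ℚ) ^ k)⁻¹ h1
  rwa [smul_smul, inv_mul_cancel₀ (pow_sub_pow_ne_zero' hj hmk), one_smul] at h2

lemma eigen_le_QF (hj : 2 ≤ j) (m : ℕ) :
    Module.End.eigenspace Ψ ((j : ℚ) ^ m) ≤ QF P m := by
  intro v hv
  rw [Module.End.mem_eigenspace_iff] at hv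
  have key : ∀ k, k ≤ m → v ∈ QF P k := by
    intro k
    induction k with
    | zero => intro _; rw [QF_zero]; exact Submodule.mem_top
    | succ k ih =>
      intro hk
      exact mem_QF_succ_of_eigen hK hΨ hj (by omega) hv (ih (by omega))
  exact key m le_rfl

lemma eigen_inf_QF (hj : 2 ≤ j) {d : ℕ} (hd : gammaFiltration P (d + 1) = ⊥) (m : ℕ) :
    Module.End.eigenspace Ψ ((j : ℚ) ^ m) ⊓ QF P (m + 1) = ⊥ := by
  rw [eq_bot_iff]
  rintro v ⟨hv1, hv2⟩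
  rw [SetLike.mem_coe, Module.End.mem_eigenspace_iff] at hv1
  have key : ∀ t, v ∈ QF P (m + 1 + t) := by
    intro t
    induction t with
    | zero => exact hv2
    | succ t ih => exact mem_QF_succ_of_eigen hK hΨ hj (k := m + 1 + t) (by omega) hv1 ih
  have h := QF_anti P (show d + 1 ≤ m + 1 + d by omega) (key d)
  rwa [QF_eq_bot P hd] at h

/-- the sum of the eigenspaces for `j^k`, `k ≥ m` -/
def W (Ψ : ℚ ⊗[ℤ] K →ₗ[ℚ] ℚ ⊗[ℤ] K) (j m : ℕ) : Submodule ℚ (ℚ ⊗[ℤ] K) :=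
  ⨆ k : ℕ, Module.End.eigenspace Ψ ((j : ℚ) ^ (m + k))

omit hK hΨ in
lemma W_succ (m : ℕ) : W Ψ j m = Module.End.eigenspace Ψ ((j : ℚ) ^ m) ⊔ W Ψ j (m + 1) := by
  unfold W
  rw [← sup_iSup_nat_succ, Nat.add_zero]
  congr 1
  apply iSup_congr
  intro k
  rw [show m + (k + 1) = m + 1 + k by ring]

lemma W_le_QF (hj : 2 ≤ j) (m : ℕ) : W Ψ j m ≤ QF P m := by
  unfold W
  apply iSup_le
  intro k
  exact (eigen_le_QF hK hΨ hj (m + k)).trans (QF_anti P (Nat.le_add_right m k))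

omit hK hΨ in
lemma exists_resolvent (hj : 2 ≤ j) (m : ℕ) {w : ℚ ⊗[ℤ] K} (hw : w ∈ W Ψ j (m + 1)) :
    ∃ u ∈ W Ψ j (m + 1), Ψ u - ((j : ℚ) ^ m) • u = w := by
  refine Submodule.iSup_induction (fun k => Module.End.eigenspace Ψ ((j : ℚ) ^ (m + 1 + k)))
    (motive := fun w => ∃ u ∈ W Ψ j (m + 1), Ψ u - ((j : ℚ) ^ m) • u = w) hw ?_ ?_ ?_
  · intro k x hx
    have hx' := Module.End.mem_eigenspace_iff.mp hx
    have hne := pow_sub_pow_ne_zero' hj (show m + 1 + k ≠ m by omega)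
    refine ⟨((j : ℚ) ^ (m + 1 + k) - (j : ℚ) ^ m)⁻¹ • x, ?_, ?_⟩
    · exact Submodule.smul_mem _ _
        (le_iSup (fun k => Module.End.eigenspace Ψ ((j : ℚ) ^ (m + 1 + k))) k hx)
    · rw [map_smul, hx', smul_comm ((j : ℚ) ^ m), ← smul_sub, ← sub_smul, smul_smul,
        inv_mul_cancel₀ hne, one_smul]
  · exact ⟨0, Submodule.zero_mem _, by simp⟩
  · rintro x y ⟨u1, hu1, h1⟩ ⟨u2, hu2, h2⟩
    refine ⟨u1 + u2, Submodule.add_mem _ hu1 hu2, ?_⟩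
    rw [map_add, smul_add, ← h1, ← h2]; abel

lemma QF_le_W (hj : 2 ≤ j) {d : ℕ} (hd : gammaFiltration P (d + 1) = ⊥) (m : ℕ) :
    QF P m ≤ W Ψ j m := by
  have key : ∀ t m, d + 1 ≤ m + t → QF P m ≤ W Ψ j m := by
    intro t
    induction t with
    | zero =>
      intro m hm
      have h := QF_anti P (show d + 1 ≤ m by omega)
      rw [QF_eq_bot P hd] at h
      exact h.trans bot_le
    | succ t ih =>
      intro m hm
      have ih' := ih (m + 1) (by omega)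
      intro v hv
      have hw := ih' (Psi_sub_mem hK hΨ m hv)
      obtain ⟨u, hu, huw⟩ := exists_resolvent hj m hw
      rw [W_succ]
      have hvu : v - u ∈ Module.End.eigenspace Ψ ((j : ℚ) ^ m) := by
        rw [Module.End.mem_eigenspace_iff, map_sub, smul_sub]
        have h3 : Ψ v - Ψ u = (Ψ v - ((j : ℚ) ^ m) • v) - (Ψ u - ((j : ℚ) ^ m) • u) +
            (((j : ℚ) ^ m) • v - ((j : ℚ) ^ m) • u) := by abel
        rw [h3, huw, sub_self, zero_add]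
      have h4 : v = (v - u) + u := by abel
      rw [h4]
      exact Submodule.add_mem_sup hvu hu
  exact key (d + 1) m (by omega)

lemma QF_eq_W (hj : 2 ≤ j) {d : ℕ} (hd : gammaFiltration P (d + 1) = ⊥) (m : ℕ) :
    QF P m = W Ψ j m :=
  le_antisymm (QF_le_W hK hΨ hj hd m) (W_le_QF hK hΨ hj m)

/-- `ℚF^m = V(m) ⊕ ℚF^{m+1}` (S8131) -/
theorem eigen_sup_QF (hj : 2 ≤ j) {d : ℕ} (hd : gammaFiltration P (d + 1) = ⊥) (m : ℕ) :
    Module.End.eigenspace Ψ ((j : ℚ) ^ m) ⊔ QF P (m + 1) = QF P m := by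
  rw [QF_eq_W hK hΨ hj hd m, QF_eq_W hK hΨ hj hd (m + 1), ← W_succ]

/-- `ℚ ⊗ K` is the sum of the eigenspaces `V(m)`, `m ≤ d` -/
theorem iSup_eigen_eq_top (hj : 2 ≤ j) {d : ℕ} (hd : gammaFiltration P (d + 1) = ⊥) :
    (⨆ m ∈ range (d + 1), Module.End.eigenspace Ψ ((j : ℚ) ^ m)) = ⊤ := by
  rw [eq_top_iff, ← QF_zero P, QF_eq_W hK hΨ hj hd 0]
  unfold W
  apply iSup_le
  intro k
  rw [Nat.zero_add]
  by_cases hk : k < d + 1
  · exact le_biSup (fun m => Module.End.eigenspace Ψ ((j : ℚ) ^ m)) (Finset.mem_range.mpr hk)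
  · have h := (eigen_le_QF hK hΨ hj k).trans (QF_anti P (show d + 1 ≤ k by omega))
    rw [QF_eq_bot P hd] at h
    exact h.trans bot_le

end Psi

end Groth.Agent.Lib.Helper17.Lam
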