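import Groth.Agent.Lib.Helper17.KGrChern
import Groth.Agent.Lib.Helper17.LambdaEigen

/-!
# The Chern character `ℚ ⊗ K → ℚGr K` is bijective (helper17)
-/

set_option autoImplicit false

universe v

open Finset LambdaRing TensorProduct
open Groth.Agent.Lib.Helper17.Lam Groth.Agent.Lib.Helper17.KGrB Groth.Agent.Lib.Helper17.KGrC

namespace Groth.Agent.Lib.Helper17.KGrI

variable {K : Type v} [CommRing K] [LambdaOps K] (P : PosStructure K) (d : ℕ)

/-- the Chern character as a `ℤ`-linear map -/
noncomputable def chZ : K →ₗ[ℤ] KGr.Gr P :=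
  (AddMonoidHom.mk' (KGr.chK P d) (chK_add P d)).toIntLinearMap

/-- the `ℚ`-linear extension of the Chern character -/
noncomputable def Phi : ℚ ⊗[ℤ] K →ₗ[ℚ] KGr.Gr P :=
  (TensorProduct.isBaseChange ℤ K ℚ).lift (chZ P d)

lemma Phi_one_tmul (x : K) : Phi P d ((1 : ℚ) ⊗ₜ[ℤ] x) = KGr.chK P d x := by
  have h := (TensorProduct.isBaseChange ℤ K ℚ).lift_eq (chZ P d) x
  exact h

lemma Phi_tmul (q : ℚ) (x : K) : Phi P d (q ⊗ₜ[ℤ] x) = q • KGr.chK P d x := by
  have : q ⊗ₜ[ℤ] x = q • ((1 : ℚ) ⊗ₜ[ℤ] x) := by
    rw [TensorProduct.smul_tmul', smul_eq_mul, mul_one]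
  rw [this, map_smul, Phi_one_tmul]

/-- elements of `ℚF^n` have the form `(1/N) ⊗ x`, `x ∈ F^n` -/
lemma exists_rep {n : ℕ} {a : ℚ ⊗[ℤ] K} (ha : a ∈ QF P n) :
    ∃ (N : ℕ) (x : K), 1 ≤ N ∧ x ∈ gammaFiltration P n ∧ a = ((1 : ℚ) / (N : ℚ)) ⊗ₜ[ℤ] x := by
  unfold QF at ha
  induction ha using Submodule.span_induction with
  | mem a ha =>
    obtain ⟨x, hx, rfl⟩ := ha
    exact ⟨1, x, le_rfl, hx, by simp⟩
  | zero => exact ⟨1, 0, le_rfl, zero_mem _, by simp⟩
  | add a b _ _ ha hb =>
    obtain ⟨N, x, hN, hx, rfl⟩ := ha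
    obtain ⟨M, y, hM, hy, rfl⟩ := hb
    refine ⟨N * M, (M : K) * x + (N : K) * y, Nat.one_le_iff_ne_zero.mpr (by positivity),
      add_mem (filt_smul P _ hx) (filt_smul P _ hy), ?_⟩
    have hN0 : (N : ℚ) ≠ 0 := by positivity
    have hM0 : (M : ℚ) ≠ 0 := by positivity
    rw [TensorProduct.tmul_add]
    have e1 : (M : K) * x = (M : ℤ) • x := by rw [zsmul_eq_mul]; push_cast; rfl
    have e2 : (N : K) * y = (N : ℤ) • y := by rw [zsmul_eq_mul]; push_cast; rfl
    rw [e1, e2, TensorProduct.tmul_smul, TensorProduct.tmul_smul, TensorProduct.smul_tmul',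
      TensorProduct.smul_tmul']
    congr 2
    · rw [zsmul_eq_mul]; push_cast; field_simp
    · rw [zsmul_eq_mul]; push_cast; field_simp
  | smul q a _ ha =>
    obtain ⟨N, x, hN, hx, rfl⟩ := ha
    refine ⟨q.den * N, (q.num : K) * x, Nat.one_le_iff_ne_zero.mpr
      (Nat.mul_ne_zero q.den_ne_zero (by omega)), filt_smul P _ hx, ?_⟩
    have hN0 : (N : ℚ) ≠ 0 := by positivity
    have hq0 : (q.den : ℚ) ≠ 0 := by exact_mod_cast q.den_ne_zero
    have e1 : (q.num : K) * x = (q.num : ℤ) • x := by rw [zsmul_eq_mul]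
    rw [e1, TensorProduct.tmul_smul, TensorProduct.smul_tmul', TensorProduct.smul_tmul']
    congr 1
    rw [zsmul_eq_mul, smul_eq_mul]
    push_cast
    have hq : q = (q.num : ℚ) / (q.den : ℚ) := (Rat.num_div_den q).symm
    generalize (q.num : ℚ) = a at hq ⊢
    generalize (q.den : ℚ) = b at hq hq0 ⊢
    subst hq
    field_simp

/-- a relation with leading term `[x₀]_n` forces `x₀` to be torsion modulo `F^{n+1}` -/
lemma leading_torsion {n : ℕ} (hn : n ≤ d) {x0 : K} (hx0 : x0 ∈ gammaFiltration P n) (w : ℕ → K)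
    (hw : ∀ m, w m ∈ gammaFiltration P m)
    (h : KGr.grK P (n : ℤ) x0 + ∑ m ∈ Icc (n + 1) d, ((-1 : ℚ) ^ (m + 1) / (m.factorial : ℚ)) •
      KGr.grK P (m : ℤ) (w m) = 0) :
    ∃ M : ℕ, 1 ≤ M ∧ (M : K) * x0 ∈ gammaFiltration P (n + 1) := by
  set y : ℕ → K := fun m => if m < n then 0 else if m = n then (d.factorial : K) * x0 else
    (((-1) ^ (m + 1) * ((d.factorial / m.factorial : ℕ) : ℤ) : ℤ) : K) * w m with hy
  have hymem : ∀ m, y m ∈ gammaFiltration P m := by
    intro m
    rw [hy]
    simp only []
    split_ifs with h1 h2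
    · exact zero_mem _
    · subst h2; exact filt_smul P _ hx0
    · exact filt_smul P _ (hw m)
  have hsum : ∑ m ∈ range (d + 1), KGr.grK P (m : ℤ) (y m) = 0 := by
    have hsub : Icc n d ⊆ range (d + 1) := by
      intro a ha; rw [Finset.mem_Icc] at ha; exact Finset.mem_range.mpr (by omega)
    rw [← Finset.sum_subset hsub]
    · have hins : insert n (Icc (n + 1) d) = Icc n d := by
        ext a; simp only [Finset.mem_insert, Finset.mem_Icc]; omega
      rw [← hins, Finset.sum_insert (by simp)]
      have e0 : KGr.grK P (n : ℤ) (y n) = (d.factorial : ℚ) • KGr.grK P (n : ℤ) x0 := by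
        rw [hy]; simp only [lt_irrefl, if_false, if_true]
        exact grK_natCast_mul P hx0 _
      have e1 : ∀ m ∈ Icc (n + 1) d, KGr.grK P (m : ℤ) (y m) =
          (d.factorial : ℚ) • (((-1 : ℚ) ^ (m + 1) / (m.factorial : ℚ)) •
            KGr.grK P (m : ℤ) (w m)) := by
        intro m hm
        rw [Finset.mem_Icc] at hm
        rw [hy]; simp only []
        rw [if_neg (by omega), if_neg (by omega), grK_intCast_mul P (hw m), smul_smul]
        congr 1
        have hdvd : m.factorial ∣ d.factorial := Nat.factorial_dvd_factorial hm.2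
        have hf : (m.factorial : ℚ) ≠ 0 := by positivity
        rw [Int.cast_mul, Int.cast_pow, Int.cast_neg, Int.cast_one, Int.cast_natCast,
          Nat.cast_div hdvd hf]
        field_simp
      rw [e0, Finset.sum_congr rfl e1, ← Finset.smul_sum, ← smul_add, h, smul_zero]
    · intro m hm hm'
      rw [Finset.mem_range] at hm
      rw [Finset.mem_Icc] at hm'
      have hlt : m < n := by
        by_contra h'
        exact hm' ⟨by omega, by omega⟩
      rw [hy]; simp only []
      rw [if_pos hlt, grK_zero]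
  obtain ⟨M, hM, hMy⟩ := exists_mul_mem_of_sum_eq_zero P d y hymem hsum n hn
  refine ⟨M * d.factorial, Nat.one_le_iff_ne_zero.mpr
    (Nat.mul_ne_zero (by omega) (Nat.factorial_ne_zero d)), ?_⟩
  have : y n = (d.factorial : K) * x0 := by
    rw [hy]; simp only [lt_irrefl, if_false, if_true]
  rw [this] at hMy
  push_cast
  rwa [mul_assoc]

variable {P}

/-- surjectivity of the Chern character -/
theorem Phi_surjective (hK : HasSplitting K P) (hd : gammaFiltration P (d + 1) = ⊥) :
    Function.Surjective (Phi P d) := by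
  rw [← LinearMap.range_eq_top, eq_top_iff, ← span_classes P, Submodule.span_le]
  have key : ∀ k n : ℕ, 1 ≤ n → d + 1 ≤ n + k → ∀ x : K, x ∈ gammaFiltration P n →
      KGr.grK P (n : ℤ) x ∈ LinearMap.range (Phi P d) := by
    intro k
    induction k with
    | zero =>
      intro n _ hn x hx
      have : x = 0 := by
        have := filt_anti P (show d + 1 ≤ n by omega) hx
        rwa [hd, AddSubgroup.mem_bot] at this
      rw [this, grK_zero]
      exact zero_mem _
    | succ k ih =>
      intro n h1 hn x hx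
      by_cases hnd : n ≤ d
      · have haug : P.aug x = 0 := aug_eq_zero_of_mem_filt_one hK (filt_anti P h1 hx)
        have h := chK_of_mem d hK h1 hnd hx
        have h2 : KGr.grK P (n : ℤ) x = KGr.chK P d x -
            ∑ m ∈ Icc (n + 1) d, ((-1 : ℚ) ^ (m + 1) / (m.factorial : ℚ)) •
              KGr.grK P (m : ℤ) (Qc P m x) := by
          rw [h]; ring
        rw [h2]
        apply sub_mem
        · exact ⟨(1 : ℚ) ⊗ₜ[ℤ] x, Phi_one_tmul P d x⟩
        · apply sum_mem
          intro m hm
          rw [Finset.mem_Icc] at hm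
          exact Submodule.smul_mem _ _ (ih m (by omega) (by omega) _ (Qc_mem P haug m))
      · have : x = 0 := by
          have := filt_anti P (show d + 1 ≤ n by omega) hx
          rwa [hd, AddSubgroup.mem_bot] at this
        rw [this, grK_zero]
        exact zero_mem _
  rintro g ⟨n, x, hx, rfl⟩
  rcases Nat.eq_zero_or_pos n with rfl | hn
  · have hz : P.aug (x - (P.aug x : K)) = 0 := by
      rw [map_sub, map_intCast]; simp
    have h1 : x = ((P.aug x : ℤ) : K) + (x - (P.aug x : K)) := by ring
    have hmem0 : ∀ w : K, w ∈ gammaFiltration P 0 := by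
      intro w; rw [filt_zero_eq_top]; exact AddSubgroup.mem_top _
    rw [h1, grK_add P (hmem0 _) (hmem0 _),
      grK_eq_zero_of_mem_succ P (mem_gammaFiltration_one_of_aug_eq_zero P hz), add_zero,
      grK_zero_intCast, ← chK_intCast P d]
    exact ⟨(1 : ℚ) ⊗ₜ[ℤ] ((P.aug x : ℤ) : K), Phi_one_tmul P d _⟩
  · exact key (d + 1) n hn (by omega) x hx

/-- injectivity of the Chern character -/
theorem Phi_injective (hK : HasSplitting K P) (hd : gammaFiltration P (d + 1) = ⊥) :
    Function.Injective (Phi P d) := by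
  rw [← LinearMap.ker_eq_bot, eq_bot_iff]
  intro a ha
  rw [LinearMap.mem_ker] at ha
  have key : ∀ n, a ∈ QF P n := by
    intro n
    induction n with
    | zero => rw [QF_zero]; exact Submodule.mem_top
    | succ n ih =>
      by_cases hnd : n ≤ d
      · obtain ⟨N, x, hN, hx, rfl⟩ := exists_rep P ih
        rw [Phi_tmul] at ha
        have hN0 : ((1 : ℚ) / (N : ℚ)) ≠ 0 := by positivity
        have hch : KGr.chK P d x = 0 := by
          rcases smul_eq_zero.mp ha with h | h
          · exact absurd h hN0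
          · exact h
        have hM : ∃ M : ℕ, 1 ≤ M ∧ (M : K) * x ∈ gammaFiltration P (n + 1) := by
          rcases Nat.eq_zero_or_pos n with rfl | hn
          · -- degree zero: the augmentation vanishes
            have hz : P.aug (x - (P.aug x : K)) = 0 := by
              rw [map_sub, map_intCast]; simp
            have h0 : ((P.aug x : ℤ) : K) ∈ gammaFiltration P 0 := by
              rw [filt_zero_eq_top]; exact AddSubgroup.mem_top _
            have h := chK_eq P d x
            rw [hch, ← grK_zero_intCast] at h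
            obtain ⟨M, hM, hMx⟩ := leading_torsion P d (Nat.zero_le d) h0
              (fun m => Qc P m (x - (P.aug x : K))) (fun m => Qc_mem P hz m) h.symm
            have h2 := aug_eq_zero_of_mem_filt_one hK hMx
            rw [map_mul, map_natCast, map_intCast] at h2
            have h3 : P.aug x = 0 := by
              rcases mul_eq_zero.mp h2 with h' | h'
              · exfalso; have : (M : ℤ) ≠ 0 := by exact_mod_cast (by omega : M ≠ 0)
                exact this h'
              · simpa using h'
            exact ⟨1, le_rfl, by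
              rw [Nat.cast_one, one_mul]
              exact mem_gammaFiltration_one_of_aug_eq_zero P h3⟩
          · have haug : P.aug x = 0 := aug_eq_zero_of_mem_filt_one hK (filt_anti P hn hx)
            have h := chK_of_mem d hK hn hnd hx
            rw [hch] at h
            exact leading_torsion P d hnd hx (fun m => Qc P m x) (fun m => Qc_mem P haug m) h.symm
        obtain ⟨M, hM1, hMx⟩ := hM
        have hM0 : (M : ℚ) ≠ 0 := by positivity
        have hN0' : (N : ℚ) ≠ 0 := by positivity
        have e : ((1 : ℚ) / (N : ℚ)) ⊗ₜ[ℤ] x = ((1 : ℚ) / ((N : ℚ) * M)) ⊗ₜ[ℤ] ((M : K) * x) := by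
          have e1 : (M : K) * x = (M : ℤ) • x := by rw [zsmul_eq_mul]; push_cast; rfl
          rw [e1, TensorProduct.tmul_smul, TensorProduct.smul_tmul']
          congr 1
          rw [zsmul_eq_mul]
          push_cast
          field_simp
        rw [e]
        exact tmul_mem_QF P _ hMx
      · have h := QF_anti P (show d + 1 ≤ n by omega) ih
        rw [QF_eq_bot P hd] at h
        rw [(Submodule.mem_bot ℚ).mp h]
        exact zero_mem _
  have h := key (d + 1)
  rwa [QF_eq_bot P hd] at h

theorem Phi_bijective (hK : HasSplitting K P) (hd : gammaFiltration P (d + 1) = ⊥) :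
    Function.Bijective (Phi P d) :=
  ⟨Phi_injective d hK hd, Phi_surjective d hK hd⟩

end Groth.Agent.Lib.Helper17.KGrI
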