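import Groth.Agent.Lib.Helper17.KGrIso

/-!
# The Chern character is multiplicative (helper17)
-/

set_option autoImplicit false

universe v

open Finset LambdaRing TensorProduct
open Groth.Agent.Lib.Helper17.Lam Groth.Agent.Lib.Helper17.KGrB Groth.Agent.Lib.Helper17.KGrC
  Groth.Agent.Lib.Helper17.KGrI

namespace Groth.Agent.Lib.Helper17.KGrM

variable {K : Type v} [CommRing K] [LambdaOps K] (P : PosStructure K)

/-- the Adams operation on `ℚ ⊗ K` -/
noncomputable def Psi (k : ℕ) : ℚ ⊗[ℤ] K →ₗ[ℚ] ℚ ⊗[ℤ] K :=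
  LinearMap.baseChange ℚ (adamsAddHom P k).toIntLinearMap

lemma Psi_tmul (k : ℕ) (q : ℚ) (x : K) : Psi P k (q ⊗ₜ[ℤ] x) = q ⊗ₜ[ℤ] adams P k x := by
  unfold Psi
  rw [LinearMap.baseChange_tmul]
  rfl

lemma Psi_one_tmul (k : ℕ) (x : K) : Psi P k ((1 : ℚ) ⊗ₜ[ℤ] x) = (1 : ℚ) ⊗ₜ[ℤ] adams P k x :=
  Psi_tmul P k 1 x

variable {P}

lemma Psi_mul (hK : HasSplitting K P) (k : ℕ) (a b : ℚ ⊗[ℤ] K) :
    Psi P k (a * b) = Psi P k a * Psi P k b := by
  induction a using TensorProduct.induction_on with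
  | zero => simp
  | tmul q x =>
    induction b using TensorProduct.induction_on with
    | zero => simp
    | tmul r y =>
      rw [Algebra.TensorProduct.tmul_mul_tmul, Psi_tmul, Psi_tmul, Psi_tmul,
        Algebra.TensorProduct.tmul_mul_tmul, adams_mul hK]
    | add b c hb hc => rw [mul_add, map_add, hb, hc, map_add, mul_add]
  | add a c ha hc => rw [add_mul, map_add, ha, hc, map_add, add_mul]

lemma Psi_comm (hK : HasSplitting K P) (j k : ℕ) (a : ℚ ⊗[ℤ] K) :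
    Psi P j (Psi P k a) = Psi P k (Psi P j a) := by
  induction a using TensorProduct.induction_on with
  | zero => simp
  | tmul q x =>
    rw [Psi_tmul, Psi_tmul, Psi_tmul, Psi_tmul, adams_adams hK, adams_adams hK, mul_comm]
  | add a c ha hc => simp only [map_add, ha, hc]

/-- the eigenspace `V(n)` of `ψ^2` for the eigenvalue `2^n` -/
noncomputable def V (P : PosStructure K) (n : ℕ) : Submodule ℚ (ℚ ⊗[ℤ] K) :=
  Module.End.eigenspace (Psi P 2) (((2 : ℕ) : ℚ) ^ n)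

/-- an eigenvector of `ψ^2` of weight `n` is an eigenvector of every `ψ^k` -/
lemma Psi_eigen (hK : HasSplitting K P) {d : ℕ} (hd : gammaFiltration P (d + 1) = ⊥) {n : ℕ}
    {a : ℚ ⊗[ℤ] K} (ha : a ∈ V P n) (k : ℕ) : Psi P k a = ((k : ℚ) ^ n) • a := by
  have ha' := ha
  unfold V at ha'
  rw [Module.End.mem_eigenspace_iff] at ha'
  have haQ : a ∈ QF P n := eigen_le_QF hK (Psi_one_tmul P 2) le_rfl n ha
  have h1 : Psi P k a - ((k : ℚ) ^ n) • a ∈ QF P (n + 1) :=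
    Psi_sub_mem hK (Psi_one_tmul P k) n haQ
  have h2 : Psi P k a - ((k : ℚ) ^ n) • a ∈ V P n := by
    unfold V
    rw [Module.End.mem_eigenspace_iff, map_sub, map_smul, Psi_comm hK, ha', map_smul, smul_sub,
      smul_comm]
  have h3 : Psi P k a - ((k : ℚ) ^ n) • a ∈ V P n ⊓ QF P (n + 1) := ⟨h2, h1⟩
  unfold V at h3
  rw [eigen_inf_QF hK (Psi_one_tmul P 2) le_rfl hd n, Submodule.mem_bot] at h3
  exact sub_eq_zero.mp h3

lemma V_mul (hK : HasSplitting K P) {i j : ℕ} {a b : ℚ ⊗[ℤ] K} (ha : a ∈ V P i) (hb : b ∈ V P j) :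
    a * b ∈ V P (i + j) := by
  unfold V at *
  rw [Module.End.mem_eigenspace_iff] at *
  rw [Psi_mul hK, ha, hb, smul_mul_smul_comm, pow_add]

/-- the inclusion `K → ℚ ⊗ K` -/
noncomputable def iota : K →ₐ[ℤ] ℚ ⊗[ℤ] K := Algebra.TensorProduct.includeRight

lemma iota_apply (x : K) : iota x = (1 : ℚ) ⊗ₜ[ℤ] x := rfl

lemma intCast_mul_eq_smul (c : ℤ) (t : ℚ ⊗[ℤ] K) : (c : ℚ ⊗[ℤ] K) * t = (c : ℚ) • t := by
  rw [Int.cast_smul_eq_zsmul, zsmul_eq_mul]

/-- `Q_m` kills eigenvectors of weight `n < m` up to torsion -/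
lemma iota_Qc_eigen (hK : HasSplitting K P) {d : ℕ} (hd : gammaFiltration P (d + 1) = ⊥)
    {n : ℕ} (hn : 1 ≤ n) {x : K} (hV : iota x ∈ V P n) {m : ℕ} (hm : n < m) :
    iota (Qc P m x) = 0 := by
  rw [Qc_eq_adams, map_sum]
  have h1 : ∀ j ∈ range (m + 1),
      iota (if j = 0 then 0 else (-1 : K) ^ (j + 1) * (m.choose j : K) * adams P j x) =
      (((-1 : ℤ) ^ (j + 1) * (m.choose j : ℤ) * (j : ℤ) ^ n : ℤ) : ℚ) • iota x := by
    intro j _
    split_ifs with hj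
    · subst hj
      rw [map_zero]
      have : ((0 : ℕ) : ℤ) ^ n = 0 := by rw [Nat.cast_zero, zero_pow (by omega)]
      rw [this, mul_zero, Int.cast_zero, zero_smul]
    · have e : iota (adams P j x) = ((j : ℚ) ^ n) • iota x := by
        rw [iota_apply, ← Psi_one_tmul, ← iota_apply]
        exact Psi_eigen hK hd hV j
      have e2 : (-1 : K) ^ (j + 1) * (m.choose j : K) =
          (((-1 : ℤ) ^ (j + 1) * (m.choose j : ℤ) : ℤ) : K) := by push_cast; ring
      rw [e2, map_mul, map_intCast, e, intCast_mul_eq_smul, smul_smul]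
      congr 1
      push_cast
      ring
  rw [Finset.sum_congr rfl h1, ← Finset.sum_smul, ← Int.cast_sum, sum_choose_pow_lt hm,
    Int.cast_zero, zero_smul]

variable (d : ℕ)

lemma chK_zero : KGr.chK P d (0 : K) = 0 := by
  have h := chK_add P d (0 : K) 0
  rw [add_zero] at h
  exact left_eq_add.mp h

/-- the Chern character of an eigenvector is its class in its own degree -/
theorem Phi_eigen (hK : HasSplitting K P) (hd : gammaFiltration P (d + 1) = ⊥)
    {n : ℕ} (hn : 1 ≤ n) {N : ℕ} {x : K} (hx : x ∈ gammaFiltration P n)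
    (hV : iota x ∈ V P n) :
    Phi P d (((1 : ℚ) / (N : ℚ)) ⊗ₜ[ℤ] x) = ((1 : ℚ) / (N : ℚ)) • KGr.grK P (n : ℤ) x := by
  rw [Phi_tmul]
  congr 1
  by_cases hnd : n ≤ d
  · rw [chK_of_mem d hK hn hnd hx]
    have hz : ∀ m ∈ Icc (n + 1) d, ((-1 : ℚ) ^ (m + 1) / (m.factorial : ℚ)) •
        KGr.grK P (m : ℤ) (Qc P m x) = 0 := by
      intro m hm
      rw [Finset.mem_Icc] at hm
      have haug : P.aug x = 0 := aug_eq_zero_of_mem_filt_one hK (filt_anti P hn hx)
      have h0 := iota_Qc_eigen hK hd hn hV (show n < m by omega)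
      rw [iota_apply, one_tmul_eq_zero_iff] at h0
      obtain ⟨M, hM, hMq⟩ := h0
      rw [grK_eq_zero_of_torsion P (Qc_mem P haug m) hM (by rwa [nsmul_eq_mul] at hMq), smul_zero]
    rw [Finset.sum_eq_zero hz, add_zero]
  · have : x = 0 := by
      have := filt_anti P (show d + 1 ≤ n by omega) hx
      rwa [hd, AddSubgroup.mem_bot] at this
    rw [this, chK_zero, grK_zero]

lemma Phi_one : Phi P d (1 : ℚ ⊗[ℤ] K) = 1 := by
  rw [Algebra.TensorProduct.one_def, Phi_one_tmul, chK_one]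

/-- multiplicativity on eigenvectors of positive weight -/
lemma Phi_mul_eigen (hK : HasSplitting K P) (hd : gammaFiltration P (d + 1) = ⊥)
    {i j : ℕ} (hi : 1 ≤ i) (hj : 1 ≤ j) {a b : ℚ ⊗[ℤ] K} (ha : a ∈ V P i) (hb : b ∈ V P j) :
    Phi P d (a * b) = Phi P d a * Phi P d b := by
  have haQ : a ∈ QF P i := eigen_le_QF hK (Psi_one_tmul P 2) le_rfl i ha
  have hbQ : b ∈ QF P j := eigen_le_QF hK (Psi_one_tmul P 2) le_rfl j hb
  obtain ⟨N, x, hN, hx, rfl⟩ := exists_rep P haQ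
  obtain ⟨M, y, hM, hy, rfl⟩ := exists_rep P hbQ
  have hN0 : (N : ℚ) ≠ 0 := by positivity
  have hM0 : (M : ℚ) ≠ 0 := by positivity
  have hVx : iota x ∈ V P i := by
    have h := Submodule.smul_mem _ (N : ℚ) ha
    rwa [TensorProduct.smul_tmul', smul_eq_mul, mul_one_div_cancel hN0] at h
  have hVy : iota y ∈ V P j := by
    have h := Submodule.smul_mem _ (M : ℚ) hb
    rwa [TensorProduct.smul_tmul', smul_eq_mul, mul_one_div_cancel hM0] at h
  have hVxy : iota (x * y) ∈ V P (i + j) := by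
    rw [map_mul]; exact V_mul hK hVx hVy
  have e : ((1 : ℚ) / (N : ℚ)) * ((1 : ℚ) / (M : ℚ)) = (1 : ℚ) / ((N * M : ℕ) : ℚ) := by
    push_cast; field_simp
  rw [Algebra.TensorProduct.tmul_mul_tmul, e,
    Phi_eigen d hK hd (show 1 ≤ i + j by omega) (filt_mul P hx hy) hVxy,
    Phi_eigen d hK hd hi hx hVx, Phi_eigen d hK hd hj hy hVy, grK_mul P hx hy,
    smul_mul_smul_comm, e]

/-- multiplicativity on `ℚF^1` -/
lemma Phi_mul_QF_one (hK : HasSplitting K P) (hd : gammaFiltration P (d + 1) = ⊥)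
    {a b : ℚ ⊗[ℤ] K} (ha : a ∈ QF P 1) (hb : b ∈ QF P 1) :
    Phi P d (a * b) = Phi P d a * Phi P d b := by
  rw [QF_eq_W hK (Psi_one_tmul P 2) le_rfl hd 1] at ha hb
  unfold W at ha hb
  induction ha using Submodule.iSup_induction' with
  | mem k a ha =>
    induction hb using Submodule.iSup_induction' with
    | mem l b hb => exact Phi_mul_eigen d hK hd (by omega) (by omega) ha hb
    | zero => simp
    | add b c _ _ hb hc => rw [mul_add, map_add, hb, hc, map_add, mul_add]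
  | zero => simp
  | add a c _ _ ha hc => rw [add_mul, map_add, ha, hc, map_add, add_mul]

/-- every element of `ℚ ⊗ K` is a rational number plus an element of `ℚF^1` -/
lemma exists_decomp (a : ℚ ⊗[ℤ] K) :
    ∃ (q : ℚ) (a' : ℚ ⊗[ℤ] K), a' ∈ QF P 1 ∧ a = q • (1 : ℚ ⊗[ℤ] K) + a' := by
  have ha : a ∈ QF P 0 := by rw [QF_zero]; exact Submodule.mem_top
  obtain ⟨N, x, hN, -, rfl⟩ := exists_rep P ha
  have hz : P.aug (x - (P.aug x : K)) = 0 := by
    rw [map_sub, map_intCast]; simp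
  refine ⟨((1 : ℚ) / (N : ℚ)) * (P.aug x : ℚ), ((1 : ℚ) / (N : ℚ)) ⊗ₜ[ℤ] (x - (P.aug x : K)),
    tmul_mem_QF P _ (mem_gammaFiltration_one_of_aug_eq_zero P hz), ?_⟩
  rw [TensorProduct.tmul_sub, Algebra.TensorProduct.one_def, TensorProduct.smul_tmul', smul_eq_mul]
  have e : ((P.aug x : ℤ) : K) = (P.aug x : ℤ) • (1 : K) := by rw [zsmul_eq_mul, mul_one]
  rw [e, TensorProduct.tmul_smul, TensorProduct.smul_tmul', zsmul_eq_mul]
  have e2 : ((P.aug x : ℤ) : ℚ) * ((1 : ℚ) / (N : ℚ)) = (1 : ℚ) / (N : ℚ) * ((P.aug x : ℤ) : ℚ) :=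
    mul_comm _ _
  rw [e2, mul_one]
  abel

/-- the Chern character is multiplicative -/
theorem Phi_mul (hK : HasSplitting K P) (hd : gammaFiltration P (d + 1) = ⊥)
    (a b : ℚ ⊗[ℤ] K) : Phi P d (a * b) = Phi P d a * Phi P d b := by
  obtain ⟨q, a', ha', rfl⟩ := exists_decomp (P := P) a
  obtain ⟨r, b', hb', rfl⟩ := exists_decomp (P := P) b
  have e : (q • (1 : ℚ ⊗[ℤ] K) + a') * (r • (1 : ℚ ⊗[ℤ] K) + b') =
      (q * r) • (1 : ℚ ⊗[ℤ] K) + q • b' + r • a' + a' * b' := by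
    rw [add_mul, mul_add, mul_add, smul_mul_smul_comm, one_mul, smul_one_mul, mul_smul_one]
    abel
  rw [e]
  simp only [map_add, map_smul, Phi_one, Phi_mul_QF_one d hK hd ha' hb']
  rw [add_mul, mul_add, mul_add, smul_mul_smul_comm, one_mul, smul_one_mul, mul_smul_one]
  abel

/-- `ch(xy) = ch(x) ch(y)` -/
theorem chK_mul (hK : HasSplitting K P) (hd : gammaFiltration P (d + 1) = ⊥) (x y : K) :
    KGr.chK P d (x * y) = KGr.chK P d x * KGr.chK P d y := by
  rw [← Phi_one_tmul, ← Phi_one_tmul, ← Phi_one_tmul, ← Phi_mul d hK hd,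
    Algebra.TensorProduct.tmul_mul_tmul, one_mul]

end Groth.Agent.Lib.Helper17.KGrM
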