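import Groth.Agent.Lib.Helper17.KGrToddPoly
import Groth.Agent.Lib.Helper17.KGrMul

/-!
# The Todd class identity `td(e) · ch(γ^m(e - m)) = c_m(e) · ch(λ^m e)` (helper17)
-/

set_option autoImplicit false

universe v

open Finset LambdaRing TensorProduct MvPolynomial
open Groth.Agent.Lib.Helper17.Lam Groth.Agent.Lib.Helper17.KGrB Groth.Agent.Lib.Helper17.KGrPoly
  Groth.Agent.Lib.Helper17.KGrC Groth.Agent.Lib.Helper17.KGrM

namespace Groth.Agent.Lib.Helper17.KGrT

variable {K : Type v} [CommRing K] [LambdaOps K] {P : PosStructure K}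

/-- the Chern character as a ring homomorphism -/
noncomputable def chHom (hK : HasSplitting K P) (d : ℕ) (hd : gammaFiltration P (d + 1) = ⊥) :
    K →+* KGr.Gr P where
  toFun := KGr.chK P d
  map_one' := chK_one P d
  map_mul' := chK_mul d hK hd
  map_zero' := chK_zero d
  map_add' := chK_add P d

lemma chHom_apply (hK : HasSplitting K P) (d : ℕ) (hd : gammaFiltration P (d + 1) = ⊥) (x : K) :
    chHom hK d hd x = KGr.chK P d x := rfl

/-! ### Newton's identity between `λ` and `ψ` -/

theorem lam_newton (P : PosStructure K) (n : ℕ) (x : K) :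
    (n : K) * LambdaOps.lam n x =
      ∑ a ∈ antidiagonal n with a.1 < n,
        (-1) ^ (a.2 + 1) * LambdaOps.lam a.1 x * adams P a.2 x := by
  have h := congrArg (PowerSeries.coeff n) (X_mul_derivative_lamSeries P x)
  rw [PowerSeries.coeff_mul (φ := SS P x)] at h
  have hl : PowerSeries.coeff n (PowerSeries.X * PowerSeries.derivative K (lamSeries x)) =
      (n : K) * LambdaOps.lam n x := by
    rcases n with _ | k
    · simp
    · rw [PowerSeries.coeff_succ_X_mul, PowerSeries.coeff_derivative, coeff_lamSeries]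
      push_cast
      ring
  rw [hl] at h
  rw [h, ← Finset.Nat.sum_antidiagonal_swap]
  simp only [Prod.fst_swap, Prod.snd_swap]
  rw [Finset.sum_filter]
  apply Finset.sum_congr rfl
  intro a ha
  rw [Finset.mem_antidiagonal] at ha
  rw [coeff_SS, coeff_lamSeries]
  split_ifs with h1 h2 h2
  · omega
  · rw [zero_mul]
  · ring
  · omega

/-! ### Classes of products -/

lemma grK_pow (P : PosStructure K) {a : ℕ} {x : K} (hx : x ∈ gammaFiltration P a) (n : ℕ) :
    KGr.grK P ((a * n : ℕ) : ℤ) (x ^ n) = KGr.grK P (a : ℤ) x ^ n := by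
  induction n with
  | zero =>
    rw [pow_zero, pow_zero, Nat.mul_zero]
    exact grK_zero_one P
  | succ n ih =>
    rw [pow_succ, pow_succ, Nat.mul_succ, grK_mul P (filt_pow P hx n) hx, ih]

lemma grK_prod (P : PosStructure K) {ι : Type*} (s : Finset ι) (g : ι → K) (w : ι → ℕ)
    (h : ∀ k ∈ s, g k ∈ gammaFiltration P (w k)) :
    KGr.grK P ((∑ k ∈ s, w k : ℕ) : ℤ) (∏ k ∈ s, g k) = ∏ k ∈ s, KGr.grK P (w k : ℤ) (g k) := by
  classical
  induction s using Finset.induction_on with
  | empty =>
    rw [Finset.prod_empty, Finset.sum_empty, Finset.prod_empty]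
    exact grK_zero_one P
  | insert k s hk ih =>
    rw [Finset.prod_insert hk, Finset.sum_insert hk, Finset.prod_insert hk,
      grK_mul P (h k (Finset.mem_insert_self k s))
        (filt_prod P s g w fun k' hk' => h k' (Finset.mem_insert_of_mem hk')),
      ih fun k' hk' => h k' (Finset.mem_insert_of_mem hk')]

/-- monomials of weight `> d` in the Chern classes vanish -/
theorem chern_monomial_eq_zero (P : PosStructure K) {d : ℕ} (hd : gammaFiltration P (d + 1) = ⊥)
    (x : K) (m : ℕ) (α : Fin m →₀ ℕ) (hα : d < wt α) :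
    ∏ k : Fin m, KGr.chern P (k.1 + 1) x ^ α k = 0 := by
  set z := x - (P.aug x : K) with hz
  have hz0 : P.aug z = 0 := by
    rw [hz, map_sub, map_intCast]; simp
  have h1 : ∀ k : Fin m, KGr.chern P (k.1 + 1) x ^ α k =
      KGr.grK P (((k.1 + 1) * α k : ℕ) : ℤ) (gamma (k.1 + 1) z ^ α k) := by
    intro k
    unfold KGr.chern
    rw [grK_pow P (gamma_mem_gammaFiltration P hz0 _)]
  simp only [h1]
  rw [← grK_prod P Finset.univ (fun k : Fin m => gamma (k.1 + 1) z ^ α k)
    (fun k : Fin m => (k.1 + 1) * α k)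
    (fun k _ => filt_pow P (gamma_mem_gammaFiltration P hz0 _) _)]
  have h2 : ∏ k : Fin m, gamma (k.1 + 1) z ^ α k ∈ gammaFiltration P (d + 1) := by
    apply filt_anti P _ (filt_prod P Finset.univ (fun k : Fin m => gamma (k.1 + 1) z ^ α k)
      (fun k : Fin m => (k.1 + 1) * α k)
      (fun k _ => filt_pow P (gamma_mem_gammaFiltration P hz0 _) _))
    unfold wt at hα
    omega
  rw [hd, AddSubgroup.mem_bot] at h2
  rw [h2, grK_zero]

/-! ### Newton polynomials of the Chern classes, in `m` variables -/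

lemma aeval_Xv_chern' (P : PosStructure K) (x : K) (m : ℕ)
    (hγ : ∀ k, m < k → gamma k (x - (P.aug x : K)) = 0) (k : ℕ) :
    aeval (fun i : Fin m => KGr.chern P (i.1 + 1) x) (Xv m k) =
      KGr.grK P (k : ℤ) (gamma k (x - (P.aug x : K))) := by
  by_cases hk : k ≤ m
  · exact aeval_Xv_chern P m x k hk
  · rw [aeval_Xv, dif_neg (by omega), dif_neg hk, hγ k (by omega), grK_zero]

theorem aeval_Qw_chern' (P : PosStructure K) (x : K) (m : ℕ)
    (hγ : ∀ k, m < k → gamma k (x - (P.aug x : K)) = 0) (n : ℕ) (h1 : 1 ≤ n) :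
    aeval (fun i : Fin m => KGr.chern P (i.1 + 1) x) (Qw m n) =
      KGr.grK P (n : ℤ) (Qc P n (x - (P.aug x : K))) := by
  set z := x - (P.aug x : K) with hz
  have hz0 : P.aug z = 0 := by
    rw [hz, map_sub, map_intCast]; simp
  set c : Fin m → KGr.Gr P := fun i : Fin m => KGr.chern P (i.1 + 1) x with hc
  refine newton_unique n (fun k => aeval c (Xv m k)) (fun k => aeval c (Qw m k))
    (fun k => KGr.grK P (k : ℤ) (Qc P k z)) ?_ ?_ ?_ n h1 le_rfl
  · simp [aeval_Xv]
  · intro k _ _
    exact aeval_recursion c k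
  · intro k hk1 hkd
    change (k : KGr.Gr P) * aeval c (Xv m k) = _
    rw [aeval_Xv_chern' P x m hγ k, natCast_mul_eq_smul,
      ← grK_natCast_mul P (gamma_mem_gammaFiltration P hz0 k), gamma_recursion' P k z,
      grK_sum]
    · apply Finset.sum_congr rfl
      intro a ha
      rw [Finset.mem_filter, Finset.mem_antidiagonal] at ha
      change _ = aeval c (Xv m a.1) * _
      rw [aeval_Xv_chern' P x m hγ a.1]
      have h := grK_mul P (gamma_mem_gammaFiltration P hz0 a.1) (Qc_mem P hz0 a.2)
      rw [ha.1] at h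
      exact h
    · intro a ha
      rw [Finset.mem_filter, Finset.mem_antidiagonal] at ha
      have h := filt_mul P (gamma_mem_gammaFiltration P hz0 a.1) (Qc_mem P hz0 a.2)
      rwa [ha.1] at h

/-! ### The Chern character of `ψ^k e` -/

lemma Qc_adams (hK : HasSplitting K P) (k n : ℕ) (w : K) :
    Qc P n (adams P k w) = adams P k (Qc P n w) := by
  rw [Qc_eq_adams, Qc_eq_adams]
  change _ = adamsRingHom hK k _
  rw [map_sum]
  apply Finset.sum_congr rfl
  intro j _
  split_ifs with hj
  · rw [map_zero]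
  · rw [map_mul, map_mul, map_pow, map_neg, map_one, map_natCast]
    congr 1
    change adams P j (adams P k w) = adams P k (adams P j w)
    rw [adams_adams hK, adams_adams hK, mul_comm]

lemma grK_adams (hK : HasSplitting K P) (k n : ℕ) {w : K} (hw : w ∈ gammaFiltration P n) :
    KGr.grK P (n : ℤ) (adams P k w) = ((k : ℚ) ^ n) • KGr.grK P (n : ℤ) w := by
  have h := adams_sub_pow_mul_mem hK k n hw
  have e1 : adams P k w = (adams P k w - (k : K) ^ n * w) + ((k ^ n : ℕ) : K) * w := by
    push_cast; ring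
  rw [e1, grK_add P (filt_anti P (Nat.le_succ n) h) (filt_smul P _ hw),
    grK_eq_zero_of_mem_succ P h, zero_add, grK_natCast_mul P hw]
  push_cast
  rfl

/-- `ch(ψ^k x)` as a polynomial in the Chern classes of `x` -/
theorem chK_adams (hK : HasSplitting K P) (d : ℕ) (x : K) (m : ℕ) (hm : P.aug x = (m : ℤ))
    (hγ : ∀ k, m < k → gamma k (x - (P.aug x : K)) = 0) (k : ℕ) :
    KGr.chK P d (adams P k x) =
      aeval (fun i : Fin m => KGr.chern P (i.1 + 1) x) (PsiX m d k) := by
  set z := x - (P.aug x : K) with hz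
  have hz0 : P.aug z = 0 := by
    rw [hz, map_sub, map_intCast]; simp
  have h1 : adams P k x - ((P.aug (adams P k x) : ℤ) : K) = adams P k z := by
    rw [aug_adams hK, hz, adams_sub]
    congr 1
    exact (map_intCast (adamsRingHom hK k) (P.aug x)).symm
  rw [chK_eq, h1, aug_adams hK]
  unfold PsiX
  rw [map_add, aeval_C, map_sum, hm]
  congr 1
  apply Finset.sum_congr rfl
  intro n hn
  rw [Finset.mem_Icc] at hn
  rw [map_mul, aeval_C, aeval_Qw_chern' P x m hγ n hn.1, Qc_adams hK, grK_adams hK k n (Qc_mem P hz0 n),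
    smul_smul]
  have e2 : ((-1 : ℚ) ^ (n + 1) / (n.factorial : ℚ) * (k : ℚ) ^ n) =
      (k : ℚ) ^ n * (-1) ^ (n + 1) / (n.factorial : ℚ) := by ring
  rw [e2]
  exact Algebra.smul_def ((k : ℚ) ^ n * (-1) ^ (n + 1) / (n.factorial : ℚ))
    (KGr.grK P (n : ℤ) (Qc P n z))

/-! ### The main identity -/

theorem todd_main (hK : HasSplitting K P) (d : ℕ) (hd : gammaFiltration P (d + 1) = ⊥) {e : K}
    (he : e ∈ P.pos) (hmd : (P.aug e).toNat ≤ d) :
    KGr.tdK P d e * KGr.chK P d (gamma (P.aug e).toNat (e - ((P.aug e).toNat : K))) =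
      KGr.chern P (P.aug e).toNat e * KGr.chK P d (LambdaOps.lam (P.aug e).toNat e) := by
  set m := (P.aug e).toNat with hm
  have hme : P.aug e = (m : ℤ) := (aug_toNat he).symm
  have hmeK : ((P.aug e : ℤ) : K) = (m : K) := by
    rw [hme, Int.cast_natCast]
  have hγ : ∀ k, m < k → gamma k (e - (P.aug e : K)) = 0 := by
    intro k hk
    rw [Groth.Agent.S8649.result K (lam_one_eq_zero P) k, hmeK]
    have e1 : e - (m : K) + (k : K) - 1 = e + ((k - 1 - m : ℕ) : K) := by
      rw [Nat.cast_sub (by omega), Nat.cast_sub (by omega)]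
      push_cast
      ring
    rw [e1]
    have hpos : e + ((k - 1 - m : ℕ) : K) ∈ P.pos := by
      rcases Nat.eq_zero_or_pos (k - 1 - m) with h0 | h0
      · rw [h0, Nat.cast_zero, add_zero]; exact he
      · exact P.add_mem _ _ he (P.natCast_mem _ h0)
    apply P.lam_eq_zero _ hpos
    rw [map_add, map_natCast, hme]
    omega
  set c : Fin m → KGr.Gr P := fun i => KGr.chern P (i.1 + 1) e with hc
  have htd : KGr.tdK P d e = aeval c (rho m d (KGr.toddPoly d)) := by
    unfold KGr.tdK
    rw [← aeval_rho hmd (fun i : Fin d => KGr.chern P (i.1 + 1) e) _ (KGr.toddPoly d)]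
    · rfl
    · intro i hi
      unfold KGr.chern
      rw [hγ (i.1 + 1) (by omega), grK_zero]
  have hmain := todd_abstract m d c (chern_monomial_eq_zero P hd e m)
    (fun n => chHom hK d hd (LambdaOps.lam n e)) (fun k => chHom hK d hd (adams P k e))
    (by
      change chHom hK d hd (LambdaOps.lam 0 e) = 1
      rw [LambdaOps.lam_zero, map_one])
    (by
      intro n _
      have h := congrArg (chHom hK d hd) (lam_newton P n e)
      rw [map_mul, map_natCast, map_sum] at h
      change (n : KGr.Gr P) * chHom hK d hd (LambdaOps.lam n e) = _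
      rw [h]
      apply Finset.sum_congr rfl
      intro a _
      rw [map_mul, map_mul, map_pow, map_neg, map_one])
    (by
      intro k _
      exact chK_adams hK d e m hme hγ k)
    (rho m d (KGr.toddPoly d)) (E_rho_toddPoly hmd)
  rw [htd]
  have hy : gamma m (e - (m : K)) =
      (-1 : K) ^ m * ∑ i ∈ range (m + 1), (-1 : K) ^ i * LambdaOps.lam i e := by
    rw [lamAlt_eq_gamma P e m, ← mul_assoc, ← mul_pow]
    norm_num
  have hchy : KGr.chK P d (gamma m (e - (m : K))) =
      (-1) ^ m * ∑ i ∈ range (m + 1), (-1) ^ i * chHom hK d hd (LambdaOps.lam i e) := by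
    rw [hy, ← chHom_apply hK d hd, map_mul, map_pow, map_neg, map_one, map_sum]
    congr 1
    apply Finset.sum_congr rfl
    intro i _
    rw [map_mul, map_pow, map_neg, map_one]
  rw [hchy, hmain, aeval_Xv_chern' P e m hγ m]
  rfl

end Groth.Agent.Lib.Helper17.KGrT
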