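import Groth.Agent.Lib.Helper17.LambdaBott
import Mathlib.RingTheory.MvPolynomial.Ideal
import Mathlib.RingTheory.MvPolynomial.Homogeneous

/-!
# Symmetric polynomials with weights (helper17)

A symmetric polynomial all of whose monomials have degree `≥ i+1` is a polynomial in the elementary
symmetric polynomials all of whose monomials have weight `≥ i+1`.
-/

set_option autoImplicit false

universe u

open Finset

namespace Groth.Agent.Lib.Helper17.Lam

section sym

open MvPolynomial

/-- weight of an exponent vector, the variable `k` having weight `k+1` -/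
def wt {m : ℕ} (α : Fin m →₀ ℕ) : ℕ := ∑ k : Fin m, (k.1 + 1) * α k

/-- evaluation at the elementary symmetric polynomials -/
noncomputable abbrev E (m : ℕ) : MvPolynomial (Fin m) ℤ →ₐ[ℤ] MvPolynomial (Fin m) ℤ :=
  aeval (fun k : Fin m => esymm (Fin m) ℤ (k.1 + 1))

lemma esymm_isHomogeneous' (σ : Type*) [Fintype σ] (R : Type*) [CommSemiring R] (n : ℕ) :
    (esymm σ R n).IsHomogeneous n := by
  unfold esymm
  apply IsHomogeneous.sum
  intro t ht
  have h := IsHomogeneous.prod t (fun i => (X i : MvPolynomial σ R)) (fun _ => 1)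
    (fun i _ => isHomogeneous_X R i)
  rw [Finset.sum_const, smul_eq_mul, mul_one, (Finset.mem_powersetCard.mp ht).2] at h
  exact h

lemma isHomogeneous_E_monomial (m : ℕ) (α : Fin m →₀ ℕ) (c : ℤ) :
    (E m (monomial α c)).IsHomogeneous (wt α) := by
  rw [aeval_monomial, Finsupp.prod_fintype _ _ (fun _ => pow_zero _)]
  have h1 : (∏ k : Fin m, esymm (Fin m) ℤ (k.1 + 1) ^ α k).IsHomogeneous (wt α) := by
    apply IsHomogeneous.prod
    intro k _
    exact (esymm_isHomogeneous' _ _ _).pow _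
  exact h1.C_mul c

theorem exists_weighted (m i : ℕ) (p : MvPolynomial (Fin m) ℤ) (hp : p.IsSymmetric)
    (hI : ∀ x : Fin m →₀ ℕ, x.degree < i + 1 → p.coeff x = 0) :
    ∃ Q' : MvPolynomial (Fin m) ℤ, (∀ α ∈ Q'.support, i + 1 ≤ wt α) ∧ E m Q' = p := by
  classical
  set Q := (esymmAlgEquiv (Fin m) ℤ (Fintype.card_fin m)).symm ⟨p, hp⟩ with hQ
  have hEQ : E m Q = p := by
    have h := (esymmAlgEquiv (Fin m) ℤ (Fintype.card_fin m)).apply_symm_apply ⟨p, hp⟩
    have h2 := congrArg Subtype.val h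
    rw [esymmAlgEquiv_apply, esymmAlgHom_apply] at h2
    exact h2
  set Q1 := ∑ α ∈ Q.support.filter (fun α => i + 1 ≤ wt α), monomial α (Q.coeff α) with hQ1
  set Q2 := ∑ α ∈ Q.support.filter (fun α => ¬ i + 1 ≤ wt α), monomial α (Q.coeff α) with hQ2
  have hsum : Q = Q1 + Q2 := by
    rw [hQ1, hQ2, Finset.sum_filter_add_sum_filter_not]
    exact Q.as_sum
  have hE2 : E m Q2 = 0 := by
    ext x
    rw [coeff_zero]
    by_cases hx : x.degree < i + 1
    · have h3 : E m Q2 = p - E m Q1 := by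
        rw [← hEQ, hsum, map_add]; ring
      rw [h3, coeff_sub, hI x hx, hQ1, map_sum, coeff_sum, Finset.sum_eq_zero, sub_zero]
      intro α hα
      apply (isHomogeneous_E_monomial m α _).coeff_eq_zero
      have := (Finset.mem_filter.mp hα).2
      omega
    · rw [hQ2, map_sum, coeff_sum]
      apply Finset.sum_eq_zero
      intro α hα
      apply (isHomogeneous_E_monomial m α _).coeff_eq_zero
      have := (Finset.mem_filter.mp hα).2
      omega
  refine ⟨Q1, ?_, ?_⟩
  · intro α hα
    have h1 := support_sum hα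
    rw [Finset.mem_biUnion] at h1
    obtain ⟨β, hβ, hαβ⟩ := h1
    have h2 := support_monomial_subset hαβ
    rw [Finset.mem_singleton] at h2
    subst h2
    exact (Finset.mem_filter.mp hβ).2
  · rw [← hEQ, hsum, map_add, hE2, add_zero]

lemma exists_one_add_pow {R : Type*} [CommRing R] (x : R) (j : ℕ) :
    ∃ r : R, (1 + x) ^ j = 1 + j * x + x ^ 2 * r := by
  induction j with
  | zero => exact ⟨0, by simp⟩
  | succ j ih =>
    obtain ⟨r, hr⟩ := ih
    exact ⟨(1 + x) * r + j, by rw [pow_succ, hr]; push_cast; ring⟩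

lemma prod_sub_prod_mem {R ι : Type*} [CommRing R] [DecidableEq ι] (I : Ideal R) (a b : ι → R)
    (t : Finset ι) (hb : ∀ k ∈ t, b k ∈ I) (hab : ∀ k ∈ t, a k - b k ∈ I ^ 2) :
    ∏ k ∈ t, a k ∈ I ^ t.card ∧ ∏ k ∈ t, a k - ∏ k ∈ t, b k ∈ I ^ (t.card + 1) := by
  induction t using Finset.induction_on with
  | empty => simp
  | insert k s hk ih =>
    obtain ⟨ih1, ih2⟩ := ih (fun k hk' => hb k (Finset.mem_insert_of_mem hk'))
      (fun k hk' => hab k (Finset.mem_insert_of_mem hk'))
    have hbk := hb k (Finset.mem_insert_self k s)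
    have habk := hab k (Finset.mem_insert_self k s)
    have hak : a k ∈ I := by
      have h : a k = (a k - b k) + b k := by ring
      rw [h]
      exact I.add_mem (Ideal.pow_le_self two_ne_zero habk) hbk
    rw [Finset.prod_insert hk, Finset.prod_insert hk, Finset.card_insert_of_notMem hk]
    constructor
    · rw [pow_succ']
      exact Ideal.mul_mem_mul hak ih1
    · have h : a k * ∏ k ∈ s, a k - b k * ∏ k ∈ s, b k =
          (a k - b k) * ∏ k ∈ s, a k + b k * (∏ k ∈ s, a k - ∏ k ∈ s, b k) := by ring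
      rw [h]
      apply Ideal.add_mem
      · have h2 := Ideal.mul_mem_mul habk ih1
        rwa [← pow_add, show 2 + s.card = s.card + 1 + 1 by ring] at h2
      · have h2 := Ideal.mul_mem_mul hbk ih2
        rwa [← pow_succ'] at h2

/-- `Y_k = (1 + X_k)^j - 1` -/
noncomputable def adY (m j : ℕ) (k : Fin m) : MvPolynomial (Fin m) ℤ := (1 + X k) ^ j - 1

/-- `e_i((1+X)^j - 1) - j^i e_i(X)` -/
noncomputable def adSym (m i j : ℕ) : MvPolynomial (Fin m) ℤ :=
  aeval (adY m j) (esymm (Fin m) ℤ i) - (j : MvPolynomial (Fin m) ℤ) ^ i * esymm (Fin m) ℤ i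

lemma adSym_isSymmetric (m i j : ℕ) : (adSym m i j).IsSymmetric := by
  intro e
  unfold adSym
  rw [map_sub, map_mul, map_pow, map_natCast, esymm_isSymmetric (Fin m) ℤ i e, comp_aeval_apply]
  congr 1
  have h : (fun k => rename e (adY m j k)) = (adY m j) ∘ e := by
    funext k
    simp [adY]
  rw [h, ← aeval_rename, esymm_isSymmetric (Fin m) ℤ i e]

lemma adSym_eq_sum (m i j : ℕ) :
    adSym m i j = ∑ t ∈ powersetCard i (univ : Finset (Fin m)),
      (∏ k ∈ t, adY m j k - ∏ k ∈ t, ((j : MvPolynomial (Fin m) ℤ) * X k)) := by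
  unfold adSym
  rw [aeval_esymm_eq_multiset_esymm, Finset.esymm_map_val, Finset.sum_sub_distrib]
  congr 1
  rw [esymm, Finset.mul_sum]
  apply Finset.sum_congr rfl
  intro t ht
  rw [Finset.prod_mul_distrib, Finset.prod_const, (Finset.mem_powersetCard.mp ht).2]

lemma adSym_mem (m i j : ℕ) : adSym m i j ∈ idealOfVars (Fin m) ℤ ^ (i + 1) := by
  classical
  rw [adSym_eq_sum]
  apply Ideal.sum_mem
  intro t ht
  have hX : ∀ k : Fin m, (X k : MvPolynomial (Fin m) ℤ) ∈ idealOfVars (Fin m) ℤ :=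
    fun k => Ideal.subset_span ⟨k, rfl⟩
  have h := (prod_sub_prod_mem (idealOfVars (Fin m) ℤ) (adY m j)
    (fun k => (j : MvPolynomial (Fin m) ℤ) * X k) t
    (fun k _ => Ideal.mul_mem_left _ _ (hX k)) ?_).2
  · rwa [(Finset.mem_powersetCard.mp ht).2] at h
  · intro k _
    obtain ⟨r, hr⟩ := exists_one_add_pow (X k : MvPolynomial (Fin m) ℤ) j
    have h2 : adY m j k - (j : MvPolynomial (Fin m) ℤ) * X k = X k ^ 2 * r := by
      unfold adY
      rw [hr]; ring
    rw [h2]
    exact Ideal.mul_mem_right _ _ (Ideal.pow_mem_pow (hX k) 2)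

/-- the universal polynomial expressing `e_i((1+X)^j - 1) - j^i e_i(X)` through the elementary
symmetric polynomials, all of whose monomials have weight `≥ i + 1` -/
theorem exists_adPoly (m i j : ℕ) :
    ∃ Q' : MvPolynomial (Fin m) ℤ, (∀ α ∈ Q'.support, i + 1 ≤ wt α) ∧ E m Q' = adSym m i j :=
  exists_weighted m i _ (adSym_isSymmetric m i j)
    ((mem_pow_idealOfVars_iff' (i + 1) _).mp (adSym_mem m i j))

/-- evaluation of the universal identity -/
lemma aeval_adPoly {R : Type*} [CommRing R] (m i j : ℕ) (Q' : MvPolynomial (Fin m) ℤ)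
    (hQ : E m Q' = adSym m i j) (U : Fin m → R) :
    aeval (fun k : Fin m => ∑ t ∈ powersetCard (k.1 + 1) (univ : Finset (Fin m)), ∏ a ∈ t, U a) Q' =
      ∑ t ∈ powersetCard i (univ : Finset (Fin m)), ∏ a ∈ t, ((1 + U a) ^ j - 1) -
        (j : R) ^ i * ∑ t ∈ powersetCard i (univ : Finset (Fin m)), ∏ a ∈ t, U a := by
  have h := congrArg (aeval U) hQ
  rw [comp_aeval_apply] at h
  simp only [aeval_esymm_eq_multiset_esymm, Finset.esymm_map_val] at h
  rw [h]
  unfold adSym
  rw [map_sub, map_mul, map_pow, map_natCast, comp_aeval_apply, aeval_esymm_eq_multiset_esymm,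
    aeval_esymm_eq_multiset_esymm, Finset.esymm_map_val, Finset.esymm_map_val]
  simp [adY]

end sym

end Groth.Agent.Lib.Helper17.Lam
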