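import Groth.Agent.Lib.Helper17.KGrPoly
import Groth.Agent.Lib.Helper17.LambdaSym
import Mathlib.RingTheory.PowerSeries.Exp
import Mathlib.RingTheory.Polynomial.Vieta

/-!
# Polynomial identities behind the Todd class formula (helper17)

Congruences modulo `(W)^(d+1)` in `ℚ[W_1, …, W_m]` between truncated exponentials, the truncated
Todd series and elementary symmetric functions, and the resulting abstract identity
`td · Σ (-1)^(m-n) ch(λ^n) = c_m · ch(λ^m)`.
-/

set_option autoImplicit false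

open Finset

namespace Groth.Agent.Lib.Helper17.KGrT

noncomputable section

/-! ### Univariate congruences -/

section univariate

open Polynomial

lemma coeff_sum_C_mul_X_pow (d : ℕ) (a : ℕ → ℚ) (n : ℕ) :
    (∑ k ∈ range (d + 1), Polynomial.C (a k) * Polynomial.X ^ k : ℚ[X]).coeff n =
      if n < d + 1 then a n else 0 := by
  rw [Polynomial.finsetSum_coeff]
  simp only [Polynomial.coeff_C_mul, Polynomial.coeff_X_pow]
  split_ifs with h
  · rw [Finset.sum_eq_single n]
    · simp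
    · intro b _ hb
      rw [if_neg (Ne.symm hb), mul_zero]
    · intro hn
      exact absurd (Finset.mem_range.mpr h) hn
  · apply Finset.sum_eq_zero
    intro b hb
    have : n ≠ b := by
      have := Finset.mem_range.mp hb
      omega
    rw [if_neg this, mul_zero]

/-- the ideal `(X^(d+1))` of `ℚ⟦X⟧` -/
abbrev psI (d : ℕ) : Ideal (PowerSeries ℚ) := Ideal.span {(PowerSeries.X : PowerSeries ℚ) ^ (d + 1)}

lemma mk_coe_eq (d : ℕ) (p : ℚ[X]) (φ : PowerSeries ℚ)
    (h : ∀ n, n < d + 1 → p.coeff n = PowerSeries.coeff n φ) :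
    Ideal.Quotient.mk (psI d) (p : PowerSeries ℚ) = Ideal.Quotient.mk (psI d) φ := by
  rw [Ideal.Quotient.eq, Ideal.mem_span_singleton, PowerSeries.X_pow_dvd_iff]
  intro n hn
  rw [map_sub, Polynomial.coeff_coe, h n hn, sub_self]

lemma X_pow_dvd_of_mk_eq_zero (d : ℕ) (p : ℚ[X])
    (h : Ideal.Quotient.mk (psI d) (p : PowerSeries ℚ) = 0) :
    (Polynomial.X : ℚ[X]) ^ (d + 1) ∣ p := by
  rw [Ideal.Quotient.eq_zero_iff_mem, Ideal.mem_span_singleton, PowerSeries.X_pow_dvd_iff] at h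
  rw [Polynomial.X_pow_dvd_iff]
  intro n hn
  rw [← Polynomial.coeff_coe]
  exact h n hn

lemma mk_expTrunc (d : ℕ) :
    Ideal.Quotient.mk (psI d) ((KGr.expTrunc d : ℚ[X]) : PowerSeries ℚ) =
      Ideal.Quotient.mk (psI d) (PowerSeries.exp ℚ) := by
  apply mk_coe_eq
  intro n hn
  unfold KGr.expTrunc
  rw [coeff_sum_C_mul_X_pow, if_pos hn, PowerSeries.coeff_exp]
  simp

lemma mk_toddTrunc (d : ℕ) :
    Ideal.Quotient.mk (psI d) ((KGr.toddTrunc d : ℚ[X]) : PowerSeries ℚ) =
      Ideal.Quotient.mk (psI d) (bernoulli'PowerSeries ℚ) := by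
  apply mk_coe_eq
  intro n hn
  unfold KGr.toddTrunc bernoulli'PowerSeries
  rw [coeff_sum_C_mul_X_pow, if_pos hn, PowerSeries.coeff_mk]
  simp

/-- `exp_{≤d}(kX)` -/
def expK (d k : ℕ) : ℚ[X] :=
  ∑ n ∈ range (d + 1), Polynomial.C ((k : ℚ) ^ n / (n.factorial : ℚ)) * Polynomial.X ^ n

lemma mk_expK (d k : ℕ) :
    Ideal.Quotient.mk (psI d) ((expK d k : ℚ[X]) : PowerSeries ℚ) =
      Ideal.Quotient.mk (psI d) (PowerSeries.exp ℚ ^ k) := by
  apply mk_coe_eq
  intro n hn
  unfold expK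
  rw [coeff_sum_C_mul_X_pow, if_pos hn, PowerSeries.exp_pow_eq_rescale_exp,
    PowerSeries.coeff_rescale, PowerSeries.coeff_exp]
  simp [div_eq_mul_inv]

/-- `exp_{≤d}(X)^k ≡ exp_{≤d}(kX)` -/
theorem X_pow_dvd_expTrunc_pow (d k : ℕ) :
    (Polynomial.X : ℚ[X]) ^ (d + 1) ∣ KGr.expTrunc d ^ k - expK d k := by
  apply X_pow_dvd_of_mk_eq_zero
  rw [Polynomial.coe_sub, Polynomial.coe_pow, map_sub, map_pow, mk_expTrunc, mk_expK, map_pow,
    sub_self]

/-- `β_{≤d}(X) (exp_{≤d}(X) - 1) ≡ X exp_{≤d}(X)` -/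
theorem X_pow_dvd_toddTrunc (d : ℕ) :
    (Polynomial.X : ℚ[X]) ^ (d + 1) ∣
      KGr.toddTrunc d * (KGr.expTrunc d - 1) - Polynomial.X * KGr.expTrunc d := by
  apply X_pow_dvd_of_mk_eq_zero
  rw [Polynomial.coe_sub, Polynomial.coe_mul, Polynomial.coe_mul, Polynomial.coe_sub,
    Polynomial.coe_one, Polynomial.coe_X, map_sub, map_mul, map_mul, map_sub, mk_expTrunc,
    mk_toddTrunc, ← map_sub, ← map_mul, ← map_mul, ← map_sub,
    bernoulli'PowerSeries_mul_exp_sub_one, sub_self, map_zero]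

lemma coeff_zero_toddTrunc (d : ℕ) : (KGr.toddTrunc d).coeff 0 = 1 := by
  unfold KGr.toddTrunc
  rw [coeff_sum_C_mul_X_pow, if_pos (by omega)]
  simp

end univariate

/-! ### The ideal `J = (W)^(d+1)` and the vanishing lemma -/

section vanishing

open MvPolynomial Groth.Agent.Lib.Helper17.Lam Groth.Agent.Lib.Helper17.KGrPoly

/-- the ideal of polynomials all of whose monomials have degree `> d` -/
abbrev JJ (m d : ℕ) : Ideal (MvPolynomial (Fin m) ℚ) := idealOfVars (Fin m) ℚ ^ (d + 1)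

lemma aeval_X_mem_JJ (m d : ℕ) (i : Fin m) (p : Polynomial ℚ)
    (h : (Polynomial.X : Polynomial ℚ) ^ (d + 1) ∣ p) :
    Polynomial.aeval (X i : MvPolynomial (Fin m) ℚ) p ∈ JJ m d := by
  obtain ⟨r, rfl⟩ := h
  rw [map_mul, map_pow, Polynomial.aeval_X]
  apply Ideal.mul_mem_right
  apply Ideal.pow_mem_pow
  exact Ideal.subset_span ⟨i, rfl⟩

lemma isHomogeneous_E_monomial (m : ℕ) (α : Fin m →₀ ℕ) (c : ℚ) :
    (KGrPoly.E m (monomial α c)).IsHomogeneous (wt α) := by
  unfold KGrPoly.E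
  rw [aeval_monomial, Finsupp.prod_fintype _ _ (fun _ => pow_zero _)]
  have h1 : (∏ k : Fin m, esymm (Fin m) ℚ (k.1 + 1) ^ α k).IsHomogeneous (wt α) := by
    apply IsHomogeneous.prod
    intro k _
    exact (esymm_isHomogeneous' _ _ _).pow _
  exact h1.C_mul c

/-- if `g(e_1, …, e_m) ∈ (W)^(d+1)` and the monomials of weight `> d` in the `c_k` vanish,
then `g(c) = 0` -/
theorem aeval_eq_zero_of_E_mem {G : Type*} [CommRing G] [Algebra ℚ G] (m d : ℕ) (c : Fin m → G)
    (hc : ∀ α : Fin m →₀ ℕ, d < wt α → ∏ k : Fin m, c k ^ α k = 0)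
    (g : MvPolynomial (Fin m) ℚ) (hg : KGrPoly.E m g ∈ JJ m d) : aeval c g = 0 := by
  classical
  set g1 := ∑ α ∈ g.support.filter (fun α => d < wt α), monomial α (g.coeff α) with hg1
  set g2 := ∑ α ∈ g.support.filter (fun α => ¬ d < wt α), monomial α (g.coeff α) with hg2
  have hsum : g = g1 + g2 := by
    rw [hg1, hg2, Finset.sum_filter_add_sum_filter_not]
    exact g.as_sum
  have hE2 : KGrPoly.E m g2 = 0 := by
    ext x
    rw [coeff_zero]
    by_cases hx : x.degree < d + 1
    · have h3 : KGrPoly.E m g2 = KGrPoly.E m g - KGrPoly.E m g1 := by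
        rw [hsum, map_add]; ring
      rw [h3, coeff_sub, (mem_pow_idealOfVars_iff' _ _).mp hg x hx, hg1, map_sum, coeff_sum,
        Finset.sum_eq_zero, sub_zero]
      intro α hα
      apply (isHomogeneous_E_monomial m α _).coeff_eq_zero
      have := (Finset.mem_filter.mp hα).2
      omega
    · rw [hg2, map_sum, coeff_sum]
      apply Finset.sum_eq_zero
      intro α hα
      apply (isHomogeneous_E_monomial m α _).coeff_eq_zero
      have := (Finset.mem_filter.mp hα).2
      omega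
  have hg20 : g2 = 0 := by
    apply KGrPoly.E_injective
    rw [hE2, map_zero]
  rw [hsum, hg20, add_zero, hg1, map_sum]
  apply Finset.sum_eq_zero
  intro α hα
  rw [aeval_monomial, Finsupp.prod_fintype _ _ (fun _ => pow_zero _),
    hc α (Finset.mem_filter.mp hα).2, mul_zero]

end vanishing

/-! ### Killing the variables of index `≥ m` -/

section padding

open MvPolynomial Groth.Agent.Lib.Helper17.KGrPoly

variable {m d : ℕ}

/-- images of the variables under `rho` -/
def rhoVar (m d : ℕ) (i : Fin d) : MvPolynomial (Fin m) ℚ :=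
  if h : i.1 < m then X ⟨i.1, h⟩ else 0

/-- the substitution killing the variables of index `≥ m` -/
def rho (m d : ℕ) : MvPolynomial (Fin d) ℚ →ₐ[ℚ] MvPolynomial (Fin m) ℚ := aeval (rhoVar m d)

lemma rho_X (i : Fin d) : rho m d (X i) = rhoVar m d i := by
  unfold rho
  rw [aeval_X]

lemma rhoVar_castLE (h : m ≤ d) (j : Fin m) : rhoVar m d (Fin.castLE h j) = X j := by
  unfold rhoVar
  rw [dif_pos (by simp)]
  rfl

lemma rhoVar_of_not_mem (h : m ≤ d) (i : Fin d)
    (hi : i ∉ (Finset.univ : Finset (Fin m)).map (Fin.castLEEmb h)) : rhoVar m d i = 0 := by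
  unfold rhoVar
  rw [dif_neg]
  intro hlt
  apply hi
  rw [Finset.mem_map]
  exact ⟨⟨i.1, hlt⟩, Finset.mem_univ _, by ext; simp⟩

lemma rho_esymm (h : m ≤ d) (k : ℕ) : rho m d (esymm (Fin d) ℚ k) = esymm (Fin m) ℚ k := by
  classical
  unfold esymm
  rw [map_sum]
  have hsub : powersetCard k ((Finset.univ : Finset (Fin m)).map (Fin.castLEEmb h)) ⊆
      powersetCard k (Finset.univ : Finset (Fin d)) :=
    Finset.powersetCard_mono (Finset.subset_univ _)
  rw [← Finset.sum_subset hsub]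
  · rw [Finset.powersetCard_map, Finset.sum_map]
    apply Finset.sum_congr rfl
    intro t _
    rw [map_prod]
    change ∏ i ∈ t.map (Fin.castLEEmb h), _ = _
    rw [Finset.prod_map]
    apply Finset.prod_congr rfl
    intro j _
    rw [rho_X]
    exact rhoVar_castLE h j
  · intro t ht ht'
    rw [Finset.mem_powersetCard] at ht ht'
    have : ¬ t ⊆ (Finset.univ : Finset (Fin m)).map (Fin.castLEEmb h) := fun hh => ht' ⟨hh, ht.2⟩
    rw [Finset.not_subset] at this
    obtain ⟨i, hit, hi⟩ := this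
    rw [map_prod]
    apply Finset.prod_eq_zero hit
    rw [rho_X]
    exact rhoVar_of_not_mem h i hi

/-- `rho` commutes with evaluation at the elementary symmetric polynomials -/
theorem E_rho (h : m ≤ d) (p : MvPolynomial (Fin d) ℚ) :
    KGrPoly.E m (rho m d p) = rho m d (KGrPoly.E d p) := by
  have : (KGrPoly.E m).comp (rho m d) = (rho m d).comp (KGrPoly.E d) := by
    apply MvPolynomial.algHom_ext
    intro i
    rw [AlgHom.comp_apply, AlgHom.comp_apply, rho_X]
    unfold KGrPoly.E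
    rw [aeval_X, rho_esymm h]
    unfold rhoVar
    split_ifs with hi
    · rw [aeval_X]
    · rw [map_zero]
      symm
      unfold esymm
      rw [Finset.powersetCard_eq_empty.mpr (by simp; omega), Finset.sum_empty]
  exact congrArg (fun f => f p) this

lemma aeval_zero_eq (p : Polynomial ℚ) :
    Polynomial.aeval (0 : MvPolynomial (Fin m) ℚ) p = C (p.coeff 0) := by
  rw [Polynomial.aeval_def, Polynomial.eval₂_at_zero, Polynomial.coeff_zero_eq_eval_zero]
  rfl

/-- `rho` of the product defining the Todd polynomial -/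
theorem rho_prod_aeval (h : m ≤ d) (p : Polynomial ℚ) (hp : p.coeff 0 = 1) :
    rho m d (∏ i : Fin d, Polynomial.aeval (X i : MvPolynomial (Fin d) ℚ) p) =
      ∏ j : Fin m, Polynomial.aeval (X j : MvPolynomial (Fin m) ℚ) p := by
  classical
  rw [map_prod]
  have h1 : ∀ i : Fin d, rho m d (Polynomial.aeval (X i : MvPolynomial (Fin d) ℚ) p) =
      Polynomial.aeval (rhoVar m d i) p := by
    intro i
    rw [← Polynomial.aeval_algHom_apply, rho_X]
  simp only [h1]
  rw [← Finset.prod_subset (Finset.subset_univ ((Finset.univ : Finset (Fin m)).map (Fin.castLEEmb h)))]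
  · rw [Finset.prod_map]
    apply Finset.prod_congr rfl
    intro j _
    change Polynomial.aeval (rhoVar m d (Fin.castLE h j)) p = _
    rw [rhoVar_castLE]
  · intro i _ hi
    rw [rhoVar_of_not_mem h i hi, aeval_zero_eq, hp, map_one]

/-- the Todd polynomial in `m ≤ d` variables -/
theorem E_rho_toddPoly (h : m ≤ d) :
    KGrPoly.E m (rho m d (KGr.toddPoly d)) =
      ∏ j : Fin m, Polynomial.aeval (X j : MvPolynomial (Fin m) ℚ) (KGr.toddTrunc d) := by
  rw [E_rho h]
  unfold KGr.toddPoly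
  rw [KGrPoly.E_symm, rho_prod_aeval h _ (coeff_zero_toddTrunc d)]

/-- evaluating after `rho` -/
theorem aeval_rho {G : Type*} [CommRing G] [Algebra ℚ G] (h : m ≤ d) (c : Fin d → G)
    (hc : ∀ i : Fin d, m ≤ i.1 → c i = 0) (p : MvPolynomial (Fin d) ℚ) :
    aeval (fun j : Fin m => c (Fin.castLE h j)) (rho m d p) = aeval c p := by
  have : (aeval (fun j : Fin m => c (Fin.castLE h j))).comp (rho m d) = aeval c := by
    apply MvPolynomial.algHom_ext
    intro i
    rw [AlgHom.comp_apply, rho_X, aeval_X]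
    unfold rhoVar
    split_ifs with hi
    · rw [aeval_X]
      rfl
    · rw [map_zero, hc i (by omega)]
  exact congrArg (fun f => f p) this

end padding

/-! ### Newton's identities for the `U_i = exp_{≤d}(W_i)` -/

section newton

open MvPolynomial Groth.Agent.Lib.Helper17.Lam Groth.Agent.Lib.Helper17.KGrPoly

variable (m d : ℕ)

/-- `U_i = exp_{≤d}(W_i)` -/
def UU (i : Fin m) : MvPolynomial (Fin m) ℚ := Polynomial.aeval (X i) (KGr.expTrunc d)

/-- the substitution `W_i ↦ U_i` -/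
def aU : MvPolynomial (Fin m) ℚ →ₐ[ℚ] MvPolynomial (Fin m) ℚ := aeval (UU m d)

/-- `e_n(U)` -/
def eU (n : ℕ) : MvPolynomial (Fin m) ℚ := aU m d (esymm (Fin m) ℚ n)

/-- `p_k(U)` -/
def pU (k : ℕ) : MvPolynomial (Fin m) ℚ := aU m d (psum (Fin m) ℚ k)

lemma aU_X (i : Fin m) : aU m d (X i) = UU m d i := by
  unfold aU
  rw [aeval_X]

lemma pU_eq (k : ℕ) : pU m d k = ∑ i : Fin m, UU m d i ^ k := by
  unfold pU psum
  rw [map_sum]
  apply Finset.sum_congr rfl
  intro i _
  rw [map_pow, aU_X]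

lemma eU_zero : eU m d 0 = 1 := by
  unfold eU
  rw [esymm_zero, map_one]

lemma esymm_card : esymm (Fin m) ℚ m = ∏ j : Fin m, X j := by
  unfold esymm
  have : powersetCard m (Finset.univ : Finset (Fin m)) = {Finset.univ} := by
    have := Finset.powersetCard_self (Finset.univ : Finset (Fin m))
    rwa [Finset.card_univ, Fintype.card_fin] at this
  rw [this, Finset.sum_singleton]

lemma eU_card : eU m d m = ∏ j : Fin m, UU m d j := by
  unfold eU
  rw [esymm_card, map_prod]
  apply Finset.prod_congr rfl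
  intro j _
  rw [aU_X]

lemma newton_U (n : ℕ) : (n : MvPolynomial (Fin m) ℚ) * eU m d n =
    ∑ a ∈ antidiagonal n with a.1 < n, (-1) ^ (a.2 + 1) * eU m d a.1 * pU m d a.2 := by
  have h := congrArg (aU m d) (mul_esymm_eq_sum (Fin m) ℚ n)
  rw [map_mul, map_natCast, map_mul, map_pow, map_neg, map_one, map_sum] at h
  unfold eU pU
  rw [h, Finset.mul_sum]
  apply Finset.sum_congr rfl
  intro a ha
  rw [Finset.mem_filter, Finset.mem_antidiagonal] at ha
  rw [map_mul, map_mul, map_pow, map_neg, map_one]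
  have hs : ((-1 : MvPolynomial (Fin m) ℚ)) ^ (n + 1) * (-1) ^ a.1 = (-1) ^ (a.2 + 1) := by
    rw [← pow_add, ← ha.1, show a.1 + a.2 + 1 + a.1 = (a.2 + 1) + 2 * a.1 by ring, pow_add, pow_mul]
    simp
  rw [← hs]
  ring

lemma prod_U_sub_one :
    ∏ i : Fin m, (UU m d i - 1) = (-1) ^ m * ∑ j ∈ range (m + 1), (-1) ^ j * eU m d j := by
  have h := congrArg (Polynomial.eval₂ (aU m d : MvPolynomial (Fin m) ℚ →+* MvPolynomial (Fin m) ℚ)
    (-1 : MvPolynomial (Fin m) ℚ)) (MvPolynomial.prod_C_add_X_eq_sum_esymm ℚ (Fin m))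
  rw [Polynomial.eval₂_finsetProd, Polynomial.eval₂_finsetSum, Fintype.card_fin] at h
  have hl : ∀ i : Fin m, Polynomial.eval₂ (aU m d : MvPolynomial (Fin m) ℚ →+* MvPolynomial (Fin m) ℚ)
      (-1 : MvPolynomial (Fin m) ℚ) (Polynomial.X + Polynomial.C (X i)) = UU m d i - 1 := by
    intro i
    rw [Polynomial.eval₂_add, Polynomial.eval₂_X, Polynomial.eval₂_C]
    change -1 + aU m d (X i) = _
    rw [aU_X]
    ring
  simp only [hl] at h
  rw [h, Finset.mul_sum]
  apply Finset.sum_congr rfl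
  intro j hj
  have hjm : j ≤ m := by
    have := Finset.mem_range.mp hj
    omega
  rw [Polynomial.eval₂_mul, Polynomial.eval₂_C, Polynomial.eval₂_pow, Polynomial.eval₂_X]
  change eU m d j * (-1) ^ (m - j) = _
  have hs : ((-1 : MvPolynomial (Fin m) ℚ)) ^ m * (-1) ^ j = (-1) ^ (m - j) := by
    rw [← pow_add, show m + j = (m - j) + 2 * j by omega, pow_add, pow_mul]
    simp
  rw [← hs]
  ring

/-- the quotient map modulo `(W)^(d+1)` -/
abbrev qq : MvPolynomial (Fin m) ℚ →+* MvPolynomial (Fin m) ℚ ⧸ JJ m d := Ideal.Quotient.mk (JJ m d)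

lemma qq_todd (i : Fin m) :
    qq m d (Polynomial.aeval (X i : MvPolynomial (Fin m) ℚ) (KGr.toddTrunc d) * (UU m d i - 1)) =
      qq m d (X i * UU m d i) := by
  rw [Ideal.Quotient.eq]
  have h := aeval_X_mem_JJ m d i _ (X_pow_dvd_toddTrunc d)
  rw [map_sub, map_mul, map_mul, map_sub, map_one, Polynomial.aeval_X] at h
  exact h

lemma qq_expK (i : Fin m) (k : ℕ) :
    qq m d (Polynomial.aeval (X i : MvPolynomial (Fin m) ℚ) (expK d k)) =
      qq m d (UU m d i ^ k) := by
  symm
  rw [Ideal.Quotient.eq]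
  have h := aeval_X_mem_JJ m d i _ (X_pow_dvd_expTrunc_pow d k)
  rw [map_sub, map_pow] at h
  exact h

/-- the polynomial in the Chern classes giving `ch(ψ^k e)` -/
def PsiX (k : ℕ) : MvPolynomial (Fin m) ℚ :=
  C (m : ℚ) + ∑ n ∈ Icc 1 d, C ((k : ℚ) ^ n * (-1) ^ (n + 1) / (n.factorial : ℚ)) * Qw m n

lemma E_PsiX (k : ℕ) : KGrPoly.E m (PsiX m d k) =
    ∑ i : Fin m, Polynomial.aeval (X i : MvPolynomial (Fin m) ℚ) (expK d k) := by
  unfold PsiX
  rw [map_add, map_sum]
  simp only [map_mul, E_Qw]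
  unfold expK
  simp only [map_sum, map_mul, Polynomial.aeval_C, map_pow, Polynomial.aeval_X]
  rw [Finset.sum_comm]
  rw [Finset.range_eq_Ico, Finset.sum_eq_sum_Ico_succ_bot (by omega)]
  congr 1
  · simp [KGrPoly.E]
  · have : Finset.Ico (0 + 1) (d + 1) = Finset.Icc 1 d := by
      ext x; simp [Finset.mem_Ico, Finset.mem_Icc]
    rw [this]
    apply Finset.sum_congr rfl
    intro n _
    rw [← Finset.mul_sum]
    unfold psum KGrPoly.E
    rw [aeval_C, algebraMap_eq]
    have h1 : (C ((k : ℚ) ^ n * (-1) ^ (n + 1) / (n.factorial : ℚ)) : MvPolynomial (Fin m) ℚ) =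
        C ((k : ℚ) ^ n / (n.factorial : ℚ)) * (-1) ^ (n + 1) := by
      rw [show ((-1 : MvPolynomial (Fin m) ℚ)) = C (-1) by simp, ← C_pow, ← C_mul]
      congr 1
      ring
    rw [h1]
    have h2 : ((-1 : MvPolynomial (Fin m) ℚ)) ^ (n + 1) * (-1) ^ (n + 1) = 1 := by
      rw [← mul_pow]; simp
    calc C ((k : ℚ) ^ n / (n.factorial : ℚ)) * (-1) ^ (n + 1) * ((-1) ^ (n + 1) * ∑ i : Fin m, X i ^ n)
        = C ((k : ℚ) ^ n / (n.factorial : ℚ)) * (((-1 : MvPolynomial (Fin m) ℚ)) ^ (n + 1) * (-1) ^ (n + 1)) *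
            ∑ i : Fin m, X i ^ n := by ring
      _ = _ := by rw [h2, mul_one]

lemma qq_E_PsiX (k : ℕ) : qq m d (KGrPoly.E m (PsiX m d k)) = qq m d (pU m d k) := by
  rw [E_PsiX, pU_eq, map_sum, map_sum]
  apply Finset.sum_congr rfl
  intro i _
  exact qq_expK m d i k

end newton

/-! ### The abstract Todd identity -/

section abstract

open MvPolynomial Groth.Agent.Lib.Helper17.Lam Groth.Agent.Lib.Helper17.KGrPoly

variable {G : Type*} [CommRing G] [Algebra ℚ G] (m d : ℕ) (c : Fin m → G)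

lemma E_C (a : ℚ) : KGrPoly.E m (C a) = C a := by
  unfold KGrPoly.E
  rw [aeval_C]
  rfl

/-- realising `ch(λ^n e)` by polynomials in the Chern classes -/
theorem exists_poly (chl chpsi : ℕ → G) (h0 : chl 0 = 1)
    (hN : ∀ n : ℕ, 1 ≤ n → (n : G) * chl n =
      ∑ a ∈ antidiagonal n with a.1 < n, (-1) ^ (a.2 + 1) * chl a.1 * chpsi a.2)
    (hpsi : ∀ k : ℕ, 1 ≤ k → chpsi k = aeval c (PsiX m d k)) (n : ℕ) :
    ∃ g : MvPolynomial (Fin m) ℚ, aeval c g = chl n ∧
      qq m d (KGrPoly.E m g) = qq m d (eU m d n) := by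
  induction n using Nat.strong_induction_on with
  | _ n ih =>
    rcases Nat.eq_zero_or_pos n with rfl | hn
    · exact ⟨1, by rw [map_one, h0], by rw [map_one, eU_zero]⟩
    · choose! gf hgf using ih
      have hn0 : (n : ℚ) ≠ 0 := by
        have : 0 < (n : ℚ) := by exact_mod_cast hn
        exact this.ne'
      refine ⟨C (1 / (n : ℚ)) * ∑ a ∈ antidiagonal n with a.1 < n,
        C ((-1 : ℚ) ^ (a.2 + 1)) * gf a.1 * PsiX m d a.2, ?_, ?_⟩
      · rw [map_mul, aeval_C, map_sum]
        have hsum : ∑ a ∈ antidiagonal n with a.1 < n,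
            aeval c (C ((-1 : ℚ) ^ (a.2 + 1)) * gf a.1 * PsiX m d a.2) = (n : G) * chl n := by
          rw [hN n hn]
          apply Finset.sum_congr rfl
          intro a ha
          rw [Finset.mem_filter, Finset.mem_antidiagonal] at ha
          rw [map_mul, map_mul, aeval_C, (hgf a.1 ha.2).1, ← hpsi a.2 (by omega)]
          simp
        rw [hsum, ← mul_assoc, ← map_natCast (algebraMap ℚ G), ← map_mul, one_div,
          inv_mul_cancel₀ hn0, map_one, one_mul]
      · have hsum : qq m d (KGrPoly.E m (∑ a ∈ antidiagonal n with a.1 < n,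
            C ((-1 : ℚ) ^ (a.2 + 1)) * gf a.1 * PsiX m d a.2)) =
            qq m d ((n : MvPolynomial (Fin m) ℚ) * eU m d n) := by
          rw [newton_U, map_sum, map_sum, map_sum]
          apply Finset.sum_congr rfl
          intro a ha
          rw [Finset.mem_filter, Finset.mem_antidiagonal] at ha
          rw [map_mul, map_mul, map_mul, map_mul, map_mul, map_mul, (hgf a.1 ha.2).2, qq_E_PsiX,
            E_C]
          congr 3
          simp
        rw [map_mul, map_mul, hsum, E_C, ← map_mul, ← mul_assoc]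
        congr 1
        have : (C (1 / (n : ℚ)) : MvPolynomial (Fin m) ℚ) * (n : MvPolynomial (Fin m) ℚ) = 1 := by
          rw [← map_natCast (C : ℚ →+* MvPolynomial (Fin m) ℚ), ← C_mul, one_div,
            inv_mul_cancel₀ hn0, C_1]
        rw [this, one_mul]

/-- the abstract form of `td(e) · ch(γ^m(e - m)) = c_m(e) · ch(λ^m e)` -/
theorem todd_abstract (hc : ∀ α : Fin m →₀ ℕ, d < wt α → ∏ k : Fin m, c k ^ α k = 0)
    (chl chpsi : ℕ → G) (h0 : chl 0 = 1)
    (hN : ∀ n : ℕ, 1 ≤ n → (n : G) * chl n =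
      ∑ a ∈ antidiagonal n with a.1 < n, (-1) ^ (a.2 + 1) * chl a.1 * chpsi a.2)
    (hpsi : ∀ k : ℕ, 1 ≤ k → chpsi k = aeval c (PsiX m d k))
    (T : MvPolynomial (Fin m) ℚ)
    (hT : KGrPoly.E m T =
      ∏ j : Fin m, Polynomial.aeval (X j : MvPolynomial (Fin m) ℚ) (KGr.toddTrunc d)) :
    aeval c T * ((-1) ^ m * ∑ i ∈ range (m + 1), (-1) ^ i * chl i) =
      aeval c (Xv m m) * chl m := by
  choose g hg using exists_poly m d c chl chpsi h0 hN hpsi
  set Y : MvPolynomial (Fin m) ℚ :=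
    C ((-1 : ℚ) ^ m) * ∑ i ∈ range (m + 1), C ((-1 : ℚ) ^ i) * g i with hY
  have hL : aeval c T * ((-1) ^ m * ∑ i ∈ range (m + 1), (-1) ^ i * chl i) = aeval c (T * Y) := by
    rw [map_mul, hY, map_mul, aeval_C, map_sum]
    congr 2
    · simp
    · apply Finset.sum_congr rfl
      intro i _
      rw [map_mul, aeval_C, (hg i).1]
      simp
  have hR : aeval c (Xv m m) * chl m = aeval c (Xv m m * g m) := by
    rw [map_mul, (hg m).1]
  rw [hL, hR, ← sub_eq_zero, ← map_sub]
  apply aeval_eq_zero_of_E_mem m d c hc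
  rw [← Ideal.Quotient.eq_zero_iff_mem, map_sub, map_sub, sub_eq_zero]
  change qq m d (KGrPoly.E m (T * Y)) = qq m d (KGrPoly.E m (Xv m m * g m))
  have hEY : qq m d (KGrPoly.E m Y) = qq m d (∏ i : Fin m, (UU m d i - 1)) := by
    rw [prod_U_sub_one, hY, map_mul, map_mul, map_mul, E_C, map_sum, map_sum, map_sum]
    congr 1
    · congr 1
      simp
    · apply Finset.sum_congr rfl
      intro i _
      rw [map_mul, map_mul, map_mul, E_C, (hg i).2]
      congr 2
      simp
  rw [map_mul, map_mul, hT, hEY, ← map_mul, ← Finset.prod_mul_distrib, map_prod]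
  rw [map_mul, map_mul, E_Xv, (hg m).2, esymm_card, eU_card, ← map_mul, ← Finset.prod_mul_distrib,
    map_prod]
  apply Finset.prod_congr rfl
  intro i _
  exact qq_todd m d i

end abstract

end

end Groth.Agent.Lib.Helper17.KGrT
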