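import Groth.Prelude.Def_SGA3b
import Groth.Agent.Lib.Helper27.SemiGroupLike
import Groth.Agent.Lib.Helper27.MultRigid
import Mathlib.RingTheory.Flat.Equalizer
import Mathlib.RingTheory.Flat.FaithfullyFlat.Algebra
import Mathlib.RingTheory.Flat.Stability
import Mathlib.RingTheory.Ideal.IdempotentFG
import Mathlib.RingTheory.HopfAlgebra.GroupLike
import Mathlib.RingTheory.HopfAlgebra.MonoidAlgebra
import Mathlib.RingTheory.Bialgebra.MonoidAlgebra
import Mathlib.RingTheory.Localization.Away.Basic
import Mathlib.RingTheory.Localization.Ideal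

/-!
# Local structure of groups of multiplicative type (helper17)

* `coeff_mul_coeff`: the coefficients of a group-like element of `P[N]` are orthogonal idempotents.
* `ann`, `mem_map_ann_of_tmul_eq_zero`: flat base change of the annihilator of an element.
* `ideal_le_of_away`: inclusion of ideals is local on a covering by basic opens.
* `exists_local2`: for one member of the covering of a group of multiplicative type `Q`, a flat
  `R`-algebra `P`, a semilinear algebra map `θ : Q → P[N]` whose `P`-linear extension is injective,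
  and descent of inclusions of ideals.
* `map_ann_eq_span`: the annihilator of `q - 1`, `q` group-like, becomes generated by the idempotent
  `(θ q).coeff 1`.
-/

set_option autoImplicit false
universe u

namespace Groth.Agent.Lib.Helper17.MultLocal

open TensorProduct Groth.Agent.Lib.Helper27.MultRigid

theorem coeff_mul_coeff {P N : Type*} [CommRing P] [DecidableEq N] {g : MonoidAlgebra P N}
    (hg : IsGroupLikeElem P g) (a b : N) :
    g.coeff a * g.coeff b = if a = b then g.coeff a else 0 := by
  rw [← evalL_tmul, ← hg.comul_eq_tmul_self, evalL_comul]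

theorem coeff_one_eq {P N : Type*} [CommRing P] [Monoid N] [DecidableEq N] (a : N) :
    (1 : MonoidAlgebra P N).coeff a = if a = 1 then 1 else 0 := by
  rw [MonoidAlgebra.one_def, MonoidAlgebra.coeff_single, Finsupp.single_apply]
  by_cases h : a = 1
  · subst h; simp
  · rw [if_neg h, if_neg (fun h' => h h'.symm)]

/-- the annihilator of an element -/
noncomputable def ann (R : Type*) {Q : Type*} [CommRing R] [AddCommGroup Q] [Module R Q] (y : Q) :
    Ideal R :=
  LinearMap.ker (LinearMap.toSpanSingleton R Q y)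

theorem mem_ann {R Q : Type*} [CommRing R] [AddCommGroup Q] [Module R Q] {y : Q} {r : R} :
    r ∈ ann R y ↔ r • y = 0 := by
  rw [ann, LinearMap.mem_ker, LinearMap.toSpanSingleton_apply]

theorem mem_map_ann_of_tmul_eq_zero {R P Q : Type*} [CommRing R] [CommRing P] [Algebra R P]
    [Module.Flat R P] [AddCommGroup Q] [Module R Q] (y : Q) (p : P) (h : p ⊗ₜ[R] y = 0) :
    p ∈ Ideal.map (algebraMap R P) (ann R y) := by
  set f := LinearMap.toSpanSingleton R Q y with hf
  have h1 : (p ⊗ₜ[R] (1 : R)) ∈
      LinearMap.ker (TensorProduct.AlgebraTensorModule.lTensor P P f) := by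
    rw [LinearMap.mem_ker, TensorProduct.AlgebraTensorModule.lTensor_tmul, hf,
      LinearMap.toSpanSingleton_apply, one_smul, h]
  rw [Module.Flat.ker_lTensor_eq] at h1
  obtain ⟨w, hw⟩ := h1
  have key : ∀ w : P ⊗[R] (LinearMap.ker f),
      TensorProduct.rid R P
        (TensorProduct.AlgebraTensorModule.lTensor P P (LinearMap.ker f).subtype w) ∈
        Ideal.map (algebraMap R P) (ann R y) := by
    intro w
    induction w using TensorProduct.induction_on with
    | zero => rw [map_zero, map_zero]; exact Ideal.zero_mem _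
    | tmul p' a =>
      rw [TensorProduct.AlgebraTensorModule.lTensor_tmul, TensorProduct.rid_tmul,
        Submodule.subtype_apply, Algebra.smul_def]
      exact Ideal.mul_mem_right _ _ (Ideal.mem_map_of_mem _ a.2)
    | add x y hx hy => rw [map_add, map_add]; exact Ideal.add_mem _ hx hy
  have h2 := key w
  rw [hw, TensorProduct.rid_tmul, one_smul] at h2
  exact h2

theorem ideal_le_of_away {R : Type*} [CommRing R] (s : Set R) (hs : Ideal.span s = ⊤)
    (I I' : Ideal R)
    (h : ∀ f ∈ s, I'.map (algebraMap R (Localization.Away f)) ≤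
      I.map (algebraMap R (Localization.Away f))) : I' ≤ I := by
  intro x hx
  apply Submodule.mem_of_span_eq_top_of_smul_pow_mem I s hs x
  rintro ⟨f, hf⟩
  have h1 : algebraMap R (Localization.Away f) x ∈ I.map (algebraMap R (Localization.Away f)) :=
    h f hf (Ideal.mem_map_of_mem _ hx)
  rw [IsLocalization.mem_map_algebraMap_iff (Submonoid.powers f)] at h1
  obtain ⟨⟨i, ⟨_, n, rfl⟩⟩, hi⟩ := h1
  simp only at hi
  rw [← map_mul, IsLocalization.eq_iff_exists (Submonoid.powers f)] at hi
  obtain ⟨⟨_, m, rfl⟩, hm⟩ := hi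
  simp only at hm
  refine ⟨m + n, ?_⟩
  have h2 : (f ^ (m + n) : R) • x = f ^ m * (x * f ^ n) := by
    rw [smul_eq_mul, pow_add]; ring
  rw [h2, hm]
  exact Ideal.mul_mem_left _ _ i.2

/-- local data attached to one member of the covering -/
theorem exists_local2 (R Q : Type u) [CommRing R] [CommRing Q] [HopfAlgebra R Q]
    (Rf : Type u) [CommRing Rf] [Algebra R Rf] [Module.Flat R Rf]
    (h : SGA3b.IsMultTypeConst Rf (Rf ⊗[R] Q)) :
    ∃ (P : Type u) (_ : CommRing P) (_ : Algebra R P) (N : Type u) (_ : CommGroup N)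
      (θ : Q →ₐ[R] MonoidAlgebra P N),
      Module.Flat R P ∧
      IsSemiComul (R := R) (R' := P) θ.toLinearMap ∧
      IsSemiCounit (R := R) (R' := P) θ.toLinearMap ∧
      Function.Injective (θ.toLinearMap.liftBaseChange P) ∧
      (∀ I I' : Ideal R, I'.map (algebraMap R P) ≤ I.map (algebraMap R P) →
        I'.map (algebraMap R Rf) ≤ I.map (algebraMap R Rf)) := by
  classical
  obtain ⟨R', _, _, hff, M, _, ⟨e⟩⟩ := h
  letI : Algebra R R' := ((algebraMap Rf R').comp (algebraMap R Rf)).toAlgebra
  haveI : IsScalarTower R Rf R' := IsScalarTower.of_algebraMap_eq (fun _ => rfl)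
  have hθ1 : IsSemiComul (R := R) (R' := Rf) (bcMap Rf Q) := isSemiComul_bcMap
  have hθ2 : IsSemiComul (R := Rf) (R' := R') (bcMap R' (Rf ⊗[R] Q)) := isSemiComul_bcMap
  have hθ3 : IsSemiComul (R := R') (R' := R')
      (e : (R' ⊗[Rf] (Rf ⊗[R] Q)) →ₗc[R'] MonoidAlgebra R' M).toLinearMap :=
    isSemiComul_coalgHom _
  have h12 := IsSemiComul.comp hθ1 hθ2
  have h123 := IsSemiComul.comp h12 hθ3
  set θl : Q →ₗ[R] MonoidAlgebra R' M :=
    ((e : (R' ⊗[Rf] (Rf ⊗[R] Q)) →ₗc[R'] MonoidAlgebra R' M).toLinearMap.restrictScalars R) ∘ₗ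
      (((bcMap R' (Rf ⊗[R] Q)).restrictScalars R) ∘ₗ (bcMap Rf Q)) with hθl
  have hθapp : ∀ a : Q, θl a = e ((1 : R') ⊗ₜ[Rf] ((1 : Rf) ⊗ₜ[R] a)) := fun a => rfl
  have hone : θl 1 = 1 := by
    rw [hθapp]
    have : ((1 : R') ⊗ₜ[Rf] ((1 : Rf) ⊗ₜ[R] (1 : Q))) = 1 := rfl
    rw [this]
    exact map_one e
  have hmul : ∀ a b : Q, θl (a * b) = θl a * θl b := by
    intro a b
    rw [hθapp, hθapp, hθapp, ← map_mul, Algebra.TensorProduct.tmul_mul_tmul,
      Algebra.TensorProduct.tmul_mul_tmul, mul_one, mul_one]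
  set θ : Q →ₐ[R] MonoidAlgebra R' M := AlgHom.ofLinearMap θl hone hmul with hθ
  have hθθl : θ.toLinearMap = θl := AlgHom.toLinearMap_ofLinearMap _ _ _
  have hflat : Module.Flat R R' := Module.Flat.trans R Rf R'
  refine ⟨R', inferInstance, inferInstance, M, inferInstance, θ, hflat, ?_, ?_, ?_, ?_⟩
  · rw [hθθl]; exact h123
  · rw [hθθl]
    intro a
    rw [hθapp]
    have hc1 : Coalgebra.counit (R := R') (e ((1 : R') ⊗ₜ[Rf] ((1 : Rf) ⊗ₜ[R] a))) =
        Coalgebra.counit (R := R') ((1 : R') ⊗ₜ[Rf] ((1 : Rf) ⊗ₜ[R] a)) :=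
      CoalgHomClass.counit_comp_apply e _
    rw [hc1, TensorProduct.counit_tmul, TensorProduct.counit_tmul]
    change (Coalgebra.counit (R := R) a • (1 : Rf)) • (1 : R') = algebraMap R R' (Coalgebra.counit a)
    rw [Algebra.algebraMap_eq_smul_one, smul_assoc, one_smul]
  · rw [hθθl]
    have key : ∀ w : R' ⊗[Rf] (Rf ⊗[R] Q),
        θl.liftBaseChange R'
          (TensorProduct.AlgebraTensorModule.cancelBaseChange R Rf R' R' Q w) = e w := by
      intro w
      induction w using TensorProduct.induction_on with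
      | zero => rw [map_zero, map_zero, map_zero]
      | tmul r y =>
        induction y using TensorProduct.induction_on with
        | zero => rw [TensorProduct.tmul_zero, map_zero, map_zero, map_zero]
        | tmul c a =>
          have h1 : r ⊗ₜ[Rf] (c ⊗ₜ[R] a) =
              (c • r) • ((1 : R') ⊗ₜ[Rf] ((1 : Rf) ⊗ₜ[R] a)) := by
            rw [TensorProduct.smul_tmul', smul_eq_mul, mul_one]
            have h2 : c ⊗ₜ[R] a = c • ((1 : Rf) ⊗ₜ[R] a) := by
              rw [TensorProduct.smul_tmul', smul_eq_mul, mul_one]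
            rw [h2, ← TensorProduct.smul_tmul]
          rw [TensorProduct.AlgebraTensorModule.cancelBaseChange_tmul,
            LinearMap.liftBaseChange_tmul, h1, map_smul, hθapp]
        | add y₁ y₂ h₁ h₂ =>
          rw [TensorProduct.tmul_add, map_add, map_add, map_add, h₁, h₂]
      | add w₁ w₂ h₁ h₂ => rw [map_add, map_add, map_add, h₁, h₂]
    rw [injective_iff_map_eq_zero]
    intro z hz
    have h1 := key ((TensorProduct.AlgebraTensorModule.cancelBaseChange R Rf R' R' Q).symm z)
    rw [LinearEquiv.apply_symm_apply, hz] at h1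
    have h2 : (TensorProduct.AlgebraTensorModule.cancelBaseChange R Rf R' R' Q).symm z = 0 := by
      apply EquivLike.injective e
      rw [← h1, map_zero]
    have h3 := congrArg (TensorProduct.AlgebraTensorModule.cancelBaseChange R Rf R' R' Q) h2
    rwa [LinearEquiv.apply_symm_apply, map_zero] at h3
  · intro I I' hII
    have hmm : ∀ K : Ideal R, (K.map (algebraMap R Rf)).map (algebraMap Rf R') =
        K.map (algebraMap R R') := by
      intro K
      rw [Ideal.map_map]
      rfl
    rw [← Ideal.comap_map_eq_self_of_faithfullyFlat (B := R') (I'.map (algebraMap R Rf)),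
      ← Ideal.comap_map_eq_self_of_faithfullyFlat (B := R') (I.map (algebraMap R Rf)), hmm, hmm]
    exact Ideal.comap_mono hII

/-- the annihilator of `q - 1` becomes generated by an idempotent -/
theorem map_ann_eq_span {R Q P N : Type u} [CommRing R] [CommRing Q] [HopfAlgebra R Q]
    [CommRing P] [Algebra R P] [Module.Flat R P] [CommGroup N]
    (θ : Q →ₐ[R] MonoidAlgebra P N)
    (hc : IsSemiComul (R := R) (R' := P) θ.toLinearMap)
    (hu : IsSemiCounit (R := R) (R' := P) θ.toLinearMap)
    (hinj : Function.Injective (θ.toLinearMap.liftBaseChange P))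
    {q : Q} (hq : IsGroupLikeElem R q) :
    Ideal.map (algebraMap R P) (ann R (q - 1)) = Ideal.span {(θ q).coeff 1} ∧
      IsIdempotentElem ((θ q).coeff 1) := by
  classical
  have hg : IsGroupLikeElem P (θ q) := isGroupLikeElem_of_semi hc hu hq
  set g := θ q with hgdef
  set ε := g.coeff 1 with hε
  have hidem : IsIdempotentElem ε := by
    have := coeff_mul_coeff hg 1 1
    rwa [if_pos rfl] at this
  have hcoef : ∀ a : N, (g - 1).coeff a = g.coeff a - if a = 1 then 1 else 0 := by
    intro a
    have h1 : g = (g - 1) + 1 := by ring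
    have h2 : g.coeff a = (g - 1).coeff a + (1 : MonoidAlgebra P N).coeff a := by
      conv_lhs => rw [h1, MonoidAlgebra.coeff_add, Finsupp.add_apply]
    rw [h2, coeff_one_eq]
    ring
  refine ⟨le_antisymm ?_ ?_, hidem⟩
  · rw [Ideal.map_le_iff_le_comap]
    intro r hr
    rw [mem_ann] at hr
    have h1 : θ (r • (q - 1)) = 0 := by rw [hr, map_zero]
    rw [map_smul, map_sub, map_one] at h1
    have h2 := congrArg (fun z : MonoidAlgebra P N => z.coeff 1) h1
    simp only [MonoidAlgebra.coeff_smul_apply, MonoidAlgebra.coeff_zero, Finsupp.zero_apply] at h2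
    rw [hcoef 1, if_pos rfl, Algebra.smul_def, mul_sub, mul_one, sub_eq_zero] at h2
    rw [Ideal.mem_comap, Ideal.mem_span_singleton', ← h2]
    exact ⟨_, rfl⟩
  · rw [Ideal.span_le, Set.singleton_subset_iff]
    apply mem_map_ann_of_tmul_eq_zero
    apply hinj
    rw [map_zero, LinearMap.liftBaseChange_tmul]
    change ε • θ (q - 1) = 0
    rw [map_sub, map_one, ← MonoidAlgebra.coeff_inj]
    ext a
    rw [MonoidAlgebra.coeff_smul_apply, hcoef, MonoidAlgebra.coeff_zero, Finsupp.zero_apply,
      smul_eq_mul]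
    by_cases ha : a = 1
    · subst ha
      rw [if_pos rfl, mul_sub, mul_one, hidem.eq, sub_self]
    · rw [if_neg ha, sub_zero, hε, coeff_mul_coeff hg, if_neg (fun h' => ha h'.symm)]

end Groth.Agent.Lib.Helper17.MultLocal
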