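import Groth.Prelude.Def_SGA3b
import Groth.Agent.Lib.Helper27.SemiGroupLike
import Groth.Agent.Lib.Helper27.MultRigid2
import Groth.Agent.Lib.Helper17.MultLocal
import Mathlib.RingTheory.Idempotents
import Mathlib.RingTheory.TensorProduct.MonoidAlgebra
import Mathlib.RingTheory.Flat.FaithfullyFlat.Algebra
import Mathlib.RingTheory.Nilpotent.Lemmas
import Mathlib.RingTheory.Localization.BaseChange

/-!
# Lifting group-like elements modulo a nil ideal: generic lemmas (helper17)

* `nil_map`, `map_mem_smul_top`, `semi_mem_smul_top`, `conv_mem_smul_top`, `functional_mem`: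
  bookkeeping for congruences modulo `J • ⊤`.
* `groupLike_eq_of_sub_mem`: group-like elements of `S[N]` congruent modulo a nil ideal are equal.
* `isGroupLike_map`: base change `S ⊗ C → S' ⊗ C` preserves group-like elements.
* `tmul_comul_sub_eq_zero`, `isGroupLike_of_tmul`: group-likeness descends along faithfully flat maps.
* `tmul_mkQ_eq_zero`: membership in `I • ⊤` after base change.
* `exists_pow_smul_eq_zero`, `exists_pow_smul_eq_tmul`, `exists_pow_smul_eq_zero_of_flat`:
  localisation away from `f` via the tensor product.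
* `assoc_map_includeRight`, `assoc_map_includeLeft`: the two coface maps.
* `exists_glue`: gluing of sections over a covering by basic opens.
* `exists_groupLike_lift`: group-like elements of `P[N]` lift modulo a nil ideal.
-/

set_option autoImplicit false
universe u

namespace Groth.Agent.Lib.Helper17.MultLift

open TensorProduct Groth.Agent.Lib.Helper27.MultRigid Groth.Agent.Lib.Helper17.MultLocal

section Basic

theorem nil_map {S S' : Type*} [CommRing S] [CommRing S'] (f : S →+* S') (J : Ideal S)
    (hJ : ∀ x ∈ J, IsNilpotent x) : ∀ y ∈ J.map f, IsNilpotent y := by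
  intro y hy
  have h : J.map f ≤ nilradical S' := by
    rw [Ideal.map_le_iff_le_comap]
    intro x hx
    rw [Ideal.mem_comap, mem_nilradical]
    exact (hJ x hx).map f
  exact mem_nilradical.1 (h hy)

theorem map_mem_smul_top {k B B' : Type*} [CommRing k] [AddCommGroup B] [Module k B]
    [AddCommGroup B'] [Module k B'] (J : Ideal k) (Ψ : B →ₗ[k] B') {x : B}
    (hx : x ∈ J • (⊤ : Submodule k B)) : Ψ x ∈ J • (⊤ : Submodule k B') := by
  refine Submodule.smul_induction_on hx (fun r hr y _ => ?_) (fun a b ha hb => ?_)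
  · rw [map_smul]; exact Submodule.smul_mem_smul hr trivial
  · rw [map_add]; exact add_mem ha hb

theorem semi_mem_smul_top {k S' B' : Type*} [CommRing k] [CommRing S'] [Algebra k S']
    [AddCommGroup B'] [Module k B'] [Module S' B'] [IsScalarTower k S' B'] (J : Ideal k) {x : B'}
    (hx : x ∈ J • (⊤ : Submodule k B')) :
    x ∈ (J.map (algebraMap k S')) • (⊤ : Submodule S' B') := by
  refine Submodule.smul_induction_on hx (fun r hr y _ => ?_) (fun a b ha hb => add_mem ha hb)
  rw [← algebraMap_smul S' r y]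
  exact Submodule.smul_mem_smul (Ideal.mem_map_of_mem _ hr) trivial

theorem conv_mem_smul_top {k S' B' : Type*} [CommRing k] [CommRing S'] [Algebra k S']
    [AddCommGroup B'] [Module k B'] [Module S' B'] [IsScalarTower k S' B'] (J : Ideal k) {x : B'}
    (hx : x ∈ (J.map (algebraMap k S')) • (⊤ : Submodule S' B')) :
    x ∈ J • (⊤ : Submodule k B') := by
  have key : ∀ r ∈ J.map (algebraMap k S'), ∀ w : B', r • w ∈ J • (⊤ : Submodule k B') := by
    intro r hr
    unfold Ideal.map at hr
    refine Submodule.span_induction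
      (p := fun r _ => ∀ w : B', r • w ∈ J • (⊤ : Submodule k B')) ?_ ?_ ?_ ?_ hr
    · rintro _ ⟨i, hi, rfl⟩ w
      rw [algebraMap_smul]
      exact Submodule.smul_mem_smul hi trivial
    · intro w; rw [zero_smul]; exact zero_mem _
    · intro a b _ _ ha hb w; rw [add_smul]; exact add_mem (ha w) (hb w)
    · intro c a _ ha w
      rw [smul_eq_mul, mul_comm, mul_smul]
      exact ha _
  exact Submodule.smul_induction_on hx (fun r hr y _ => key r hr y) (fun a b ha hb => add_mem ha hb)

theorem functional_mem {S W : Type*} [CommRing S] [AddCommGroup W] [Module S W] (J : Ideal S)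
    (l : W →ₗ[S] S) {w : W} (hw : w ∈ J • (⊤ : Submodule S W)) : l w ∈ J := by
  refine Submodule.smul_induction_on hw (fun r hr y _ => ?_) (fun a b ha hb => ?_)
  · rw [map_smul, smul_eq_mul]; exact J.mul_mem_right _ hr
  · rw [map_add]; exact J.add_mem ha hb

theorem groupLike_eq_of_sub_mem {S N : Type*} [CommRing S] (J : Ideal S)
    (hJ : ∀ x ∈ J, IsNilpotent x) {g g' : MonoidAlgebra S N}
    (hg : IsGroupLikeElem S g) (hg' : IsGroupLikeElem S g')
    (h : g - g' ∈ J • (⊤ : Submodule S (MonoidAlgebra S N))) : g = g' := by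
  classical
  rw [← MonoidAlgebra.coeff_inj]
  ext n
  have h1 : IsIdempotentElem (g.coeff n) := by
    have := coeff_mul_coeff hg n n
    rwa [if_pos rfl] at this
  have h2 : IsIdempotentElem (g'.coeff n) := by
    have := coeff_mul_coeff hg' n n
    rwa [if_pos rfl] at this
  apply eq_of_isNilpotent_sub_of_isIdempotentElem h1 h2
  apply hJ
  have := functional_mem J (coeffL n) h
  rwa [coeffL_apply, MonoidAlgebra.coeff_sub, Finsupp.sub_apply] at this

theorem isSemiCounit_bcMap {k S C : Type*} [CommRing k] [CommRing S] [Algebra k S]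
    [AddCommGroup C] [Module k C] [Coalgebra k C] :
    IsSemiCounit (R := k) (R' := S) (bcMap S C) := by
  intro a
  rw [bcMap_apply, TensorProduct.counit_tmul]
  simp [Algebra.algebraMap_eq_smul_one]

theorem isGroupLike_map {k S S' C : Type*} [CommRing k] [CommRing S] [CommRing S'] [Algebra k S]
    [Algebra k S'] [CommRing C] [HopfAlgebra k C] (ι : S →ₐ[k] S') {x : S ⊗[k] C}
    (hx : IsGroupLikeElem S x) :
    IsGroupLikeElem S' (Algebra.TensorProduct.map ι (AlgHom.id k C) x) := by
  letI : Algebra S S' := ι.toRingHom.toAlgebra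
  haveI : IsScalarTower k S S' := IsScalarTower.of_algebraMap_eq (fun r => (ι.commutes r).symm)
  have h1 : IsSemiComul (R := S) (R' := S') ((bcMap (R := k) S' C).liftBaseChange S) :=
    IsSemiComul.liftBaseChange (isSemiComul_bcMap (R := k) (R' := S') (A := C))
  have h2 : IsSemiCounit (R := S) (R' := S') ((bcMap (R := k) S' C).liftBaseChange S) :=
    IsSemiCounit.liftBaseChange (isSemiCounit_bcMap (k := k) (S := S') (C := C))
  have h3 := isGroupLikeElem_of_semi h1 h2 hx
  have h4 : ∀ z : S ⊗[k] C, (bcMap (R := k) S' C).liftBaseChange S z =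
      Algebra.TensorProduct.map ι (AlgHom.id k C) z := by
    intro z
    induction z using TensorProduct.induction_on with
    | zero => simp
    | tmul s c =>
      rw [LinearMap.liftBaseChange_tmul, bcMap_apply, TensorProduct.smul_tmul',
        Algebra.TensorProduct.map_tmul, AlgHom.id_apply, Algebra.smul_def, mul_one]
      rfl
    | add a b ha hb => rw [map_add, map_add, ha, hb]
  rwa [h4] at h3

theorem Xi_bcMap_eq {k S C : Type*} [CommRing k] [CommRing S] [Algebra k S] [AddCommGroup C]
    [Module k C] (z : C ⊗[k] C) :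
    Xi (R := k) (R' := S) (bcMap S C) z =
      TensorProduct.AlgebraTensorModule.distribBaseChange k S C C ((1 : S) ⊗ₜ[k] z) := by
  induction z using TensorProduct.induction_on with
  | zero => simp
  | tmul x y =>
    rw [Xi_tmul, TensorProduct.AlgebraTensorModule.distribBaseChange_tmul]
    rfl
  | add x y hx hy => rw [map_add, TensorProduct.tmul_add, map_add, hx, hy]

theorem tmul_comul_sub_eq_zero {k S C : Type*} [CommRing k] [CommRing S] [Algebra k S]
    [CommRing C] [HopfAlgebra k C] {g : C} (h : IsGroupLikeElem S ((1 : S) ⊗ₜ[k] g)) :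
    (1 : S) ⊗ₜ[k] (Coalgebra.comul (R := k) g - g ⊗ₜ[k] g) = 0 ∧
      algebraMap k S (Coalgebra.counit (R := k) g - 1) = 0 := by
  constructor
  · have h1 := isSemiComul_bcMap (R := k) (R' := S) (A := C) g
    rw [bcMap_apply, h.comul_eq_tmul_self, Xi_bcMap_eq] at h1
    have h2 : ((1 : S) ⊗ₜ[k] g) ⊗ₜ[S] ((1 : S) ⊗ₜ[k] g) =
        TensorProduct.AlgebraTensorModule.distribBaseChange k S C C
          ((1 : S) ⊗ₜ[k] (g ⊗ₜ[k] g)) := by
      rw [TensorProduct.AlgebraTensorModule.distribBaseChange_tmul]
    rw [h2] at h1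
    have h3 := (TensorProduct.AlgebraTensorModule.distribBaseChange k S C C).injective h1
    rw [TensorProduct.tmul_sub, ← h3, sub_self]
  · have h1 := isSemiCounit_bcMap (k := k) (S := S) (C := C) g
    rw [bcMap_apply, h.counit_eq_one] at h1
    rw [map_sub, map_one, ← h1, sub_self]

theorem isGroupLike_of_tmul {k S C : Type*} [CommRing k] [CommRing S] [Algebra k S]
    [Module.FaithfullyFlat k S] [CommRing C] [HopfAlgebra k C] {g : C}
    (h : IsGroupLikeElem S ((1 : S) ⊗ₜ[k] g)) : IsGroupLikeElem k g := by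
  obtain ⟨h1, h2⟩ := tmul_comul_sub_eq_zero h
  have inj1 := Module.FaithfullyFlat.tensorProduct_mk_injective (A := k) (B := S) (C ⊗[k] C)
  have inj2 := Module.FaithfullyFlat.tensorProduct_mk_injective (A := k) (B := S) k
  constructor
  · have h3 : TensorProduct.mk k S k 1 (Coalgebra.counit (R := k) g - 1) =
        TensorProduct.mk k S k 1 0 := by
      rw [TensorProduct.mk_apply, TensorProduct.mk_apply, TensorProduct.tmul_zero]
      have : (1 : S) ⊗ₜ[k] (Coalgebra.counit (R := k) g - 1) =
          (algebraMap k S (Coalgebra.counit (R := k) g - 1)) ⊗ₜ[k] (1 : k) := by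
        rw [Algebra.algebraMap_eq_smul_one, TensorProduct.smul_tmul, smul_eq_mul, mul_one]
      rw [this, h2, TensorProduct.zero_tmul]
    exact sub_eq_zero.1 (inj2 h3)
  · have h3 : TensorProduct.mk k S (C ⊗[k] C) 1 (Coalgebra.comul (R := k) g - g ⊗ₜ[k] g) =
        TensorProduct.mk k S (C ⊗[k] C) 1 0 := by
      rw [TensorProduct.mk_apply, TensorProduct.mk_apply, TensorProduct.tmul_zero, h1]
    exact sub_eq_zero.1 (inj1 h3)

theorem tmul_mkQ_eq_zero {k S C : Type*} [CommRing k] [CommRing S] [Algebra k S] [AddCommGroup C]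
    [Module k C] (I₀ : Ideal k) {d : C}
    (h : (1 : S) ⊗ₜ[k] d ∈ I₀ • (⊤ : Submodule k (S ⊗[k] C))) :
    (1 : S) ⊗ₜ[k] ((I₀ • (⊤ : Submodule k C)).mkQ d) = 0 := by
  have h1 := map_mem_smul_top I₀ (LinearMap.lTensor S (I₀ • (⊤ : Submodule k C)).mkQ) h
  rw [LinearMap.lTensor_tmul] at h1
  have h2 : I₀ • (⊤ : Submodule k (S ⊗[k] (C ⧸ I₀ • (⊤ : Submodule k C)))) = ⊥ := by
    rw [eq_bot_iff, Submodule.smul_le]
    intro i hi w hw
    clear hw
    rw [Submodule.mem_bot]
    induction w using TensorProduct.induction_on with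
    | zero => simp
    | tmul p c =>
      obtain ⟨c, rfl⟩ := Submodule.mkQ_surjective _ c
      rw [← TensorProduct.tmul_smul, ← map_smul, Submodule.mkQ_apply,
        (Submodule.Quotient.mk_eq_zero (I₀ • (⊤ : Submodule k C))).2
          (Submodule.smul_mem_smul hi Submodule.mem_top),
        TensorProduct.tmul_zero]
    | add x y hx hy => rw [smul_add, hx, hy, add_zero]
  rw [h2] at h1
  exact (Submodule.mem_bot _).1 h1

end Basic

section Localization

variable {R : Type*} [CommRing R] {Q : Type*} [AddCommGroup Q] [Module R Q]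

theorem isLocalizedModule_mk (f : R) :
    IsLocalizedModule (Submonoid.powers f) (TensorProduct.mk R (Localization.Away f) Q 1) :=
  (isLocalizedModule_iff_isBaseChange (Submonoid.powers f) (Localization.Away f) _).mpr
    (TensorProduct.isBaseChange R Q (Localization.Away f))

theorem exists_pow_smul_eq_zero (f : R) (d : Q)
    (h : (1 : Localization.Away f) ⊗ₜ[R] d = 0) : ∃ m : ℕ, f ^ m • d = 0 := by
  have hloc := isLocalizedModule_mk (Q := Q) f
  have h1 : TensorProduct.mk R (Localization.Away f) Q 1 d =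
      TensorProduct.mk R (Localization.Away f) Q 1 0 := by
    simp only [TensorProduct.mk_apply, h, TensorProduct.tmul_zero]
  obtain ⟨⟨c, n, rfl⟩, hc⟩ := hloc.exists_of_eq (S := Submonoid.powers f) h1
  refine ⟨n, ?_⟩
  have hc' : f ^ n • d = f ^ n • (0 : Q) := hc
  simpa using hc'

theorem exists_pow_smul_eq_tmul (f : R) (y : Localization.Away f ⊗[R] Q) :
    ∃ (c : Q) (n : ℕ), f ^ n • y = (1 : Localization.Away f) ⊗ₜ[R] c := by
  have hloc := isLocalizedModule_mk (Q := Q) f
  obtain ⟨⟨c, ⟨_, n, rfl⟩⟩, hc⟩ := hloc.surj y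
  exact ⟨c, n, hc⟩

theorem smul_pow_injective (f : R) (n : ℕ) (y : Localization.Away f ⊗[R] Q)
    (h : f ^ n • y = 0) : y = 0 := by
  have hu : IsUnit (algebraMap R (Localization.Away f) (f ^ n)) := by
    rw [map_pow]
    exact (IsLocalization.Away.algebraMap_isUnit f).pow n
  obtain ⟨u, hu⟩ := hu
  have h1 : (u : Localization.Away f) • y = 0 := by
    rw [hu, algebraMap_smul]; exact h
  have h2 := congrArg (fun z => ((u⁻¹ : (Localization.Away f)ˣ) : Localization.Away f) • z) h1
  simpa [smul_smul] using h2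

theorem exists_pow_smul_eq_zero_of_flat (f : R) {P : Type*} [CommRing P] [Algebra R P]
    [Algebra (Localization.Away f) P] [IsScalarTower R (Localization.Away f) P]
    [Module.FaithfullyFlat (Localization.Away f) P] (q : Q) (h : (1 : P) ⊗ₜ[R] q = 0) :
    ∃ n : ℕ, f ^ n • q = 0 := by
  apply exists_pow_smul_eq_zero f q
  apply Module.FaithfullyFlat.tensorProduct_mk_injective (A := Localization.Away f) (B := P)
    (Localization.Away f ⊗[R] Q)
  rw [map_zero, TensorProduct.mk_apply]
  have := congrArg (TensorProduct.AlgebraTensorModule.cancelBaseChange R (Localization.Away f)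
    P P Q).symm h
  rw [TensorProduct.AlgebraTensorModule.cancelBaseChange_symm_tmul, map_zero] at this
  exact this

end Localization

section Assoc

variable {k S₁ S₂ C : Type*} [CommRing k] [CommRing S₁] [CommRing S₂] [Algebra k S₁]
  [Algebra k S₂] [CommRing C] [Algebra k C]

theorem assoc_map_includeRight (y : S₂ ⊗[k] C) :
    TensorProduct.assoc k S₁ S₂ C (Algebra.TensorProduct.map
      (Algebra.TensorProduct.includeRight : S₂ →ₐ[k] S₁ ⊗[k] S₂) (AlgHom.id k C) y) =
      (1 : S₁) ⊗ₜ[k] y := by
  induction y using TensorProduct.induction_on with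
  | zero => simp
  | tmul s c =>
    rw [Algebra.TensorProduct.map_tmul, Algebra.TensorProduct.includeRight_apply,
      AlgHom.id_apply, TensorProduct.assoc_tmul]
  | add a b ha hb => rw [map_add, map_add, ha, hb, TensorProduct.tmul_add]

theorem assoc_map_includeLeft (y : S₁ ⊗[k] C) :
    TensorProduct.assoc k S₁ S₂ C (Algebra.TensorProduct.map
      (Algebra.TensorProduct.includeLeft : S₁ →ₐ[k] S₁ ⊗[k] S₂) (AlgHom.id k C) y) =
      LinearMap.lTensor S₁ (TensorProduct.mk k S₂ C 1) y := by
  induction y using TensorProduct.induction_on with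
  | zero => simp
  | tmul s c =>
    rw [Algebra.TensorProduct.map_tmul, Algebra.TensorProduct.includeLeft_apply,
      AlgHom.id_apply, TensorProduct.assoc_tmul, LinearMap.lTensor_tmul, TensorProduct.mk_apply]
  | add a b ha hb => rw [map_add, map_add, ha, hb, map_add]

theorem map_map_id {S₃ : Type*} [CommRing S₃] [Algebra k S₃] (j : S₂ →ₐ[k] S₃) (i : S₁ →ₐ[k] S₂)
    (y : S₁ ⊗[k] C) :
    Algebra.TensorProduct.map j (AlgHom.id k C) (Algebra.TensorProduct.map i (AlgHom.id k C) y) =
      Algebra.TensorProduct.map (j.comp i) (AlgHom.id k C) y := by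
  induction y using TensorProduct.induction_on with
  | zero => simp
  | tmul s c => simp only [Algebra.TensorProduct.map_tmul, AlgHom.id_apply, AlgHom.comp_apply]
  | add a b ha hb => rw [map_add, map_add, map_add, ha, hb]

theorem map_one_tmul (i : S₁ →ₐ[k] S₂) (c : C) :
    Algebra.TensorProduct.map i (AlgHom.id k C) ((1 : S₁) ⊗ₜ[k] c) = (1 : S₂) ⊗ₜ[k] c := by
  rw [Algebra.TensorProduct.map_tmul, map_one, AlgHom.id_apply]

end Assoc

section Glue

theorem exists_uniform {α : Type*} [DecidableEq α] (s : Finset α) (p : α → ℕ → Prop)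
    (hmono : ∀ a m m', m ≤ m' → p a m → p a m') (h : ∀ a ∈ s, ∃ m, p a m) :
    ∃ m, ∀ a ∈ s, p a m := by
  induction s using Finset.induction_on with
  | empty => exact ⟨0, fun a ha => absurd ha (Finset.notMem_empty a)⟩
  | insert a s ha ih =>
    obtain ⟨m₁, hm₁⟩ := ih (fun b hb => h b (Finset.mem_insert_of_mem hb))
    obtain ⟨m₂, hm₂⟩ := h a (Finset.mem_insert_self a s)
    refine ⟨max m₁ m₂, fun b hb => ?_⟩
    rcases Finset.mem_insert.1 hb with rfl | hb
    · exact hmono _ _ _ (le_max_right _ _) hm₂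
    · exact hmono _ _ _ (le_max_left _ _) (hm₁ b hb)

variable {R : Type*} [CommRing R] {Q : Type*} [AddCommGroup Q] [Module R Q]

theorem exists_glue (s₀ : Finset R) (hs₀ : Ideal.span (s₀ : Set R) = ⊤)
    (y : ∀ f : R, Localization.Away f ⊗[R] Q)
    (hcompat : ∀ f ∈ s₀, ∀ f' ∈ s₀, (1 : Localization.Away f') ⊗ₜ[R] y f =
      LinearMap.lTensor (Localization.Away f') (TensorProduct.mk R (Localization.Away f) Q 1)
        (y f')) :
    ∃ b : Q, ∀ f ∈ s₀, (1 : Localization.Away f) ⊗ₜ[R] b = y f := by
  classical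
  let 𝔞 : Ideal R :=
    { carrier := {r | ∃ b : Q, ∀ f ∈ s₀, (1 : Localization.Away f) ⊗ₜ[R] b = r • y f}
      add_mem' := by
        rintro r r' ⟨b, hb⟩ ⟨b', hb'⟩
        exact ⟨b + b', fun f hf => by rw [TensorProduct.tmul_add, hb f hf, hb' f hf, add_smul]⟩
      zero_mem' := ⟨0, fun f _ => by rw [TensorProduct.tmul_zero, zero_smul]⟩
      smul_mem' := by
        rintro c r ⟨b, hb⟩
        exact ⟨c • b, fun f hf => by
          rw [TensorProduct.tmul_smul, hb f hf, smul_eq_mul, mul_smul]⟩ }
  have hmem : ∀ r : R, r ∈ 𝔞 ↔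
      ∃ b : Q, ∀ f ∈ s₀, (1 : Localization.Away f) ⊗ₜ[R] b = r • y f := fun r => Iff.rfl
  have key : ∀ f' ∈ s₀, ∃ K : ℕ, f' ^ K ∈ 𝔞 := by
    intro f' hf'
    obtain ⟨c, k, hk⟩ := exists_pow_smul_eq_tmul f' (y f')
    have h1 : ∀ f ∈ s₀, ∃ m : ℕ, f' ^ m • (f' ^ k • y f - (1 : Localization.Away f) ⊗ₜ[R] c) = 0 := by
      intro f hf
      refine exists_pow_smul_eq_zero (Q := Localization.Away f ⊗[R] Q) f' _ ?_
      rw [TensorProduct.tmul_sub, TensorProduct.tmul_smul, hcompat f hf f' hf', ← map_smul, hk,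
        LinearMap.lTensor_tmul, TensorProduct.mk_apply, sub_self]
    obtain ⟨m, hm⟩ := exists_uniform s₀
      (fun f m => f' ^ m • (f' ^ k • y f - (1 : Localization.Away f) ⊗ₜ[R] c) = 0)
      (fun f m m' hmm hp => by
        obtain ⟨j, rfl⟩ := Nat.exists_eq_add_of_le hmm
        rw [pow_add, mul_comm, mul_smul, hp, smul_zero]) h1
    refine ⟨m + k, (hmem _).2 ⟨f' ^ m • c, fun f hf => ?_⟩⟩
    have h2 := hm f hf
    rw [smul_sub, sub_eq_zero, smul_smul, ← pow_add] at h2
    rw [TensorProduct.tmul_smul, ← h2]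
  have h1 : (1 : R) ∈ 𝔞 := by
    apply Submodule.mem_of_span_eq_top_of_smul_pow_mem 𝔞 (s₀ : Set R) hs₀
    rintro ⟨f', hf'⟩
    obtain ⟨K, hK⟩ := key f' hf'
    exact ⟨K, by rwa [smul_eq_mul, mul_one]⟩
  obtain ⟨b, hb⟩ := (hmem 1).1 h1
  exact ⟨b, fun f hf => by rw [hb f hf, one_smul]⟩

end Glue

section Lift

theorem counit_eq_sum {P N : Type*} [CommRing P] (y : MonoidAlgebra P N) :
    Coalgebra.counit (R := P) y = y.coeff.sum fun _ c => c := by
  conv_lhs => rw [← MonoidAlgebra.sum_coeff_single y]
  rw [Finsupp.sum, map_sum, Finsupp.sum]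
  refine Finset.sum_congr rfl fun n _ => ?_
  rw [MonoidAlgebra.counit_single]
  rfl

theorem exists_groupLike_lift {P N : Type*} [CommRing P] [Monoid N] [DecidableEq N] (J : Ideal P)
    (hJ : ∀ x ∈ J, IsNilpotent x) (y : MonoidAlgebra P N)
    (h1 : ∀ n n' : N, y.coeff n * y.coeff n' - (if n = n' then y.coeff n else 0) ∈ J)
    (h2 : Coalgebra.counit (R := P) y - 1 ∈ J) :
    ∃ γ : MonoidAlgebra P N, IsGroupLikeElem P γ ∧
      γ - y ∈ J • (⊤ : Submodule P (MonoidAlgebra P N)) := by
  set supp := y.coeff.support with hsupp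
  have hker : ∀ x ∈ RingHom.ker (Ideal.Quotient.mk J), IsNilpotent x := fun x hx =>
    hJ x (by rwa [Ideal.mk_ker] at hx)
  let cbar : supp → P ⧸ J := fun i => Ideal.Quotient.mk J (y.coeff i)
  have hcoi : CompleteOrthogonalIdempotents cbar :=
    { idem := fun i => by
        have := h1 i i
        rw [if_pos rfl] at this
        change Ideal.Quotient.mk J (y.coeff i) * Ideal.Quotient.mk J (y.coeff i) =
          Ideal.Quotient.mk J (y.coeff i)
        rw [← map_mul]
        exact (Ideal.Quotient.eq).2 this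
      ortho := fun i j hij => by
        have hne : (i : N) ≠ j := fun h => hij (Subtype.ext h)
        have := h1 i j
        rw [if_neg hne, sub_zero] at this
        change Ideal.Quotient.mk J (y.coeff i) * Ideal.Quotient.mk J (y.coeff j) = 0
        rw [← map_mul]
        exact (Ideal.Quotient.eq_zero_iff_mem).2 this
      complete := by
        change ∑ i : supp, Ideal.Quotient.mk J (y.coeff i) = 1
        rw [← map_sum, Finset.sum_coe_sort supp (fun n => y.coeff n)]
        have : ∑ n ∈ supp, y.coeff n = Coalgebra.counit (R := P) y := by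
          rw [counit_eq_sum]; rfl
        rw [this, ← map_one (Ideal.Quotient.mk J)]
        exact (Ideal.Quotient.eq).2 h2 }
  obtain ⟨e', he', hee'⟩ := hcoi.lift_of_isNilpotent_ker (Ideal.Quotient.mk J) hker
    (fun i => ⟨y.coeff i, rfl⟩)
  have hmem : ∀ i : supp, e' i - y.coeff i ∈ J := by
    intro i
    have := congrFun hee' i
    exact (Ideal.Quotient.eq).1 this
  refine ⟨∑ i : supp, e' i • MonoidAlgebra.of P N (i : N), ⟨?_, ?_⟩, ?_⟩
  · rw [map_sum]
    refine (Finset.sum_congr rfl fun i _ => ?_).trans he'.complete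
    rw [map_smul, (MonoidAlgebra.isGroupLikeElem_of (R := P) (A := P) (i : N)).counit_eq_one,
      smul_eq_mul, mul_one]
  · rw [map_sum, TensorProduct.sum_tmul]
    refine Finset.sum_congr rfl fun i _ => ?_
    rw [TensorProduct.tmul_sum, map_smul,
      (MonoidAlgebra.isGroupLikeElem_of (R := P) (A := P) (i : N)).comul_eq_tmul_self]
    rw [Finset.sum_eq_single i]
    · rw [TensorProduct.smul_tmul_smul, he'.idem i]
    · intro j _ hji
      rw [TensorProduct.smul_tmul_smul, he'.ortho (Ne.symm hji), zero_smul]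
    · intro h; exact absurd (Finset.mem_univ i) h
  · have hy : y = ∑ i : supp, y.coeff i • MonoidAlgebra.of P N (i : N) := by
      conv_lhs => rw [← MonoidAlgebra.sum_coeff_single y]
      rw [Finsupp.sum, ← Finset.sum_coe_sort supp]
      refine Finset.sum_congr rfl fun i _ => ?_
      rw [MonoidAlgebra.of_apply, MonoidAlgebra.smul_single, smul_eq_mul, mul_one]
    have hd : (∑ i : supp, e' i • MonoidAlgebra.of P N (i : N)) - y =
        ∑ i : supp, (e' i - y.coeff i) • MonoidAlgebra.of P N (i : N) := by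
      conv_lhs => rw [hy]
      rw [← Finset.sum_sub_distrib]
      exact Finset.sum_congr rfl fun i _ => (sub_smul _ _ _).symm
    rw [hd]
    exact Submodule.sum_mem _ fun i _ => Submodule.smul_mem_smul (hmem i) Submodule.mem_top

end Lift

end Groth.Agent.Lib.Helper17.MultLift
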