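import Mathlib
import Groth.Prelude.Def_SGA3b
import Groth.Agent.Lib.Helper27.SemiGroupLike
import Groth.Agent.Lib.Helper17.MultLift

/-!
# `n`-torsion of groups of multiplicative type (helper17)

* `powConv_zero_apply`, `powConv_succ_apply`, `powConv_groupLike`: formulas for the `n`-th power endomorphism.
* `map_powConv`: semi-linear bialgebra maps commute with `powConv`.
* `map_torsionIdeal`, `torsionIdeal_baseChange`, `map_torsionIdeal_of_surjective`: transport of `torsionIdeal`.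
* `torsionIdeal_monoidAlgebra`: `torsionIdeal R[M] n = ker (R[M] → R[M/Mⁿ])`.
* `nonempty_bialgEquiv_of_ker_eq`: two surjective bialgebra maps with the same kernel have isomorphic targets.
* `core`: the n-torsion of a constant-type multiplicative group is of constant multiplicative type and finite.
-/

set_option autoImplicit false
universe u
open TensorProduct SGA3b

namespace Groth.Agent.Lib.Helper17.TorsionMT

open Groth.Agent.Lib.Helper27.MultRigid Groth.Agent.Lib.Helper17.MultLift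

section Pow

variable {R : Type u} [CommRing R] {A : Type u} [CommRing A] [HopfAlgebra R A]

theorem powConv_zero_apply (a : A) :
    powConv R A 0 a = algebraMap R A (Coalgebra.counit (R := R) a) := by
  unfold powConv
  rw [pow_zero]
  rfl

theorem powConv_succ_apply (n : ℕ) (a : A) :
    powConv R A (n + 1) a =
      Algebra.TensorProduct.lift (powConv R A n) (AlgHom.id R A) (fun _ _ => Commute.all _ _)
        (Coalgebra.comul (R := R) a) := by
  unfold powConv
  rw [pow_succ]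
  exact AlgHom.convMul_apply _ _ a

theorem powConv_groupLike {g : A} (hg : IsGroupLikeElem R g) (n : ℕ) :
    powConv R A n g = g ^ n := by
  induction n with
  | zero => rw [powConv_zero_apply, hg.counit_eq_one, map_one, pow_zero]
  | succ n ih =>
    rw [powConv_succ_apply, hg.comul_eq_tmul_self, Algebra.TensorProduct.lift_tmul, ih,
      AlgHom.id_apply, pow_succ]

end Pow

section Nat

variable {R R' : Type u} [CommRing R] [CommRing R'] [Algebra R R']
  {A B : Type u} [CommRing A] [CommRing B] [HopfAlgebra R A] [HopfAlgebra R' B]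
  [Algebra R B] [IsScalarTower R R' B]

theorem map_powConv (θ : A →ₐ[R] B)
    (h1 : IsSemiComul (R := R) (R' := R') θ.toLinearMap)
    (h2 : IsSemiCounit (R := R) (R' := R') θ.toLinearMap) (n : ℕ) (a : A) :
    θ (powConv R A n a) = powConv R' B n (θ a) := by
  induction n generalizing a with
  | zero =>
    rw [powConv_zero_apply, powConv_zero_apply, AlgHom.commutes,
      IsScalarTower.algebraMap_apply R R' B]
    congr 1
    exact (h2 a).symm
  | succ n ih =>
    rw [powConv_succ_apply, powConv_succ_apply]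
    have h3 : Coalgebra.comul (R := R') (θ a) =
        Xi (R' := R') θ.toLinearMap (Coalgebra.comul (R := R) a) := h1 a
    rw [h3]
    generalize Coalgebra.comul (R := R) a = z
    induction z using TensorProduct.induction_on with
    | zero => simp
    | tmul x y =>
      rw [Xi_tmul, Algebra.TensorProduct.lift_tmul, Algebra.TensorProduct.lift_tmul, map_mul, ih]
      rfl
    | add x y hx hy => rw [map_add, map_add, map_add, map_add, hx, hy]

theorem map_torsionIdeal (θ : A →ₐ[R] B)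
    (h1 : IsSemiComul (R := R) (R' := R') θ.toLinearMap)
    (h2 : IsSemiCounit (R := R) (R' := R') θ.toLinearMap)
    (h3 : Ideal.map θ (RingHom.ker (Bialgebra.counitAlgHom R A)) =
      RingHom.ker (Bialgebra.counitAlgHom R' B)) (n : ℕ) :
    Ideal.map θ (torsionIdeal R A n) = torsionIdeal R' B n := by
  unfold torsionIdeal
  rw [← h3]
  apply le_antisymm
  · rw [Ideal.map_le_iff_le_comap, Ideal.map_le_iff_le_comap]
    intro x hx
    rw [Ideal.mem_comap, Ideal.mem_comap, map_powConv θ h1 h2]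
    exact Ideal.mem_map_of_mem _ (Ideal.mem_map_of_mem _ hx)
  · rw [Ideal.map_le_iff_le_comap, Ideal.map_le_iff_le_comap]
    intro x hx
    rw [Ideal.mem_comap, Ideal.mem_comap, ← map_powConv θ h1 h2]
    exact Ideal.mem_map_of_mem _ (Ideal.mem_map_of_mem _ hx)

end Nat

section BC

variable (R R' A : Type u) [CommRing R] [CommRing R'] [Algebra R R'] [CommRing A]
  [HopfAlgebra R A]

theorem map_includeRight_ker_counit :
    Ideal.map (Algebra.TensorProduct.includeRight : A →ₐ[R] R' ⊗[R] A)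
        (RingHom.ker (Bialgebra.counitAlgHom R A)) =
      RingHom.ker (Bialgebra.counitAlgHom R' (R' ⊗[R] A)) := by
  apply le_antisymm
  · rw [Ideal.map_le_iff_le_comap]
    intro a ha
    rw [RingHom.mem_ker, Bialgebra.counitAlgHom_apply] at ha
    rw [Ideal.mem_comap, RingHom.mem_ker, Bialgebra.counitAlgHom_apply,
      Algebra.TensorProduct.includeRight_apply]
    have h1 := isSemiCounit_bcMap (k := R) (S := R') (C := A) a
    rw [bcMap_apply] at h1
    rw [h1, ha, map_zero]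
  · intro z hz
    rw [RingHom.mem_ker, Bialgebra.counitAlgHom_apply] at hz
    have key : ∀ z : R' ⊗[R] A,
        z - algebraMap R' (R' ⊗[R] A) (Coalgebra.counit (R := R') z) ∈
          Ideal.map (Algebra.TensorProduct.includeRight : A →ₐ[R] R' ⊗[R] A)
            (RingHom.ker (Bialgebra.counitAlgHom R A)) := by
      intro z
      induction z using TensorProduct.induction_on with
      | zero => simp
      | tmul r a =>
        have h1 : r ⊗ₜ[R] a -
            algebraMap R' (R' ⊗[R] A) (Coalgebra.counit (R := R') (r ⊗ₜ[R] a)) =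
            (r ⊗ₜ[R] (1 : A)) * (Algebra.TensorProduct.includeRight : A →ₐ[R] R' ⊗[R] A)
              (a - algebraMap R A (Coalgebra.counit (R := R) a)) := by
          rw [TensorProduct.counit_tmul, Algebra.TensorProduct.includeRight_apply,
            Algebra.TensorProduct.tmul_mul_tmul, mul_one, one_mul, TensorProduct.tmul_sub,
            Algebra.TensorProduct.algebraMap_apply, Algebra.algebraMap_eq_smul_one (A := A),
            TensorProduct.tmul_smul, TensorProduct.smul_tmul']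
          rfl
        rw [h1]
        refine Ideal.mul_mem_left _ _ (Ideal.mem_map_of_mem _ ?_)
        rw [RingHom.mem_ker, map_sub, AlgHom.commutes, Bialgebra.counitAlgHom_apply]
        simp
      | add x y hx hy =>
        have h1 : x + y - algebraMap R' (R' ⊗[R] A) (Coalgebra.counit (R := R') (x + y)) =
            (x - algebraMap R' (R' ⊗[R] A) (Coalgebra.counit (R := R') x)) +
              (y - algebraMap R' (R' ⊗[R] A) (Coalgebra.counit (R := R') y)) := by
          rw [map_add, map_add]; ring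
        rw [h1]
        exact add_mem hx hy
    have h2 := key z
    rwa [hz, map_zero, sub_zero] at h2

theorem torsionIdeal_baseChange (n : ℕ) :
    Ideal.map (Algebra.TensorProduct.includeRight : A →ₐ[R] R' ⊗[R] A) (torsionIdeal R A n) =
      torsionIdeal R' (R' ⊗[R] A) n := by
  have e : (Algebra.TensorProduct.includeRight : A →ₐ[R] R' ⊗[R] A).toLinearMap = bcMap R' A :=
    LinearMap.ext fun a => rfl
  refine map_torsionIdeal _ ?_ ?_ (map_includeRight_ker_counit R R' A) n
  · rw [e]; exact isSemiComul_bcMap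
  · rw [e]; exact isSemiCounit_bcMap

end BC

section Surj

variable {R' B B' : Type u} [CommRing R'] [CommRing B] [CommRing B'] [HopfAlgebra R' B]
  [HopfAlgebra R' B']

theorem map_torsionIdeal_of_surjective (φ : B →ₐc[R'] B') (hφ : Function.Surjective φ) (n : ℕ) :
    Ideal.map (φ : B →ₐ[R'] B') (torsionIdeal R' B n) = torsionIdeal R' B' n := by
  have hc : ∀ b, Coalgebra.counit (R := R') (φ b) = Coalgebra.counit (R := R') b :=
    fun b => CoalgHomClass.counit_comp_apply φ b
  refine map_torsionIdeal (R := R') (R' := R') (φ : B →ₐ[R'] B') ?_ ?_ ?_ n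
  · exact isSemiComul_coalgHom (φ : B →ₗc[R'] B')
  · intro b
    exact hc b
  · apply le_antisymm
    · rw [Ideal.map_le_iff_le_comap]
      intro b hb
      rw [RingHom.mem_ker, Bialgebra.counitAlgHom_apply] at hb
      rw [Ideal.mem_comap, RingHom.mem_ker, Bialgebra.counitAlgHom_apply]
      exact (hc b).trans hb
    · intro b' hb'
      obtain ⟨b, rfl⟩ := hφ b'
      rw [RingHom.mem_ker, Bialgebra.counitAlgHom_apply, hc b] at hb'
      exact Ideal.mem_map_of_mem _ (by rw [RingHom.mem_ker, Bialgebra.counitAlgHom_apply]; exact hb')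

end Surj

section MonAlg

theorem monAlgHom_ext {R' M B : Type*} [CommRing R'] [Monoid M] [Semiring B] [Algebra R' B]
    {φ₁ φ₂ : MonoidAlgebra R' M →ₐ[R'] B}
    (h : ∀ m, φ₁ (MonoidAlgebra.single m 1) = φ₂ (MonoidAlgebra.single m 1)) : φ₁ = φ₂ :=
  MonoidAlgebra.algHom_ext h (AlgHom.ext fun r =>
    ((φ₁.comp MonoidAlgebra.singleOneAlgHom).commutes r).trans
      ((φ₂.comp MonoidAlgebra.singleOneAlgHom).commutes r).symm)

variable (R' : Type u) [CommRing R'] (M : Type u) [CommGroup M] (n : ℕ)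

/-- the subgroup of `n`-th powers -/
abbrev Npow : Subgroup M := (powMonoidHom n : M →* M).range

/-- the projection `R'[M] → R'[M/Mⁿ]` -/
noncomputable abbrev piQ : MonoidAlgebra R' M →ₐc[R'] MonoidAlgebra R' (M ⧸ Npow M n) :=
  MonoidAlgebra.mapDomainBialgHom R' (QuotientGroup.mk' (Npow M n))

theorem piQ_surjective : Function.Surjective (piQ R' M n) := by
  intro y
  induction y using MonoidAlgebra.induction_on with
  | of m =>
    obtain ⟨m, rfl⟩ := QuotientGroup.mk_surjective m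
    refine ⟨MonoidAlgebra.of R' M m, ?_⟩
    rw [MonoidAlgebra.of_apply, MonoidAlgebra.mapDomainBialgHom_single]
    rfl
  | add x y hx hy =>
    obtain ⟨x, rfl⟩ := hx
    obtain ⟨y, rfl⟩ := hy
    exact ⟨x + y, map_add _ _ _⟩
  | smul r x hx =>
    obtain ⟨x, rfl⟩ := hx
    exact ⟨r • x, map_smul _ _ _⟩

theorem quot_pow_eq_one (x : M ⧸ Npow M n) : x ^ n = 1 := by
  obtain ⟨m, rfl⟩ := QuotientGroup.mk_surjective x
  rw [← QuotientGroup.mk_pow, QuotientGroup.eq_one_iff]
  exact ⟨m, rfl⟩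

theorem torsionIdeal_quot_eq_bot :
    torsionIdeal R' (MonoidAlgebra R' (M ⧸ Npow M n)) n = ⊥ := by
  have hp : powConv R' (MonoidAlgebra R' (M ⧸ Npow M n)) n =
      (Algebra.ofId R' _).comp (Bialgebra.counitAlgHom R' _) := by
    apply monAlgHom_ext
    intro m
    rw [powConv_groupLike (MonoidAlgebra.isGroupLikeElem_single_one m), MonoidAlgebra.single_pow,
      quot_pow_eq_one, one_pow, AlgHom.comp_apply, Bialgebra.counitAlgHom_apply,
      MonoidAlgebra.counit_single]
    simp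
  unfold torsionIdeal
  rw [hp, eq_bot_iff, Ideal.map_le_iff_le_comap]
  intro x hx
  rw [Ideal.mem_comap, AlgHom.comp_apply, (RingHom.mem_ker).1 hx, map_zero]
  exact Ideal.zero_mem _

theorem torsionIdeal_le_ker :
    torsionIdeal R' (MonoidAlgebra R' M) n ≤
      RingHom.ker (piQ R' M n).toAlgHom := by
  have h1 := map_torsionIdeal_of_surjective (piQ R' M n) (piQ_surjective R' M n) n
  rw [torsionIdeal_quot_eq_bot] at h1
  intro x hx
  have h2 : (piQ R' M n).toAlgHom x ∈
      Ideal.map (piQ R' M n).toAlgHom (torsionIdeal R' (MonoidAlgebra R' M) n) :=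
    Ideal.mem_map_of_mem (piQ R' M n).toAlgHom hx
  rw [h1] at h2
  exact (RingHom.mem_ker).2 ((Submodule.mem_bot _).1 h2)

theorem ker_le_torsionIdeal :
    RingHom.ker (piQ R' M n).toAlgHom ≤
      torsionIdeal R' (MonoidAlgebra R' M) n := by
  set J := torsionIdeal R' (MonoidAlgebra R' M) n with hJ
  have hN : ∀ m : M, Ideal.Quotient.mk J (MonoidAlgebra.of R' M (m ^ n)) = 1 := by
    intro m
    rw [← map_one (Ideal.Quotient.mk J), ← sub_eq_zero, ← map_sub, Ideal.Quotient.eq_zero_iff_mem]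
    have h1 : powConv R' (MonoidAlgebra R' M) n (MonoidAlgebra.of R' M m - 1) =
        MonoidAlgebra.of R' M (m ^ n) - 1 := by
      rw [map_sub, map_one, MonoidAlgebra.of_apply,
        powConv_groupLike (MonoidAlgebra.isGroupLikeElem_single_one m), MonoidAlgebra.single_pow,
        one_pow, MonoidAlgebra.of_apply]
    rw [← h1, hJ]
    unfold torsionIdeal
    refine Ideal.mem_map_of_mem _ ?_
    rw [RingHom.mem_ker, map_sub, map_one, Bialgebra.counitAlgHom_apply, MonoidAlgebra.of_apply,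
      MonoidAlgebra.counit_single]
    simp
  let F : M →* (MonoidAlgebra R' M ⧸ J) :=
    ((Ideal.Quotient.mk J : MonoidAlgebra R' M →+* _) : MonoidAlgebra R' M →* _).comp
      (MonoidAlgebra.of R' M)
  have hF : ∀ m, F m = Ideal.Quotient.mk J (MonoidAlgebra.of R' M m) := fun m => rfl
  let F' : M ⧸ Npow M n →* (MonoidAlgebra R' M ⧸ J) :=
    QuotientGroup.lift (Npow M n) F (by
      rintro _ ⟨m, rfl⟩
      rw [MonoidHom.mem_ker, hF]
      exact hN m)
  let σ : MonoidAlgebra R' (M ⧸ Npow M n) →ₐ[R'] (MonoidAlgebra R' M ⧸ J) :=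
    MonoidAlgebra.lift R' (MonoidAlgebra R' M ⧸ J) (M ⧸ Npow M n) F'
  have hσ : σ.comp (piQ R' M n).toAlgHom = Ideal.Quotient.mkₐ R' J := by
    apply monAlgHom_ext
    intro m
    rw [AlgHom.comp_apply]
    have h1 : (piQ R' M n).toAlgHom (MonoidAlgebra.single m 1) =
        MonoidAlgebra.single (QuotientGroup.mk' (Npow M n) m) 1 :=
      MonoidAlgebra.mapDomainBialgHom_single _ m 1
    rw [h1, MonoidAlgebra.lift_single, one_smul]
    rfl
  intro x hx
  rw [RingHom.mem_ker] at hx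
  have h2 := AlgHom.congr_fun hσ x
  rw [AlgHom.comp_apply, hx, map_zero] at h2
  exact Ideal.Quotient.eq_zero_iff_mem.1 h2.symm

theorem torsionIdeal_monoidAlgebra :
    torsionIdeal R' (MonoidAlgebra R' M) n =
      RingHom.ker (piQ R' M n).toAlgHom :=
  le_antisymm (torsionIdeal_le_ker R' M n) (ker_le_torsionIdeal R' M n)

end MonAlg

section Quot

variable {R B C₁ C₂ : Type u} [CommRing R] [CommRing B] [CommRing C₁] [CommRing C₂]
  [Bialgebra R B] [Bialgebra R C₁] [Bialgebra R C₂]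

theorem nonempty_bialgEquiv_of_ker_eq (π₁ : B →ₐc[R] C₁) (π₂ : B →ₐc[R] C₂)
    (h₁ : Function.Surjective π₁) (h₂ : Function.Surjective π₂)
    (hker : ∀ b, π₁ b = 0 ↔ π₂ b = 0) : Nonempty (C₁ ≃ₐc[R] C₂) := by
  have hk : RingHom.ker (π₁ : B →ₐ[R] C₁) = RingHom.ker (π₂ : B →ₐ[R] C₂) := by
    ext b
    rw [RingHom.mem_ker, RingHom.mem_ker]
    exact hker b
  have hs₁ : Function.Surjective (π₁ : B →ₐ[R] C₁) := h₁
  have hs₂ : Function.Surjective (π₂ : B →ₐ[R] C₂) := h₂
  let ψ : C₁ ≃ₐ[R] C₂ :=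
    (Ideal.quotientKerAlgEquivOfSurjective hs₁).symm.trans
      ((Ideal.quotientEquivAlgOfEq R hk).trans (Ideal.quotientKerAlgEquivOfSurjective hs₂))
  have hψ : ∀ b, ψ (π₁ b) = π₂ b := by
    intro b
    change (Ideal.quotientKerAlgEquivOfSurjective hs₂)
      ((Ideal.quotientEquivAlgOfEq R hk)
        ((Ideal.quotientKerAlgEquivOfSurjective hs₁).symm ((π₁ : B →ₐ[R] C₁) b))) = _
    rw [Ideal.quotientKerAlgEquivOfSurjective_symm_apply, Ideal.quotientEquivAlgOfEq_mk,
      Ideal.quotientKerAlgEquivOfSurjective_mk]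
    rfl
  refine ⟨BialgEquiv.ofAlgEquiv ψ ?_ ?_⟩
  · apply AlgHom.ext
    intro c
    obtain ⟨b, rfl⟩ := h₁ c
    rw [AlgHom.comp_apply]
    show (Bialgebra.counitAlgHom R C₂) (ψ (π₁ b)) = _
    rw [hψ, Bialgebra.counitAlgHom_apply,
      Bialgebra.counitAlgHom_apply, CoalgHomClass.counit_comp_apply,
      CoalgHomClass.counit_comp_apply]
  · apply AlgHom.ext
    intro c
    obtain ⟨b, rfl⟩ := h₁ c
    rw [AlgHom.comp_apply, AlgHom.comp_apply]
    show (Algebra.TensorProduct.map (ψ : C₁ →ₐ[R] C₂) (ψ : C₁ →ₐ[R] C₂))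
      ((Bialgebra.comulAlgHom R C₁) (π₁ b)) = (Bialgebra.comulAlgHom R C₂) (ψ (π₁ b))
    rw [hψ, Bialgebra.comulAlgHom_apply,
      Bialgebra.comulAlgHom_apply, ← CoalgHomClass.map_comp_comul_apply,
      ← CoalgHomClass.map_comp_comul_apply]
    generalize Coalgebra.comul (R := R) b = z
    induction z using TensorProduct.induction_on with
    | zero => simp
    | tmul x y =>
      rw [TensorProduct.map_tmul, TensorProduct.map_tmul, Algebra.TensorProduct.map_tmul]
      change ψ (π₁ x) ⊗ₜ[R] ψ (π₁ y) = π₂ x ⊗ₜ[R] π₂ y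
      rw [hψ, hψ]
    | add x y hx hy => rw [map_add, map_add, map_add, hx, hy]

end Quot

section Core

theorem surjective_of_tmul {R : Type*} [CommRing R] {A C D : Type*} [AddCommGroup A] [Module R A]
    [AddCommGroup C] [Module R C] [AddCommGroup D] [Module R D]
    {F : Type*} [FunLike F (A ⊗[R] C) (A ⊗[R] D)] [AddMonoidHomClass F (A ⊗[R] C) (A ⊗[R] D)]
    (f : F) (g : C → D) (hg : Function.Surjective g)
    (h : ∀ a c, f (a ⊗ₜ[R] c) = a ⊗ₜ[R] g c) : Function.Surjective f := by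
  intro y
  induction y using TensorProduct.induction_on with
  | zero => exact ⟨0, map_zero f⟩
  | tmul a d =>
    obtain ⟨c, rfl⟩ := hg d
    exact ⟨a ⊗ₜ c, h a c⟩
  | add x y hx hy =>
    obtain ⟨x, rfl⟩ := hx
    obtain ⟨y, rfl⟩ := hy
    exact ⟨x + y, map_add f x y⟩

theorem core_aux {R' B C₁ : Type u} [CommRing R'] [CommRing B] [HopfAlgebra R' B] [CommRing C₁]
    [HopfAlgebra R' C₁] (M : Type u) [CommGroup M] (n : ℕ) (π₁ : B →ₐc[R'] C₁)
    (hs₁ : Function.Surjective π₁) (hT : ∀ z, π₁ z = 0 ↔ z ∈ torsionIdeal R' B n)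
    (e : B ≃ₐc[R'] MonoidAlgebra R' M) :
    Nonempty (C₁ ≃ₐc[R'] MonoidAlgebra R' (M ⧸ Npow M n)) := by
  let π₂ : B →ₐc[R'] MonoidAlgebra R' (M ⧸ Npow M n) := (piQ R' M n).comp e.toBialgHom
  have hπ₂ : ∀ z, π₂ z = piQ R' M n (e z) := fun z => rfl
  have hs₂ : Function.Surjective π₂ := fun y => by
    obtain ⟨x, rfl⟩ := piQ_surjective R' M n y
    obtain ⟨z, rfl⟩ := e.surjective x
    exact ⟨z, rfl⟩
  have hTe := map_torsionIdeal_of_surjective e.toBialgHom e.surjective n
  have hker : ∀ z, π₁ z = 0 ↔ π₂ z = 0 := by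
    intro z
    have h1 : π₂ z = 0 ↔ e z ∈ torsionIdeal R' (MonoidAlgebra R' M) n := by
      rw [hπ₂, torsionIdeal_monoidAlgebra, RingHom.mem_ker]
      rfl
    rw [hT, h1, ← hTe]
    constructor
    · intro hz
      exact Ideal.mem_map_of_mem e.toBialgHom.toAlgHom hz
    · intro hz
      obtain ⟨x, hx, hxz⟩ := (Ideal.mem_map_iff_of_surjective e.toBialgHom.toAlgHom
        e.surjective).1 hz
      have hxz' : x = z := e.injective hxz
      rwa [← hxz']
  exact nonempty_bialgEquiv_of_ker_eq π₁ π₂ hs₁ hs₂ hker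

theorem core {R₁ : Type u} [CommRing R₁] (A₁ : Type u) [CommRing A₁] [HopfAlgebra R₁ A₁]
    (hft : Algebra.FiniteType R₁ A₁) (n : ℕ) (hn : 0 < n) (J : Ideal A₁) [J.IsHopfIdeal R₁]
    (hJ : J = torsionIdeal R₁ A₁ n) (R₂ : Type u) [CommRing R₂] [Algebra R₁ R₂]
    (hc : IsMultTypeConst R₂ (R₂ ⊗[R₁] A₁)) :
    IsMultTypeConst R₂ (R₂ ⊗[R₁] (A₁ ⧸ J)) ∧ Module.Finite R₂ (R₂ ⊗[R₁] (A₁ ⧸ J)) := by
  obtain ⟨R', _, _, hff, M, _, ⟨e⟩⟩ := hc
  have hff' := hff
  let g₀ : A₁ →ₐ[R₁] A₁ ⧸ J := Ideal.Quotient.mkₐ R₁ J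
  have hg₀ : Function.Surjective g₀ := Ideal.Quotient.mkₐ_surjective R₁ J
  let g₁ : R₂ ⊗[R₁] A₁ →ₐ[R₂] R₂ ⊗[R₁] (A₁ ⧸ J) :=
    Algebra.TensorProduct.map (AlgHom.id R₂ R₂) g₀
  have hg₁ : Function.Surjective g₁ := surjective_of_tmul g₁ g₀ hg₀ (fun a c => rfl)
  let g₂ : R' ⊗[R₂] (R₂ ⊗[R₁] A₁) →ₐ[R'] R' ⊗[R₂] (R₂ ⊗[R₁] (A₁ ⧸ J)) :=
    Algebra.TensorProduct.map (AlgHom.id R' R') g₁
  have hg₂ : Function.Surjective g₂ := surjective_of_tmul g₂ g₁ hg₁ (fun a c => rfl)
  have hk₁ : RingHom.ker g₁ =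
      Ideal.map (Algebra.TensorProduct.includeRight : A₁ →ₐ[R₁] R₂ ⊗[R₁] A₁) J := by
    have h := Algebra.TensorProduct.lTensor_ker (A := R₂) g₀ hg₀
    have h' : RingHom.ker g₀ = J := Ideal.Quotient.mkₐ_ker R₁ J
    rw [h'] at h
    rw [← h]
    ext z
    rw [RingHom.mem_ker, RingHom.mem_ker]
    rfl
  have hk₂ : RingHom.ker g₂ =
      Ideal.map (Algebra.TensorProduct.includeRight :
        R₂ ⊗[R₁] A₁ →ₐ[R₂] R' ⊗[R₂] (R₂ ⊗[R₁] A₁)) (RingHom.ker g₁) := by
    have h := Algebra.TensorProduct.lTensor_ker (A := R') g₁ hg₁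
    rw [← h]
    ext z
    rw [RingHom.mem_ker, RingHom.mem_ker]
    rfl
  have hT : RingHom.ker g₂ = torsionIdeal R' (R' ⊗[R₂] (R₂ ⊗[R₁] A₁)) n := by
    rw [hk₂, hk₁, hJ, torsionIdeal_baseChange, torsionIdeal_baseChange]
  -- bialgebra maps
  let π₁ : R' ⊗[R₂] (R₂ ⊗[R₁] A₁) →ₐc[R'] R' ⊗[R₂] (R₂ ⊗[R₁] (A₁ ⧸ J)) :=
    Bialgebra.TensorProduct.map (BialgHom.id R' R')
      (Bialgebra.TensorProduct.map (BialgHom.id R₂ R₂) (Bialgebra.Quotient.mkBialgHom J))
  have hπ₁ : ∀ z, π₁ z = g₂ z := fun z => rfl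
  have hs₁ : Function.Surjective π₁ := fun y => by
    obtain ⟨z, hz⟩ := hg₂ y
    exact ⟨z, (hπ₁ z).trans hz⟩
  have hT' : ∀ z, π₁ z = 0 ↔ z ∈ torsionIdeal R' (R' ⊗[R₂] (R₂ ⊗[R₁] A₁)) n := by
    intro z
    rw [hπ₁ z, ← hT, RingHom.mem_ker]
  obtain ⟨E⟩ := core_aux (B := R' ⊗[R₂] (R₂ ⊗[R₁] A₁)) (C₁ := R' ⊗[R₂] (R₂ ⊗[R₁] (A₁ ⧸ J)))
    M n π₁ hs₁ hT' e
  refine ⟨⟨R', inferInstance, inferInstance, hff, M ⧸ Npow M n, inferInstance, ⟨E⟩⟩, ?_⟩
  haveI : Module.Finite R' (R' ⊗[R₂] (R₂ ⊗[R₁] (A₁ ⧸ J))) := by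
    rcases subsingleton_or_nontrivial R' with hsub | hnt
    · haveI : Subsingleton (R' ⊗[R₂] (R₂ ⊗[R₁] (A₁ ⧸ J))) := Module.subsingleton R' _
      exact Module.Finite.of_finite
    · haveI := hft
      have hft' : Algebra.FiniteType R' (MonoidAlgebra R' M) :=
        Algebra.FiniteType.equiv
          (inferInstance : Algebra.FiniteType R' (R' ⊗[R₂] (R₂ ⊗[R₁] A₁))) e.toAlgEquiv
      haveI : Group.FG M := MonoidAlgebra.finiteType_iff_group_fg.1 hft'
      haveI : Finite (M ⧸ Npow M n) := CommGroup.finite_of_fg_isMulTorsion _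
        (fun x => isOfFinOrder_iff_pow_eq_one.2 ⟨n, hn, quot_pow_eq_one M n x⟩)
      haveI : Module.Finite R' (MonoidAlgebra R' (M ⧸ Npow M n)) :=
        Module.Finite.of_basis (MonoidAlgebra.basis (M ⧸ Npow M n) R')
      exact Module.Finite.equiv E.symm.toAlgEquiv.toLinearEquiv
  exact Module.Finite.of_finite_tensorProduct_of_faithfullyFlat R'

end Core

end Groth.Agent.Lib.Helper17.TorsionMT
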