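import Groth.Agent.Lib.Helper17.MultBC
import Groth.Agent.Lib.Helper17.TorsionMT
import Mathlib

/-!
# Kernels of homomorphisms of groups of multiplicative type, part 1 (helper17)

Pure group-algebra lemmas.
* `sub_one_mem_of_mem_closure`: the "subgroup argument".
* `augH`, `piH_eq_zero_iff`: the kernel of `S[M] → S[M/H]` is generated by the `h - 1`, `h ∈ H`.
* `mem_span_of_counit_eq_zero`: the augmentation ideal of `S[N]` is generated by the `n - 1`.
* `IsOrthSum`: finite families of orthogonal idempotents with sum one; sums `∑ ε τ • g τ`.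
* `PsiHom`: the bialgebra map `S[M] → S[Q]`, `m ↦ ∑ τ, ε τ • b τ m`.
-/

set_option autoImplicit false
universe u

namespace Groth.Agent.Lib.Helper17.KerMT

open TensorProduct SGA3b Groth.Agent.Lib.Helper17.TorsionMT Groth.Agent.Lib.Helper17.MultLocal

section SG

variable {G B : Type*} [Group G] [CommRing B]

theorem sub_one_mem_of_mem_closure (χ : G →* B) (𝔞 : Ideal B) (X : Set G)
    (hX : ∀ x ∈ X, χ x - 1 ∈ 𝔞) {g : G} (hg : g ∈ Subgroup.closure X) : χ g - 1 ∈ 𝔞 := by
  induction hg using Subgroup.closure_induction with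
  | mem x hx => exact hX x hx
  | one => rw [map_one, sub_self]; exact 𝔞.zero_mem
  | mul a b _ _ ha hb =>
    have h1 : χ (a * b) - 1 = χ a * (χ b - 1) + (χ a - 1) := by rw [map_mul]; ring
    rw [h1]; exact 𝔞.add_mem (𝔞.mul_mem_left _ hb) ha
  | inv a _ ha =>
    have h1 : χ a⁻¹ * χ a = 1 := by rw [← map_mul, inv_mul_cancel, map_one]
    have h2 : χ a⁻¹ - 1 = -(χ a⁻¹ * (χ a - 1)) := by rw [mul_sub, h1]; ring
    rw [h2]; exact 𝔞.neg_mem (𝔞.mul_mem_left _ ha)

end SG

section Aug

variable (S : Type u) [CommRing S] {M : Type u} [CommGroup M]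

/-- the ideal of `S[M]` generated by the `h - 1`, `h ∈ H` -/
noncomputable def augH (H : Subgroup M) : Ideal (MonoidAlgebra S M) :=
  Ideal.span ((fun h : M => (MonoidAlgebra.single h (1 : S) - 1 : MonoidAlgebra S M)) ''
    (H : Set M))

theorem single_sub_one_mem_augH {H : Subgroup M} {h : M} (hh : h ∈ H) :
    (MonoidAlgebra.single h (1 : S) - 1 : MonoidAlgebra S M) ∈ augH S H :=
  Ideal.subset_span ⟨h, hh, rfl⟩

/-- the projection `S[M] → S[M/H]` -/
noncomputable abbrev piH (H : Subgroup M) : MonoidAlgebra S M →ₐc[S] MonoidAlgebra S (M ⧸ H) :=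
  MonoidAlgebra.mapDomainBialgHom S (QuotientGroup.mk' H)

theorem piH_eq_zero_iff (H : Subgroup M) (x : MonoidAlgebra S M) :
    piH S H x = 0 ↔ x ∈ augH S H := by
  constructor
  · intro hx
    set J := augH S H with hJ
    have hN : ∀ h ∈ H, Ideal.Quotient.mk J (MonoidAlgebra.of S M h) = 1 := by
      intro h hh
      rw [← map_one (Ideal.Quotient.mk J), ← sub_eq_zero, ← map_sub,
        Ideal.Quotient.eq_zero_iff_mem, MonoidAlgebra.of_apply]
      exact single_sub_one_mem_augH S hh
    let F : M →* (MonoidAlgebra S M ⧸ J) :=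
      ((Ideal.Quotient.mk J : MonoidAlgebra S M →+* _) : MonoidAlgebra S M →* _).comp
        (MonoidAlgebra.of S M)
    have hF : ∀ m, F m = Ideal.Quotient.mk J (MonoidAlgebra.of S M m) := fun m => rfl
    let F' : M ⧸ H →* (MonoidAlgebra S M ⧸ J) :=
      QuotientGroup.lift H F (by
        intro h hh
        rw [MonoidHom.mem_ker, hF]
        exact hN h hh)
    let σ : MonoidAlgebra S (M ⧸ H) →ₐ[S] (MonoidAlgebra S M ⧸ J) :=
      MonoidAlgebra.lift S (MonoidAlgebra S M ⧸ J) (M ⧸ H) F'
    have hσ : σ.comp (piH S H).toAlgHom = Ideal.Quotient.mkₐ S J := by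
      apply monAlgHom_ext
      intro m
      rw [AlgHom.comp_apply]
      have h1 : (piH S H).toAlgHom (MonoidAlgebra.single m 1) =
          MonoidAlgebra.single (QuotientGroup.mk' H m) 1 :=
        MonoidAlgebra.mapDomainBialgHom_single _ m 1
      rw [h1, MonoidAlgebra.lift_single, one_smul]
      rfl
    have h2 := AlgHom.congr_fun hσ x
    rw [AlgHom.comp_apply] at h2
    have h3 : (piH S H).toAlgHom x = 0 := hx
    rw [h3, map_zero] at h2
    exact Ideal.Quotient.eq_zero_iff_mem.1 h2.symm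
  · intro hx
    have hle : augH S H ≤ RingHom.ker (piH S H).toAlgHom := by
      rw [augH, Ideal.span_le]
      rintro _ ⟨h, hh, rfl⟩
      rw [SetLike.mem_coe, RingHom.mem_ker, map_sub, map_one]
      have h1 : (piH S H).toAlgHom (MonoidAlgebra.single h 1) =
          MonoidAlgebra.single (QuotientGroup.mk' H h) 1 :=
        MonoidAlgebra.mapDomainBialgHom_single _ h 1
      have h2 : QuotientGroup.mk' H h = 1 := (QuotientGroup.eq_one_iff h).2 hh
      rw [h1, h2, ← MonoidAlgebra.one_def, sub_self]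
    exact (RingHom.mem_ker).1 (hle hx)

theorem mem_span_of_counit_eq_zero {N : Type u} [CommGroup N] (x : MonoidAlgebra S N)
    (hx : Coalgebra.counit (R := S) x = 0) :
    x ∈ Ideal.span (Set.range fun n : N =>
      (MonoidAlgebra.single n (1 : S) - 1 : MonoidAlgebra S N)) := by
  have key : ∀ x : MonoidAlgebra S N,
      x - algebraMap S (MonoidAlgebra S N) (Coalgebra.counit (R := S) x) ∈
        Ideal.span (Set.range fun n : N =>
          (MonoidAlgebra.single n (1 : S) - 1 : MonoidAlgebra S N)) := by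
    intro x
    induction x using MonoidAlgebra.induction_linear with
    | zero => simp
    | add a b ha hb =>
      have h1 : a + b - algebraMap S (MonoidAlgebra S N) (Coalgebra.counit (R := S) (a + b)) =
          (a - algebraMap S (MonoidAlgebra S N) (Coalgebra.counit (R := S) a)) +
            (b - algebraMap S (MonoidAlgebra S N) (Coalgebra.counit (R := S) b)) := by
        rw [map_add, map_add]; ring
      rw [h1]; exact add_mem ha hb
    | single n r =>
      have h1 : (MonoidAlgebra.single n r : MonoidAlgebra S N) -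
          algebraMap S (MonoidAlgebra S N)
            (Coalgebra.counit (R := S) (MonoidAlgebra.single n r : MonoidAlgebra S N)) =
          r • (MonoidAlgebra.single n (1 : S) - 1 : MonoidAlgebra S N) := by
        rw [MonoidAlgebra.counit_single, smul_sub, MonoidAlgebra.smul_single, smul_eq_mul, mul_one,
          Algebra.algebraMap_eq_smul_one]
        simp
      rw [h1]
      exact Submodule.smul_of_tower_mem _ r (Ideal.subset_span ⟨n, rfl⟩)
  have h := key x
  rwa [hx, map_zero, sub_zero] at h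

theorem mapDomain_surjective {Q : Type u} [CommGroup Q] (f : M →* Q)
    (hf : Function.Surjective f) :
    Function.Surjective (MonoidAlgebra.mapDomainBialgHom S f) := by
  intro y
  induction y using MonoidAlgebra.induction_linear with
  | zero => exact ⟨0, map_zero _⟩
  | add x y hx hy =>
    obtain ⟨x, rfl⟩ := hx
    obtain ⟨y, rfl⟩ := hy
    exact ⟨x + y, map_add _ _ _⟩
  | single q r =>
    obtain ⟨m, rfl⟩ := hf q
    exact ⟨MonoidAlgebra.single m r, MonoidAlgebra.mapDomainBialgHom_single _ m r⟩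

end Aug

section Orth

variable {S : Type u} [CommRing S] {ι : Type*} (c : Finset ι) (ε : ι → S)

/-- a family of orthogonal idempotents on a finite set, with sum one -/
structure IsOrthSum : Prop where
  idem : ∀ τ ∈ c, ε τ * ε τ = ε τ
  orth : ∀ τ ∈ c, ∀ σ ∈ c, τ ≠ σ → ε τ * ε σ = 0
  sum : ∑ τ ∈ c, ε τ = 1

variable {c ε}

theorem IsOrthSum.sum_mul_sum (h : IsOrthSum c ε) {B : Type*} [CommRing B] [Algebra S B]
    (a b : ι → B) :
    (∑ τ ∈ c, ε τ • a τ) * (∑ τ ∈ c, ε τ • b τ) = ∑ τ ∈ c, ε τ • (a τ * b τ) := by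
  classical
  rw [Finset.sum_mul_sum]
  refine Finset.sum_congr rfl fun τ hτ => ?_
  rw [Finset.sum_eq_single τ]
  · rw [smul_mul_smul_comm, h.idem τ hτ]
  · intro σ hσ hne
    rw [smul_mul_smul_comm, h.orth τ hτ σ hσ (Ne.symm hne), zero_smul]
  · intro h'; exact absurd hτ h'

theorem IsOrthSum.sum_tmul_sum (h : IsOrthSum c ε) {B B' : Type*} [AddCommGroup B] [Module S B]
    [AddCommGroup B'] [Module S B'] (a : ι → B) (b : ι → B') :
    (∑ τ ∈ c, ε τ • a τ) ⊗ₜ[S] (∑ τ ∈ c, ε τ • b τ) = ∑ τ ∈ c, ε τ • (a τ ⊗ₜ[S] b τ) := by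
  classical
  rw [TensorProduct.sum_tmul]
  refine Finset.sum_congr rfl fun τ hτ => ?_
  rw [TensorProduct.tmul_sum, Finset.sum_eq_single τ]
  · rw [TensorProduct.smul_tmul_smul, h.idem τ hτ]
  · intro σ hσ hne
    rw [TensorProduct.smul_tmul_smul, h.orth τ hτ σ hσ (Ne.symm hne), zero_smul]
  · intro h'; exact absurd hτ h'

theorem IsOrthSum.isGroupLikeElem (h : IsOrthSum c ε) {B : Type*} [CommRing B] [Bialgebra S B]
    (g : ι → B) (hg : ∀ τ ∈ c, IsGroupLikeElem S (g τ)) :
    IsGroupLikeElem S (∑ τ ∈ c, ε τ • g τ) where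
  counit_eq_one := by
    rw [map_sum, Finset.sum_congr rfl (fun τ hτ => by
      rw [map_smul, (hg τ hτ).counit_eq_one, smul_eq_mul, mul_one]), h.sum]
  comul_eq_tmul_self := by
    rw [map_sum, h.sum_tmul_sum]
    refine Finset.sum_congr rfl fun τ hτ => ?_
    rw [map_smul, (hg τ hτ).comul_eq_tmul_self]

theorem IsOrthSum.smul_sum (h : IsOrthSum c ε) {B : Type*} [AddCommGroup B] [Module S B]
    (a : ι → B) {τ : ι} (hτ : τ ∈ c) :
    ε τ • (∑ σ ∈ c, ε σ • a σ) = ε τ • a τ := by
  classical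
  rw [Finset.smul_sum, Finset.sum_eq_single τ]
  · rw [smul_smul, h.idem τ hτ]
  · intro σ hσ hne
    rw [smul_smul, h.orth τ hτ σ hσ (Ne.symm hne), zero_smul]
  · intro h'; exact absurd hτ h'

theorem IsOrthSum.sum_smul_self (h : IsOrthSum c ε) {B : Type*} [AddCommGroup B] [Module S B]
    (x : B) : ∑ τ ∈ c, ε τ • x = x := by
  rw [← Finset.sum_smul, h.sum, one_smul]

end Orth

section Psi

variable {S : Type u} [CommRing S] {M Q : Type u} [CommGroup M] [CommGroup Q]
  {ι : Type*} {c : Finset ι} {ε : ι → S}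

/-- the monoid hom `m ↦ ∑ τ, ε τ • b τ m` -/
noncomputable def gam (h : IsOrthSum c ε) (b : ι → (M →* Q)) : M →* MonoidAlgebra S Q where
  toFun m := ∑ τ ∈ c, ε τ • (MonoidAlgebra.single (b τ m) (1 : S) : MonoidAlgebra S Q)
  map_one' := by
    have h1 : ∀ τ ∈ c, ε τ • (MonoidAlgebra.single (b τ 1) (1 : S) : MonoidAlgebra S Q) =
        ε τ • (1 : MonoidAlgebra S Q) := by
      intro τ _
      rw [map_one, ← MonoidAlgebra.one_def]
    rw [Finset.sum_congr rfl h1, h.sum_smul_self]
  map_mul' m m' := by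
    rw [h.sum_mul_sum]
    refine Finset.sum_congr rfl fun τ _ => ?_
    rw [map_mul, MonoidAlgebra.single_mul_single, mul_one]

theorem gam_apply (h : IsOrthSum c ε) (b : ι → (M →* Q)) (m : M) :
    gam h b m = ∑ τ ∈ c, ε τ • (MonoidAlgebra.single (b τ m) (1 : S) : MonoidAlgebra S Q) := rfl

theorem isGroupLikeElem_gam (h : IsOrthSum c ε) (b : ι → (M →* Q)) (m : M) :
    IsGroupLikeElem S (gam h b m) :=
  h.isGroupLikeElem _ (fun _ _ => MonoidAlgebra.isGroupLikeElem_single_one _)

/-- the bialgebra map `S[M] → S[Q]`, `m ↦ ∑ τ, ε τ • b τ m` -/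
noncomputable def PsiHom (h : IsOrthSum c ε) (b : ι → (M →* Q)) :
    MonoidAlgebra S M →ₐc[S] MonoidAlgebra S Q :=
  BialgHom.ofAlgHom (MonoidAlgebra.lift S (MonoidAlgebra S Q) M (gam h b))
    (by
      apply monAlgHom_ext
      intro m
      rw [AlgHom.comp_apply, MonoidAlgebra.lift_single, one_smul, Bialgebra.counitAlgHom_apply,
        Bialgebra.counitAlgHom_apply, (isGroupLikeElem_gam h b m).counit_eq_one,
        (MonoidAlgebra.isGroupLikeElem_single_one (R := S) (A := S) m).counit_eq_one])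
    (by
      apply monAlgHom_ext
      intro m
      rw [AlgHom.comp_apply, AlgHom.comp_apply, Bialgebra.comulAlgHom_apply,
        Bialgebra.comulAlgHom_apply,
        (MonoidAlgebra.isGroupLikeElem_single_one (R := S) (A := S) m).comul_eq_tmul_self,
        Algebra.TensorProduct.map_tmul, MonoidAlgebra.lift_single, one_smul,
        (isGroupLikeElem_gam h b m).comul_eq_tmul_self])

theorem PsiHom_single (h : IsOrthSum c ε) (b : ι → (M →* Q)) (m : M) (r : S) :
    PsiHom h b (MonoidAlgebra.single m r) = r • gam h b m :=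
  MonoidAlgebra.lift_single _ _ _

theorem smul_PsiHom (h : IsOrthSum c ε) (b : ι → (M →* Q)) {τ : ι} (hτ : τ ∈ c)
    (x : MonoidAlgebra S M) :
    ε τ • PsiHom h b x = ε τ • MonoidAlgebra.mapDomainBialgHom S (b τ) x := by
  induction x using MonoidAlgebra.induction_linear with
  | zero => rw [map_zero, map_zero]
  | add x y hx hy => rw [map_add, map_add, smul_add, smul_add, hx, hy]
  | single m r =>
    rw [PsiHom_single, MonoidAlgebra.mapDomainBialgHom_single, gam_apply, smul_comm,
      h.smul_sum _ hτ, smul_comm, MonoidAlgebra.smul_single, smul_eq_mul, mul_one]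

theorem PsiHom_surjective (h : IsOrthSum c ε) (b : ι → (M →* Q))
    (hb : ∀ τ ∈ c, Function.Surjective (b τ)) : Function.Surjective (PsiHom h b) := by
  classical
  intro y
  have hx : ∀ τ : ι, ∃ x : MonoidAlgebra S M,
      τ ∈ c → MonoidAlgebra.mapDomainBialgHom S (b τ) x = y := by
    intro τ
    by_cases hτ : τ ∈ c
    · obtain ⟨x, hx⟩ := mapDomain_surjective S (b τ) (hb τ hτ) y
      exact ⟨x, fun _ => hx⟩
    · exact ⟨0, fun h' => absurd h' hτ⟩
  choose x hx using hx
  refine ⟨∑ τ ∈ c, ε τ • x τ, ?_⟩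
  rw [map_sum]
  have h1 : ∀ τ ∈ c, PsiHom h b (ε τ • x τ) = ε τ • y := by
    intro τ hτ
    rw [map_smul, smul_PsiHom h b hτ, hx τ hτ]
  rw [Finset.sum_congr rfl h1, h.sum_smul_self]

theorem PsiHom_eq_zero_iff (h : IsOrthSum c ε) (b : ι → (M →* Q)) (x : MonoidAlgebra S M) :
    PsiHom h b x = 0 ↔ ∀ τ ∈ c, MonoidAlgebra.mapDomainBialgHom S (b τ) (ε τ • x) = 0 := by
  constructor
  · intro hx τ hτ
    rw [map_smul, ← smul_PsiHom h b hτ, hx, smul_zero]
  · intro hx
    rw [← h.sum_smul_self (PsiHom h b x)]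
    refine Finset.sum_eq_zero fun τ hτ => ?_
    rw [smul_PsiHom h b hτ, ← map_smul]
    exact hx τ hτ

/-- kernel of `PsiHom` when every `b τ` is a quotient map with kernel `H τ` -/
theorem PsiHom_eq_zero_iff' (h : IsOrthSum c ε) (b : ι → (M →* Q)) (H : ι → Subgroup M)
    (hb : ∀ τ ∈ c, ∃ β : M ⧸ H τ ≃* Q, b τ = β.toMonoidHom.comp (QuotientGroup.mk' (H τ)))
    (x : MonoidAlgebra S M) :
    PsiHom h b x = 0 ↔ ∀ τ ∈ c, ε τ • x ∈ augH S (H τ) := by
  rw [PsiHom_eq_zero_iff]
  refine forall₂_congr fun τ hτ => ?_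
  obtain ⟨β, hβ⟩ := hb τ hτ
  rw [← piH_eq_zero_iff, hβ]
  constructor
  · intro h0
    have h1 := congrArg (MonoidAlgebra.mapDomainBialgHom S β.symm.toMonoidHom) h0
    rw [map_zero, MonoidAlgebra.mapDomainBialgHom_mapDomainBialgHom] at h1
    have h2 : β.symm.toMonoidHom.comp (β.toMonoidHom.comp (QuotientGroup.mk' (H τ))) =
        QuotientGroup.mk' (H τ) := by
      ext m
      simp
    rw [h2] at h1
    exact h1
  · intro h0
    rw [← MonoidAlgebra.mapDomainBialgHom_mapDomainBialgHom, ]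
    show MonoidAlgebra.mapDomainBialgHom S β.toMonoidHom (piH S (H τ) (ε τ • x)) = 0
    rw [h0, map_zero]

end Psi

end Groth.Agent.Lib.Helper17.KerMT
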