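import Groth.Agent.Lib.Helper17.KerMT1
import Mathlib

/-!
# Kernels of homomorphisms of groups of multiplicative type, part 2 (helper17)

* `exists_bialgEquiv_of_tower`: base change of a diagonalisation, with its formula.
* `cf`, `epsT`, `HT`, `TT`: the orthogonal idempotents attached to a bialgebra map
  `ψ : P[N] → P[M]` and generators `ν` of `N`.
* `stageB`: over a `P`-algebra `S'` in which the idempotents of a finite set of `τ` with
  `M / H_τ ≅ Q` sum to one, `S' ⊗ (A / J) ≅ S'[Q]`.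
-/

set_option autoImplicit false
universe u

namespace Groth.Agent.Lib.Helper17.KerMT

open TensorProduct SGA3b Groth.Agent.Lib.Helper17.TorsionMT Groth.Agent.Lib.Helper17.MultLocal
  Groth.Agent.Lib.Helper17.MultLift Groth.Agent.Lib.Helper17.MultBC
  Groth.Agent.Lib.Helper27.MultRigid

section Tower

variable {k P S' C N : Type u} [CommRing k] [CommRing P] [CommRing S'] [Algebra k P]
  [Algebra P S'] [Algebra k S'] [IsScalarTower k P S'] [CommRing C] [HopfAlgebra k C]
  [CommGroup N]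

/-- a diagonalisation over `P` induces one over every `P`-algebra, compatibly -/
theorem exists_bialgEquiv_of_tower (e : P ⊗[k] C ≃ₐc[P] MonoidAlgebra P N) :
    ∃ E : S' ⊗[k] C ≃ₐc[S'] MonoidAlgebra S' N,
      ∀ c : C, E ((1 : S') ⊗ₜ[k] c) = mapL P S' N (e ((1 : P) ⊗ₜ[k] c)) := by
  set θ' : C →ₗ[k] MonoidAlgebra S' N := ((mapL P S' N).restrictScalars k) ∘ₗ thetaOf e with hθ'
  have hθ'a : ∀ c, θ' c = mapL P S' N (e ((1 : P) ⊗ₜ[k] c)) := fun c => rfl
  have hθ'c : IsSemiComul (R := k) (R' := S') θ' :=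
    IsSemiComul.comp (isSemiComul_thetaOf e) isSemiComul_mapL
  have hθ'u : IsSemiCounit (R := k) (R' := S') θ' := by
    intro c
    rw [hθ'a, isSemiCounit_mapL, ← thetaOf_apply, isSemiCounit_thetaOf e c,
      ← IsScalarTower.algebraMap_apply]
  have hΨc : IsSemiComul (R := S') (R' := S') (θ'.liftBaseChange S') :=
    IsSemiComul.liftBaseChange hθ'c
  have hΨu : IsSemiCounit (R := S') (R' := S') (θ'.liftBaseChange S') :=
    IsSemiCounit.liftBaseChange hθ'u
  set E : S' ⊗[k] C ≃ₐ[S'] MonoidAlgebra S' N :=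
    ((Algebra.TensorProduct.cancelBaseChange k P S' S' C).symm.trans
      (Algebra.TensorProduct.congr (AlgEquiv.refl : S' ≃ₐ[S'] S')
        (e : P ⊗[k] C ≃ₐ[P] MonoidAlgebra P N))).trans
      (MonoidAlgebra.scalarTensorEquiv (M := N) P S') with hE
  have hT : ∀ z, E z = θ'.liftBaseChange S' z := by
    intro z
    induction z using TensorProduct.induction_on with
    | zero => simp
    | tmul s c =>
      rw [LinearMap.liftBaseChange_tmul, hE, AlgEquiv.trans_apply, AlgEquiv.trans_apply,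
        Algebra.TensorProduct.cancelBaseChange_symm_tmul, Algebra.TensorProduct.congr_apply,
        Algebra.TensorProduct.map_tmul, MonoidAlgebra.scalarTensorEquiv_tmul, hθ'a]
      rfl
    | add a b ha hb => rw [map_add, map_add, ha, hb]
  refine ⟨BialgEquiv.ofAlgEquiv E (AlgHom.ext fun z => ?_) (AlgHom.ext fun z => ?_), ?_⟩
  · show Coalgebra.counit (R := S') (E z) = Coalgebra.counit (R := S') z
    rw [hT, hΨu z]
    rfl
  · show Algebra.TensorProduct.map (E : _ →ₐ[S'] _) (E : _ →ₐ[S'] _)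
      (Coalgebra.comul (R := S') z) = Coalgebra.comul (R := S') (E z)
    rw [hT, hΨc z]
    generalize Coalgebra.comul (R := S') z = t
    induction t using TensorProduct.induction_on with
    | zero => simp
    | tmul a b =>
      rw [Algebra.TensorProduct.map_tmul, Xi_tmul]
      show E a ⊗ₜ[S'] E b = _
      rw [hT, hT]
    | add a b ha hb => rw [map_add, map_add, ha, hb]
  · intro c
    show E ((1 : S') ⊗ₜ[k] c) = _
    rw [hT, LinearMap.liftBaseChange_tmul, one_smul, hθ'a]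

end Tower

section Colon

variable {B : Type*} [CommRing B]

/-- the colon ideal `(I : a)` -/
def colon (I : Ideal B) (a : B) : Ideal B := Submodule.comap (LinearMap.mulLeft B a) I

theorem mem_colon {I : Ideal B} {a y : B} : y ∈ colon I a ↔ a * y ∈ I := Iff.rfl

end Colon

section Eps

variable {P : Type u} [CommRing P] {M N : Type u} [CommGroup M] [CommGroup N] {ι : Type u}
  [Fintype ι] (ψ : MonoidAlgebra P N →ₐc[P] MonoidAlgebra P M) (ν : ι → N)

/-- the coefficients of the image of the `j`-th generator -/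
noncomputable def cf (j : ι) (m : M) : P := (ψ (MonoidAlgebra.single (ν j) 1)).coeff m

/-- the idempotent attached to `τ` -/
noncomputable def epsT (τ : ι → M) : P := ∏ j, cf ψ ν j (τ j)

/-- the subgroup generated by the values of `τ` -/
def HT (τ : ι → M) : Subgroup M := Subgroup.closure (Set.range τ)

open Classical in
/-- the finite set of relevant `τ` -/
noncomputable def TT : Finset (ι → M) :=
  Fintype.piFinset fun j => (ψ (MonoidAlgebra.single (ν j) 1)).coeff.support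

theorem isGroupLikeElem_psi (n : N) : IsGroupLikeElem P (ψ (MonoidAlgebra.single n 1)) :=
  (MonoidAlgebra.isGroupLikeElem_single_one (R := P) (A := P) n).map ψ

theorem cf_mul_self (j : ι) (m : M) : cf ψ ν j m * cf ψ ν j m = cf ψ ν j m := by
  classical
  have h := coeff_mul_coeff (isGroupLikeElem_psi ψ (ν j)) m m
  rwa [if_pos rfl] at h

theorem cf_mul_cf_of_ne (j : ι) {m m' : M} (h : m ≠ m') : cf ψ ν j m * cf ψ ν j m' = 0 := by
  classical
  have h' := coeff_mul_coeff (isGroupLikeElem_psi ψ (ν j)) m m'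
  rwa [if_neg h] at h'

theorem sum_coeff_eq_counit (x : MonoidAlgebra P M) :
    ∑ m ∈ x.coeff.support, x.coeff m = Coalgebra.counit (R := P) x := by
  conv_rhs => rw [← MonoidAlgebra.sum_coeff_single x]
  rw [Finsupp.sum, map_sum]
  refine Finset.sum_congr rfl fun m _ => ?_
  rw [MonoidAlgebra.counit_single]
  rfl

theorem sum_cf (j : ι) :
    ∑ m ∈ (ψ (MonoidAlgebra.single (ν j) 1)).coeff.support, cf ψ ν j m = 1 := by
  unfold cf
  rw [sum_coeff_eq_counit, (isGroupLikeElem_psi ψ (ν j)).counit_eq_one]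

theorem epsT_mul_cf_of_ne (τ : ι → M) (j : ι) {m : M} (hm : τ j ≠ m) :
    epsT ψ ν τ * cf ψ ν j m = 0 := by
  classical
  unfold epsT
  rw [← Finset.mul_prod_erase Finset.univ _ (Finset.mem_univ j), mul_right_comm,
    cf_mul_cf_of_ne ψ ν j hm, zero_mul]

theorem epsT_mul_cf_self (τ : ι → M) (j : ι) :
    epsT ψ ν τ * cf ψ ν j (τ j) = epsT ψ ν τ := by
  classical
  unfold epsT
  rw [← Finset.mul_prod_erase Finset.univ _ (Finset.mem_univ j), mul_right_comm,
    cf_mul_self ψ ν j]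

theorem epsT_mul_self (τ : ι → M) : epsT ψ ν τ * epsT ψ ν τ = epsT ψ ν τ := by
  unfold epsT
  rw [← Finset.prod_mul_distrib]
  exact Finset.prod_congr rfl fun j _ => cf_mul_self ψ ν j (τ j)

theorem epsT_mul_of_ne {τ σ : ι → M} (h : τ ≠ σ) : epsT ψ ν τ * epsT ψ ν σ = 0 := by
  classical
  obtain ⟨j, hj⟩ := Function.ne_iff.1 h
  have h1 : epsT ψ ν σ = cf ψ ν j (σ j) * ∏ i ∈ Finset.univ.erase j, cf ψ ν i (σ i) :=
    (Finset.mul_prod_erase Finset.univ (fun i => cf ψ ν i (σ i)) (Finset.mem_univ j)).symm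
  rw [h1, ← mul_assoc, epsT_mul_cf_of_ne ψ ν τ j hj, zero_mul]

theorem sum_epsT : ∑ τ ∈ TT ψ ν, epsT ψ ν τ = 1 := by
  classical
  unfold TT epsT
  rw [← Finset.prod_univ_sum]
  exact Finset.prod_eq_one fun j _ => sum_cf ψ ν j

theorem epsT_smul_psi (τ : ι → M) (j : ι) :
    epsT ψ ν τ • ψ (MonoidAlgebra.single (ν j) 1) =
      epsT ψ ν τ • (MonoidAlgebra.single (τ j) (1 : P) : MonoidAlgebra P M) := by
  classical
  apply MonoidAlgebra.ext
  apply Finsupp.ext
  intro m
  rw [MonoidAlgebra.coeff_smul_apply, MonoidAlgebra.coeff_smul_apply, MonoidAlgebra.coeff_single,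
    Finsupp.single_apply, smul_eq_mul, smul_eq_mul]
  by_cases hm : τ j = m
  · rw [if_pos hm, mul_one, ← hm]
    exact epsT_mul_cf_self ψ ν τ j
  · rw [if_neg hm, mul_zero]
    exact epsT_mul_cf_of_ne ψ ν τ j hm

end Eps

section StageB

variable {R : Type u} [CommRing R] {A : Type u} [CommRing A] [HopfAlgebra R A]
  {C : Type u} [CommRing C] [HopfAlgebra R C]

theorem stageB (φ : C →ₐc[R] A)
    (J : Ideal A) [J.IsHopfIdeal R]
    (hJ : J = Ideal.map φ (RingHom.ker (Bialgebra.counitAlgHom R C)))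
    {P : Type u} [CommRing P] [Algebra R P] {M N : Type u} [CommGroup M] [CommGroup N]
    (eA : P ⊗[R] A ≃ₐc[P] MonoidAlgebra P M) (eC : P ⊗[R] C ≃ₐc[P] MonoidAlgebra P N)
    (ψ : MonoidAlgebra P N →ₐc[P] MonoidAlgebra P M)
    (hψ : ∀ c : C, ψ (eC ((1 : P) ⊗ₜ[R] c)) = eA ((1 : P) ⊗ₜ[R] φ c))
    {ι : Type u} [Fintype ι] (ν : ι → N) (hν : Subgroup.closure (Set.range ν) = ⊤)
    {S' : Type u} [CommRing S'] [Algebra P S'] [Algebra R S'] [IsScalarTower R P S']
    (c : Finset (ι → M)) (hsum : ∑ τ ∈ c, algebraMap P S' (epsT ψ ν τ) = 1)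
    (Q : Type u) [CommGroup Q] (hQ : ∀ τ ∈ c, Nonempty (M ⧸ HT τ ≃* Q)) :
    Nonempty (S' ⊗[R] (A ⧸ J) ≃ₐc[S'] MonoidAlgebra S' Q) := by
  classical
  obtain ⟨EA, hEA⟩ := exists_bialgEquiv_of_tower (k := R) (P := P) (S' := S') (C := A) eA
  set ε' : (ι → M) → S' := fun τ => algebraMap P S' (epsT ψ ν τ) with hε'
  have hε'a : ∀ τ, ε' τ = algebraMap P S' (epsT ψ ν τ) := fun τ => rfl
  have hOS : IsOrthSum c ε' :=
    { idem := fun τ _ => by rw [hε'a, ← map_mul, epsT_mul_self]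
      orth := fun τ _ σ _ hne => by rw [hε'a, hε'a, ← map_mul, epsT_mul_of_ne ψ ν hne, map_zero]
      sum := hsum }
  let b : (ι → M) → (M →* Q) := fun τ =>
    if h : τ ∈ c then
      ((Classical.choice (hQ τ h)).toMonoidHom.comp (QuotientGroup.mk' (HT τ))) else 1
  have hb : ∀ τ ∈ c, ∃ β : M ⧸ HT τ ≃* Q,
      b τ = β.toMonoidHom.comp (QuotientGroup.mk' (HT τ)) := by
    intro τ hτ
    exact ⟨Classical.choice (hQ τ hτ), by simp only [b, dif_pos hτ]⟩
  have hbs : ∀ τ ∈ c, Function.Surjective (b τ) := by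
    intro τ hτ
    obtain ⟨β, hβ⟩ := hb τ hτ
    rw [hβ]
    exact β.surjective.comp (QuotientGroup.mk'_surjective _)
  let π₂ : S' ⊗[R] A →ₐc[S'] MonoidAlgebra S' Q := (PsiHom hOS b).comp EA.toBialgHom
  have hπ₂ : ∀ z, π₂ z = PsiHom hOS b (EA z) := fun z => rfl
  have hs₂ : Function.Surjective π₂ := fun y => by
    obtain ⟨x, rfl⟩ := PsiHom_surjective hOS b hbs y
    obtain ⟨z, rfl⟩ := EA.surjective x
    exact ⟨z, rfl⟩
  let π₁ : S' ⊗[R] A →ₐc[S'] S' ⊗[R] (A ⧸ J) :=
    Bialgebra.TensorProduct.map (BialgHom.id S' S') (Bialgebra.Quotient.mkBialgHom J)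
  let g₀ : A →ₐ[R] A ⧸ J := Ideal.Quotient.mkₐ R J
  have hg₀ : Function.Surjective g₀ := Ideal.Quotient.mkₐ_surjective R J
  let g₁ : S' ⊗[R] A →ₐ[S'] S' ⊗[R] (A ⧸ J) := Algebra.TensorProduct.map (AlgHom.id S' S') g₀
  have hπ₁ : ∀ z, π₁ z = g₁ z := fun z => rfl
  have hg₁ : Function.Surjective g₁ := surjective_of_tmul g₁ g₀ hg₀ (fun a c => rfl)
  have hs₁ : Function.Surjective π₁ := fun y => by
    obtain ⟨z, hz⟩ := hg₁ y
    exact ⟨z, (hπ₁ z).trans hz⟩
  have hk₁ : RingHom.ker g₁ =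
      Ideal.map (Algebra.TensorProduct.includeRight : A →ₐ[R] S' ⊗[R] A) J := by
    have h := Algebra.TensorProduct.lTensor_ker (A := S') g₀ hg₀
    have h' : RingHom.ker g₀ = J := Ideal.Quotient.mkₐ_ker R J
    rw [h'] at h
    rw [← h]
    ext z
    rw [RingHom.mem_ker, RingHom.mem_ker]
    rfl
  -- ring homs
  let EAr : S' ⊗[R] A →+* MonoidAlgebra S' M :=
    ((EA.toAlgEquiv : S' ⊗[R] A ≃ₐ[S'] MonoidAlgebra S' M) : S' ⊗[R] A →+* MonoidAlgebra S' M)
  have hEAr : ∀ z, EAr z = EA z := fun z => rfl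
  let incl : A →+* S' ⊗[R] A :=
    (Algebra.TensorProduct.includeRight : A →ₐ[R] S' ⊗[R] A).toRingHom
  have hincl : ∀ a, incl a = (1 : S') ⊗ₜ[R] a := fun a => rfl
  let ρ : A →+* MonoidAlgebra S' M := EAr.comp incl
  have hρ : ∀ a, ρ a = EA ((1 : S') ⊗ₜ[R] a) := fun a => rfl
  let φr : C →+* A := (φ : C →ₐ[R] A).toRingHom
  have hφr : ∀ x, φr x = φ x := fun x => rfl
  let IC : Ideal C := RingHom.ker (Bialgebra.counitAlgHom R C)
  let 𝔍 : Ideal (MonoidAlgebra S' M) := Ideal.map ρ J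
  have h𝔍eq : 𝔍 = Ideal.map (ρ.comp φr) IC := by
    have hJ' : J = Ideal.map φr IC := hJ
    show Ideal.map ρ J = _
    rw [hJ']
    exact Ideal.map_map φr ρ
  have h𝔍 : ∀ z, z ∈ Ideal.map (Algebra.TensorProduct.includeRight : A →ₐ[R] S' ⊗[R] A) J ↔
      EA z ∈ 𝔍 := by
    intro z
    have e1 : 𝔍 = Ideal.map EAr (Ideal.map incl J) := (Ideal.map_map _ _).symm
    constructor
    · intro hz
      rw [e1, ← hEAr]
      exact Ideal.mem_map_of_mem EAr hz
    · intro hz
      rw [e1] at hz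
      obtain ⟨w, hw, hwz⟩ := (Ideal.mem_map_iff_of_surjective EAr EA.surjective).1 hz
      have hwz' : w = z := EA.injective hwz
      rw [← hwz']
      exact hw
  -- extension of coefficients
  let μ : MonoidAlgebra P M →ₐ[P] MonoidAlgebra S' M :=
    MonoidAlgebra.mapAlgHom M (Algebra.ofId P S')
  let Θ : MonoidAlgebra P N →ₐ[P] MonoidAlgebra S' M :=
    μ.comp (ψ : MonoidAlgebra P N →ₐ[P] MonoidAlgebra P M)
  have hΘ : ∀ x, Θ x = μ (ψ x) := fun x => rfl
  have hstar : ∀ x : C, Θ (eC ((1 : P) ⊗ₜ[R] x)) = ρ (φr x) := by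
    intro x
    rw [hΘ, hψ, hρ, hφr, hEA]
    rfl
  have hCC : ∀ (τ : ι → M) (j : ι), epsT ψ ν τ • Θ (MonoidAlgebra.single (ν j) 1) =
      epsT ψ ν τ • (MonoidAlgebra.single (τ j) (1 : S') : MonoidAlgebra S' M) := by
    intro τ j
    rw [hΘ, ← map_smul, epsT_smul_psi, map_smul, MonoidAlgebra.mapAlgHom_single, map_one]
  let eCr : P ⊗[R] C →+* MonoidAlgebra P N :=
    ((eC.toAlgEquiv : P ⊗[R] C ≃ₐ[P] MonoidAlgebra P N) : P ⊗[R] C →+* MonoidAlgebra P N)
  have heCr : ∀ z, eCr z = eC z := fun z => rfl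
  let inclC : C →+* P ⊗[R] C :=
    (Algebra.TensorProduct.includeRight : C →ₐ[R] P ⊗[R] C).toRingHom
  let ΘeC : P ⊗[R] C →+* MonoidAlgebra S' M := Θ.toRingHom.comp eCr
  have hΘeC : ∀ z, ΘeC z = Θ (eC z) := fun z => rfl
  have hcomp : ΘeC.comp inclC = ρ.comp φr := RingHom.ext fun x => hstar x
  have hICmap : Ideal.map inclC IC = RingHom.ker (Bialgebra.counitAlgHom P (P ⊗[R] C)) :=
    map_includeRight_ker_counit R P C
  -- (a)
  have ha : ∀ τ : ι → M, ∀ y ∈ 𝔍, epsT ψ ν τ • y ∈ augH S' (HT τ) := by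
    intro τ y hy
    have h1 : 𝔍 ≤ colon (augH S' (HT τ))
        (algebraMap P (MonoidAlgebra S' M) (epsT ψ ν τ)) := by
      rw [h𝔍eq, Ideal.map_le_iff_le_comap]
      intro x hx
      rw [Ideal.mem_comap]
      show ρ (φr x) ∈ _
      rw [← hstar]
      have hx1 : ((1 : P) ⊗ₜ[R] x : P ⊗[R] C) ∈
          RingHom.ker (Bialgebra.counitAlgHom P (P ⊗[R] C)) := by
        rw [← hICmap]
        exact Ideal.mem_map_of_mem inclC hx
      have hcu : Coalgebra.counit (R := P) (eC ((1 : P) ⊗ₜ[R] x)) = 0 := by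
        rw [CoalgHomClass.counit_comp_apply]
        rw [RingHom.mem_ker, Bialgebra.counitAlgHom_apply] at hx1
        exact hx1
      have hmem := mem_span_of_counit_eq_zero P _ hcu
      have h2 : Ideal.span (Set.range fun n : N =>
          (MonoidAlgebra.single n (1 : P) - 1 : MonoidAlgebra P N)) ≤
          Ideal.comap Θ.toRingHom (colon (augH S' (HT τ))
            (algebraMap P (MonoidAlgebra S' M) (epsT ψ ν τ))) := by
        rw [Ideal.span_le]
        rintro _ ⟨n, rfl⟩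
        rw [SetLike.mem_coe, Ideal.mem_comap]
        show Θ (MonoidAlgebra.single n (1 : P) - 1) ∈ _
        rw [map_sub, map_one]
        have hn : n ∈ Subgroup.closure (Set.range ν) := by rw [hν]; trivial
        let χ : N →* MonoidAlgebra S' M :=
          ((Θ : MonoidAlgebra P N →ₐ[P] MonoidAlgebra S' M) :
            MonoidAlgebra P N →* MonoidAlgebra S' M).comp (MonoidAlgebra.of P N)
        have hχ : ∀ n, χ n = Θ (MonoidAlgebra.single n (1 : P)) := fun n => rfl
        rw [← hχ]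
        refine sub_one_mem_of_mem_closure χ _ (Set.range ν) ?_ hn
        rintro _ ⟨j, rfl⟩
        rw [mem_colon, hχ, ← Algebra.smul_def, smul_sub, hCC, ← smul_sub, Algebra.smul_def]
        exact Ideal.mul_mem_left _ _
          (single_sub_one_mem_augH S' (Subgroup.subset_closure ⟨j, rfl⟩))
      exact h2 hmem
    have h3 := h1 hy
    rw [mem_colon, ← Algebra.smul_def] at h3
    exact h3
  -- (b)
  have hbb : ∀ τ : ι → M, ∀ y ∈ augH S' (HT τ), epsT ψ ν τ • y ∈ 𝔍 := by
    intro τ y hy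
    have h1 : augH S' (HT τ) ≤ colon 𝔍 (algebraMap P (MonoidAlgebra S' M) (epsT ψ ν τ)) := by
      rw [augH, Ideal.span_le]
      rintro _ ⟨h, hh, rfl⟩
      rw [SetLike.mem_coe]
      show (MonoidAlgebra.single h (1 : S') - 1 : MonoidAlgebra S' M) ∈ _
      let χ : M →* MonoidAlgebra S' M := MonoidAlgebra.of S' M
      have hχ : ∀ m, χ m = MonoidAlgebra.single m (1 : S') := fun m => rfl
      rw [← hχ]
      refine sub_one_mem_of_mem_closure χ _ (Set.range τ) ?_ hh
      rintro _ ⟨j, rfl⟩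
      rw [mem_colon, hχ, ← Algebra.smul_def, smul_sub, ← hCC, ← smul_sub, Algebra.smul_def]
      refine Ideal.mul_mem_left _ _ ?_
      have h2 : Θ (MonoidAlgebra.single (ν j) 1) - 1 =
          ΘeC (eC.symm (MonoidAlgebra.single (ν j) (1 : P) - 1)) := by
        rw [hΘeC, eC.apply_symm_apply, map_sub, map_one]
      rw [h2, h𝔍eq, ← hcomp, ← Ideal.map_map]
      refine Ideal.mem_map_of_mem ΘeC ?_
      rw [hICmap, RingHom.mem_ker, Bialgebra.counitAlgHom_apply,
        CoalgHomClass.counit_comp_apply, map_sub,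
        (MonoidAlgebra.isGroupLikeElem_single_one (R := P) (A := P) (ν j)).counit_eq_one]
      simp
    have h3 := h1 hy
    rw [mem_colon, ← Algebra.smul_def] at h3
    exact h3
  -- the kernels agree
  have hcmp : ∀ x : MonoidAlgebra S' M,
      x ∈ 𝔍 ↔ ∀ τ ∈ c, ε' τ • x ∈ augH S' (HT τ) := by
    intro x
    constructor
    · intro hx τ _
      rw [hε'a, algebraMap_smul]
      exact ha τ x hx
    · intro hx
      rw [← hOS.sum_smul_self x]
      refine Ideal.sum_mem _ fun τ hτ => ?_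
      have h1 : ε' τ • x = epsT ψ ν τ • (ε' τ • x) := by
        rw [← algebraMap_smul S' (epsT ψ ν τ) (ε' τ • x), ← hε'a, smul_smul, hOS.idem τ hτ]
      rw [h1]
      exact hbb τ _ (hx τ hτ)
  have hker : ∀ z, π₁ z = 0 ↔ π₂ z = 0 := by
    intro z
    rw [hπ₁, hπ₂, PsiHom_eq_zero_iff' hOS b (fun τ => HT τ) hb, ← hcmp, ← h𝔍, ← hk₁,
      RingHom.mem_ker]
  exact nonempty_bialgEquiv_of_ker_eq π₁ π₂ hs₁ hs₂ hker

end StageB

end Groth.Agent.Lib.Helper17.KerMT
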