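import Groth.Agent.Lib.Helper17.KerMT2
import Mathlib

/-!
# Kernels of homomorphisms of groups of multiplicative type, part 3 (helper17)

* `mulEquiv_of_bialgEquiv_field`: over a field, `F[Q] ≅ F[Q']` as bialgebras gives `Q ≅ Q'`.
* `stageA`: if `ε_τ ⊗ ε_σ ≠ 0` in `P ⊗[K] P` then `M / H_τ ≅ M / H_σ`.
* `classSet`, `exists_descent`: the class idempotents descend along a faithfully flat `K → P`.
-/

set_option autoImplicit false
universe u

namespace Groth.Agent.Lib.Helper17.KerMT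

open TensorProduct SGA3b

theorem mulEquiv_of_bialgEquiv_field {F : Type u} [Field F] {Q Q' : Type u} [CommGroup Q]
    [CommGroup Q'] (e : MonoidAlgebra F Q ≃ₐc[F] MonoidAlgebra F Q') : Nonempty (Q ≃* Q') := by
  let f : Q →* Q' := MonoidAlgebra.mapDomainOfBialgHom e.toBialgHom
  let g : Q' →* Q := MonoidAlgebra.mapDomainOfBialgHom e.symm.toBialgHom
  have h1 : g.comp f = MonoidHom.id Q := by
    show (MonoidAlgebra.mapDomainOfBialgHom e.symm.toBialgHom).comp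
      (MonoidAlgebra.mapDomainOfBialgHom e.toBialgHom) = _
    rw [← MonoidAlgebra.mapDomainOfBialgHom_comp]
    have h : e.symm.toBialgHom.comp e.toBialgHom = BialgHom.id F _ := by
      apply BialgHom.ext
      intro x
      exact e.symm_apply_apply x
    rw [h, MonoidAlgebra.mapDomainOfBialgHom_id]
  have h2 : f.comp g = MonoidHom.id Q' := by
    show (MonoidAlgebra.mapDomainOfBialgHom e.toBialgHom).comp
      (MonoidAlgebra.mapDomainOfBialgHom e.symm.toBialgHom) = _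
    rw [← MonoidAlgebra.mapDomainOfBialgHom_comp]
    have h : e.toBialgHom.comp e.symm.toBialgHom = BialgHom.id F _ := by
      apply BialgHom.ext
      intro x
      exact e.apply_symm_apply x
    rw [h, MonoidAlgebra.mapDomainOfBialgHom_id]
  exact ⟨MonoidHom.toMulEquiv f g h1 h2⟩

section StageA

variable {R : Type u} [CommRing R] {A : Type u} [CommRing A] [HopfAlgebra R A]
  {C : Type u} [CommRing C] [HopfAlgebra R C]

theorem stageA_aux (φ : C →ₐc[R] A)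
    (J : Ideal A) [J.IsHopfIdeal R]
    (hJ : J = Ideal.map φ (RingHom.ker (Bialgebra.counitAlgHom R C)))
    {P : Type u} [CommRing P] [Algebra R P] {M N : Type u} [CommGroup M] [CommGroup N]
    (eA : P ⊗[R] A ≃ₐc[P] MonoidAlgebra P M) (eC : P ⊗[R] C ≃ₐc[P] MonoidAlgebra P N)
    (ψ : MonoidAlgebra P N →ₐc[P] MonoidAlgebra P M)
    (hψ : ∀ c : C, ψ (eC ((1 : P) ⊗ₜ[R] c)) = eA ((1 : P) ⊗ₜ[R] φ c))
    {ι : Type u} [Fintype ι] (ν : ι → N) (hν : Subgroup.closure (Set.range ν) = ⊤)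
    {F : Type u} [Field F] [Algebra R F] (ρ₁ ρ₂ : P →+* F)
    (h₁ : ∀ r, ρ₁ (algebraMap R P r) = algebraMap R F r)
    (h₂ : ∀ r, ρ₂ (algebraMap R P r) = algebraMap R F r)
    (τ σ : ι → M) (hτ : ρ₁ (epsT ψ ν τ) = 1) (hσ : ρ₂ (epsT ψ ν σ) = 1) :
    Nonempty (M ⧸ HT τ ≃* M ⧸ HT σ) := by
  classical
  have h1 : Nonempty (F ⊗[R] (A ⧸ J) ≃ₐc[F] MonoidAlgebra F (M ⧸ HT τ)) := by
    letI : Algebra P F := ρ₁.toAlgebra
    haveI : IsScalarTower R P F := IsScalarTower.of_algebraMap_eq (fun r => (h₁ r).symm)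
    refine stageB φ J hJ eA eC ψ hψ ν hν ({τ} : Finset (ι → M)) ?_ (M ⧸ HT τ) ?_
    · rw [Finset.sum_singleton]
      exact hτ
    · intro τ' hτ'
      rw [Finset.mem_singleton] at hτ'
      subst hτ'
      exact ⟨MulEquiv.refl _⟩
  have h2 : Nonempty (F ⊗[R] (A ⧸ J) ≃ₐc[F] MonoidAlgebra F (M ⧸ HT σ)) := by
    letI : Algebra P F := ρ₂.toAlgebra
    haveI : IsScalarTower R P F := IsScalarTower.of_algebraMap_eq (fun r => (h₂ r).symm)
    refine stageB φ J hJ eA eC ψ hψ ν hν ({σ} : Finset (ι → M)) ?_ (M ⧸ HT σ) ?_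
    · rw [Finset.sum_singleton]
      exact hσ
    · intro τ' hτ'
      rw [Finset.mem_singleton] at hτ'
      subst hτ'
      exact ⟨MulEquiv.refl _⟩
  obtain ⟨E1⟩ := h1
  obtain ⟨E2⟩ := h2
  exact mulEquiv_of_bialgEquiv_field (E1.symm.trans E2)

theorem stageA (φ : C →ₐc[R] A)
    (J : Ideal A) [J.IsHopfIdeal R]
    (hJ : J = Ideal.map φ (RingHom.ker (Bialgebra.counitAlgHom R C)))
    {K P : Type u} [CommRing K] [CommRing P] [Algebra R K] [Algebra K P] [Algebra R P]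
    [IsScalarTower R K P] {M N : Type u} [CommGroup M] [CommGroup N]
    (eA : P ⊗[R] A ≃ₐc[P] MonoidAlgebra P M) (eC : P ⊗[R] C ≃ₐc[P] MonoidAlgebra P N)
    (ψ : MonoidAlgebra P N →ₐc[P] MonoidAlgebra P M)
    (hψ : ∀ c : C, ψ (eC ((1 : P) ⊗ₜ[R] c)) = eA ((1 : P) ⊗ₜ[R] φ c))
    {ι : Type u} [Fintype ι] (ν : ι → N) (hν : Subgroup.closure (Set.range ν) = ⊤)
    (τ σ : ι → M) (hne : (epsT ψ ν τ ⊗ₜ[K] epsT ψ ν σ : P ⊗[K] P) ≠ 0) :
    Nonempty (M ⧸ HT τ ≃* M ⧸ HT σ) := by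
  classical
  set z : P ⊗[K] P := epsT ψ ν τ ⊗ₜ[K] epsT ψ ν σ with hz
  have hzz : z * z = z := by
    rw [hz, Algebra.TensorProduct.tmul_mul_tmul, epsT_mul_self, epsT_mul_self]
  have hnu : ¬ IsUnit (1 - z) := by
    intro hu
    have h0 : z * (1 - z) = 0 := by rw [mul_sub, mul_one, hzz, sub_self]
    obtain ⟨u, hu'⟩ := hu
    have h1 : z = 0 := by
      calc z = z * (1 - z) * ↑u⁻¹ := by rw [← hu', mul_assoc, Units.mul_inv, mul_one]
        _ = 0 := by rw [h0, zero_mul]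
    exact hne h1
  obtain ⟨𝔫, h𝔫max, h𝔫⟩ := exists_max_ideal_of_mem_nonunits (mem_nonunits_iff.2 hnu)
  haveI := h𝔫max
  letI : Field ((P ⊗[K] P) ⧸ 𝔫) := Ideal.Quotient.field 𝔫
  have hz1 : Ideal.Quotient.mk 𝔫 z = 1 := by
    rw [← sub_eq_zero, ← map_one (Ideal.Quotient.mk 𝔫), ← map_sub,
      Ideal.Quotient.eq_zero_iff_mem]
    have h1 : z - 1 = -(1 - z) := by ring
    rw [h1]
    exact 𝔫.neg_mem h𝔫
  refine stageA_aux φ J hJ eA eC ψ hψ ν hν (F := (P ⊗[K] P) ⧸ 𝔫)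
    ((Ideal.Quotient.mk 𝔫).comp
      (Algebra.TensorProduct.includeLeft : P →ₐ[K] P ⊗[K] P).toRingHom)
    ((Ideal.Quotient.mk 𝔫).comp
      (Algebra.TensorProduct.includeRight : P →ₐ[K] P ⊗[K] P).toRingHom) ?_ ?_ τ σ ?_ ?_
  · intro r
    show Ideal.Quotient.mk 𝔫 ((algebraMap R P r) ⊗ₜ[K] (1 : P)) =
      Ideal.Quotient.mk 𝔫 (algebraMap R (P ⊗[K] P) r)
    rw [Algebra.TensorProduct.algebraMap_apply]
  · intro r
    show Ideal.Quotient.mk 𝔫 ((1 : P) ⊗ₜ[K] (algebraMap R P r)) =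
      Ideal.Quotient.mk 𝔫 (algebraMap R (P ⊗[K] P) r)
    rw [Algebra.TensorProduct.algebraMap_apply, IsScalarTower.algebraMap_apply R K P,
      Algebra.algebraMap_eq_smul_one (algebraMap R K r), TensorProduct.smul_tmul]
  · show Ideal.Quotient.mk 𝔫 (epsT ψ ν τ ⊗ₜ[K] (1 : P)) = 1
    have h2 : (epsT ψ ν τ ⊗ₜ[K] (1 : P)) * z = z := by
      rw [hz, Algebra.TensorProduct.tmul_mul_tmul, epsT_mul_self, one_mul]
    have h3 := congrArg (Ideal.Quotient.mk 𝔫) h2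
    rw [map_mul, hz1, mul_one] at h3
    exact h3
  · show Ideal.Quotient.mk 𝔫 ((1 : P) ⊗ₜ[K] epsT ψ ν σ) = 1
    have h2 : ((1 : P) ⊗ₜ[K] epsT ψ ν σ) * z = z := by
      rw [hz, Algebra.TensorProduct.tmul_mul_tmul, epsT_mul_self, one_mul]
    have h3 := congrArg (Ideal.Quotient.mk 𝔫) h2
    rw [map_mul, hz1, mul_one] at h3
    exact h3

open Classical in
/-- the set of `τ` of the same type as `τ₀` -/
noncomputable def classSet {P : Type u} [CommRing P] {M N : Type u} [CommGroup M] [CommGroup N]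
    {ι : Type u} [Fintype ι] (ψ : MonoidAlgebra P N →ₐc[P] MonoidAlgebra P M) (ν : ι → N)
    (τ₀ : ι → M) : Finset (ι → M) :=
  (TT ψ ν).filter (fun τ => Nonempty (M ⧸ HT τ ≃* M ⧸ HT τ₀))

theorem exists_descent (φ : C →ₐc[R] A)
    (J : Ideal A) [J.IsHopfIdeal R]
    (hJ : J = Ideal.map φ (RingHom.ker (Bialgebra.counitAlgHom R C)))
    {K P : Type u} [CommRing K] [CommRing P] [Algebra R K] [Algebra K P] [Algebra R P]
    [IsScalarTower R K P] [Module.FaithfullyFlat K P]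
    {M N : Type u} [CommGroup M] [CommGroup N]
    (eA : P ⊗[R] A ≃ₐc[P] MonoidAlgebra P M) (eC : P ⊗[R] C ≃ₐc[P] MonoidAlgebra P N)
    (ψ : MonoidAlgebra P N →ₐc[P] MonoidAlgebra P M)
    (hψ : ∀ c : C, ψ (eC ((1 : P) ⊗ₜ[R] c)) = eA ((1 : P) ⊗ₜ[R] φ c))
    {ι : Type u} [Fintype ι] (ν : ι → N) (hν : Subgroup.closure (Set.range ν) = ⊤)
    (τ₀ : ι → M) :
    ∃ e : K, algebraMap K P e = ∑ τ ∈ classSet ψ ν τ₀, epsT ψ ν τ := by
  classical
  set E : P := ∑ τ ∈ classSet ψ ν τ₀, epsT ψ ν τ with hE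
  have h2 : (∑ τ ∈ TT ψ ν, if Nonempty (M ⧸ HT τ ≃* M ⧸ HT τ₀) then epsT ψ ν τ else 0) = E := by
    rw [hE, classSet, Finset.sum_filter]
  have key : (E ⊗ₜ[K] (1 : P) : P ⊗[K] P) = (1 : P) ⊗ₜ[K] E := by
    calc (E ⊗ₜ[K] (1 : P) : P ⊗[K] P)
        = (∑ τ ∈ TT ψ ν, if Nonempty (M ⧸ HT τ ≃* M ⧸ HT τ₀) then epsT ψ ν τ else 0) ⊗ₜ[K]
            (∑ σ ∈ TT ψ ν, epsT ψ ν σ) := by rw [h2, sum_epsT]
      _ = ∑ τ ∈ TT ψ ν, ∑ σ ∈ TT ψ ν,
            (if Nonempty (M ⧸ HT τ ≃* M ⧸ HT τ₀) then epsT ψ ν τ else 0) ⊗ₜ[K] epsT ψ ν σ := by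
          rw [TensorProduct.sum_tmul]
          refine Finset.sum_congr rfl fun τ _ => ?_
          rw [TensorProduct.tmul_sum]
      _ = ∑ τ ∈ TT ψ ν, ∑ σ ∈ TT ψ ν,
            epsT ψ ν τ ⊗ₜ[K] (if Nonempty (M ⧸ HT σ ≃* M ⧸ HT τ₀) then epsT ψ ν σ else 0) := by
          refine Finset.sum_congr rfl fun τ _ => Finset.sum_congr rfl fun σ _ => ?_
          by_cases hz : (epsT ψ ν τ ⊗ₜ[K] epsT ψ ν σ : P ⊗[K] P) = 0
          · split_ifs <;> simp [hz]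
          · obtain ⟨β⟩ := stageA φ J hJ eA eC ψ hψ ν hν τ σ hz
            have hiff : Nonempty (M ⧸ HT τ ≃* M ⧸ HT τ₀) ↔ Nonempty (M ⧸ HT σ ≃* M ⧸ HT τ₀) :=
              ⟨fun ⟨γ⟩ => ⟨β.symm.trans γ⟩, fun ⟨γ⟩ => ⟨β.trans γ⟩⟩
            by_cases hτ : Nonempty (M ⧸ HT τ ≃* M ⧸ HT τ₀)
            · rw [if_pos hτ, if_pos (hiff.1 hτ)]
            · rw [if_neg hτ, if_neg (mt hiff.2 hτ), TensorProduct.zero_tmul,
                TensorProduct.tmul_zero]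
      _ = (∑ τ ∈ TT ψ ν, epsT ψ ν τ) ⊗ₜ[K]
            (∑ σ ∈ TT ψ ν, if Nonempty (M ⧸ HT σ ≃* M ⧸ HT τ₀) then epsT ψ ν σ else 0) := by
          rw [TensorProduct.sum_tmul]
          refine Finset.sum_congr rfl fun τ _ => ?_
          rw [TensorProduct.tmul_sum]
      _ = (1 : P) ⊗ₜ[K] E := by rw [h2, sum_epsT]
  have h0 : Algebra.TensorProduct.includeLeftSubRight K P E = 0 := by
    rw [Algebra.TensorProduct.includeLeftSubRight_apply, key, sub_self]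
  obtain ⟨e, he⟩ := ((Algebra.IsEffective.of_faithfullyFlat K P) E).1 h0
  exact ⟨e, he⟩

end StageA

end Groth.Agent.Lib.Helper17.KerMT
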