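import Groth.Agent.Lib.Helper17.KerMT3
import Mathlib

/-!
# Kernels of homomorphisms of groups of multiplicative type, part 4 (helper17)

* `isMultTypeConst_tower`, `isMultTypeConst_away_of_dvd`, `exists_common`: plumbing for groups of
  multiplicative type of constant type.
* `local_main`: around every maximal ideal, the kernel of a homomorphism `G → H` of groups of
  multiplicative type (`H` of finite type) is of multiplicative type of constant type.
* `kernel_isMultType`: the kernel is of multiplicative type.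
-/

set_option autoImplicit false
universe u

namespace Groth.Agent.Lib.Helper17.KerMT

open TensorProduct SGA3b Groth.Agent.Lib.Helper17.MultLift Groth.Agent.Lib.Helper17.MultBC

section Plumbing

theorem isDiag_tower2 {R K₀ K P₀ P' : Type u} [CommRing R] [CommRing K₀] [CommRing K]
    [CommRing P₀] [CommRing P'] [Algebra R K₀] [Algebra R K] [Algebra K₀ K] [IsScalarTower R K₀ K]
    [Algebra K₀ P₀] [Algebra K P'] [Algebra P₀ P'] [Algebra K₀ P'] [IsScalarTower K₀ K P']
    [IsScalarTower K₀ P₀ P'] (A : Type u) [CommRing A] [HopfAlgebra R A] {N : Type u}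
    [CommGroup N] (e : P₀ ⊗[K₀] (K₀ ⊗[R] A) ≃ₐc[P₀] MonoidAlgebra P₀ N) :
    IsDiag P' (P' ⊗[K] (K ⊗[R] A)) := by
  letI iR : Algebra R P' := ((algebraMap K P').comp (algebraMap R K)).toAlgebra
  haveI : IsScalarTower R K P' := IsScalarTower.of_algebraMap_eq (fun _ => rfl)
  haveI : IsScalarTower R K₀ P' := IsScalarTower.of_algebraMap_eq (fun x => by
    show algebraMap K P' (algebraMap R K x) = algebraMap K₀ P' (algebraMap R K₀ x)
    rw [IsScalarTower.algebraMap_apply R K₀ K, ← IsScalarTower.algebraMap_apply K₀ K P'])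
  obtain ⟨c4⟩ := nonempty_bialgEquiv_of_tower (k := K₀) (P := P₀) (S' := P') (C := K₀ ⊗[R] A) e
  exact ⟨N, inferInstance,
    ⟨(cancelBaseChangeBialg R K P' A).trans ((cancelBaseChangeBialg R K₀ P' A).symm.trans c4)⟩⟩

theorem isMultTypeConst_tower {R K₀ K : Type u} [CommRing R] [CommRing K₀] [CommRing K]
    [Algebra R K₀] [Algebra R K] [Algebra K₀ K] [IsScalarTower R K₀ K]
    (A : Type u) [CommRing A] [HopfAlgebra R A]
    (h : IsMultTypeConst K₀ (K₀ ⊗[R] A)) : IsMultTypeConst K (K ⊗[R] A) := by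
  obtain ⟨P₀, _, _, hff, N, _, ⟨e⟩⟩ := h
  haveI := hff
  refine ⟨K ⊗[K₀] P₀, inferInstance, inferInstance, inferInstance, ?_⟩
  letI iP : Algebra P₀ (K ⊗[K₀] P₀) := Algebra.TensorProduct.rightAlgebra
  haveI : IsScalarTower K₀ P₀ (K ⊗[K₀] P₀) := IsScalarTower.of_algebraMap_eq (fun x => by
    rw [Algebra.TensorProduct.algebraMap_apply, Algebra.TensorProduct.right_algebraMap_apply,
      Algebra.algebraMap_eq_smul_one, Algebra.algebraMap_eq_smul_one, TensorProduct.smul_tmul])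
  exact isDiag_tower2 (R := R) (K₀ := K₀) (K := K) (P₀ := P₀) (P' := K ⊗[K₀] P₀) A e

theorem isMultTypeConst_away_of_dvd {R : Type u} [CommRing R] (A : Type u) [CommRing A]
    [HopfAlgebra R A] {f F : R} (hd : f ∣ F)
    (h : IsMultTypeConst (Localization.Away f) (Localization.Away f ⊗[R] A)) :
    IsMultTypeConst (Localization.Away F) (Localization.Away F ⊗[R] A) := by
  have hu : IsUnit (algebraMap R (Localization.Away F) f) := by
    obtain ⟨d, rfl⟩ := hd
    have h1 := IsLocalization.Away.algebraMap_isUnit (S := Localization.Away (f * d)) (f * d)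
    rw [map_mul] at h1
    exact isUnit_of_mul_isUnit_left h1
  letI : Algebra (Localization.Away f) (Localization.Away F) :=
    (IsLocalization.Away.lift f hu).toAlgebra
  haveI : IsScalarTower R (Localization.Away f) (Localization.Away F) :=
    IsScalarTower.of_algebraMap_eq (fun x => (IsLocalization.Away.lift_eq f hu x).symm)
  exact isMultTypeConst_tower A h

theorem diag_of_tower3 {R K P₀ P : Type u} [CommRing R] [CommRing K] [CommRing P₀] [CommRing P]
    [Algebra R K] [Algebra K P₀] [Algebra K P] [Algebra P₀ P] [IsScalarTower K P₀ P]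
    [Algebra R P] [IsScalarTower R K P] (A : Type u) [CommRing A] [HopfAlgebra R A] {M : Type u}
    [CommGroup M] (e : P₀ ⊗[K] (K ⊗[R] A) ≃ₐc[P₀] MonoidAlgebra P₀ M) :
    Nonempty (P ⊗[R] A ≃ₐc[P] MonoidAlgebra P M) := by
  obtain ⟨c4⟩ := nonempty_bialgEquiv_of_tower (k := K) (P := P₀) (S' := P) (C := K ⊗[R] A) e
  exact ⟨(cancelBaseChangeBialg R K P A).symm.trans c4⟩

theorem exists_common {R K : Type u} [CommRing R] [CommRing K] [Algebra R K]
    (A C : Type u) [CommRing A] [HopfAlgebra R A] [CommRing C] [HopfAlgebra R C]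
    (hA : IsMultTypeConst K (K ⊗[R] A)) (hC : IsMultTypeConst K (K ⊗[R] C)) :
    ∃ (P : Type u) (_ : CommRing P) (_ : Algebra K P) (_ : Algebra R P)
      (_ : IsScalarTower R K P) (_ : Module.FaithfullyFlat K P) (M : Type u) (_ : CommGroup M)
      (N : Type u) (_ : CommGroup N),
      Nonempty (P ⊗[R] A ≃ₐc[P] MonoidAlgebra P M) ∧
        Nonempty (P ⊗[R] C ≃ₐc[P] MonoidAlgebra P N) := by
  obtain ⟨PA, _, _, hffA, M, _, ⟨eA⟩⟩ := hA
  obtain ⟨PC, _, _, hffC, N, _, ⟨eC⟩⟩ := hC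
  haveI := hffA
  haveI := hffC
  letI iPC : Algebra PC (PA ⊗[K] PC) := Algebra.TensorProduct.rightAlgebra
  haveI : IsScalarTower K PC (PA ⊗[K] PC) := IsScalarTower.of_algebraMap_eq (fun x => by
    rw [Algebra.TensorProduct.algebraMap_apply, Algebra.TensorProduct.right_algebraMap_apply,
      Algebra.algebraMap_eq_smul_one, Algebra.algebraMap_eq_smul_one, TensorProduct.smul_tmul])
  letI iR : Algebra R (PA ⊗[K] PC) :=
    ((algebraMap K (PA ⊗[K] PC)).comp (algebraMap R K)).toAlgebra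
  haveI hst : IsScalarTower R K (PA ⊗[K] PC) := IsScalarTower.of_algebraMap_eq (fun _ => rfl)
  have hff : Module.FaithfullyFlat K (PA ⊗[K] PC) :=
    Module.FaithfullyFlat.trans K PA (PA ⊗[K] PC)
  exact ⟨PA ⊗[K] PC, inferInstance, inferInstance, iR, hst, hff, M, inferInstance, N,
    inferInstance, diag_of_tower3 (P₀ := PA) (P := PA ⊗[K] PC) A eA,
    diag_of_tower3 (P₀ := PC) (P := PA ⊗[K] PC) C eC⟩

end Plumbing

section Eps2

variable {P : Type u} [CommRing P] {M N : Type u} [CommGroup M] [CommGroup N] {ι : Type u}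
  [Fintype ι] (ψ : MonoidAlgebra P N →ₐc[P] MonoidAlgebra P M) (ν : ι → N)

theorem classSum_mul_eps {τ : ι → M} (hτ : τ ∈ TT ψ ν) :
    (∑ σ ∈ classSet ψ ν τ, epsT ψ ν σ) * epsT ψ ν τ = epsT ψ ν τ := by
  classical
  have hmem : τ ∈ classSet ψ ν τ := by
    rw [classSet, Finset.mem_filter]
    exact ⟨hτ, ⟨MulEquiv.refl _⟩⟩
  rw [Finset.sum_mul, Finset.sum_eq_single τ]
  · exact epsT_mul_self ψ ν τ
  · intro σ _ hne
    exact epsT_mul_of_ne ψ ν hne
  · intro h
    exact absurd hmem h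

theorem classSum_mul_self (c : Finset (ι → M)) :
    (∑ τ ∈ c, epsT ψ ν τ) * (∑ τ ∈ c, epsT ψ ν τ) = ∑ τ ∈ c, epsT ψ ν τ := by
  classical
  rw [Finset.sum_mul_sum]
  refine Finset.sum_congr rfl fun τ hτ => ?_
  rw [Finset.sum_eq_single τ]
  · exact epsT_mul_self ψ ν τ
  · intro σ _ hne
    exact epsT_mul_of_ne ψ ν (Ne.symm hne)
  · intro h
    exact absurd hτ h

end Eps2

section Main

variable {R : Type u} [CommRing R] {A : Type u} [CommRing A] [HopfAlgebra R A]
  {C : Type u} [CommRing C] [HopfAlgebra R C]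

theorem final_aux (φ : C →ₐc[R] A)
    (J : Ideal A) [J.IsHopfIdeal R]
    (hJ : J = Ideal.map φ (RingHom.ker (Bialgebra.counitAlgHom R C)))
    {K P : Type u} [CommRing K] [CommRing P] [Algebra R K] [Algebra K P] [Algebra R P]
    [IsScalarTower R K P] {M N : Type u} [CommGroup M] [CommGroup N]
    (eA : P ⊗[R] A ≃ₐc[P] MonoidAlgebra P M) (eC : P ⊗[R] C ≃ₐc[P] MonoidAlgebra P N)
    (ψ : MonoidAlgebra P N →ₐc[P] MonoidAlgebra P M)
    (hψ : ∀ c : C, ψ (eC ((1 : P) ⊗ₜ[R] c)) = eA ((1 : P) ⊗ₜ[R] φ c))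
    {ι : Type u} [Fintype ι] (ν : ι → N) (hν : Subgroup.closure (Set.range ν) = ⊤)
    {Kg : Type u} [CommRing Kg] [Algebra R Kg] [Algebra K Kg] [IsScalarTower R K Kg]
    {S : Type u} [CommRing S] [Algebra Kg S] [Algebra P S] [Algebra K S] [IsScalarTower K Kg S]
    [IsScalarTower K P S] (τ₀ : ι → M) (e : K)
    (he : algebraMap K P e = ∑ τ ∈ classSet ψ ν τ₀, epsT ψ ν τ)
    (he1 : algebraMap K Kg e = 1) :
    IsDiag S (S ⊗[Kg] (Kg ⊗[R] (A ⧸ J))) := by
  classical
  letI iR : Algebra R S := ((algebraMap Kg S).comp (algebraMap R Kg)).toAlgebra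
  haveI : IsScalarTower R Kg S := IsScalarTower.of_algebraMap_eq (fun _ => rfl)
  haveI : IsScalarTower R P S := IsScalarTower.of_algebraMap_eq (fun r => by
    show algebraMap Kg S (algebraMap R Kg r) = algebraMap P S (algebraMap R P r)
    rw [IsScalarTower.algebraMap_apply R K Kg, ← IsScalarTower.algebraMap_apply K Kg S,
      IsScalarTower.algebraMap_apply R K P, ← IsScalarTower.algebraMap_apply K P S])
  have hsum : ∑ τ ∈ classSet ψ ν τ₀, algebraMap P S (epsT ψ ν τ) = 1 := by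
    rw [← map_sum, ← he, ← IsScalarTower.algebraMap_apply K P S,
      IsScalarTower.algebraMap_apply K Kg S, he1, map_one]
  have hQ : ∀ τ ∈ classSet ψ ν τ₀, Nonempty (M ⧸ HT τ ≃* M ⧸ HT τ₀) := by
    intro τ hτ
    rw [classSet, Finset.mem_filter] at hτ
    exact hτ.2
  obtain ⟨E⟩ := stageB φ J hJ eA eC ψ hψ ν hν (S' := S) (classSet ψ ν τ₀) hsum (M ⧸ HT τ₀) hQ
  exact ⟨M ⧸ HT τ₀, inferInstance, ⟨(cancelBaseChangeBialg R Kg S (A ⧸ J)).trans E⟩⟩

theorem local_aux (hCft : Algebra.FiniteType R C) (φ : C →ₐc[R] A)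
    (J : Ideal A) [J.IsHopfIdeal R]
    (hJ : J = Ideal.map φ (RingHom.ker (Bialgebra.counitAlgHom R C)))
    (𝔪 : Ideal R) [h𝔪 : 𝔪.IsMaximal] (F : R) (hF𝔪 : F ∉ 𝔪)
    {K : Type u} [CommRing K] [Algebra R K] [IsLocalization.Away F K]
    {P : Type u} [CommRing P] [Algebra K P] [Algebra R P] [IsScalarTower R K P]
    [Module.FaithfullyFlat K P] {M N : Type u} [CommGroup M] [CommGroup N]
    (eA : P ⊗[R] A ≃ₐc[P] MonoidAlgebra P M) (eC : P ⊗[R] C ≃ₐc[P] MonoidAlgebra P N) :
    ∃ g : R, g ∉ 𝔪 ∧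
      IsMultTypeConst (Localization.Away g) (Localization.Away g ⊗[R] (A ⧸ J)) := by
  classical
  set 𝔪' : Ideal K := Ideal.map (algebraMap R K) 𝔪 with h𝔪'def
  have h𝔪' : 𝔪' ≠ ⊤ := by
    rw [h𝔪'def, IsLocalization.map_algebraMap_ne_top_iff_disjoint (Submonoid.powers F),
      Set.disjoint_left]
    rintro x ⟨n, rfl⟩ hx
    exact hF𝔪 (h𝔪.isPrime.mem_of_pow_mem n hx)
  obtain ⟨𝔫, h𝔫max, h𝔫le⟩ := Ideal.exists_le_maximal 𝔪' h𝔪'
  haveI : Nontrivial K :=
    ⟨⟨0, 1, fun h01 => h𝔪' ((Ideal.eq_top_iff_one _).2 (h01 ▸ 𝔪'.zero_mem))⟩⟩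
  have hinj : Function.Injective (algebraMap K P) := FaithfulSMul.algebraMap_injective K P
  haveI : Nontrivial P := hinj.nontrivial
  -- `N` is finitely generated
  haveI := hCft
  have hft' : Algebra.FiniteType P (MonoidAlgebra P N) :=
    Algebra.FiniteType.equiv (inferInstance : Algebra.FiniteType P (P ⊗[R] C)) eC.toAlgEquiv
  have hNfg : Group.FG N := MonoidAlgebra.finiteType_iff_group_fg.1 hft'
  obtain ⟨X, hXtop, hXfin⟩ := Group.fg_iff.1 hNfg
  letI : Fintype X := hXfin.fintype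
  let ν : X → N := Subtype.val
  have hν : Subgroup.closure (Set.range ν) = ⊤ := by
    rw [Subtype.range_coe]
    exact hXtop
  -- the comparison map
  let ψ : MonoidAlgebra P N →ₐc[P] MonoidAlgebra P M :=
    eA.toBialgHom.comp
      ((Bialgebra.TensorProduct.map (BialgHom.id P P) φ).comp eC.symm.toBialgHom)
  have hψ : ∀ c : C, ψ (eC ((1 : P) ⊗ₜ[R] c)) = eA ((1 : P) ⊗ₜ[R] φ c) := by
    intro c
    show eA ((Bialgebra.TensorProduct.map (BialgHom.id P P) φ)
      (eC.symm (eC ((1 : P) ⊗ₜ[R] c)))) = _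
    rw [eC.symm_apply_apply]
    rfl
  -- descent of the class idempotents
  have hdesc := fun τ₀ : X → M => exists_descent φ J hJ (K := K) eA eC ψ hψ ν hν τ₀
  choose e he using hdesc
  have hesmul : ∀ τ ∈ TT ψ ν, epsT ψ ν τ = e τ • epsT ψ ν τ := by
    intro τ hτ
    rw [Algebra.smul_def, he, classSum_mul_eps ψ ν hτ]
  have hex : ∃ τ₀ ∈ TT ψ ν, e τ₀ ∉ 𝔫 := by
    by_contra hcon
    push Not at hcon
    have h3 : (𝔫 • ⊤ : Submodule K P) = ⊤ := by
      rw [Submodule.eq_top_iff']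
      intro p
      have h4 : p = ∑ τ ∈ TT ψ ν, e τ • (epsT ψ ν τ * p) := by
        conv_lhs => rw [← one_mul p, ← sum_epsT ψ ν, Finset.sum_mul]
        refine Finset.sum_congr rfl fun τ hτ => ?_
        conv_lhs => rw [hesmul τ hτ]
        rw [smul_mul_assoc]
      rw [h4]
      exact Submodule.sum_mem _ fun τ hτ => Submodule.smul_mem_smul (hcon τ hτ) trivial
    exact (Module.FaithfullyFlat.submodule_ne_top (R := K) (M := P) h𝔫max) h3
  obtain ⟨τ₀, hτ₀, heτ₀⟩ := hex
  have he𝔪' : e τ₀ ∉ 𝔪' := fun h => heτ₀ (h𝔫le h)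
  have hee : e τ₀ * e τ₀ = e τ₀ := by
    apply hinj
    rw [map_mul, he, classSum_mul_self]
  obtain ⟨⟨r, ⟨_, k, rfl⟩⟩, hr⟩ := IsLocalization.surj (Submonoid.powers F) (e τ₀)
  simp only at hr
  have hr𝔪 : r ∉ 𝔪 := by
    intro hrm
    apply he𝔪'
    have hu : IsUnit (algebraMap R K (F ^ k)) :=
      IsLocalization.map_units K (⟨F ^ k, k, rfl⟩ : Submonoid.powers F)
    have h1 : algebraMap R K r ∈ 𝔪' := Ideal.mem_map_of_mem _ hrm
    rw [← hr] at h1
    obtain ⟨u, hu'⟩ := hu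
    have h2 : e τ₀ = e τ₀ * algebraMap R K (F ^ k) * ↑u⁻¹ := by
      rw [← hu', mul_assoc, Units.mul_inv, mul_one]
    rw [h2]
    exact Ideal.mul_mem_right _ _ h1
  have hg𝔪 : F * r ∉ 𝔪 := fun h => (h𝔪.isPrime.mem_or_mem h).elim hF𝔪 hr𝔪
  refine ⟨F * r, hg𝔪, ?_⟩
  have hug := IsLocalization.Away.algebraMap_isUnit (S := Localization.Away (F * r)) (F * r)
  rw [map_mul] at hug
  have huF : IsUnit (algebraMap R (Localization.Away (F * r)) F) := isUnit_of_mul_isUnit_left hug
  have hur : IsUnit (algebraMap R (Localization.Away (F * r)) r) := isUnit_of_mul_isUnit_right hug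
  letI : Algebra K (Localization.Away (F * r)) := (IsLocalization.Away.lift F huF).toAlgebra
  haveI : IsScalarTower R K (Localization.Away (F * r)) :=
    IsScalarTower.of_algebraMap_eq (fun x => (IsLocalization.Away.lift_eq F huF x).symm)
  have he1 : algebraMap K (Localization.Away (F * r)) (e τ₀) = 1 := by
    have h1 := congrArg (algebraMap K (Localization.Away (F * r))) hr
    rw [map_mul, ← IsScalarTower.algebraMap_apply, ← IsScalarTower.algebraMap_apply] at h1
    have hu : IsUnit (algebraMap K (Localization.Away (F * r)) (e τ₀)) := by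
      have h2 : IsUnit (algebraMap K (Localization.Away (F * r)) (e τ₀) *
          algebraMap R (Localization.Away (F * r)) (F ^ k)) := by
        rw [h1]
        exact hur
      exact isUnit_of_mul_isUnit_left h2
    have h2 : algebraMap K (Localization.Away (F * r)) (e τ₀) *
        algebraMap K (Localization.Away (F * r)) (e τ₀) =
        algebraMap K (Localization.Away (F * r)) (e τ₀) * 1 := by
      rw [← map_mul, hee, mul_one]
    exact hu.mul_left_cancel h2
  refine ⟨Localization.Away (F * r) ⊗[K] P, inferInstance, inferInstance, inferInstance, ?_⟩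
  letI iP : Algebra P (Localization.Away (F * r) ⊗[K] P) := Algebra.TensorProduct.rightAlgebra
  haveI : IsScalarTower K P (Localization.Away (F * r) ⊗[K] P) :=
    IsScalarTower.of_algebraMap_eq (fun x => by
      rw [Algebra.TensorProduct.algebraMap_apply, Algebra.TensorProduct.right_algebraMap_apply,
        Algebra.algebraMap_eq_smul_one, Algebra.algebraMap_eq_smul_one, TensorProduct.smul_tmul])
  exact final_aux φ J hJ eA eC ψ hψ ν hν (Kg := Localization.Away (F * r))
    (S := Localization.Away (F * r) ⊗[K] P) τ₀ (e τ₀) (he τ₀) he1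

theorem local_main (hA : IsMultType R A) (hC : IsMultType R C)
    (hCft : Algebra.FiniteType R C) (φ : C →ₐc[R] A)
    (J : Ideal A) [J.IsHopfIdeal R]
    (hJ : J = Ideal.map φ (RingHom.ker (Bialgebra.counitAlgHom R C)))
    (𝔪 : Ideal R) [h𝔪 : 𝔪.IsMaximal] :
    ∃ g : R, g ∉ 𝔪 ∧
      IsMultTypeConst (Localization.Away g) (Localization.Away g ⊗[R] (A ⧸ J)) := by
  classical
  obtain ⟨sA, hsA, hlocA⟩ := hA
  obtain ⟨sC, hsC, hlocC⟩ := hC
  have hex : ∀ s : Set R, Ideal.span s = ⊤ → ∃ f ∈ s, f ∉ 𝔪 := by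
    intro s hs
    by_contra hcon
    push Not at hcon
    have h1 : Ideal.span s ≤ 𝔪 := Ideal.span_le.2 hcon
    rw [hs] at h1
    exact h𝔪.ne_top (top_le_iff.1 h1)
  obtain ⟨f, hf, hf𝔪⟩ := hex sA hsA
  obtain ⟨f', hf', hf'𝔪⟩ := hex sC hsC
  have hF𝔪 : f * f' ∉ 𝔪 := fun h => (h𝔪.isPrime.mem_or_mem h).elim hf𝔪 hf'𝔪
  have hAK := isMultTypeConst_away_of_dvd A (Dvd.intro f' rfl : f ∣ f * f') (hlocA f hf)
  have hCK := isMultTypeConst_away_of_dvd C (Dvd.intro_left f rfl : f' ∣ f * f') (hlocC f' hf')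
  obtain ⟨P, _, _, _, _, hff, M, _, N, _, ⟨eA⟩, ⟨eC⟩⟩ :=
    exists_common (K := Localization.Away (f * f')) A C hAK hCK
  haveI := hff
  exact local_aux hCft φ J hJ 𝔪 (f * f') hF𝔪 (K := Localization.Away (f * f')) eA eC

theorem kernel_isMultType (hA : IsMultType R A) (hC : IsMultType R C)
    (hCft : Algebra.FiniteType R C) (φ : C →ₐc[R] A)
    (J : Ideal A) [J.IsHopfIdeal R]
    (hJ : J = Ideal.map φ (RingHom.ker (Bialgebra.counitAlgHom R C))) :
    IsMultType R (A ⧸ J) := by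
  refine ⟨{g : R | IsMultTypeConst (Localization.Away g) (Localization.Away g ⊗[R] (A ⧸ J))}, ?_,
    fun g hg => hg⟩
  by_contra hne
  obtain ⟨𝔪, h𝔪max, hle⟩ := Ideal.exists_le_maximal _ hne
  haveI := h𝔪max
  obtain ⟨g, hg𝔪, hg⟩ := local_main hA hC hCft φ J hJ 𝔪
  exact hg𝔪 (hle (Ideal.subset_span hg))

end Main

end Groth.Agent.Lib.Helper17.KerMT
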