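import Groth.Agent.Lib.Helper17.KerMT4
import Mathlib

/-!
# Quotients of groups of multiplicative type by piecewise diagonalisable Hopf ideals (helper17)

Abstract form of `KerMT1-4`: `A` of multiplicative type over `R`, `J` a Hopf ideal of `A`.
* `idealOf J eA`: the ideal of `P[M]` corresponding to `J` under a diagonalisation `eA`.
* `Pieces J eA c ε H`: orthogonal idempotents `ε τ` of `P` (`τ ∈ c`) with sum one such that on the
  piece `ε τ` the ideal `idealOf J eA` is the ideal of the subgroup `H τ`.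
* `stageB'`, `stageA'`, `exists_descent'`, `local_aux'`, `isMultType_quotient`: if such pieces exist
  over every diagonalising base, then `A ⧸ J` is of multiplicative type.
-/

set_option autoImplicit false
universe u

namespace Groth.Agent.Lib.Helper17.KerMT

open TensorProduct SGA3b Groth.Agent.Lib.Helper17.TorsionMT Groth.Agent.Lib.Helper17.MultLocal
  Groth.Agent.Lib.Helper17.MultLift Groth.Agent.Lib.Helper17.MultBC
  Groth.Agent.Lib.Helper27.MultRigid

section Abstract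

variable {R : Type u} [CommRing R] {A : Type u} [CommRing A] [HopfAlgebra R A]

/-- the ideal of `P[M]` corresponding to `J` under a diagonalisation -/
noncomputable def idealOf (J : Ideal A) {P : Type u} [CommRing P] [Algebra R P] {M : Type u}
    [CommGroup M] (eA : P ⊗[R] A ≃ₐc[P] MonoidAlgebra P M) : Ideal (MonoidAlgebra P M) :=
  Ideal.map (((eA.toAlgEquiv : P ⊗[R] A ≃ₐ[P] MonoidAlgebra P M) :
      P ⊗[R] A →+* MonoidAlgebra P M).comp
    (Algebra.TensorProduct.includeRight : A →ₐ[R] P ⊗[R] A).toRingHom) J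

/-- piecewise description of `idealOf J eA` by subgroups of `M` -/
structure Pieces (J : Ideal A) {P : Type u} [CommRing P] [Algebra R P] {M : Type u}
    [CommGroup M] (eA : P ⊗[R] A ≃ₐc[P] MonoidAlgebra P M) {ι : Type u} (c : Finset ι)
    (ε : ι → P) (H : ι → Subgroup M) : Prop where
  idem : ∀ τ ∈ c, ε τ * ε τ = ε τ
  orth : ∀ τ ∈ c, ∀ σ ∈ c, τ ≠ σ → ε τ * ε σ = 0
  sum : ∑ τ ∈ c, ε τ = 1
  le_aug : ∀ τ ∈ c, ∀ y ∈ idealOf J eA, ε τ • y ∈ augH P (H τ)
  aug_le : ∀ τ ∈ c, ∀ y ∈ augH P (H τ), ε τ • y ∈ idealOf J eA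

theorem map_augH {P S' : Type u} [CommRing P] [CommRing S'] [Algebra P S'] {M : Type u}
    [CommGroup M] (H : Subgroup M) {y : MonoidAlgebra P M} (hy : y ∈ augH P H) :
    MonoidAlgebra.mapAlgHom M (Algebra.ofId P S') y ∈ augH S' H := by
  have h1 : augH P H ≤ Ideal.comap (MonoidAlgebra.mapAlgHom M (Algebra.ofId P S')).toRingHom
      (augH S' H) := by
    rw [augH, Ideal.span_le]
    rintro _ ⟨h, hh, rfl⟩
    rw [SetLike.mem_coe, Ideal.mem_comap]
    show MonoidAlgebra.mapAlgHom M (Algebra.ofId P S')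
      (MonoidAlgebra.single h (1 : P) - 1) ∈ _
    rw [map_sub, map_one, MonoidAlgebra.mapAlgHom_single, map_one]
    exact single_sub_one_mem_augH S' hh
  exact h1 hy

theorem stageB' (J : Ideal A) [J.IsHopfIdeal R]
    {P : Type u} [CommRing P] [Algebra R P] {M : Type u} [CommGroup M]
    (eA : P ⊗[R] A ≃ₐc[P] MonoidAlgebra P M)
    {ι : Type u} {c : Finset ι} {ε : ι → P} {H : ι → Subgroup M} (hp : Pieces J eA c ε H)
    {S' : Type u} [CommRing S'] [Algebra P S'] [Algebra R S'] [IsScalarTower R P S']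
    (c' : Finset ι) (hc' : c' ⊆ c) (hsum : ∑ τ ∈ c', algebraMap P S' (ε τ) = 1)
    (Q : Type u) [CommGroup Q] (hQ : ∀ τ ∈ c', Nonempty (M ⧸ H τ ≃* Q)) :
    Nonempty (S' ⊗[R] (A ⧸ J) ≃ₐc[S'] MonoidAlgebra S' Q) := by
  classical
  obtain ⟨EA, hEA⟩ := exists_bialgEquiv_of_tower (k := R) (P := P) (S' := S') (C := A) eA
  set ε' : ι → S' := fun τ => algebraMap P S' (ε τ) with hε'
  have hε'a : ∀ τ, ε' τ = algebraMap P S' (ε τ) := fun τ => rfl
  have hOS : IsOrthSum c' ε' :=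
    { idem := fun τ hτ => by rw [hε'a, ← map_mul, hp.idem τ (hc' hτ)]
      orth := fun τ hτ σ hσ hne => by
        rw [hε'a, hε'a, ← map_mul, hp.orth τ (hc' hτ) σ (hc' hσ) hne, map_zero]
      sum := hsum }
  let b : ι → (M →* Q) := fun τ =>
    if h : τ ∈ c' then
      ((Classical.choice (hQ τ h)).toMonoidHom.comp (QuotientGroup.mk' (H τ))) else 1
  have hb : ∀ τ ∈ c', ∃ β : M ⧸ H τ ≃* Q,
      b τ = β.toMonoidHom.comp (QuotientGroup.mk' (H τ)) := by
    intro τ hτ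
    exact ⟨Classical.choice (hQ τ hτ), by simp only [b, dif_pos hτ]⟩
  have hbs : ∀ τ ∈ c', Function.Surjective (b τ) := by
    intro τ hτ
    obtain ⟨β, hβ⟩ := hb τ hτ
    rw [hβ]
    exact β.surjective.comp (QuotientGroup.mk'_surjective _)
  let π₂ : S' ⊗[R] A →ₐc[S'] MonoidAlgebra S' Q := (PsiHom hOS b).comp EA.toBialgHom
  have hπ₂ : ∀ z, π₂ z = PsiHom hOS b (EA z) := fun z => rfl
  have hs₂ : Function.Surjective π₂ := fun y => by
    obtain ⟨x, rfl⟩ := PsiHom_surjective hOS b hbs y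
    obtain ⟨z, rfl⟩ := EA.surjective x
    exact ⟨z, rfl⟩
  let π₁ : S' ⊗[R] A →ₐc[S'] S' ⊗[R] (A ⧸ J) :=
    Bialgebra.TensorProduct.map (BialgHom.id S' S') (Bialgebra.Quotient.mkBialgHom J)
  let g₀ : A →ₐ[R] A ⧸ J := Ideal.Quotient.mkₐ R J
  have hg₀ : Function.Surjective g₀ := Ideal.Quotient.mkₐ_surjective R J
  let g₁ : S' ⊗[R] A →ₐ[S'] S' ⊗[R] (A ⧸ J) := Algebra.TensorProduct.map (AlgHom.id S' S') g₀
  have hπ₁ : ∀ z, π₁ z = g₁ z := fun z => rfl
  have hg₁ : Function.Surjective g₁ := surjective_of_tmul g₁ g₀ hg₀ (fun a c => rfl)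
  have hs₁ : Function.Surjective π₁ := fun y => by
    obtain ⟨z, hz⟩ := hg₁ y
    exact ⟨z, (hπ₁ z).trans hz⟩
  have hk₁ : RingHom.ker g₁ =
      Ideal.map (Algebra.TensorProduct.includeRight : A →ₐ[R] S' ⊗[R] A) J := by
    have h := Algebra.TensorProduct.lTensor_ker (A := S') g₀ hg₀
    have h' : RingHom.ker g₀ = J := Ideal.Quotient.mkₐ_ker R J
    rw [h'] at h
    rw [← h]
    ext z
    rw [RingHom.mem_ker, RingHom.mem_ker]
    rfl
  let EAr : S' ⊗[R] A →+* MonoidAlgebra S' M :=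
    ((EA.toAlgEquiv : S' ⊗[R] A ≃ₐ[S'] MonoidAlgebra S' M) : S' ⊗[R] A →+* MonoidAlgebra S' M)
  have hEAr : ∀ z, EAr z = EA z := fun z => rfl
  let incl : A →+* S' ⊗[R] A :=
    (Algebra.TensorProduct.includeRight : A →ₐ[R] S' ⊗[R] A).toRingHom
  let ρ : A →+* MonoidAlgebra S' M := EAr.comp incl
  have hρ : ∀ a, ρ a = EA ((1 : S') ⊗ₜ[R] a) := fun a => rfl
  let 𝔍 : Ideal (MonoidAlgebra S' M) := Ideal.map ρ J
  have h𝔍 : ∀ z, z ∈ Ideal.map (Algebra.TensorProduct.includeRight : A →ₐ[R] S' ⊗[R] A) J ↔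
      EA z ∈ 𝔍 := by
    intro z
    have e1 : 𝔍 = Ideal.map EAr (Ideal.map incl J) := (Ideal.map_map _ _).symm
    constructor
    · intro hz
      rw [e1, ← hEAr]
      exact Ideal.mem_map_of_mem EAr hz
    · intro hz
      rw [e1] at hz
      obtain ⟨w, hw, hwz⟩ := (Ideal.mem_map_iff_of_surjective EAr EA.surjective).1 hz
      have hwz' : w = z := EA.injective hwz
      rw [← hwz']
      exact hw
  let μ : MonoidAlgebra P M →ₐ[P] MonoidAlgebra S' M :=
    MonoidAlgebra.mapAlgHom M (Algebra.ofId P S')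
  let ρP : A →+* MonoidAlgebra P M :=
    ((eA.toAlgEquiv : P ⊗[R] A ≃ₐ[P] MonoidAlgebra P M) :
      P ⊗[R] A →+* MonoidAlgebra P M).comp
    (Algebra.TensorProduct.includeRight : A →ₐ[R] P ⊗[R] A).toRingHom
  have hρP : ∀ a, ρP a = eA ((1 : P) ⊗ₜ[R] a) := fun a => rfl
  have hρμ : ρ = μ.toRingHom.comp ρP := RingHom.ext fun a => by
    rw [hρ, hEA]
    rfl
  have h𝔍μ : 𝔍 = Ideal.map μ.toRingHom (idealOf J eA) := by
    show Ideal.map ρ J = Ideal.map μ.toRingHom (Ideal.map ρP J)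
    rw [hρμ, Ideal.map_map]
  -- (a)
  have ha : ∀ τ ∈ c', ∀ y ∈ 𝔍, ε τ • y ∈ augH S' (H τ) := by
    intro τ hτ y hy
    have h1 : 𝔍 ≤ colon (augH S' (H τ)) (algebraMap P (MonoidAlgebra S' M) (ε τ)) := by
      rw [h𝔍μ, Ideal.map_le_iff_le_comap]
      intro y₀ hy₀
      rw [Ideal.mem_comap, mem_colon, ← Algebra.smul_def]
      show ε τ • μ y₀ ∈ _
      rw [← map_smul]
      exact map_augH (H τ) (hp.le_aug τ (hc' hτ) y₀ hy₀)
    have h3 := h1 hy
    rw [mem_colon, ← Algebra.smul_def] at h3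
    exact h3
  -- (b)
  have hbb : ∀ τ ∈ c', ∀ y ∈ augH S' (H τ), ε τ • y ∈ 𝔍 := by
    intro τ hτ y hy
    have h1 : augH S' (H τ) ≤ colon 𝔍 (algebraMap P (MonoidAlgebra S' M) (ε τ)) := by
      rw [augH, Ideal.span_le]
      rintro _ ⟨h, hh, rfl⟩
      rw [SetLike.mem_coe]
      show (MonoidAlgebra.single h (1 : S') - 1 : MonoidAlgebra S' M) ∈ _
      rw [mem_colon, ← Algebra.smul_def]
      have h2 : (MonoidAlgebra.single h (1 : S') - 1 : MonoidAlgebra S' M) =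
          μ (MonoidAlgebra.single h (1 : P) - 1) := by
        rw [map_sub, map_one, MonoidAlgebra.mapAlgHom_single, map_one]
      rw [h2, ← map_smul, h𝔍μ]
      exact Ideal.mem_map_of_mem μ.toRingHom
        (hp.aug_le τ (hc' hτ) _ (single_sub_one_mem_augH P hh))
    have h3 := h1 hy
    rw [mem_colon, ← Algebra.smul_def] at h3
    exact h3
  have hcmp : ∀ x : MonoidAlgebra S' M,
      x ∈ 𝔍 ↔ ∀ τ ∈ c', ε' τ • x ∈ augH S' (H τ) := by
    intro x
    constructor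
    · intro hx τ hτ
      rw [hε'a, algebraMap_smul]
      exact ha τ hτ x hx
    · intro hx
      rw [← hOS.sum_smul_self x]
      refine Ideal.sum_mem _ fun τ hτ => ?_
      have h1 : ε' τ • x = ε τ • (ε' τ • x) := by
        rw [← algebraMap_smul S' (ε τ) (ε' τ • x), ← hε'a, smul_smul, hOS.idem τ hτ]
      rw [h1]
      exact hbb τ hτ _ (hx τ hτ)
  have hker : ∀ z, π₁ z = 0 ↔ π₂ z = 0 := by
    intro z
    rw [hπ₁, hπ₂, PsiHom_eq_zero_iff' hOS b H hb, ← hcmp, ← h𝔍, ← hk₁, RingHom.mem_ker]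
  exact nonempty_bialgEquiv_of_ker_eq π₁ π₂ hs₁ hs₂ hker

theorem stageA_aux' (J : Ideal A) [J.IsHopfIdeal R]
    {P : Type u} [CommRing P] [Algebra R P] {M : Type u} [CommGroup M]
    (eA : P ⊗[R] A ≃ₐc[P] MonoidAlgebra P M)
    {ι : Type u} {c : Finset ι} {ε : ι → P} {H : ι → Subgroup M} (hp : Pieces J eA c ε H)
    {F : Type u} [Field F] [Algebra R F] (ρ₁ ρ₂ : P →+* F)
    (h₁ : ∀ r, ρ₁ (algebraMap R P r) = algebraMap R F r)
    (h₂ : ∀ r, ρ₂ (algebraMap R P r) = algebraMap R F r)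
    (τ σ : ι) (hτc : τ ∈ c) (hσc : σ ∈ c) (hτ : ρ₁ (ε τ) = 1) (hσ : ρ₂ (ε σ) = 1) :
    Nonempty (M ⧸ H τ ≃* M ⧸ H σ) := by
  classical
  have h1 : Nonempty (F ⊗[R] (A ⧸ J) ≃ₐc[F] MonoidAlgebra F (M ⧸ H τ)) := by
    letI : Algebra P F := ρ₁.toAlgebra
    haveI : IsScalarTower R P F := IsScalarTower.of_algebraMap_eq (fun r => (h₁ r).symm)
    refine stageB' J eA hp ({τ} : Finset ι) (Finset.singleton_subset_iff.2 hτc) ?_
      (M ⧸ H τ) ?_
    · rw [Finset.sum_singleton]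
      exact hτ
    · intro τ' hτ'
      rw [Finset.mem_singleton] at hτ'
      subst hτ'
      exact ⟨MulEquiv.refl _⟩
  have h2 : Nonempty (F ⊗[R] (A ⧸ J) ≃ₐc[F] MonoidAlgebra F (M ⧸ H σ)) := by
    letI : Algebra P F := ρ₂.toAlgebra
    haveI : IsScalarTower R P F := IsScalarTower.of_algebraMap_eq (fun r => (h₂ r).symm)
    refine stageB' J eA hp ({σ} : Finset ι) (Finset.singleton_subset_iff.2 hσc) ?_
      (M ⧸ H σ) ?_
    · rw [Finset.sum_singleton]
      exact hσ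
    · intro τ' hτ'
      rw [Finset.mem_singleton] at hτ'
      subst hτ'
      exact ⟨MulEquiv.refl _⟩
  obtain ⟨E1⟩ := h1
  obtain ⟨E2⟩ := h2
  exact mulEquiv_of_bialgEquiv_field (E1.symm.trans E2)

theorem stageA' (J : Ideal A) [J.IsHopfIdeal R]
    {K P : Type u} [CommRing K] [CommRing P] [Algebra R K] [Algebra K P] [Algebra R P]
    [IsScalarTower R K P] {M : Type u} [CommGroup M]
    (eA : P ⊗[R] A ≃ₐc[P] MonoidAlgebra P M)
    {ι : Type u} {c : Finset ι} {ε : ι → P} {H : ι → Subgroup M} (hp : Pieces J eA c ε H)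
    (τ σ : ι) (hτc : τ ∈ c) (hσc : σ ∈ c)
    (hne : (ε τ ⊗ₜ[K] ε σ : P ⊗[K] P) ≠ 0) :
    Nonempty (M ⧸ H τ ≃* M ⧸ H σ) := by
  classical
  set z : P ⊗[K] P := ε τ ⊗ₜ[K] ε σ with hz
  have hzz : z * z = z := by
    rw [hz, Algebra.TensorProduct.tmul_mul_tmul, hp.idem τ hτc, hp.idem σ hσc]
  have hnu : ¬ IsUnit (1 - z) := by
    intro hu
    have h0 : z * (1 - z) = 0 := by rw [mul_sub, mul_one, hzz, sub_self]
    obtain ⟨u, hu'⟩ := hu
    have h1 : z = 0 := by
      calc z = z * (1 - z) * ↑u⁻¹ := by rw [← hu', mul_assoc, Units.mul_inv, mul_one]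
        _ = 0 := by rw [h0, zero_mul]
    exact hne h1
  obtain ⟨𝔫, h𝔫max, h𝔫⟩ := exists_max_ideal_of_mem_nonunits (mem_nonunits_iff.2 hnu)
  haveI := h𝔫max
  letI : Field ((P ⊗[K] P) ⧸ 𝔫) := Ideal.Quotient.field 𝔫
  have hz1 : Ideal.Quotient.mk 𝔫 z = 1 := by
    rw [← sub_eq_zero, ← map_one (Ideal.Quotient.mk 𝔫), ← map_sub,
      Ideal.Quotient.eq_zero_iff_mem]
    have h1 : z - 1 = -(1 - z) := by ring
    rw [h1]
    exact 𝔫.neg_mem h𝔫
  refine stageA_aux' J eA hp (F := (P ⊗[K] P) ⧸ 𝔫)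
    ((Ideal.Quotient.mk 𝔫).comp
      (Algebra.TensorProduct.includeLeft : P →ₐ[K] P ⊗[K] P).toRingHom)
    ((Ideal.Quotient.mk 𝔫).comp
      (Algebra.TensorProduct.includeRight : P →ₐ[K] P ⊗[K] P).toRingHom) ?_ ?_ τ σ hτc hσc ?_ ?_
  · intro r
    show Ideal.Quotient.mk 𝔫 ((algebraMap R P r) ⊗ₜ[K] (1 : P)) =
      Ideal.Quotient.mk 𝔫 (algebraMap R (P ⊗[K] P) r)
    rw [Algebra.TensorProduct.algebraMap_apply]
  · intro r
    show Ideal.Quotient.mk 𝔫 ((1 : P) ⊗ₜ[K] (algebraMap R P r)) =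
      Ideal.Quotient.mk 𝔫 (algebraMap R (P ⊗[K] P) r)
    rw [Algebra.TensorProduct.algebraMap_apply, IsScalarTower.algebraMap_apply R K P,
      Algebra.algebraMap_eq_smul_one (algebraMap R K r), TensorProduct.smul_tmul]
  · show Ideal.Quotient.mk 𝔫 (ε τ ⊗ₜ[K] (1 : P)) = 1
    have h2 : (ε τ ⊗ₜ[K] (1 : P)) * z = z := by
      rw [hz, Algebra.TensorProduct.tmul_mul_tmul, hp.idem τ hτc, one_mul]
    have h3 := congrArg (Ideal.Quotient.mk 𝔫) h2
    rw [map_mul, hz1, mul_one] at h3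
    exact h3
  · show Ideal.Quotient.mk 𝔫 ((1 : P) ⊗ₜ[K] ε σ) = 1
    have h2 : ((1 : P) ⊗ₜ[K] ε σ) * z = z := by
      rw [hz, Algebra.TensorProduct.tmul_mul_tmul, hp.idem σ hσc, one_mul]
    have h3 := congrArg (Ideal.Quotient.mk 𝔫) h2
    rw [map_mul, hz1, mul_one] at h3
    exact h3

open Classical in
/-- the set of `τ ∈ c` of the same type as `τ₀` -/
noncomputable def classSet' {M : Type u} [CommGroup M] {ι : Type u} (c : Finset ι)
    (H : ι → Subgroup M) (τ₀ : ι) : Finset ι :=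
  c.filter (fun τ => Nonempty (M ⧸ H τ ≃* M ⧸ H τ₀))

theorem exists_descent' (J : Ideal A) [J.IsHopfIdeal R]
    {K P : Type u} [CommRing K] [CommRing P] [Algebra R K] [Algebra K P] [Algebra R P]
    [IsScalarTower R K P] [Module.FaithfullyFlat K P] {M : Type u} [CommGroup M]
    (eA : P ⊗[R] A ≃ₐc[P] MonoidAlgebra P M)
    {ι : Type u} {c : Finset ι} {ε : ι → P} {H : ι → Subgroup M} (hp : Pieces J eA c ε H)
    (τ₀ : ι) :
    ∃ e : K, algebraMap K P e = ∑ τ ∈ classSet' c H τ₀, ε τ := by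
  classical
  set E : P := ∑ τ ∈ classSet' c H τ₀, ε τ with hE
  have h2 : (∑ τ ∈ c, if Nonempty (M ⧸ H τ ≃* M ⧸ H τ₀) then ε τ else 0) = E := by
    rw [hE, classSet', Finset.sum_filter]
  have key : (E ⊗ₜ[K] (1 : P) : P ⊗[K] P) = (1 : P) ⊗ₜ[K] E := by
    calc (E ⊗ₜ[K] (1 : P) : P ⊗[K] P)
        = (∑ τ ∈ c, if Nonempty (M ⧸ H τ ≃* M ⧸ H τ₀) then ε τ else 0) ⊗ₜ[K]
            (∑ σ ∈ c, ε σ) := by rw [h2, hp.sum]
      _ = ∑ τ ∈ c, ∑ σ ∈ c,
            (if Nonempty (M ⧸ H τ ≃* M ⧸ H τ₀) then ε τ else 0) ⊗ₜ[K] ε σ := by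
          rw [TensorProduct.sum_tmul]
          refine Finset.sum_congr rfl fun τ _ => ?_
          rw [TensorProduct.tmul_sum]
      _ = ∑ τ ∈ c, ∑ σ ∈ c,
            ε τ ⊗ₜ[K] (if Nonempty (M ⧸ H σ ≃* M ⧸ H τ₀) then ε σ else 0) := by
          refine Finset.sum_congr rfl fun τ hτ => Finset.sum_congr rfl fun σ hσ => ?_
          by_cases hz : (ε τ ⊗ₜ[K] ε σ : P ⊗[K] P) = 0
          · split_ifs <;> simp [hz]
          · obtain ⟨β⟩ := stageA' J eA hp τ σ hτ hσ hz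
            have hiff : Nonempty (M ⧸ H τ ≃* M ⧸ H τ₀) ↔ Nonempty (M ⧸ H σ ≃* M ⧸ H τ₀) :=
              ⟨fun ⟨γ⟩ => ⟨β.symm.trans γ⟩, fun ⟨γ⟩ => ⟨β.trans γ⟩⟩
            by_cases hτ' : Nonempty (M ⧸ H τ ≃* M ⧸ H τ₀)
            · rw [if_pos hτ', if_pos (hiff.1 hτ')]
            · rw [if_neg hτ', if_neg (mt hiff.2 hτ'), TensorProduct.zero_tmul,
                TensorProduct.tmul_zero]
      _ = (∑ τ ∈ c, ε τ) ⊗ₜ[K]
            (∑ σ ∈ c, if Nonempty (M ⧸ H σ ≃* M ⧸ H τ₀) then ε σ else 0) := by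
          rw [TensorProduct.sum_tmul]
          refine Finset.sum_congr rfl fun τ _ => ?_
          rw [TensorProduct.tmul_sum]
      _ = (1 : P) ⊗ₜ[K] E := by rw [h2, hp.sum]
  have h0 : Algebra.TensorProduct.includeLeftSubRight K P E = 0 := by
    rw [Algebra.TensorProduct.includeLeftSubRight_apply, key, sub_self]
  obtain ⟨e, he⟩ := ((Algebra.IsEffective.of_faithfullyFlat K P) E).1 h0
  exact ⟨e, he⟩

theorem classSum_mul_eps' (J : Ideal A) {P : Type u} [CommRing P] [Algebra R P] {M : Type u}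
    [CommGroup M] (eA : P ⊗[R] A ≃ₐc[P] MonoidAlgebra P M)
    {ι : Type u} {c : Finset ι} {ε : ι → P} {H : ι → Subgroup M} (hp : Pieces J eA c ε H)
    {τ : ι} (hτ : τ ∈ c) :
    (∑ σ ∈ classSet' c H τ, ε σ) * ε τ = ε τ := by
  classical
  have hmem : τ ∈ classSet' c H τ := by
    rw [classSet', Finset.mem_filter]
    exact ⟨hτ, ⟨MulEquiv.refl _⟩⟩
  rw [Finset.sum_mul, Finset.sum_eq_single τ]
  · exact hp.idem τ hτ
  · intro σ hσ hne
    rw [classSet', Finset.mem_filter] at hσ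
    exact hp.orth σ hσ.1 τ hτ hne
  · intro h
    exact absurd hmem h

theorem classSum_mul_self' (J : Ideal A) {P : Type u} [CommRing P] [Algebra R P] {M : Type u}
    [CommGroup M] (eA : P ⊗[R] A ≃ₐc[P] MonoidAlgebra P M)
    {ι : Type u} {c : Finset ι} {ε : ι → P} {H : ι → Subgroup M} (hp : Pieces J eA c ε H)
    (c' : Finset ι) (hc' : c' ⊆ c) :
    (∑ τ ∈ c', ε τ) * (∑ τ ∈ c', ε τ) = ∑ τ ∈ c', ε τ := by
  classical
  rw [Finset.sum_mul_sum]
  refine Finset.sum_congr rfl fun τ hτ => ?_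
  rw [Finset.sum_eq_single τ]
  · exact hp.idem τ (hc' hτ)
  · intro σ hσ hne
    exact hp.orth τ (hc' hτ) σ (hc' hσ) (Ne.symm hne)
  · intro h
    exact absurd hτ h

theorem final_aux' (J : Ideal A) [J.IsHopfIdeal R]
    {K P : Type u} [CommRing K] [CommRing P] [Algebra R K] [Algebra K P] [Algebra R P]
    [IsScalarTower R K P] {M : Type u} [CommGroup M]
    (eA : P ⊗[R] A ≃ₐc[P] MonoidAlgebra P M)
    {ι : Type u} {c : Finset ι} {ε : ι → P} {H : ι → Subgroup M} (hp : Pieces J eA c ε H)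
    {Kg : Type u} [CommRing Kg] [Algebra R Kg] [Algebra K Kg] [IsScalarTower R K Kg]
    {S : Type u} [CommRing S] [Algebra Kg S] [Algebra P S] [Algebra K S] [IsScalarTower K Kg S]
    [IsScalarTower K P S] (τ₀ : ι) (e : K)
    (he : algebraMap K P e = ∑ τ ∈ classSet' c H τ₀, ε τ)
    (he1 : algebraMap K Kg e = 1) :
    IsDiag S (S ⊗[Kg] (Kg ⊗[R] (A ⧸ J))) := by
  classical
  letI iR : Algebra R S := ((algebraMap Kg S).comp (algebraMap R Kg)).toAlgebra
  haveI : IsScalarTower R Kg S := IsScalarTower.of_algebraMap_eq (fun _ => rfl)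
  haveI : IsScalarTower R P S := IsScalarTower.of_algebraMap_eq (fun r => by
    show algebraMap Kg S (algebraMap R Kg r) = algebraMap P S (algebraMap R P r)
    rw [IsScalarTower.algebraMap_apply R K Kg, ← IsScalarTower.algebraMap_apply K Kg S,
      IsScalarTower.algebraMap_apply R K P, ← IsScalarTower.algebraMap_apply K P S])
  have hsum : ∑ τ ∈ classSet' c H τ₀, algebraMap P S (ε τ) = 1 := by
    rw [← map_sum, ← he, ← IsScalarTower.algebraMap_apply K P S,
      IsScalarTower.algebraMap_apply K Kg S, he1, map_one]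
  have hQ : ∀ τ ∈ classSet' c H τ₀, Nonempty (M ⧸ H τ ≃* M ⧸ H τ₀) := by
    intro τ hτ
    rw [classSet', Finset.mem_filter] at hτ
    exact hτ.2
  obtain ⟨E⟩ := stageB' J eA hp (S' := S) (classSet' c H τ₀) (Finset.filter_subset _ _) hsum
    (M ⧸ H τ₀) hQ
  exact ⟨M ⧸ H τ₀, inferInstance, ⟨(cancelBaseChangeBialg R Kg S (A ⧸ J)).trans E⟩⟩

theorem local_aux' (J : Ideal A) [J.IsHopfIdeal R]
    (𝔪 : Ideal R) [h𝔪 : 𝔪.IsMaximal] (F : R) (hF𝔪 : F ∉ 𝔪)
    {K : Type u} [CommRing K] [Algebra R K] [IsLocalization.Away F K]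
    {P : Type u} [CommRing P] [Algebra K P] [Algebra R P] [IsScalarTower R K P]
    [Module.FaithfullyFlat K P] {M : Type u} [CommGroup M]
    (eA : P ⊗[R] A ≃ₐc[P] MonoidAlgebra P M)
    {ι : Type u} {c : Finset ι} {ε : ι → P} {H : ι → Subgroup M} (hp : Pieces J eA c ε H) :
    ∃ g : R, g ∉ 𝔪 ∧
      IsMultTypeConst (Localization.Away g) (Localization.Away g ⊗[R] (A ⧸ J)) := by
  classical
  set 𝔪' : Ideal K := Ideal.map (algebraMap R K) 𝔪 with h𝔪'def
  have h𝔪' : 𝔪' ≠ ⊤ := by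
    rw [h𝔪'def, IsLocalization.map_algebraMap_ne_top_iff_disjoint (Submonoid.powers F),
      Set.disjoint_left]
    rintro x ⟨n, rfl⟩ hx
    exact hF𝔪 (h𝔪.isPrime.mem_of_pow_mem n hx)
  obtain ⟨𝔫, h𝔫max, h𝔫le⟩ := Ideal.exists_le_maximal 𝔪' h𝔪'
  have hinj : Function.Injective (algebraMap K P) := FaithfulSMul.algebraMap_injective K P
  have hdesc := fun τ₀ : ι => exists_descent' J (K := K) eA hp τ₀
  choose e he using hdesc
  have hesmul : ∀ τ ∈ c, ε τ = e τ • ε τ := by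
    intro τ hτ
    rw [Algebra.smul_def, he, classSum_mul_eps' J eA hp hτ]
  have hex : ∃ τ₀ ∈ c, e τ₀ ∉ 𝔫 := by
    by_contra hcon
    push Not at hcon
    have h3 : (𝔫 • ⊤ : Submodule K P) = ⊤ := by
      rw [Submodule.eq_top_iff']
      intro p
      have h4 : p = ∑ τ ∈ c, e τ • (ε τ * p) := by
        conv_lhs => rw [← one_mul p, ← hp.sum, Finset.sum_mul]
        refine Finset.sum_congr rfl fun τ hτ => ?_
        conv_lhs => rw [hesmul τ hτ]
        rw [smul_mul_assoc]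
      rw [h4]
      exact Submodule.sum_mem _ fun τ hτ => Submodule.smul_mem_smul (hcon τ hτ) trivial
    exact (Module.FaithfullyFlat.submodule_ne_top (R := K) (M := P) h𝔫max) h3
  obtain ⟨τ₀, hτ₀, heτ₀⟩ := hex
  have he𝔪' : e τ₀ ∉ 𝔪' := fun h => heτ₀ (h𝔫le h)
  have hee : e τ₀ * e τ₀ = e τ₀ := by
    apply hinj
    have hsub : classSet' c H τ₀ ⊆ c := by
      unfold classSet'
      exact Finset.filter_subset _ _
    rw [map_mul, he, classSum_mul_self' J eA hp (classSet' c H τ₀) hsub]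
  obtain ⟨⟨r, ⟨_, k, rfl⟩⟩, hr⟩ := IsLocalization.surj (Submonoid.powers F) (e τ₀)
  simp only at hr
  have hr𝔪 : r ∉ 𝔪 := by
    intro hrm
    apply he𝔪'
    have hu : IsUnit (algebraMap R K (F ^ k)) :=
      IsLocalization.map_units K (⟨F ^ k, k, rfl⟩ : Submonoid.powers F)
    have h1 : algebraMap R K r ∈ 𝔪' := Ideal.mem_map_of_mem _ hrm
    rw [← hr] at h1
    obtain ⟨u, hu'⟩ := hu
    have h2 : e τ₀ = e τ₀ * algebraMap R K (F ^ k) * ↑u⁻¹ := by
      rw [← hu', mul_assoc, Units.mul_inv, mul_one]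
    rw [h2]
    exact Ideal.mul_mem_right _ _ h1
  have hg𝔪 : F * r ∉ 𝔪 := fun h => (h𝔪.isPrime.mem_or_mem h).elim hF𝔪 hr𝔪
  refine ⟨F * r, hg𝔪, ?_⟩
  have hug := IsLocalization.Away.algebraMap_isUnit (S := Localization.Away (F * r)) (F * r)
  rw [map_mul] at hug
  have huF : IsUnit (algebraMap R (Localization.Away (F * r)) F) := isUnit_of_mul_isUnit_left hug
  have hur : IsUnit (algebraMap R (Localization.Away (F * r)) r) := isUnit_of_mul_isUnit_right hug
  letI : Algebra K (Localization.Away (F * r)) := (IsLocalization.Away.lift F huF).toAlgebra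
  haveI : IsScalarTower R K (Localization.Away (F * r)) :=
    IsScalarTower.of_algebraMap_eq (fun x => (IsLocalization.Away.lift_eq F huF x).symm)
  have he1 : algebraMap K (Localization.Away (F * r)) (e τ₀) = 1 := by
    have h1 := congrArg (algebraMap K (Localization.Away (F * r))) hr
    rw [map_mul, ← IsScalarTower.algebraMap_apply, ← IsScalarTower.algebraMap_apply] at h1
    have hu : IsUnit (algebraMap K (Localization.Away (F * r)) (e τ₀)) := by
      have h2 : IsUnit (algebraMap K (Localization.Away (F * r)) (e τ₀) *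
          algebraMap R (Localization.Away (F * r)) (F ^ k)) := by
        rw [h1]
        exact hur
      exact isUnit_of_mul_isUnit_left h2
    have h2 : algebraMap K (Localization.Away (F * r)) (e τ₀) *
        algebraMap K (Localization.Away (F * r)) (e τ₀) =
        algebraMap K (Localization.Away (F * r)) (e τ₀) * 1 := by
      rw [← map_mul, hee, mul_one]
    exact hu.mul_left_cancel h2
  refine ⟨Localization.Away (F * r) ⊗[K] P, inferInstance, inferInstance, inferInstance, ?_⟩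
  letI iP : Algebra P (Localization.Away (F * r) ⊗[K] P) := Algebra.TensorProduct.rightAlgebra
  haveI : IsScalarTower K P (Localization.Away (F * r) ⊗[K] P) :=
    IsScalarTower.of_algebraMap_eq (fun x => by
      rw [Algebra.TensorProduct.algebraMap_apply, Algebra.TensorProduct.right_algebraMap_apply,
        Algebra.algebraMap_eq_smul_one, Algebra.algebraMap_eq_smul_one, TensorProduct.smul_tmul])
  exact final_aux' J eA hp (Kg := Localization.Away (F * r))
    (S := Localization.Away (F * r) ⊗[K] P) τ₀ (e τ₀) (he τ₀) he1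

/-- if `J` is piecewise diagonalisable over every diagonalising base, `A ⧸ J` is of
multiplicative type -/
theorem isMultType_quotient (hA : IsMultType R A) (J : Ideal A) [J.IsHopfIdeal R]
    (hpieces : ∀ (P : Type u) [CommRing P] [Algebra R P] (M : Type u) [CommGroup M]
      (eA : P ⊗[R] A ≃ₐc[P] MonoidAlgebra P M),
      ∃ (ι : Type u) (c : Finset ι) (ε : ι → P) (H : ι → Subgroup M), Pieces J eA c ε H) :
    IsMultType R (A ⧸ J) := by
  classical
  refine ⟨{g : R | IsMultTypeConst (Localization.Away g) (Localization.Away g ⊗[R] (A ⧸ J))}, ?_,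
    fun g hg => hg⟩
  by_contra hne
  obtain ⟨𝔪, h𝔪max, hle⟩ := Ideal.exists_le_maximal _ hne
  haveI := h𝔪max
  obtain ⟨sA, hsA, hlocA⟩ := hA
  have hex : ∃ f ∈ sA, f ∉ 𝔪 := by
    by_contra hcon
    push Not at hcon
    have h1 : Ideal.span sA ≤ 𝔪 := Ideal.span_le.2 hcon
    rw [hsA] at h1
    exact h𝔪max.ne_top (top_le_iff.1 h1)
  obtain ⟨f, hf, hf𝔪⟩ := hex
  have hAK := hlocA f hf
  obtain ⟨P, _, _, _, _, hff, M, _, N, _, ⟨eA⟩, ⟨_⟩⟩ :=
    exists_common (K := Localization.Away f) A A hAK hAK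
  haveI := hff
  obtain ⟨ι, c, ε, H, hp⟩ := hpieces P M eA
  obtain ⟨g, hg𝔪, hg⟩ := local_aux' J 𝔪 f hf𝔪 (K := Localization.Away f) eA hp
  exact hg𝔪 (hle (Ideal.subset_span hg))

end Abstract

end Groth.Agent.Lib.Helper17.KerMT
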