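import Groth.Agent.Lib.Helper17.KerMT5
import Groth.Agent.Lib.Helper27.MultMono
import Mathlib

/-!
# Kernels of homomorphisms from a diagonalisable group to an affine group of finite type (helper17)

Let `Φ : C' → P[M]` be a bialgebra map, `C'` a commutative Hopf algebra of finite type over `P`.
* `coefIdeal Φ m`: the ideal of `P` of `m`-th coefficients of elements of the image of `Φ`.
* `coefIdeal_le_sq`, `coefIdeal_fg`, `exists_idem`: it is idempotent and finitely generated, hence
  generated by an idempotent element.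
* `exists_pieces_diag`: orthogonal idempotents of `P` with sum one on each of which the ideal
  generated by the image of the augmentation ideal is the ideal of a subgroup of `M`.
* `kernel_isMultType'`: the kernel of a homomorphism from a group of multiplicative type to an
  affine group of finite type is of multiplicative type.
-/

set_option autoImplicit false
universe u

namespace Groth.Agent.Lib.Helper17.KerMT

open TensorProduct SGA3b Groth.Agent.Lib.Helper17.TorsionMT Groth.Agent.Lib.Helper27.MultMono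

section Coef

variable {P : Type u} [CommRing P] {C' : Type u} [CommRing C'] [HopfAlgebra P C'] {M : Type u}
  [CommGroup M] (Φ : C' →ₐc[P] MonoidAlgebra P M)

/-- the ideal of `m`-th coefficients of the image of `Φ` -/
noncomputable def coefIdeal (m : M) : Ideal P :=
  LinearMap.range ((proj (R := P) m) ∘ₗ (Φ : C' →ₗ[P] MonoidAlgebra P M))

theorem coeff_mem_coefIdeal (m : M) (c : C') : (Φ c).coeff m ∈ coefIdeal Φ m :=
  ⟨c, rfl⟩

theorem exists_of_mem_coefIdeal {m : M} {a : P} (ha : a ∈ coefIdeal Φ m) :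
    ∃ c : C', Φ c = MonoidAlgebra.single m a := by
  obtain ⟨c, hc⟩ := ha
  have hc' : (Φ c).coeff m = a := hc
  obtain ⟨c', hc''⟩ := single_coeff_mem_range Φ c m
  refine ⟨c', ?_⟩
  rw [← hc']
  exact hc''

theorem mem_coefIdeal_of_single {m : M} {a : P} {c : C'} (hc : Φ c = MonoidAlgebra.single m a) :
    a ∈ coefIdeal Φ m := by
  have h := coeff_mem_coefIdeal Φ m c
  rw [hc, MonoidAlgebra.coeff_single, Finsupp.single_eq_same] at h
  exact h

theorem coefIdeal_le_sq (m : M) : coefIdeal Φ m ≤ coefIdeal Φ m * coefIdeal Φ m := by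
  intro a ha
  obtain ⟨c, hc⟩ := exists_of_mem_coefIdeal Φ ha
  let T : MonoidAlgebra P M ⊗[P] MonoidAlgebra P M →ₗ[P] P :=
    (LinearMap.mul' P P) ∘ₗ (TensorProduct.map (proj (R := P) m) (proj (R := P) m))
  have hT : ∀ x y : MonoidAlgebra P M, T (x ⊗ₜ[P] y) = x.coeff m * y.coeff m := fun x y => rfl
  have h1 : T (Coalgebra.comul (R := P) (Φ c)) = a := by
    have hs : (MonoidAlgebra.single m a : MonoidAlgebra P M) = a • MonoidAlgebra.single m (1 : P) := by
      rw [MonoidAlgebra.smul_single, smul_eq_mul, mul_one]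
    rw [hc, hs, map_smul,
      (MonoidAlgebra.isGroupLikeElem_single_one (R := P) (A := P) m).comul_eq_tmul_self, map_smul,
      hT, MonoidAlgebra.coeff_single, Finsupp.single_eq_same, mul_one, smul_eq_mul, mul_one]
  have h2 : Coalgebra.comul (R := P) (Φ c) =
      TensorProduct.map (Φ : C' →ₗ[P] MonoidAlgebra P M) (Φ : C' →ₗ[P] MonoidAlgebra P M)
        (Coalgebra.comul c) := (CoalgHomClass.map_comp_comul_apply Φ c).symm
  rw [h2] at h1
  rw [← h1]
  generalize Coalgebra.comul (R := P) c = t
  induction t using TensorProduct.induction_on with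
  | zero => simp
  | tmul x y =>
    rw [TensorProduct.map_tmul, hT]
    exact Ideal.mul_mem_mul (coeff_mem_coefIdeal Φ m x) (coeff_mem_coefIdeal Φ m y)
  | add x y hx hy =>
    rw [map_add, map_add]
    exact add_mem hx hy

/-- finitely many monomial generators of the image of `Φ` -/
theorem exists_gens (hfg : Algebra.FiniteType P C') :
    ∃ (I : Type u) (_ : Fintype I) (b : I → M) (r : I → P),
      (∀ i, r i ∈ coefIdeal Φ (b i)) ∧
      (∀ c, Φ c ∈ Algebra.adjoin P (Set.range fun i : I =>
        (MonoidAlgebra.single (b i) (r i) : MonoidAlgebra P M))) := by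
  classical
  obtain ⟨s, hs⟩ := hfg.out
  let T : Finset (M × P) :=
    s.biUnion (fun g => (Φ g).coeff.support.image (fun x => (x, (Φ g).coeff x)))
  refine ⟨↥T, inferInstance, fun i => i.1.1, fun i => i.1.2, ?_, ?_⟩
  · rintro ⟨⟨x, a⟩, hi⟩
    simp only [T, Finset.mem_biUnion, Finset.mem_image] at hi
    obtain ⟨g, _, x', _, hx'⟩ := hi
    have h1 : x' = x := congrArg Prod.fst hx'
    have h2 : (Φ g).coeff x' = a := congrArg Prod.snd hx'
    show a ∈ coefIdeal Φ x
    rw [← h2, ← h1]
    exact coeff_mem_coefIdeal Φ x' g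
  · intro c
    have hc : c ∈ Algebra.adjoin P (s : Set C') := by rw [hs]; trivial
    induction hc using Algebra.adjoin_induction with
    | mem g hg =>
      rw [← MonoidAlgebra.sum_coeff_single (Φ g), Finsupp.sum]
      refine Subalgebra.sum_mem _ fun x hx => ?_
      refine Algebra.subset_adjoin ?_
      have hmem : (x, (Φ g).coeff x) ∈ T := by
        simp only [T, Finset.mem_biUnion, Finset.mem_image]
        exact ⟨g, hg, x, hx, rfl⟩
      exact ⟨⟨(x, (Φ g).coeff x), hmem⟩, rfl⟩
    | algebraMap a =>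
      rw [AlgHomClass.commutes]
      exact Subalgebra.algebraMap_mem _ a
    | add x y _ _ hx hy =>
      rw [map_add]
      exact Subalgebra.add_mem _ hx hy
    | mul x y _ _ hx hy =>
      rw [map_mul]
      exact Subalgebra.mul_mem _ hx hy

section Mono

variable {I : Type u} [Fintype I] (b : I → M) (r : I → P)

/-- the degree of a monomial -/
noncomputable def bk (k : I →₀ ℕ) : M := k.prod fun i n => b i ^ n

/-- the coefficient of a monomial -/
noncomputable def rk (k : I →₀ ℕ) : P := k.prod fun i n => r i ^ n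

theorem bk_add (k k' : I →₀ ℕ) : bk b (k + k') = bk b k * bk b k' :=
  Finsupp.prod_add_index' (fun _ => pow_zero _) (fun _ _ _ => pow_add _ _ _)

theorem rk_add (k k' : I →₀ ℕ) : rk r (k + k') = rk r k * rk r k' :=
  Finsupp.prod_add_index' (fun _ => pow_zero _) (fun _ _ _ => pow_add _ _ _)

theorem bk_single (i : I) (n : ℕ) : bk b (Finsupp.single i n) = b i ^ n :=
  Finsupp.prod_single_index (pow_zero _)

theorem rk_single (i : I) (n : ℕ) : rk r (Finsupp.single i n) = r i ^ n :=
  Finsupp.prod_single_index (pow_zero _)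

theorem bk_zero : bk b (0 : I →₀ ℕ) = 1 := Finsupp.prod_zero_index

theorem rk_zero : rk r (0 : I →₀ ℕ) = 1 := Finsupp.prod_zero_index

/-- the monomial ideal of degree `m` -/
noncomputable def monoIdeal (m : M) : Ideal P := Ideal.span (rk r '' {k | bk b k = m})

theorem monoIdeal_fg (m : M) : (monoIdeal b r m).FG := by
  let ev : MvPolynomial I ℤ →+* P := MvPolynomial.eval₂Hom (Int.castRingHom P) r
  have h1 : monoIdeal b r m = Ideal.map ev (Ideal.span
      ((fun k => MvPolynomial.monomial k (1 : ℤ)) '' {k | bk b k = m})) := by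
    rw [Ideal.map_span, Set.image_image, monoIdeal]
    congr 1
    refine Set.image_congr' fun k => ?_
    show rk r k = MvPolynomial.eval₂Hom (Int.castRingHom P) r (MvPolynomial.monomial k (1 : ℤ))
    rw [MvPolynomial.eval₂Hom_monomial, map_one, one_mul]
    rfl
  rw [h1]
  exact Ideal.FG.map (IsNoetherian.noetherian _) ev

theorem monoIdeal_mul (m m' : M) :
    monoIdeal b r m * monoIdeal b r m' ≤ monoIdeal b r (m * m') := by
  rw [monoIdeal, monoIdeal, Ideal.span_mul_span', Ideal.span_le]
  rintro _ ⟨_, ⟨k, hk, rfl⟩, _, ⟨k', hk', rfl⟩, rfl⟩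
  refine Ideal.subset_span ⟨k + k', ?_, rk_add r k k'⟩
  show bk b (k + k') = m * m'
  rw [bk_add, hk, hk']

theorem coeff_mem_monoIdeal {x : MonoidAlgebra P M}
    (hx : x ∈ Algebra.adjoin P (Set.range fun i : I =>
      (MonoidAlgebra.single (b i) (r i) : MonoidAlgebra P M))) (m : M) :
    x.coeff m ∈ monoIdeal b r m := by
  classical
  induction hx using Algebra.adjoin_induction generalizing m with
  | mem x hx =>
    obtain ⟨i, rfl⟩ := hx
    rw [MonoidAlgebra.coeff_single, Finsupp.single_apply]
    by_cases h : b i = m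
    · rw [if_pos h]
      refine Ideal.subset_span ⟨Finsupp.single i 1, ?_, ?_⟩
      · show bk b (Finsupp.single i 1) = m
        rw [bk_single, pow_one, h]
      · rw [rk_single, pow_one]
    · rw [if_neg h]
      exact Ideal.zero_mem _
  | algebraMap a =>
    have h1 : (algebraMap P (MonoidAlgebra P M) a) = MonoidAlgebra.single 1 a := rfl
    rw [h1, MonoidAlgebra.coeff_single, Finsupp.single_apply]
    by_cases h : (1 : M) = m
    · rw [if_pos h]
      have h2 : (1 : P) ∈ monoIdeal b r m :=
        Ideal.subset_span ⟨0, by show bk b 0 = m; rw [bk_zero, h], rk_zero r⟩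
      have h3 := Ideal.mul_mem_left _ a h2
      rwa [mul_one] at h3
    · rw [if_neg h]
      exact Ideal.zero_mem _
  | add x y _ _ hx hy =>
    rw [MonoidAlgebra.coeff_add, Finsupp.add_apply]
    exact Ideal.add_mem _ (hx m) (hy m)
  | mul x y _ _ hx hy =>
    rw [MonoidAlgebra.coeff_mul, Finsupp.sum]
    refine Ideal.sum_mem _ fun m₁ _ => ?_
    rw [Finsupp.sum]
    refine Ideal.sum_mem _ fun m₂ _ => ?_
    by_cases h : m₁ * m₂ = m
    · rw [if_pos h, ← h]
      exact monoIdeal_mul b r m₁ m₂ (Ideal.mul_mem_mul (hx m₁) (hy m₂))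
    · rw [if_neg h]
      exact Ideal.zero_mem _

end Mono

theorem coefIdeal_fg (hfg : Algebra.FiniteType P C') (m : M) : (coefIdeal Φ m).FG := by
  classical
  obtain ⟨I, _, b, r, hr, hB⟩ := exists_gens Φ hfg
  have h1 : coefIdeal Φ m ≤ monoIdeal b r m := by
    rintro _ ⟨c, rfl⟩
    exact coeff_mem_monoIdeal b r (hB c) m
  have hmono : ∀ k : I →₀ ℕ, (MonoidAlgebra.single (bk b k) (rk r k) : MonoidAlgebra P M) ∈
      (Φ : C' →ₐ[P] MonoidAlgebra P M).range := by
    intro k
    induction k using Finsupp.induction_linear with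
    | zero =>
      rw [bk_zero, rk_zero, ← MonoidAlgebra.one_def]
      exact Subalgebra.one_mem _
    | add k k' hk hk' =>
      rw [bk_add, rk_add, ← MonoidAlgebra.single_mul_single]
      exact Subalgebra.mul_mem _ hk hk'
    | single i n =>
      rw [bk_single, rk_single, ← MonoidAlgebra.single_pow]
      refine Subalgebra.pow_mem _ ?_ n
      obtain ⟨c, hc⟩ := exists_of_mem_coefIdeal Φ (hr i)
      exact ⟨c, hc⟩
  have h2 : monoIdeal b r m ≤ coefIdeal Φ m := by
    rw [monoIdeal, Ideal.span_le]
    rintro _ ⟨k, hk, rfl⟩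
    obtain ⟨c, hc⟩ := hmono k
    have hk' : bk b k = m := hk
    rw [hk'] at hc
    exact mem_coefIdeal_of_single Φ hc
  rw [le_antisymm h1 h2]
  exact monoIdeal_fg b r m

theorem exists_idem (hfg : Algebra.FiniteType P C') (m : M) :
    ∃ e : P, IsIdempotentElem e ∧ coefIdeal Φ m = Ideal.span {e} := by
  have h1 : IsIdempotentElem (coefIdeal Φ m) :=
    le_antisymm Ideal.mul_le_right (coefIdeal_le_sq Φ m)
  exact (Ideal.isIdempotentElem_iff_of_fg _ (coefIdeal_fg Φ hfg m)).1 h1

end Coef

section Bool

variable {P : Type u} [CommRing P] {I : Type u} [Fintype I] [DecidableEq I] (e : I → P)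

/-- the idempotent attached to a subset `T` -/
noncomputable def epsB (T : Finset I) : P :=
  (∏ i ∈ T, e i) * ∏ i ∈ Finset.univ \ T, (1 - e i)

variable {e}

theorem sum_epsB : ∑ T ∈ (Finset.univ : Finset I).powerset, epsB e T = 1 := by
  unfold epsB
  rw [← Finset.prod_add]
  refine Finset.prod_eq_one fun i _ => ?_
  ring

theorem epsB_mul_of_mem (he : ∀ i, IsIdempotentElem (e i)) {T : Finset I} {i : I} (hi : i ∈ T) :
    epsB e T * e i = epsB e T := by
  have h1 : (∏ j ∈ T, e j) * e i = ∏ j ∈ T, e j := by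
    rw [← Finset.mul_prod_erase T e hi, mul_right_comm, (he i).eq]
  unfold epsB
  rw [mul_right_comm, h1]

theorem epsB_mul_of_notMem (he : ∀ i, IsIdempotentElem (e i)) {T : Finset I} {i : I}
    (hi : i ∉ T) : epsB e T * e i = 0 := by
  unfold epsB
  have hi' : i ∈ Finset.univ \ T := Finset.mem_sdiff.2 ⟨Finset.mem_univ i, hi⟩
  rw [mul_assoc, ← Finset.mul_prod_erase (Finset.univ \ T) (fun i => 1 - e i) hi', mul_right_comm,
    sub_mul, one_mul, (he i).eq, sub_self, zero_mul, mul_zero]

theorem epsB_mul_self (he : ∀ i, IsIdempotentElem (e i)) (T : Finset I) :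
    epsB e T * epsB e T = epsB e T := by
  unfold epsB
  rw [mul_mul_mul_comm, ← Finset.prod_mul_distrib, ← Finset.prod_mul_distrib]
  congr 1
  · exact Finset.prod_congr rfl fun i _ => (he i).eq
  · exact Finset.prod_congr rfl fun i _ => (he i).one_sub.eq

theorem epsB_mul_of_ne (he : ∀ i, IsIdempotentElem (e i)) {T T' : Finset I} (h : T ≠ T') :
    epsB e T * epsB e T' = 0 := by
  have hex : ∃ i, (i ∈ T ∧ i ∉ T') ∨ (i ∉ T ∧ i ∈ T') := by
    by_contra hcon
    push Not at hcon
    apply h
    ext i
    constructor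
    · intro hi
      exact (hcon i).1 hi
    · intro hi
      by_contra hi'
      exact (hcon i).2 hi' hi
  obtain ⟨i, hi | hi⟩ := hex
  · have h1 := epsB_mul_of_mem he hi.1
    have h2 := epsB_mul_of_notMem he hi.2
    calc epsB e T * epsB e T' = (epsB e T * e i) * epsB e T' := by rw [h1]
      _ = epsB e T * (epsB e T' * e i) := by rw [mul_assoc, mul_comm (e i)]
      _ = 0 := by rw [h2, mul_zero]
  · have h1 := epsB_mul_of_mem he hi.2
    have h2 := epsB_mul_of_notMem he hi.1
    calc epsB e T * epsB e T' = epsB e T * (epsB e T' * e i) := by rw [h1]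
      _ = (epsB e T * e i) * epsB e T' := by rw [mul_right_comm, mul_assoc]
      _ = 0 := by rw [h2, zero_mul]

end Bool

section Pieces

variable {P : Type u} [CommRing P] {C' : Type u} [CommRing C'] [HopfAlgebra P C'] {M : Type u}
  [CommGroup M] (Φ : C' →ₐc[P] MonoidAlgebra P M)

theorem exists_pieces_diag (hfg : Algebra.FiniteType P C') :
    ∃ (ι : Type u) (c : Finset ι) (ε : ι → P) (H : ι → Subgroup M),
      (∀ τ ∈ c, ε τ * ε τ = ε τ) ∧ (∀ τ ∈ c, ∀ σ ∈ c, τ ≠ σ → ε τ * ε σ = 0) ∧
      (∑ τ ∈ c, ε τ = 1) ∧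
      (∀ τ ∈ c, ∀ y ∈ Ideal.map (Φ : C' →ₐ[P] MonoidAlgebra P M).toRingHom
        (RingHom.ker (Bialgebra.counitAlgHom P C')), ε τ • y ∈ augH P (H τ)) ∧
      (∀ τ ∈ c, ∀ y ∈ augH P (H τ), ε τ • y ∈
        Ideal.map (Φ : C' →ₐ[P] MonoidAlgebra P M).toRingHom
          (RingHom.ker (Bialgebra.counitAlgHom P C'))) := by
  classical
  obtain ⟨I, _, b, r, hr, hB⟩ := exists_gens Φ hfg
  have hidem := fun i : I => exists_idem Φ hfg (b i)
  choose e he hespan using hidem
  have hre : ∀ i, e i * r i = r i := by
    intro i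
    have h1 : r i ∈ Ideal.span {e i} := by rw [← hespan i]; exact hr i
    obtain ⟨a, ha⟩ := Ideal.mem_span_singleton'.1 h1
    rw [← ha, mul_comm a, ← mul_assoc, (he i).eq]
  have hemem : ∀ i, e i ∈ coefIdeal Φ (b i) := by
    intro i
    rw [hespan i]
    exact Ideal.subset_span rfl
  set 𝔍' : Ideal (MonoidAlgebra P M) := Ideal.map (Φ : C' →ₐ[P] MonoidAlgebra P M).toRingHom
    (RingHom.ker (Bialgebra.counitAlgHom P C')) with h𝔍'
  let H : Finset I → Subgroup M := fun T => Subgroup.closure (b '' (T : Set I))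
  refine ⟨Finset I, (Finset.univ : Finset I).powerset, epsB e, H,
    fun T _ => epsB_mul_self he T, fun T _ T' _ hne => epsB_mul_of_ne he hne, sum_epsB, ?_, ?_⟩
  · -- le_aug
    intro T _ y hy
    have key : ∀ x ∈ Algebra.adjoin P (Set.range fun i : I =>
        (MonoidAlgebra.single (b i) (r i) : MonoidAlgebra P M)),
        epsB e T • (x - algebraMap P (MonoidAlgebra P M) (Coalgebra.counit (R := P) x)) ∈
          augH P (H T) := by
      intro x hx
      induction hx using Algebra.adjoin_induction with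
      | mem x hx =>
        obtain ⟨i, rfl⟩ := hx
        have h1 : (MonoidAlgebra.single (b i) (r i) : MonoidAlgebra P M) -
            algebraMap P (MonoidAlgebra P M)
              (Coalgebra.counit (R := P) (MonoidAlgebra.single (b i) (r i) : MonoidAlgebra P M)) =
            r i • (MonoidAlgebra.single (b i) (1 : P) - 1 : MonoidAlgebra P M) := by
          rw [MonoidAlgebra.counit_single, smul_sub, MonoidAlgebra.smul_single, smul_eq_mul,
            mul_one, Algebra.algebraMap_eq_smul_one]
          simp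
        rw [h1, smul_smul]
        by_cases hi : i ∈ T
        · refine Submodule.smul_of_tower_mem _ _ ?_
          exact single_sub_one_mem_augH P (Subgroup.subset_closure ⟨i, hi, rfl⟩)
        · rw [← hre i, ← mul_assoc, epsB_mul_of_notMem he hi, zero_mul, zero_smul]
          exact Ideal.zero_mem _
      | algebraMap a =>
        rw [Bialgebra.counit_algebraMap, sub_self, smul_zero]
        exact Ideal.zero_mem _
      | add x y _ _ hx hy =>
        have h1 : x + y - algebraMap P (MonoidAlgebra P M) (Coalgebra.counit (R := P) (x + y)) =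
            (x - algebraMap P (MonoidAlgebra P M) (Coalgebra.counit (R := P) x)) +
              (y - algebraMap P (MonoidAlgebra P M) (Coalgebra.counit (R := P) y)) := by
          rw [map_add, map_add]; ring
        rw [h1, smul_add]
        exact Ideal.add_mem _ hx hy
      | mul x y _ _ hx hy =>
        have h1 : x * y - algebraMap P (MonoidAlgebra P M) (Coalgebra.counit (R := P) (x * y)) =
            x * (y - algebraMap P (MonoidAlgebra P M) (Coalgebra.counit (R := P) y)) +
              algebraMap P (MonoidAlgebra P M) (Coalgebra.counit (R := P) y) *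
                (x - algebraMap P (MonoidAlgebra P M) (Coalgebra.counit (R := P) x)) := by
          rw [Bialgebra.counit_mul, map_mul]; ring
        rw [h1, smul_add]
        refine Ideal.add_mem _ ?_ ?_
        · rw [← mul_smul_comm]
          exact Ideal.mul_mem_left _ _ hy
        · rw [← mul_smul_comm]
          exact Ideal.mul_mem_left _ _ hx
    have h1 : 𝔍' ≤ colon (augH P (H T)) (algebraMap P (MonoidAlgebra P M) (epsB e T)) := by
      rw [h𝔍', Ideal.map_le_iff_le_comap]
      intro c hc
      rw [Ideal.mem_comap, mem_colon, ← Algebra.smul_def]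
      show epsB e T • Φ c ∈ _
      have h2 := key (Φ c) (hB c)
      have h3 : Coalgebra.counit (R := P) (Φ c) = 0 := by
        rw [CoalgHomClass.counit_comp_apply]
        rw [RingHom.mem_ker, Bialgebra.counitAlgHom_apply] at hc
        exact hc
      rwa [h3, map_zero, sub_zero] at h2
    have h3 := h1 hy
    rw [mem_colon, ← Algebra.smul_def] at h3
    exact h3
  · -- aug_le
    intro T _ y hy
    have h1 : augH P (H T) ≤ colon 𝔍' (algebraMap P (MonoidAlgebra P M) (epsB e T)) := by
      rw [augH, Ideal.span_le]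
      rintro _ ⟨h, hh, rfl⟩
      rw [SetLike.mem_coe]
      show (MonoidAlgebra.single h (1 : P) - 1 : MonoidAlgebra P M) ∈ _
      let χ : M →* MonoidAlgebra P M := MonoidAlgebra.of P M
      have hχ : ∀ m, χ m = MonoidAlgebra.single m (1 : P) := fun m => rfl
      rw [← hχ]
      refine sub_one_mem_of_mem_closure χ _ (b '' (T : Set I)) ?_ hh
      rintro _ ⟨i, hi, rfl⟩
      rw [mem_colon, hχ, ← Algebra.smul_def]
      obtain ⟨c', hc'⟩ := exists_of_mem_coefIdeal Φ (hemem i)
      have hcu : Coalgebra.counit (R := P) c' = e i := by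
        rw [← CoalgHomClass.counit_comp_apply Φ c', hc', MonoidAlgebra.counit_single]
        rfl
      have h2 : e i • (MonoidAlgebra.single (b i) (1 : P) - 1 : MonoidAlgebra P M) =
          (Φ : C' →ₐ[P] MonoidAlgebra P M).toRingHom (c' - algebraMap P C' (e i)) := by
        show _ = Φ (c' - algebraMap P C' (e i))
        rw [map_sub, hc', AlgHomClass.commutes, smul_sub, MonoidAlgebra.smul_single, smul_eq_mul,
          mul_one, Algebra.algebraMap_eq_smul_one]
      have h3 : e i • (MonoidAlgebra.single (b i) (1 : P) - 1 : MonoidAlgebra P M) ∈ 𝔍' := by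
        rw [h2, h𝔍']
        refine Ideal.mem_map_of_mem _ ?_
        rw [RingHom.mem_ker, map_sub, AlgHomClass.commutes, Bialgebra.counitAlgHom_apply, hcu]
        simp
      have h4 : epsB e T • (MonoidAlgebra.single (b i) (1 : P) - 1 : MonoidAlgebra P M) =
          epsB e T • (e i • (MonoidAlgebra.single (b i) (1 : P) - 1 : MonoidAlgebra P M)) := by
        rw [smul_smul, epsB_mul_of_mem he (Finset.mem_coe.1 hi)]
      rw [h4]
      exact Submodule.smul_of_tower_mem _ _ h3
    have h3 := h1 hy
    rw [mem_colon, ← Algebra.smul_def] at h3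
    exact h3

end Pieces

section Final

variable {R : Type u} [CommRing R] {A : Type u} [CommRing A] [HopfAlgebra R A]
  {C : Type u} [CommRing C] [HopfAlgebra R C]

/-- the kernel of a homomorphism from a group of multiplicative type to an affine group of finite
type is of multiplicative type -/
theorem kernel_isMultType' (hA : IsMultType R A) (hCft : Algebra.FiniteType R C)
    (φ : C →ₐc[R] A) (J : Ideal A) [J.IsHopfIdeal R]
    (hJ : J = Ideal.map φ (RingHom.ker (Bialgebra.counitAlgHom R C))) :
    IsMultType R (A ⧸ J) := by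
  classical
  refine isMultType_quotient hA J ?_
  intro P _ _ M _ eA
  haveI := hCft
  have hfg : Algebra.FiniteType P (P ⊗[R] C) := inferInstance
  let Φ : P ⊗[R] C →ₐc[P] MonoidAlgebra P M :=
    eA.toBialgHom.comp (Bialgebra.TensorProduct.map (BialgHom.id P P) φ)
  have hΦ : ∀ c : C, Φ ((1 : P) ⊗ₜ[R] c) = eA ((1 : P) ⊗ₜ[R] φ c) := fun c => rfl
  obtain ⟨ι, c, ε, H, h1, h2, h3, h4, h5⟩ := exists_pieces_diag Φ hfg
  -- identify the two ideals
  let φr : C →+* A := (φ : C →ₐ[R] A).toRingHom
  let IC : Ideal C := RingHom.ker (Bialgebra.counitAlgHom R C)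
  have hJ' : J = Ideal.map φr IC := hJ
  let ρP : A →+* MonoidAlgebra P M :=
    ((eA.toAlgEquiv : P ⊗[R] A ≃ₐ[P] MonoidAlgebra P M) :
      P ⊗[R] A →+* MonoidAlgebra P M).comp
    (Algebra.TensorProduct.includeRight : A →ₐ[R] P ⊗[R] A).toRingHom
  let inclC : C →+* P ⊗[R] C :=
    (Algebra.TensorProduct.includeRight : C →ₐ[R] P ⊗[R] C).toRingHom
  have hICmap : Ideal.map inclC IC = RingHom.ker (Bialgebra.counitAlgHom P (P ⊗[R] C)) :=
    map_includeRight_ker_counit R P C
  have hcomp : (Φ : P ⊗[R] C →ₐ[P] MonoidAlgebra P M).toRingHom.comp inclC = ρP.comp φr :=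
    RingHom.ext fun x => hΦ x
  have hid : idealOf J eA = Ideal.map (Φ : P ⊗[R] C →ₐ[P] MonoidAlgebra P M).toRingHom
      (RingHom.ker (Bialgebra.counitAlgHom P (P ⊗[R] C))) := by
    show Ideal.map ρP J = _
    rw [← hICmap, Ideal.map_map, hcomp, hJ', Ideal.map_map]
  refine ⟨ι, c, ε, H, ⟨h1, h2, h3, ?_, ?_⟩⟩
  · intro τ hτ y hy
    rw [hid] at hy
    exact h4 τ hτ y hy
  · intro τ hτ y hy
    rw [hid]
    exact h5 τ hτ y hy

end Final

end Groth.Agent.Lib.Helper17.KerMT
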