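import Groth.Agent.Lib.Helper17.LambdaInv
import Groth.Prelude.Def_KRR
import Mathlib.RingTheory.Polynomial.Vieta
import Mathlib.RingTheory.MvPolynomial.Symmetric.FundamentalTheorem

/-!
# Bott's cannibalistic class on split elements (helper17)
-/

set_option autoImplicit false

universe u

open Finset LambdaRing

namespace Groth.Agent.Lib.Helper17.Lam

section poly

open Polynomial

variable {R : Type*} [CommRing R]

lemma reflect_linProd' (s : Multiset R) :
    reflect (Multiset.card s) (linProd s) = (s.map fun u => X + C u).prod := by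
  induction s using Multiset.induction_on with
  | empty => simp [linProd_zero]
  | cons u t ih =>
    rw [linProd_cons, Multiset.card_cons, add_comm,
      reflect_mul _ _ (natDegree_lin_le u) (natDegree_linProd_le t), ih, reflect_lin,
      Multiset.map_cons, Multiset.prod_cons]

lemma coeff_linProd_eq_esymm (s : Multiset R) (i : ℕ) (hi : i ≤ Multiset.card s) :
    (linProd s).coeff i = s.esymm i := by
  have h := congrArg (fun p => p.coeff (Multiset.card s - i)) (reflect_linProd' s)
  simp only [coeff_reflect] at h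
  rw [revAt_le (Nat.sub_le _ _), Nat.sub_sub_self hi,
    Multiset.prod_X_add_C_coeff s (Nat.sub_le _ _), Nat.sub_sub_self hi] at h
  exact h

lemma eval_linProd (s : Multiset R) (x : R) :
    (linProd s).eval x = (s.map fun u => 1 + u * x).prod := by
  unfold linProd
  rw [eval_multiset_prod, Multiset.map_map]
  congr 1
  apply Multiset.map_congr rfl
  intro u _
  simp

lemma sum_range_coeff_linProd (s : Multiset R) (x : R) :
    ∑ i ∈ range (Multiset.card s + 1), x ^ i * (linProd s).coeff i =
      (s.map fun u => 1 + u * x).prod := by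
  rw [← eval_linProd, eval_eq_sum_range' (Nat.lt_succ_of_le (natDegree_linProd_le s))]
  apply Finset.sum_congr rfl
  intro i _
  ring

end poly

section bott

variable {R : Type*} [CommRing R]

lemma aeval_esymm_bottPoly (j m : ℕ) :
    MvPolynomial.aeval (fun i : Fin m => MvPolynomial.esymm (Fin m) ℤ (i.1 + 1)) (KRR.bottPoly j m) =
      KRR.bottSym j m := by
  have h := (MvPolynomial.esymmAlgEquiv (Fin m) ℤ (Fintype.card_fin m)).apply_symm_apply
    ⟨KRR.bottSym j m, KRR.bottSym_isSymmetric j m⟩
  have h2 := congrArg Subtype.val h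
  rw [MvPolynomial.esymmAlgEquiv_apply, MvPolynomial.esymmAlgHom_apply] at h2
  exact h2

/-- the universal polynomial `B_{j,m}` evaluated at the elementary symmetric functions of `U` -/
lemma aeval_bottPoly (j m : ℕ) (U : Fin m → R) :
    MvPolynomial.aeval (fun i : Fin m => (Finset.univ.val.map U).esymm (i.1 + 1)) (KRR.bottPoly j m) =
      ∏ i : Fin m, ∑ k ∈ range j, (U i) ^ k := by
  have h := congrArg (MvPolynomial.aeval U) (aeval_esymm_bottPoly j m)
  rw [MvPolynomial.comp_aeval_apply] at h
  simp only [MvPolynomial.aeval_esymm_eq_multiset_esymm] at h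
  rw [h]
  simp [KRR.bottSym]

lemma exists_enum (s : Multiset R) (m : ℕ) (hm : Multiset.card s = m) :
    ∃ U : Fin m → R, Finset.univ.val.map U = s := by
  subst hm
  refine ⟨fun i => s.toList.get (i.cast (Multiset.length_toList s).symm), ?_⟩
  rw [Fin.univ_val_map]
  conv_rhs => rw [← Multiset.coe_toList s]
  congr 1
  apply List.ext_get
  · rw [List.length_ofFn, Multiset.length_toList]
  · intro n h1 h2
    simp

/-- `B_{j,m}(e_1(s), …, e_m(s)) = ∏_{u ∈ s} (1 + u + ⋯ + u^{j-1})` for a multiset `s` of size `m` -/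
lemma aeval_bottPoly_multiset (j m : ℕ) (s : Multiset R) (hm : Multiset.card s = m)
    (lam : ℕ → R) (hlam : ∀ i, 1 ≤ i → i ≤ m → lam i = s.esymm i) :
    MvPolynomial.aeval (fun i : Fin m => lam (i.1 + 1)) (KRR.bottPoly j m) =
      (s.map fun u => ∑ k ∈ range j, u ^ k).prod := by
  obtain ⟨U, rfl⟩ := exists_enum s m hm
  have : (fun i : Fin m => lam (i.1 + 1)) =
      fun i : Fin m => (Finset.univ.val.map U).esymm (i.1 + 1) := by
    funext i
    exact hlam _ (Nat.le_add_left 1 i.1) i.2
  rw [this, aeval_bottPoly, Multiset.map_map]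
  rfl

end bott

variable {K : Type u} [CommRing K] [LambdaOps K]

/-- split one positive element, remembering that the extension again has the splitting property -/
lemma exists_split' {P : PosStructure K} (hK : HasSplitting K P) {e : K} (he : e ∈ P.pos) :
    ∃ (L : PosLambdaRing.{u}) (f : K →+* L.carrier), IsExtension P L.posStr f ∧
      HasSplitting L.carrier L.posStr ∧
      ∃ s : Multiset L.carrier, (∀ a ∈ s, L.posStr.IsLine a) ∧ s.sum = f e := by
  obtain ⟨C, hKC, hC⟩ := hK
  obtain ⟨L1, hL1, f1, hf1, s1, hs1, hsum1⟩ := hC ⟨K, P⟩ hKC e he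
  exact ⟨L1, f1, hf1, ⟨C, hL1, hC⟩, s1, hs1, hsum1⟩

/-- `λ_{-1}` of a sum of lines -/
lemma lamAlt_sum_lines (P : PosStructure K) (s : Multiset K) (hs : ∀ a ∈ s, P.IsLine a) :
    ∑ i ∈ range (Multiset.card s + 1), (-1 : K) ^ i * LambdaOps.lam i s.sum =
      (s.map fun u => 1 - u).prod := by
  have h := sum_range_coeff_linProd s (-1 : K)
  have e1 : (s.map fun u => 1 + u * (-1 : K)) = s.map fun u => 1 - u := by
    apply Multiset.map_congr rfl
    intro u _
    ring
  rw [e1] at h
  rw [← h]
  apply Finset.sum_congr rfl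
  intro i _
  rw [lam_sum_lines P s hs]

/-- `ψ^j(λ_{-1}(e)) = λ_{-1}(e) θ^j(e)` (S3792) -/
theorem adams_lamAlt {P : PosStructure K} (hK : HasSplitting K P) {e : K} (he : e ∈ P.pos)
    (j : ℕ) : adams P j (KRR.lamAlt P e) = KRR.lamAlt P e * KRR.bott P j e := by
  obtain ⟨L, f, hf, hL, s, hs, hsum⟩ := exists_split' hK he
  have haug : P.aug e = (Multiset.card s : ℤ) := by
    rw [← hf.aug_comp, ← hsum, aug_sum_lines _ s hs]
  have hm : (P.aug e).toNat = Multiset.card s := by rw [haug, Int.toNat_natCast]
  apply hf.injective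
  have h1 : f (KRR.lamAlt P e) = (s.map fun u => 1 - u).prod := by
    unfold KRR.lamAlt
    rw [map_sum, hm, ← lamAlt_sum_lines L.posStr s hs]
    apply Finset.sum_congr rfl
    intro i _
    rw [map_mul, map_pow, map_neg, map_one, hf.isLambdaHom, hsum]
  have h2 : f (KRR.bott P j e) = (s.map fun u => ∑ k ∈ range j, u ^ k).prod := by
    unfold KRR.bott
    have e1 := MvPolynomial.comp_aeval_apply (R := ℤ) (φ := f.toIntAlgHom)
      (f := fun i : Fin (P.aug e).toNat => LambdaOps.lam (i.1 + 1) e)
      (KRR.bottPoly j (P.aug e).toNat)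
    rw [show f (MvPolynomial.aeval (fun i : Fin (P.aug e).toNat => LambdaOps.lam (i.1 + 1) e)
      (KRR.bottPoly j (P.aug e).toNat)) = f.toIntAlgHom (MvPolynomial.aeval
      (fun i : Fin (P.aug e).toNat => LambdaOps.lam (i.1 + 1) e)
      (KRR.bottPoly j (P.aug e).toNat)) from rfl, e1]
    apply aeval_bottPoly_multiset j _ s hm.symm (fun i => f.toIntAlgHom (LambdaOps.lam i e))
    intro i _ hi
    change f (LambdaOps.lam i e) = _
    rw [hf.isLambdaHom, ← hsum, lam_sum_lines L.posStr s hs,
      coeff_linProd_eq_esymm s i (hm ▸ hi)]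
  rw [map_adams hf, map_mul, h1, h2]
  have h3 : adams L.posStr j ((s.map fun u => 1 - u).prod) =
      (s.map fun u => 1 - u ^ j).prod := by
    have h := map_multiset_prod (adamsRingHom hL j) (s.map fun u => 1 - u)
    rw [Multiset.map_map] at h
    refine h.trans ?_
    congr 1
    apply Multiset.map_congr rfl
    intro u hu
    change adams L.posStr j (1 - u) = 1 - u ^ j
    rw [adams_sub, adams_one, adams_of_isLine _ (hs u hu)]
  rw [h3, ← Multiset.prod_map_mul]
  congr 1
  apply Multiset.map_congr rfl
  intro u _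
  rw [mul_comm]
  exact (geom_sum_mul_neg u j).symm

end Groth.Agent.Lib.Helper17.Lam
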