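import Groth.Agent.Lib.Helper17.LambdaSym2
import Groth.Agent.Lib.Helper17.LambdaDet

/-!
# The γ-filtration of an extension generated by a line element (helper17)
-/

set_option autoImplicit false

universe u

open Finset LambdaRing

namespace Groth.Agent.Lib.Helper17.Lam

variable {K : Type u} [CommRing K] [LambdaOps K]
variable {B : Type u} [CommRing B] [LambdaOps B]

/-- an extension maps `F^n` into `F^n` -/
lemma map_mem_gammaFiltration {P : PosStructure K} {PB : PosStructure B} {φ : K →+* B}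
    (hφ : IsExtension P PB φ) {n : ℕ} {a : K} (ha : a ∈ gammaFiltration P n) :
    φ a ∈ gammaFiltration PB n := by
  by_cases hn : n = 0
  · subst hn
    rw [Groth.Agent.S3291.filt_zero]
    exact AddSubgroup.mem_top _
  · rw [Groth.Agent.S3291.filt_pos P hn] at ha
    rw [Groth.Agent.S3291.filt_pos PB hn]
    induction ha using AddSubgroup.closure_induction with
    | mem y hy =>
      obtain ⟨l, hl, hsum, rfl⟩ := hy
      apply AddSubgroup.subset_closure
      refine ⟨l.map (fun p => (p.1, φ p.2)), ?_, ?_, ?_⟩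
      · intro p hp
        obtain ⟨q, hq, rfl⟩ := List.mem_map.mp hp
        change PB.aug (φ q.2) = 0
        rw [hφ.aug_comp, hl q hq]
      · rw [List.map_map]
        exact hsum
      · rw [map_list_prod, List.map_map, List.map_map]
        congr 1
        apply List.map_congr_left
        intro q _
        exact map_gamma hφ.isLambdaHom q.1 q.2
    | zero => rw [map_zero]; exact AddSubgroup.zero_mem _
    | add y z _ _ hy hz => rw [map_add]; exact AddSubgroup.add_mem _ hy hz
    | neg y _ hy => rw [map_neg]; exact AddSubgroup.neg_mem _ hy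

section ext

variable (P : PosStructure K) (PB : PosStructure B) (φ : K →+* B) (ℓ : B)

/-- the piece `φ(F^{k-i}K) · (ℓ-1)^i` -/
def Mpc (k i : ℕ) : AddSubgroup B :=
  AddSubgroup.map ((AddMonoidHom.mulRight ((ℓ - 1) ^ i)).comp φ.toAddMonoidHom)
    (gammaFiltration P (k - i))

/-- the sum of all pieces -/
def Gall (k : ℕ) : AddSubgroup B := ⨆ i : ℕ, Mpc P φ ℓ k i

variable {P PB φ ℓ}

lemma mem_Mpc {k i : ℕ} {x : B} :
    x ∈ Mpc P φ ℓ k i ↔ ∃ a ∈ gammaFiltration P (k - i), φ a * (ℓ - 1) ^ i = x := by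
  unfold Mpc
  rw [AddSubgroup.mem_map]
  rfl

lemma mul_mem_Mpc {k i : ℕ} {a : K} (ha : a ∈ gammaFiltration P (k - i)) :
    φ a * (ℓ - 1) ^ i ∈ Mpc P φ ℓ k i := mem_Mpc.mpr ⟨a, ha, rfl⟩

lemma Mpc_le_Gall (k i : ℕ) : Mpc P φ ℓ k i ≤ Gall P φ ℓ k :=
  le_iSup (fun i => Mpc P φ ℓ k i) i

lemma Gall_induction {k : ℕ} {motive : B → Prop} {x : B} (hx : x ∈ Gall P φ ℓ k)
    (mem : ∀ (i : ℕ) (a : K), a ∈ gammaFiltration P (k - i) → motive (φ a * (ℓ - 1) ^ i))
    (zero : motive 0) (add : ∀ x y, motive x → motive y → motive (x + y)) : motive x := by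
  unfold Gall at hx
  refine AddSubgroup.iSup_induction (fun i => Mpc P φ ℓ k i) (C := motive) hx ?_ zero add
  intro i x hx
  obtain ⟨a, ha, rfl⟩ := mem_Mpc.mp hx
  exact mem i a ha

lemma Gall_mul {a b : ℕ} {x x' : B} (hx : x ∈ Gall P φ ℓ a) (hx' : x' ∈ Gall P φ ℓ b) :
    x * x' ∈ Gall P φ ℓ (a + b) := by
  refine Gall_induction (motive := fun x => x * x' ∈ Gall P φ ℓ (a + b)) hx ?_ ?_ ?_
  · intro i c hc
    refine Gall_induction
      (motive := fun x' => φ c * (ℓ - 1) ^ i * x' ∈ Gall P φ ℓ (a + b)) hx' ?_ ?_ ?_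
    · intro i' c' hc'
      have h1 : φ c * (ℓ - 1) ^ i * (φ c' * (ℓ - 1) ^ i') = φ (c * c') * (ℓ - 1) ^ (i + i') := by
        rw [map_mul, pow_add]; ring
      rw [h1]
      apply Mpc_le_Gall (a + b) (i + i')
      apply mul_mem_Mpc
      exact filt_anti P (by omega) (filt_mul P hc hc')
    · rw [mul_zero]; exact AddSubgroup.zero_mem _
    · intro u v hu hv
      rw [mul_add]; exact AddSubgroup.add_mem _ hu hv
  · rw [zero_mul]; exact AddSubgroup.zero_mem _
  · intro u v hu hv
    rw [add_mul]; exact AddSubgroup.add_mem _ hu hv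

lemma Gall_anti {a b : ℕ} (h : b ≤ a) : Gall P φ ℓ a ≤ Gall P φ ℓ b := by
  unfold Gall
  apply iSup_le
  intro i
  refine le_trans ?_ (Mpc_le_Gall b i)
  intro x hx
  obtain ⟨c, hc, rfl⟩ := mem_Mpc.mp hx
  exact mul_mem_Mpc (filt_anti P (by omega) hc)

lemma one_mem_Gall : (1 : B) ∈ Gall P φ ℓ 0 := by
  apply Mpc_le_Gall 0 0
  have h := mul_mem_Mpc (φ := φ) (ℓ := ℓ) (k := 0) (i := 0) (one_mem_filt_zero P)
  rwa [map_one, pow_zero, mul_one] at h

lemma Gall_pow {a : ℕ} {x : B} (hx : x ∈ Gall P φ ℓ a) (n : ℕ) : x ^ n ∈ Gall P φ ℓ (a * n) := by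
  induction n with
  | zero => rw [pow_zero, Nat.mul_zero]; exact one_mem_Gall
  | succ n ih => rw [pow_succ, Nat.mul_succ]; exact Gall_mul ih hx

/-- elements all of whose `γ^n` lie in `Gall n` -/
def TT (P : PosStructure K) (φ : K →+* B) (ℓ : B) : Set B := {x | ∀ n, gamma n x ∈ Gall P φ ℓ n}

lemma TT_zero : (0 : B) ∈ TT P φ ℓ := by
  intro n
  rw [gamma_zero_right]
  split_ifs with h
  · subst h; exact one_mem_Gall
  · exact AddSubgroup.zero_mem _

lemma TT_add {x x' : B} (hx : x ∈ TT P φ ℓ) (hx' : x' ∈ TT P φ ℓ) : x + x' ∈ TT P φ ℓ := by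
  intro n
  rw [gamma_add]
  apply AddSubgroup.sum_mem
  intro i hi
  have hin : i < n + 1 := Finset.mem_range.mp hi
  have h := Gall_mul (hx i) (hx' (n - i))
  rwa [show i + (n - i) = n by omega] at h

lemma TT_neg {x : B} (hx : x ∈ TT P φ ℓ) : -x ∈ TT P φ ℓ := by
  intro n
  induction n using Nat.strong_induction_on with
  | _ n ih =>
    rcases Nat.eq_zero_or_pos n with rfl | hn
    · rw [gamma_zero_left]; exact one_mem_Gall
    · have h := gamma_add n x (-x)
      rw [add_neg_cancel, gamma_zero_right, if_neg hn.ne', Finset.sum_range_succ', gamma_zero_left,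
        one_mul, Nat.sub_zero] at h
      have h2 : gamma n (-x) = -∑ i ∈ range n, gamma (i + 1) x * gamma (n - (i + 1)) (-x) :=
        eq_neg_of_add_eq_zero_right h.symm
      rw [h2]
      apply AddSubgroup.neg_mem
      apply AddSubgroup.sum_mem
      intro i hi
      have hin : i < n := Finset.mem_range.mp hi
      have h3 := Gall_mul (hx (i + 1)) (ih (n - (i + 1)) (by omega))
      rwa [show i + 1 + (n - (i + 1)) = n by omega] at h3

lemma TT_sub {x x' : B} (hx : x ∈ TT P φ ℓ) (hx' : x' ∈ TT P φ ℓ) : x - x' ∈ TT P φ ℓ := by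
  rw [sub_eq_add_neg]
  exact TT_add hx (TT_neg hx')

/-- if `ker ε ⊆ TT` then `F^k B ⊆ Gall k` -/
lemma filt_le_Gall (hT : ∀ x : B, PB.aug x = 0 → x ∈ TT P φ ℓ) (k : ℕ)
    (hk : k ≠ 0) : gammaFiltration PB k ≤ Gall P φ ℓ k := by
  rw [Groth.Agent.S3291.filt_pos PB hk, AddSubgroup.closure_le]
  rintro y ⟨l, hl, hsum, rfl⟩
  refine Gall_anti hsum ?_
  clear hsum
  induction l with
  | nil => simpa using one_mem_Gall
  | cons p l ih =>
    rw [List.map_cons, List.sum_cons, List.map_cons, List.prod_cons]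
    exact Gall_mul (hT p.2 (hl p List.mem_cons_self) p.1)
      (ih fun q hq => hl q (List.mem_cons_of_mem p hq))

end ext

/-- the generators `φ(p) ℓ^j - ε(p)` lie in `TT` -/
lemma gen_mem_TT {P : PosStructure K} {PB : PosStructure B} {φ : K →+* B} {ℓ : B}
    (hφ : IsExtension P PB φ) (hℓ : PB.IsLine ℓ) (hsplit : HasSplitting B PB)
    {p : K} (hp : p ∈ P.pos) (j : ℕ) :
    φ p * ℓ ^ j - ((P.aug p).toNat : B) ∈ TT P φ ℓ := by
  intro n
  obtain ⟨L, f, hf, hL, sv, hsv, hsum⟩ := exists_split' hsplit (hφ.pos_subset p hp)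
  have haug : P.aug p = (Multiset.card sv : ℤ) := by
    rw [← hφ.aug_comp, ← hf.aug_comp, ← hsum, aug_sum_lines _ sv hsv]
  set s := (P.aug p).toNat with hs
  have hcard : Multiset.card sv = s := by rw [hs, haug, Int.toNat_natCast]
  obtain ⟨v, hv⟩ := exists_enum sv s hcard
  have hvline : ∀ a, L.posStr.IsLine (v a) := by
    intro a
    apply hsv
    rw [← hv]
    exact Multiset.mem_map_of_mem v (Finset.mem_univ_val a)
  have hfp : f (φ p) = ∑ a : Fin s, v a := by rw [← hsum, ← hv]; rfl
  have hfl : L.posStr.IsLine (f ℓ) := IsExtension.isLine hf hℓ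
  -- the element in `L`
  have hfx : f (φ p * ℓ ^ j - (s : B)) = ∑ a : Fin s, (v a * f ℓ ^ j - 1) := by
    rw [map_sub, map_mul, map_pow, map_natCast, hfp, Finset.sum_mul, Finset.sum_sub_distrib]
    simp
  have hUline : ∀ a, L.posStr.IsLine (v a * f ℓ ^ j) :=
    fun a => isLine_mul _ (hvline a) (isLine_pow _ hfl j)
  -- the universal polynomials
  choose Q hQwt hQ using fun b => exists_Hcoeff s j n b
  have hz : P.aug (p - (s : K)) = 0 := by rw [map_sub, map_natCast, aug_toNat hp, sub_self]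
  have hval : gamma n (φ p * ℓ ^ j - (s : B)) =
      ∑ b ∈ Finset.range ((Hpoly s j n).natDegree + 1),
        φ (MvPolynomial.aeval (fun k : Fin s => gamma (k.1 + 1) (p - (s : K))) (Q b)) *
          (ℓ - 1) ^ b := by
    apply hf.injective
    rw [map_gamma hf.isLambdaHom, hfx, gamma_sum_sub_one L.posStr _ hUline]
    have h1 : ∀ a : Fin s, v a * f ℓ ^ j - 1 = (1 + (v a - 1)) * (1 + (f ℓ - 1)) ^ j - 1 := by
      intro a; ring
    simp only [h1]
    rw [sum_prod_eq_of_Hcoeff s j n Q hQ (fun a => v a - 1) (f ℓ - 1), map_sum]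
    apply Finset.sum_congr rfl
    intro b _
    rw [map_mul, map_pow, map_sub, map_one]
    congr 1
    have h2 : f (φ (MvPolynomial.aeval (fun k : Fin s => gamma (k.1 + 1) (p - (s : K))) (Q b))) =
        MvPolynomial.aeval (fun k : Fin s => f (φ (gamma (k.1 + 1) (p - (s : K))))) (Q b) :=
      MvPolynomial.comp_aeval_apply _ ((f.comp φ).toIntAlgHom) (Q b)
    have h4 : (fun k : Fin s => f (φ (gamma (k.1 + 1) (p - (s : K))))) =
        fun k : Fin s => ∑ t ∈ powersetCard (k.1 + 1) (univ : Finset (Fin s)),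
          ∏ a ∈ t, (v a - 1) := by
      funext k
      rw [map_gamma hφ.isLambdaHom, map_gamma hf.isLambdaHom, map_sub, map_sub, map_natCast,
        map_natCast, hfp, ← gamma_sum_sub_one L.posStr v hvline, Finset.sum_sub_distrib]
      simp
    rw [h2, h4]
  rw [hval]
  apply AddSubgroup.sum_mem
  intro b _
  apply Mpc_le_Gall n b
  apply mul_mem_Mpc
  exact aeval_gamma_mem P hz s (n - b) (Q b) (hQwt b)

/-- if `B` is additively generated by the `φ(a) ℓ^j`, then `ker ε ⊆ TT` -/
lemma ker_aug_subset_TT {P : PosStructure K} {PB : PosStructure B} {φ : K →+* B} {ℓ : B}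
    (hφ : IsExtension P PB φ) (hℓ : PB.IsLine ℓ) (hsplit : HasSplitting B PB)
    (hgen : ∀ x : B, x ∈ AddSubgroup.closure {z : B | ∃ (a : K) (j : ℕ), z = φ a * ℓ ^ j})
    (x : B) (hx : PB.aug x = 0) : x ∈ TT P φ ℓ := by
  have key : ∀ x : B, x - ((PB.aug x : ℤ) : B) ∈ TT P φ ℓ := by
    intro x
    induction hgen x using AddSubgroup.closure_induction with
    | mem z hz =>
      obtain ⟨a, j, rfl⟩ := hz
      obtain ⟨p, p', hp, hp', rfl⟩ := P.exists_sub a
      have h1 := gen_mem_TT hφ hℓ hsplit hp j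
      have h2 := gen_mem_TT hφ hℓ hsplit hp' j
      have e1 : ∀ q : K, q ∈ P.pos → ((P.aug q : ℤ) : B) = (((P.aug q).toNat : ℕ) : B) := by
        intro q hq
        rw [← Int.cast_natCast (R := B) ((P.aug q).toNat), aug_toNat hq]
      have h3 : φ (p - p') * ℓ ^ j - ((PB.aug (φ (p - p') * ℓ ^ j) : ℤ) : B) =
          (φ p * ℓ ^ j - ((P.aug p).toNat : B)) - (φ p' * ℓ ^ j - ((P.aug p').toNat : B)) := by
        rw [map_mul, map_pow, hℓ.2, one_pow, mul_one, hφ.aug_comp, map_sub, map_sub, Int.cast_sub,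
          e1 p hp, e1 p' hp']
        ring
      rw [h3]
      exact TT_sub h1 h2
    | zero => simpa using TT_zero
    | add y z _ _ hy hz =>
      have h : y + z - ((PB.aug (y + z) : ℤ) : B) =
          (y - ((PB.aug y : ℤ) : B)) + (z - ((PB.aug z : ℤ) : B)) := by
        rw [map_add]; push_cast; ring
      rw [h]
      exact TT_add hy hz
    | neg y _ hy =>
      have h : -y - ((PB.aug (-y) : ℤ) : B) = -(y - ((PB.aug y : ℤ) : B)) := by
        rw [map_neg]; push_cast; ring
      rw [h]
      exact TT_neg hy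
  have h := key x
  rwa [hx, Int.cast_zero, sub_zero] at h

/-! ### the relation satisfied by `ℓ - 1` -/

lemma prod_X_sub_C_eq_sum {R : Type*} [CommRing R] {m : ℕ} (U : Fin m → R) :
    ∏ k : Fin m, (Polynomial.X - Polynomial.C (U k)) =
      ∑ c ∈ range (m + 1), (-1 : Polynomial R) ^ c *
        (Polynomial.C (∑ t ∈ powersetCard c (univ : Finset (Fin m)), ∏ a ∈ t, U a) *
          Polynomial.X ^ (m - c)) := by
  have h := Multiset.prod_X_sub_X_eq_sum_esymm (Finset.univ.val.map U)
  rw [Multiset.map_map, Multiset.card_map, Finset.card_val, Finset.card_univ, Fintype.card_fin] at h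
  simp only [Finset.esymm_map_val] at h
  rw [← h]
  rfl

/-- `∑ (-1)^c λ^c(e) (1+X)^{m-c} = ∑ (-1)^c γ^c(e-m) X^{m-c}` -/
lemma poly_shift_identity {P : PosStructure K} (hK : HasSplitting K P) {e : K} (he : e ∈ P.pos) :
    ∑ c ∈ range ((P.aug e).toNat + 1), Polynomial.C ((-1 : K) ^ c * LambdaOps.lam c e) *
        (1 + Polynomial.X) ^ ((P.aug e).toNat - c) =
      ∑ c ∈ range ((P.aug e).toNat + 1),
        Polynomial.C ((-1 : K) ^ c * gamma c (e - ((P.aug e).toNat : K))) *
          Polynomial.X ^ ((P.aug e).toNat - c) := by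
  obtain ⟨L, f, hf, sm, hsm, hsum⟩ := exists_split hK he
  have haug : P.aug e = (Multiset.card sm : ℤ) := by
    rw [← hf.aug_comp, ← hsum, aug_sum_lines _ sm hsm]
  set m := (P.aug e).toNat with hm
  have hcard : Multiset.card sm = m := by rw [hm, haug, Int.toNat_natCast]
  obtain ⟨U, hU⟩ := exists_enum sm m hcard
  have hUline : ∀ k, L.posStr.IsLine (U k) := by
    intro k
    apply hsm
    rw [← hU]
    exact Multiset.mem_map_of_mem U (Finset.mem_univ_val k)
  have hfe : f e = ∑ k : Fin m, U k := by rw [← hsum, ← hU]; rfl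
  have hfz : f (e - (m : K)) = ∑ k : Fin m, (U k - 1) := by
    rw [map_sub, map_natCast, hfe, Finset.sum_sub_distrib]
    simp
  apply Polynomial.map_injective f hf.injective
  -- the key identity in `L[X]`
  have key : (∏ k : Fin m, (Polynomial.X - Polynomial.C (U k))).comp (1 + Polynomial.X) =
      ∏ k : Fin m, (Polynomial.X - Polynomial.C (U k - 1)) := by
    rw [Polynomial.prod_comp]
    apply Finset.prod_congr rfl
    intro k _
    rw [Polynomial.sub_comp, Polynomial.X_comp, Polynomial.C_comp, map_sub, map_one]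
    ring
  rw [prod_X_sub_C_eq_sum U, prod_X_sub_C_eq_sum (fun k => U k - 1)] at key
  have hlam : ∀ c ∈ range (m + 1), f (LambdaOps.lam c e) =
      ∑ t ∈ powersetCard c (univ : Finset (Fin m)), ∏ a ∈ t, U a := by
    intro c hc
    have hcm : c ≤ m := by have := Finset.mem_range.mp hc; omega
    have hs : ∀ a ∈ (Finset.univ.val.map U), L.posStr.IsLine a := by
      intro a ha
      obtain ⟨k, -, rfl⟩ := Multiset.mem_map.mp ha
      exact hUline k
    have h1 := lam_sum_lines L.posStr (Finset.univ.val.map U) hs c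
    rw [coeff_linProd_eq_esymm _ _ (by simpa using hcm), Finset.esymm_map_val] at h1
    rw [hf.isLambdaHom, hfe]
    exact h1
  rw [Polynomial.map_sum, Polynomial.map_sum]
  calc ∑ c ∈ range (m + 1), Polynomial.map f (Polynomial.C ((-1 : K) ^ c * LambdaOps.lam c e) *
        (1 + Polynomial.X) ^ (m - c))
      = (∑ c ∈ range (m + 1), (-1 : Polynomial L.carrier) ^ c *
          (Polynomial.C (∑ t ∈ powersetCard c (univ : Finset (Fin m)), ∏ a ∈ t, U a) *
            Polynomial.X ^ (m - c))).comp (1 + Polynomial.X) := by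
        rw [Polynomial.sum_comp]
        apply Finset.sum_congr rfl
        intro c hc
        rw [Polynomial.map_mul, Polynomial.map_C, map_mul, map_pow, map_neg, map_one, hlam c hc]
        simp only [Polynomial.mul_comp, Polynomial.pow_comp, Polynomial.neg_comp,
          Polynomial.one_comp, Polynomial.C_comp, Polynomial.X_comp, Polynomial.map_pow,
          Polynomial.map_add, Polynomial.map_one, Polynomial.map_X, map_mul, map_pow, map_neg,
          map_one]
        ring
    _ = _ := by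
        rw [key]
        apply Finset.sum_congr rfl
        intro c _
        rw [Polynomial.map_mul, Polynomial.map_C, map_mul, map_pow, map_neg, map_one,
          map_gamma hf.isLambdaHom, hfz, gamma_sum_sub_one L.posStr U hUline]
        simp only [Polynomial.map_pow, Polynomial.map_X, map_mul, map_pow, map_neg, map_one]
        ring

/-- the relation `∑ (-1)^c φ(γ^c(e-m)) (ℓ-1)^{m-c} = 0` -/
lemma shifted_relation {P : PosStructure K} (hK : HasSplitting K P) {e : K} (he : e ∈ P.pos)
    (φ : K →+* B) (ℓ : B)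
    (hrel : ∑ c ∈ range ((P.aug e).toNat + 1),
      φ ((-1 : K) ^ c * LambdaOps.lam c e) * ℓ ^ ((P.aug e).toNat - c) = 0) :
    ∑ c ∈ range ((P.aug e).toNat + 1),
      φ ((-1 : K) ^ c * gamma c (e - ((P.aug e).toNat : K))) * (ℓ - 1) ^ ((P.aug e).toNat - c)
        = 0 := by
  have h := congrArg (Polynomial.eval₂ φ (ℓ - 1)) (poly_shift_identity hK he)
  rw [Polynomial.eval₂_finsetSum, Polynomial.eval₂_finsetSum] at h
  simp only [Polynomial.eval₂_mul, Polynomial.eval₂_C, Polynomial.eval₂_pow, Polynomial.eval₂_add,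
    Polynomial.eval₂_one, Polynomial.eval₂_X, add_sub_cancel] at h
  rw [← h]
  exact hrel

/-! ### the main theorem -/

/-- the bounded sum of pieces -/
def Gbd (P : PosStructure K) (φ : K →+* B) (ℓ : B) (m k : ℕ) : AddSubgroup B :=
  ⨆ i ∈ Finset.range m, Mpc P φ ℓ k i

/-- every piece lies in the bounded sum, thanks to the relation -/
lemma Mpc_le_Gbd {P : PosStructure K} {e : K} (he : e ∈ P.pos) (φ : K →+* B) (ℓ : B)
    (hrel : ∑ c ∈ range ((P.aug e).toNat + 1),
      φ ((-1 : K) ^ c * gamma c (e - ((P.aug e).toNat : K))) * (ℓ - 1) ^ ((P.aug e).toNat - c)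
        = 0) (k i : ℕ) :
    Mpc P φ ℓ k i ≤ Gbd P φ ℓ (P.aug e).toNat k := by
  have haugz : P.aug (e - ((P.aug e).toNat : K)) = 0 := by
    rw [map_sub, map_natCast, aug_toNat he, sub_self]
  set m := (P.aug e).toNat with hm
  induction i using Nat.strong_induction_on with
  | _ i ih =>
    by_cases him : i < m
    · exact le_biSup (fun i => Mpc P φ ℓ k i) (Finset.mem_range.mpr him)
    · push Not at him
      intro x hx
      obtain ⟨a, ha, rfl⟩ := mem_Mpc.mp hx
      -- the relation solved for `(ℓ-1)^m`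
      have hy : (ℓ - 1) ^ m = -∑ c ∈ range m,
          φ ((-1 : K) ^ (c + 1) * gamma (c + 1) (e - (m : K))) * (ℓ - 1) ^ (m - (c + 1)) := by
        rw [Finset.sum_range_succ', pow_zero, one_mul, gamma_zero_left, map_one, one_mul,
          Nat.sub_zero] at hrel
        exact eq_neg_of_add_eq_zero_right hrel
      have h1 : φ a * (ℓ - 1) ^ i = -∑ c ∈ range m,
          φ (a * ((-1 : K) ^ (c + 1) * gamma (c + 1) (e - (m : K)))) *
            (ℓ - 1) ^ (i - (c + 1)) := by
        have hi : i = (i - m) + m := by omega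
        conv_lhs => rw [hi, pow_add, hy]
        rw [mul_neg, mul_neg, neg_inj, Finset.mul_sum, Finset.mul_sum]
        apply Finset.sum_congr rfl
        intro c hc
        have hcm : c < m := Finset.mem_range.mp hc
        rw [show i - (c + 1) = (i - m) + (m - (c + 1)) by omega, pow_add]
        simp only [map_mul]
        ring
      rw [h1]
      apply AddSubgroup.neg_mem
      apply AddSubgroup.sum_mem
      intro c hc
      have hcm : c < m := Finset.mem_range.mp hc
      apply ih (i - (c + 1)) (by omega)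
      apply mul_mem_Mpc
      have h2 : a * ((-1 : K) ^ (c + 1) * gamma (c + 1) (e - (m : K))) ∈
          gammaFiltration P ((k - i) + (c + 1)) :=
        filt_mul P ha (filt_smul P _ (gamma_mem_gammaFiltration P haugz (c + 1)))
      exact filt_anti P (by omega) h2

/-- the γ-filtration of an extension generated by a line element `ℓ` satisfying the relation
`p_e(ℓ) = 0` (S3782) -/
theorem gammaFiltration_ext_eq {P : PosStructure K} (hK : HasSplitting K P) {e : K}
    (he : e ∈ P.pos) {PB : PosStructure B} {φ : K →+* B} {ℓ : B}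
    (hφ : IsExtension P PB φ) (hℓ : PB.IsLine ℓ) (hsplit : HasSplitting B PB)
    (hgen : ∀ x : B, x ∈ AddSubgroup.closure {z : B | ∃ (a : K) (j : ℕ), z = φ a * ℓ ^ j})
    (hrel : ∑ c ∈ range ((P.aug e).toNat + 1),
      φ ((-1 : K) ^ c * LambdaOps.lam c e) * ℓ ^ ((P.aug e).toNat - c) = 0) (k : ℕ) :
    gammaFiltration PB k = ⨆ i ∈ Finset.range (P.aug e).toNat, Mpc P φ ℓ k i := by
  have hrel' := shifted_relation hK he φ ℓ hrel
  have hGall : Gall P φ ℓ k ≤ Gbd P φ ℓ (P.aug e).toNat k := by
    unfold Gall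
    exact iSup_le fun i => Mpc_le_Gbd he φ ℓ hrel' k i
  have hy1 : ℓ - 1 ∈ gammaFiltration PB 1 := by
    apply mem_gammaFiltration_one_of_aug_eq_zero
    rw [map_sub, hℓ.2, map_one, sub_self]
  apply le_antisymm
  · refine le_trans ?_ hGall
    by_cases hk : k = 0
    · subst hk
      rw [Groth.Agent.S3291.filt_zero]
      rintro x -
      have hmem : ∀ a : K, φ a ∈ Gall P φ ℓ 0 := by
        intro a
        apply Mpc_le_Gall 0 0
        have h := mul_mem_Mpc (P := P) (φ := φ) (ℓ := ℓ) (k := 0) (i := 0) (a := a)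
          (by rw [Groth.Agent.S3291.filt_zero]; exact AddSubgroup.mem_top _)
        rwa [pow_zero, mul_one] at h
      have hℓmem : ℓ ∈ Gall P φ ℓ 0 := by
        have h1 : ℓ - 1 ∈ Gall P φ ℓ 0 := by
          apply Mpc_le_Gall 0 1
          have h := mul_mem_Mpc (P := P) (φ := φ) (ℓ := ℓ) (k := 0) (i := 1) (a := 1)
            (by rw [Groth.Agent.S3291.filt_zero]; exact AddSubgroup.mem_top _)
          rwa [map_one, one_mul, pow_one] at h
        have h2 := AddSubgroup.add_mem _ h1 (one_mem_Gall (P := P) (φ := φ) (ℓ := ℓ))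
        rwa [sub_add_cancel] at h2
      induction hgen x using AddSubgroup.closure_induction with
      | mem z hz =>
        obtain ⟨a, j, rfl⟩ := hz
        have h3 := Gall_mul (hmem a) (Gall_pow hℓmem j)
        rwa [Nat.zero_mul, Nat.add_zero] at h3
      | zero => exact AddSubgroup.zero_mem _
      | add y z _ _ hy hz => exact AddSubgroup.add_mem _ hy hz
      | neg y _ hy => exact AddSubgroup.neg_mem _ hy
    · exact filt_le_Gall (PB := PB) (ker_aug_subset_TT hφ hℓ hsplit hgen) k hk
  · apply iSup₂_le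
    intro i _ x hx
    obtain ⟨a, ha, rfl⟩ := mem_Mpc.mp hx
    have h1 := map_mem_gammaFiltration hφ ha
    have h2 := filt_pow PB hy1 i
    rw [one_mul] at h2
    exact filt_anti PB (by omega) (filt_mul PB h1 h2)

end Groth.Agent.Lib.Helper17.Lam
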