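import Groth.Agent.Lib.Helper17.LambdaGamma
import Groth.Prelude.Def_W4bkmilneecrracsp2Inv
import Mathlib.Algebra.Polynomial.Reverse
import Mathlib.Algebra.Polynomial.BigOperators
import Mathlib.RingTheory.PowerSeries.Basic

/-!
# λ-rings with involution: duality `λ^i(e) = λ^{m-i}(e^∨) λ^m(e)` (helper17)
-/

set_option autoImplicit false

universe u

open Finset LambdaRing

namespace Groth.Agent.Lib.Helper17.Lam

section poly

open Polynomial

variable {R : Type*} [CommRing R]

/-- `∏ (1 + u X)` -/
noncomputable def linProd (s : Multiset R) : R[X] := (s.map fun u => 1 + C u * X).prod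

lemma linProd_zero : linProd (0 : Multiset R) = 1 := by simp [linProd]

lemma linProd_cons (u : R) (s : Multiset R) : linProd (u ::ₘ s) = (1 + C u * X) * linProd s := by
  simp [linProd]

lemma natDegree_lin_le (u : R) : (1 + C u * X : R[X]).natDegree ≤ 1 := by
  refine (natDegree_add_le _ _).trans ?_
  rw [natDegree_one]
  exact max_le (Nat.zero_le _) ((natDegree_C_mul_le u X).trans natDegree_X_le)

lemma natDegree_linProd_le (s : Multiset R) : (linProd s).natDegree ≤ Multiset.card s := by
  induction s using Multiset.induction_on with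
  | empty => simp [linProd_zero]
  | cons u t ih =>
    rw [linProd_cons, Multiset.card_cons]
    refine natDegree_mul_le.trans ?_
    have := natDegree_lin_le u
    omega

lemma coeff_zero_linProd (s : Multiset R) : (linProd s).coeff 0 = 1 := by
  induction s using Multiset.induction_on with
  | empty => simp [linProd_zero]
  | cons u t ih => rw [linProd_cons, mul_coeff_zero, ih]; simp

lemma reflect_lin (u : R) : reflect 1 (1 + C u * X : R[X]) = X + C u := by
  rw [reflect_add]
  have h1 : reflect 1 (1 : R[X]) = X := by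
    have := reflect_C (1 : R) 1
    simpa using this
  have h2 : reflect 1 (C u * X : R[X]) = C u := by
    have := reflect_C_mul_X_pow 1 1 (c := u)
    simpa [revAt_le (le_refl 1)] using this
  rw [h1, h2]

/-- reversal: if `v u = 1` for all pairs, `X^n ∏(1 + u X⁻¹) = ∏ u · ∏ (1 + v X)` -/
lemma reflect_linProd (inv : R → R) (s : Multiset R) (hs : ∀ u ∈ s, inv u * u = 1) :
    reflect (Multiset.card s) (linProd s) = C s.prod * linProd (s.map inv) := by
  induction s using Multiset.induction_on with
  | empty => simp [linProd_zero]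
  | cons u t ih =>
    have hu : inv u * u = 1 := hs u (Multiset.mem_cons_self u t)
    have ht : ∀ b ∈ t, inv b * b = 1 := fun b hb => hs b (Multiset.mem_cons_of_mem hb)
    rw [linProd_cons, Multiset.card_cons, add_comm,
      reflect_mul _ _ (natDegree_lin_le u) (natDegree_linProd_le t), ih ht, reflect_lin,
      Multiset.map_cons, linProd_cons, Multiset.prod_cons, C_mul]
    have : (X + C u : R[X]) = C u * (1 + C (inv u) * X) := by
      rw [mul_add, mul_one, ← mul_assoc, ← C_mul, mul_comm u, hu, C_1, one_mul, add_comm]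
    rw [this]
    ring

lemma coeff_linProd_eq (inv : R → R) (s : Multiset R) (hs : ∀ u ∈ s, inv u * u = 1) (i : ℕ)
    (hi : i ≤ Multiset.card s) :
    (linProd s).coeff i = (linProd (s.map inv)).coeff (Multiset.card s - i) * s.prod := by
  have h := congrArg (fun p => p.coeff (Multiset.card s - i)) (reflect_linProd inv s hs)
  simp only [coeff_reflect, coeff_C_mul] at h
  rw [revAt_le (Nat.sub_le _ _), Nat.sub_sub_self hi] at h
  rw [h, mul_comm]

lemma coeff_card_linProd (inv : R → R) (s : Multiset R) (hs : ∀ u ∈ s, inv u * u = 1) :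
    (linProd s).coeff (Multiset.card s) = s.prod := by
  rw [coeff_linProd_eq inv s hs _ le_rfl, Nat.sub_self, coeff_zero_linProd, one_mul]

end poly

variable {K : Type u} [CommRing K] [LambdaOps K]

open PowerSeries in
lemma lamSeries_sum_lines (P : PosStructure K) (s : Multiset K) (hs : ∀ a ∈ s, P.IsLine a) :
    lamSeries s.sum = ((linProd s : Polynomial K) : PowerSeries K) := by
  induction s using Multiset.induction_on with
  | empty => rw [Multiset.sum_zero, lamSeries_zero, linProd_zero, Polynomial.coe_one]
  | cons a t ih =>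
    have ha : P.IsLine a := hs a (Multiset.mem_cons_self a t)
    have ht : ∀ b ∈ t, P.IsLine b := fun b hb => hs b (Multiset.mem_cons_of_mem hb)
    rw [Multiset.sum_cons, lamSeries_add, ih ht, lamSeries_of_isLine P ha, linProd_cons,
      Polynomial.coe_mul, Polynomial.coe_add, Polynomial.coe_one, Polynomial.coe_mul,
      Polynomial.coe_C, Polynomial.coe_X]

lemma lam_sum_lines (P : PosStructure K) (s : Multiset K) (hs : ∀ a ∈ s, P.IsLine a) (i : ℕ) :
    LambdaOps.lam i s.sum = (linProd s).coeff i := by
  rw [← coeff_lamSeries, lamSeries_sum_lines P s hs, Polynomial.coeff_coe]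

/-- the involution as an additive map -/
def invAddHom {P : PosStructure K} {inv : K → K} (h : IsInvolution P inv) : K →+ K where
  toFun := inv
  map_zero' := by
    have := h.map_add 0 0
    rw [add_zero] at this
    exact left_eq_add.mp this
  map_add' := h.map_add

lemma inv_multiset_sum {P : PosStructure K} {inv : K → K} (h : IsInvolution P inv)
    (s : Multiset K) : inv s.sum = (s.map inv).sum :=
  map_multiset_sum (invAddHom h) s

/-- duality in the split situation -/
lemma lam_sum_lines_duality (P : PosStructure K) {inv : K → K} (h : IsInvolution P inv)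
    (s : Multiset K) (hs : ∀ a ∈ s, P.IsLine a) (i : ℕ) (hi : i ≤ Multiset.card s) :
    LambdaOps.lam i s.sum =
      LambdaOps.lam (Multiset.card s - i) (inv s.sum) * LambdaOps.lam (Multiset.card s) s.sum := by
  have hs' : ∀ a ∈ s.map inv, P.IsLine a := by
    intro a ha
    obtain ⟨b, hb, rfl⟩ := Multiset.mem_map.mp ha
    exact h.inv_line b (hs b hb)
  have hinv : ∀ u ∈ s, inv u * u = 1 := fun u hu => h.inv_mul_self u (hs u hu)
  rw [lam_sum_lines P s hs, lam_sum_lines P s hs, inv_multiset_sum h,
    lam_sum_lines P _ hs', coeff_card_linProd inv s hinv, coeff_linProd_eq inv s hinv i hi]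

/-- `λ^i(e) = λ^{m-i}(e^∨) λ^m(e)` (S8133) -/
theorem lam_duality {P : PosStructure K} {inv : K → K} (hS : HasInvSplitting P inv)
    {e : K} (he : e ∈ P.pos) (i : ℕ) (hi : i ≤ (P.aug e).toNat) :
    LambdaOps.lam i e =
      LambdaOps.lam ((P.aug e).toNat - i) (inv e) * LambdaOps.lam (P.aug e).toNat e := by
  obtain ⟨L, inv', f, hf, hinv', hcompat, s, hs, hsum⟩ := hS e he
  have haug : P.aug e = (Multiset.card s : ℤ) := by
    rw [← hf.aug_comp, ← hsum, aug_sum_lines _ s hs]
  have hm : (P.aug e).toNat = Multiset.card s := by rw [haug, Int.toNat_natCast]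
  apply hf.injective
  rw [map_mul, hf.isLambdaHom, hf.isLambdaHom, hf.isLambdaHom, hcompat, ← hsum, hm]
  exact lam_sum_lines_duality L.posStr hinv' s hs i (hm ▸ hi)

/-- split form of `γ^n(e - n) = λ_{-1}(e^∨) λ^n(e)` -/
lemma gamma_sum_lines (P : PosStructure K) {inv : K → K} (h : IsInvolution P inv)
    (t : Multiset K) (ht : ∀ a ∈ t, P.IsLine a) :
    gamma (Multiset.card t) (t.sum - (Multiset.card t : K)) =
      (∑ i ∈ range (Multiset.card t + 1), (-1 : K) ^ i * LambdaOps.lam i (inv t.sum)) *
        LambdaOps.lam (Multiset.card t) t.sum := by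
  set m := Multiset.card t with hm
  have h1 := lamAlt_eq_gamma P t.sum m
  have hsq : ((-1 : K) ^ m) * ((-1 : K) ^ m) = 1 := by
    rw [← mul_pow]; norm_num
  have h2 : gamma m (t.sum - (m : K)) =
      (-1 : K) ^ m * ∑ i ∈ range (m + 1), (-1 : K) ^ i * LambdaOps.lam i t.sum := by
    rw [h1, ← mul_assoc, hsq, one_mul]
  rw [h2, Finset.mul_sum, ← Finset.sum_range_reflect, Finset.sum_mul]
  apply Finset.sum_congr rfl
  intro i hi
  have hi' : i ≤ m := by
    have := Finset.mem_range.mp hi; omega
  have hidx : m + 1 - 1 - i = m - i := by omega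
  rw [hidx, lam_sum_lines_duality P h t ht (m - i) (Nat.sub_le _ _), Nat.sub_sub_self hi']
  have hsign : (-1 : K) ^ m * (-1 : K) ^ (m - i) = (-1 : K) ^ i := by
    rw [← pow_add]
    have : m + (m - i) = i + 2 * (m - i) := by omega
    rw [this, pow_add, pow_mul]
    norm_num
  rw [← mul_assoc, ← mul_assoc, hsign]

lemma gamma_one (x : K) : gamma 1 x = x := by
  unfold gamma
  rw [if_neg one_ne_zero, Finset.sum_range_succ, Finset.sum_range_one]
  simp [LambdaOps.lam_one]

lemma mem_gammaFiltration_one_of_aug_eq_zero (P : PosStructure K) {y : K} (hy : P.aug y = 0) :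
    y ∈ gammaFiltration P 1 := by
  have := gamma_mem_gammaFiltration P hy 1
  rwa [gamma_one] at this

/-- `γ^d(q^∨ - d) ≡ λ_{-1}(q)` modulo `F^{d+1}` (S8135) -/
theorem gamma_inv_sub_lamAlt_mem {P : PosStructure K} {inv : K → K}
    (hS : HasInvSplitting P inv) {q : K} (hq : q ∈ P.pos) :
    gamma (P.aug q).toNat (inv q - ((P.aug q).toNat : K)) -
        (∑ i ∈ range ((P.aug q).toNat + 1), (-1 : K) ^ i * LambdaOps.lam i q) ∈
      gammaFiltration P ((P.aug q).toNat + 1) := by
  obtain ⟨L, inv', f, hf, hinv', hcompat, s, hs, hsum⟩ := hS q hq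
  have haug : P.aug q = (Multiset.card s : ℤ) := by
    rw [← hf.aug_comp, ← hsum, aug_sum_lines _ s hs]
  have hm : (P.aug q).toNat = Multiset.card s := by rw [haug, Int.toNat_natCast]
  set d := (P.aug q).toNat with hd
  -- the dual multiset
  have ht : ∀ a ∈ s.map inv', L.posStr.IsLine a := by
    intro a ha
    obtain ⟨b, hb, rfl⟩ := Multiset.mem_map.mp ha
    exact hinv'.inv_line b (hs b hb)
  have hcard : Multiset.card (s.map inv') = d := by rw [Multiset.card_map, hm]
  have htsum : (s.map inv').sum = f (inv q) := by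
    rw [← inv_multiset_sum hinv', hsum, hcompat]
  have hinvt : inv' (s.map inv').sum = f q := by
    rw [htsum, hcompat, hinv'.inv_inv]
  -- the identity (★) in K
  have hstar : gamma d (inv q - (d : K)) =
      (∑ i ∈ range (d + 1), (-1 : K) ^ i * LambdaOps.lam i q) * LambdaOps.lam d (inv q) := by
    apply hf.injective
    have h := gamma_sum_lines L.posStr hinv' (s.map inv') ht
    rw [hcard, hinvt, htsum] at h
    rw [map_gamma hf.isLambdaHom, map_sub, map_natCast, h, map_mul, map_sum, hf.isLambdaHom]
    congr 1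
    apply Finset.sum_congr rfl
    intro i _
    rw [map_mul, map_pow, map_neg, map_one, hf.isLambdaHom]
  -- augmentation of λ^d(q^∨)
  have haug1 : P.aug (LambdaOps.lam d (inv q)) = 1 := by
    rw [← hf.aug_comp, hf.isLambdaHom, ← htsum]
    have h := congrArg (PowerSeries.coeff d) (map_aug_lamSeries_sum_lines L.posStr _ ht)
    rw [PowerSeries.coeff_map, coeff_lamSeries, coeff_one_add_X_pow_int, hcard,
      Nat.choose_self] at h
    exact_mod_cast h
  rw [hstar]
  have : (∑ i ∈ range (d + 1), (-1 : K) ^ i * LambdaOps.lam i q) * LambdaOps.lam d (inv q) -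
      ∑ i ∈ range (d + 1), (-1 : K) ^ i * LambdaOps.lam i q =
      (∑ i ∈ range (d + 1), (-1 : K) ^ i * LambdaOps.lam i q) * (LambdaOps.lam d (inv q) - 1) := by
    ring
  rw [this]
  apply (Groth.Agent.S3291.result K P).2 d 1 _ _ (lamAlt_mem_gammaFiltration P hq)
  apply mem_gammaFiltration_one_of_aug_eq_zero
  rw [map_sub, haug1, map_one, sub_self]

end Groth.Agent.Lib.Helper17.Lam
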