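import Groth.Prelude.Def_LambdaRing
import Mathlib.RingTheory.PowerSeries.Derivative
import Mathlib.RingTheory.PowerSeries.Inverse

/-!
# λ-rings with positive structure: Adams operations and the splitting principle (helper17)

* `adams_add`: ψ^j is additive (no splitting needed);
* `map_adams`: ψ^j commutes with extensions;
* `adams_of_isLine`: ψ^j u = u^j for line elements;
* `exists_split` / `exists_split_two`: splitting one / two positive elements in a common extension.
-/

set_option autoImplicit false

universe u

open PowerSeries Finset LambdaRing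

namespace Groth.Agent.Lib.Helper17.Lam

variable {K : Type u} [CommRing K] [LambdaOps K]

lemma coeff_lamSeries (x : K) (n : ℕ) : coeff n (lamSeries x) = LambdaOps.lam n x := by
  unfold lamSeries; rw [coeff_mk]

lemma constantCoeff_lamSeries (x : K) : constantCoeff (lamSeries x) = 1 := by
  rw [← coeff_zero_eq_constantCoeff_apply, coeff_lamSeries, LambdaOps.lam_zero]

lemma lamSeries_add (x y : K) : lamSeries (x + y) = lamSeries x * lamSeries y := by
  ext n
  rw [coeff_lamSeries, LambdaOps.lam_add, coeff_mul,
    Finset.Nat.sum_antidiagonal_eq_sum_range_succ_mk]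
  simp only [coeff_lamSeries]

/-- the series `λ_{-t}(x)` -/
noncomputable def g (x : K) : PowerSeries K := rescale (-1 : K) (lamSeries x)

lemma g_add (x y : K) : g (x + y) = g x * g y := by
  unfold g; rw [lamSeries_add, map_mul]

lemma constantCoeff_g (x : K) : constantCoeff (g x) = 1 := by
  unfold g
  rw [← coeff_zero_eq_constantCoeff_apply, coeff_rescale, pow_zero, one_mul,
    coeff_zero_eq_constantCoeff_apply, constantCoeff_lamSeries]

lemma invOfUnit_eq_of_mul_eq_one {R : Type*} [CommRing R] {φ ψ : PowerSeries R}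
    (hφ : constantCoeff φ = 1) (h : φ * ψ = 1) : φ.invOfUnit 1 = ψ := by
  have h1 : φ * φ.invOfUnit 1 = 1 := mul_invOfUnit φ 1 (by rw [hφ]; rfl)
  calc φ.invOfUnit 1 = (φ * ψ) * φ.invOfUnit 1 := by rw [h, one_mul]
    _ = ψ * (φ * φ.invOfUnit 1) := by ring
    _ = ψ := by rw [h1, mul_one]

lemma g_mul_inv (x : K) : g x * (g x).invOfUnit 1 = 1 :=
  mul_invOfUnit _ 1 (by rw [constantCoeff_g]; rfl)

lemma adamsSeries_eq (P : PosStructure K) (x : K) :
    adamsSeries P x = C (P.aug x : K) - X * derivative K (g x) * (g x).invOfUnit 1 := rfl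

lemma adamsSeries_add (P : PosStructure K) (x y : K) :
    adamsSeries P (x + y) = adamsSeries P x + adamsSeries P y := by
  rw [adamsSeries_eq, adamsSeries_eq, adamsSeries_eq, g_add]
  have hinv : (g x * g y).invOfUnit 1 = (g x).invOfUnit 1 * (g y).invOfUnit 1 := by
    apply invOfUnit_eq_of_mul_eq_one
    · rw [map_mul, constantCoeff_g, constantCoeff_g, one_mul]
    · calc g x * g y * ((g x).invOfUnit 1 * (g y).invOfUnit 1)
          = (g x * (g x).invOfUnit 1) * (g y * (g y).invOfUnit 1) := by ring
        _ = 1 := by rw [g_mul_inv, g_mul_inv, one_mul]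
  rw [hinv, Derivation.leibniz, map_add, Int.cast_add, map_add]
  simp only [smul_eq_mul]
  have hx := g_mul_inv x
  have hy := g_mul_inv y
  linear_combination (-(X * derivative K (g y) * (g y).invOfUnit 1)) * hx +
    (-(X * derivative K (g x) * (g x).invOfUnit 1)) * hy

lemma adams_add (P : PosStructure K) (j : ℕ) (x y : K) :
    adams P j (x + y) = adams P j x + adams P j y := by
  unfold adams; rw [adamsSeries_add, map_add]

lemma adams_zero (P : PosStructure K) (j : ℕ) : adams P j (0 : K) = 0 := by
  have := adams_add P j (0 : K) 0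
  rw [add_zero] at this
  exact left_eq_add.mp this

lemma adams_neg (P : PosStructure K) (j : ℕ) (x : K) : adams P j (-x) = -adams P j x := by
  have := adams_add P j x (-x)
  rw [add_neg_cancel, adams_zero] at this
  exact eq_neg_of_add_eq_zero_right this.symm

lemma adams_sub (P : PosStructure K) (j : ℕ) (x y : K) :
    adams P j (x - y) = adams P j x - adams P j y := by
  rw [sub_eq_add_neg, adams_add, adams_neg, ← sub_eq_add_neg]

/-- `ψ^j` as an additive map -/
noncomputable def adamsAddHom (P : PosStructure K) (j : ℕ) : K →+ K where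
  toFun := adams P j
  map_zero' := adams_zero P j
  map_add' := adams_add P j

lemma adams_multiset_sum (P : PosStructure K) (j : ℕ) (s : Multiset K) :
    adams P j s.sum = (s.map (adams P j)).sum :=
  map_multiset_sum (adamsAddHom P j) s

/-! ### line elements -/

lemma isLine_one (P : PosStructure K) : P.IsLine (1 : K) := by
  refine ⟨?_, map_one _⟩
  have := P.natCast_mem 1 one_pos
  rwa [Nat.cast_one] at this

lemma isLine_mul (P : PosStructure K) {a b : K} (ha : P.IsLine a) (hb : P.IsLine b) :
    P.IsLine (a * b) :=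
  ⟨P.mul_mem a b ha.1 hb.1, by rw [map_mul, ha.2, hb.2, mul_one]⟩

lemma isLine_pow (P : PosStructure K) {a : K} (ha : P.IsLine a) (n : ℕ) : P.IsLine (a ^ n) := by
  induction n with
  | zero => rw [pow_zero]; exact isLine_one P
  | succ n ih => rw [pow_succ]; exact isLine_mul P ih ha

lemma g_of_isLine (P : PosStructure K) {a : K} (ha : P.IsLine a) : g a = 1 - C a * X := by
  ext n
  unfold g
  rw [coeff_rescale, coeff_lamSeries]
  rcases n with _ | _ | n
  · simp [LambdaOps.lam_zero]
  · simp [LambdaOps.lam_one, coeff_one]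
  · have h0 : LambdaOps.lam (n + 2) a = 0 := by
      apply P.lam_eq_zero a ha.1
      rw [ha.2]
      push_cast
      omega
    have h1 : coeff (n + 2) (1 : PowerSeries K) = 0 := by
      rw [coeff_one]; simp
    have h2 : coeff (n + 1 + 1) (C a * X) = 0 := by
      rw [coeff_succ_mul_X, coeff_C]; simp
    rw [h0, mul_zero, map_sub, h1, h2, sub_zero]

/-- `ψ^j(u) = u^j` for a line element -/
lemma adams_of_isLine (P : PosStructure K) {a : K} (ha : P.IsLine a) (j : ℕ) :
    adams P j a = a ^ j := by
  set f : PowerSeries K := PowerSeries.mk fun j => a ^ j with hf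
  have hmul : (1 - C a * X) * f = 1 := by
    ext n
    rw [sub_mul, one_mul, mul_assoc, map_sub, coeff_C_mul]
    rcases n with _ | n
    · simp [hf]
    · rw [coeff_succ_X_mul]
      simp only [hf, coeff_mk, coeff_one]
      simp [pow_succ']
  have hinv : (1 - C a * X).invOfUnit 1 = f :=
    invOfUnit_eq_of_mul_eq_one (by simp) hmul
  have hder : derivative K (1 - C a * X) = - C a := by
    rw [map_sub, Derivation.leibniz]
    simp
  have hseries : adamsSeries P a = 1 + C a * (X * f) := by
    rw [adamsSeries_eq, g_of_isLine P ha, hder, hinv, ha.2]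
    simp only [Int.cast_one, map_one]
    ring
  unfold adams
  rw [hseries, map_add, coeff_C_mul]
  rcases j with _ | j
  · simp
  · rw [coeff_succ_X_mul]
    simp only [hf, coeff_mk, coeff_one]
    simp [pow_succ']

/-! ### naturality -/

variable {K' : Type u} [CommRing K'] [LambdaOps K']

lemma map_lamSeries {f : K →+* K'} (hf : IsLambdaHom f) (x : K) :
    PowerSeries.map f (lamSeries x) = lamSeries (f x) := by
  ext n
  rw [coeff_map, coeff_lamSeries, coeff_lamSeries, hf]

lemma map_g {f : K →+* K'} (hf : IsLambdaHom f) (x : K) :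
    PowerSeries.map f (g x) = g (f x) := by
  ext n
  unfold g
  rw [coeff_map, coeff_rescale, coeff_rescale, ← map_lamSeries hf, coeff_map, map_mul, map_pow,
    map_neg, map_one]

lemma map_derivative (f : K →+* K') (φ : PowerSeries K) :
    PowerSeries.map f (derivative K φ) = derivative K' (PowerSeries.map f φ) := by
  ext n
  rw [coeff_map, coeff_derivative, coeff_derivative, coeff_map, map_mul, map_add, map_natCast,
    map_one]

lemma map_adamsSeries {P : PosStructure K} {P' : PosStructure K'} {f : K →+* K'}
    (hf : IsExtension P P' f) (x : K) :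
    PowerSeries.map f (adamsSeries P x) = adamsSeries P' (f x) := by
  rw [adamsSeries_eq, adamsSeries_eq, map_sub, map_mul, map_mul, PowerSeries.map_C,
    PowerSeries.map_X, map_derivative, map_g hf.isLambdaHom, hf.aug_comp, map_intCast]
  congr 2
  symm
  apply invOfUnit_eq_of_mul_eq_one (constantCoeff_g _)
  rw [← map_g hf.isLambdaHom, ← map_mul, g_mul_inv, map_one]

lemma map_adams {P : PosStructure K} {P' : PosStructure K'} {f : K →+* K'}
    (hf : IsExtension P P' f) (j : ℕ) (x : K) :
    f (adams P j x) = adams P' j (f x) := by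
  unfold adams
  rw [← map_adamsSeries hf, coeff_map]

lemma IsExtension.isLine {P : PosStructure K} {P' : PosStructure K'} {f : K →+* K'}
    (hf : IsExtension P P' f) {a : K} (ha : P.IsLine a) : P'.IsLine (f a) :=
  ⟨hf.pos_subset a ha.1, by rw [hf.aug_comp, ha.2]⟩

lemma IsExtension.comp {K'' : Type u} [CommRing K''] [LambdaOps K'']
    {P : PosStructure K} {P' : PosStructure K'} {P'' : PosStructure K''}
    {f : K →+* K'} {f' : K' →+* K''} (hf : IsExtension P P' f) (hf' : IsExtension P' P'' f') :
    IsExtension P P'' (f'.comp f) where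
  isLambdaHom i x := by
    rw [RingHom.comp_apply, RingHom.comp_apply, hf.isLambdaHom, hf'.isLambdaHom]
  injective := hf'.injective.comp hf.injective
  aug_comp x := by rw [RingHom.comp_apply, hf'.aug_comp, hf.aug_comp]
  pos_subset e he := hf'.pos_subset _ (hf.pos_subset e he)

/-! ### splitting -/

/-- split one positive element -/
lemma exists_split {P : PosStructure K} (hK : HasSplitting K P) {e : K} (he : e ∈ P.pos) :
    ∃ (L : PosLambdaRing.{u}) (f : K →+* L.carrier), IsExtension P L.posStr f ∧
      ∃ s : Multiset L.carrier, (∀ a ∈ s, L.posStr.IsLine a) ∧ s.sum = f e := by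
  obtain ⟨C, hKC, hC⟩ := hK
  obtain ⟨L1, -, f1, hf1, s1, hs1, hsum1⟩ := hC ⟨K, P⟩ hKC e he
  exact ⟨L1, f1, hf1, s1, hs1, hsum1⟩

/-- split two positive elements in a common extension -/
lemma exists_split_two {P : PosStructure K} (hK : HasSplitting K P) {e e' : K}
    (he : e ∈ P.pos) (he' : e' ∈ P.pos) :
    ∃ (L : PosLambdaRing.{u}) (f : K →+* L.carrier), IsExtension P L.posStr f ∧
      ∃ s s' : Multiset L.carrier, (∀ a ∈ s, L.posStr.IsLine a) ∧
        (∀ a ∈ s', L.posStr.IsLine a) ∧ s.sum = f e ∧ s'.sum = f e' := by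
  obtain ⟨C, hKC, hC⟩ := hK
  obtain ⟨L1, hL1, f1, hf1, s1, hs1, hsum1⟩ := hC ⟨K, P⟩ hKC e he
  obtain ⟨L2, -, f2, hf2, s2, hs2, hsum2⟩ := hC L1 hL1 (f1 e') (hf1.pos_subset e' he')
  refine ⟨L2, f2.comp f1, IsExtension.comp hf1 hf2, s1.map f2, s2, ?_, hs2, ?_, hsum2⟩
  · intro a ha
    obtain ⟨b, hb, rfl⟩ := Multiset.mem_map.mp ha
    exact IsExtension.isLine hf2 (hs1 b hb)
  · rw [← map_multiset_sum, hsum1]
    rfl

/-- multiplicativity of `ψ^j` on sums of line elements -/
lemma adams_mul_of_lines (P : PosStructure K) (j : ℕ) (s s' : Multiset K)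
    (hs : ∀ a ∈ s, P.IsLine a) (hs' : ∀ a ∈ s', P.IsLine a) :
    adams P j (s.sum * s'.sum) = adams P j s.sum * adams P j s'.sum := by
  have h1 : ∀ (t : Multiset K), (∀ a ∈ t, P.IsLine a) → ∀ v, P.IsLine v →
      adams P j (t.sum * v) = adams P j t.sum * v ^ j := by
    intro t
    induction t using Multiset.induction_on with
    | empty =>
      intro _ v _
      rw [Multiset.sum_zero, zero_mul, adams_zero, zero_mul]
    | cons a t ih =>
      intro ht v hv
      have ha : P.IsLine a := ht a (Multiset.mem_cons_self a t)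
      have ht' : ∀ b ∈ t, P.IsLine b := fun b hb => ht b (Multiset.mem_cons_of_mem hb)
      rw [Multiset.sum_cons, add_mul, adams_add, adams_add, ih ht' v hv,
        adams_of_isLine P (isLine_mul P ha hv), adams_of_isLine P ha, mul_pow]
      ring
  induction s' using Multiset.induction_on with
  | empty => rw [Multiset.sum_zero, mul_zero, adams_zero, mul_zero]
  | cons v t ih =>
    have hv : P.IsLine v := hs' v (Multiset.mem_cons_self v t)
    have ht' : ∀ b ∈ t, P.IsLine b := fun b hb => hs' b (Multiset.mem_cons_of_mem hb)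
    rw [Multiset.sum_cons, mul_add, adams_add, adams_add, ih ht', h1 s hs v hv,
      adams_of_isLine P hv]
    ring

/-- `ψ^j` is multiplicative on positive elements (splitting principle) -/
lemma adams_mul_of_pos {P : PosStructure K} (hK : HasSplitting K P) (j : ℕ) {e e' : K}
    (he : e ∈ P.pos) (he' : e' ∈ P.pos) :
    adams P j (e * e') = adams P j e * adams P j e' := by
  obtain ⟨L, f, hf, s, s', hs, hs', hsum, hsum'⟩ := exists_split_two hK he he'
  apply hf.injective
  rw [map_mul, map_adams hf, map_adams hf, map_adams hf, map_mul, ← hsum, ← hsum']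
  exact adams_mul_of_lines L.posStr j s s' hs hs'

/-- `ψ^j` is multiplicative (splitting principle) -/
theorem adams_mul {P : PosStructure K} (hK : HasSplitting K P) (j : ℕ) (x y : K) :
    adams P j (x * y) = adams P j x * adams P j y := by
  obtain ⟨e1, e2, he1, he2, rfl⟩ := P.exists_sub x
  obtain ⟨e1', e2', he1', he2', rfl⟩ := P.exists_sub y
  have : (e1 - e2) * (e1' - e2') = e1 * e1' - e1 * e2' - e2 * e1' + e2 * e2' := by ring
  rw [this, adams_add, adams_sub, adams_sub, adams_mul_of_pos hK j he1 he1',
    adams_mul_of_pos hK j he1 he2', adams_mul_of_pos hK j he2 he1',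
    adams_mul_of_pos hK j he2 he2', adams_sub, adams_sub]
  ring

lemma adams_one (P : PosStructure K) (j : ℕ) : adams P j (1 : K) = 1 := by
  rw [adams_of_isLine P (isLine_one P), one_pow]

/-- the Adams operation as a ring homomorphism -/
noncomputable def adamsRingHom {P : PosStructure K} (hK : HasSplitting K P) (j : ℕ) : K →+* K where
  toFun := adams P j
  map_one' := adams_one P j
  map_mul' := adams_mul hK j
  map_zero' := adams_zero P j
  map_add' := adams_add P j

/-- `ψ^i ∘ ψ^j = ψ^{ij}` (splitting principle) -/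
theorem adams_adams {P : PosStructure K} (hK : HasSplitting K P) (i j : ℕ) (x : K) :
    adams P i (adams P j x) = adams P (i * j) x := by
  have hpos : ∀ e ∈ P.pos, adams P i (adams P j e) = adams P (i * j) e := by
    intro e he
    obtain ⟨L, f, hf, s, hs, hsum⟩ := exists_split hK he
    apply hf.injective
    rw [map_adams hf, map_adams hf, map_adams hf, ← hsum, adams_multiset_sum,
      adams_multiset_sum, adams_multiset_sum, Multiset.map_map]
    congr 1
    apply Multiset.map_congr rfl
    intro a ha
    rw [Function.comp_apply, adams_of_isLine _ (hs a ha),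
      adams_of_isLine _ (isLine_pow _ (hs a ha) j), adams_of_isLine _ (hs a ha), ← pow_mul,
      mul_comm]
  obtain ⟨e1, e2, he1, he2, rfl⟩ := P.exists_sub x
  rw [adams_sub, adams_sub, adams_sub, hpos e1 he1, hpos e2 he2]

/-! ### λ-series of sums of line elements -/

lemma lamSeries_zero : lamSeries (0 : K) = 1 := by
  have h := lamSeries_add (0 : K) 0
  rw [add_zero] at h
  have hu : IsUnit (lamSeries (0 : K)) := by
    rw [PowerSeries.isUnit_iff_constantCoeff, constantCoeff_lamSeries]
    exact isUnit_one
  exact (hu.mul_left_cancel (by rw [mul_one]; exact h)).symm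

lemma lamSeries_of_isLine (P : PosStructure K) {a : K} (ha : P.IsLine a) :
    lamSeries a = 1 + C a * X := by
  ext n
  rw [coeff_lamSeries]
  rcases n with _ | _ | n
  · simp [LambdaOps.lam_zero]
  · simp [LambdaOps.lam_one, coeff_one]
  · have h0 : LambdaOps.lam (n + 2) a = 0 := by
      apply P.lam_eq_zero a ha.1
      rw [ha.2]
      push_cast
      omega
    have h1 : coeff (n + 2) (1 : PowerSeries K) = 0 := by
      rw [coeff_one]; simp
    have h2 : coeff (n + 1 + 1) (C a * X) = 0 := by
      rw [coeff_succ_mul_X, coeff_C]; simp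
    rw [h0, map_add, h1, h2, add_zero]

lemma lamSeries_multiset_sum (s : Multiset K) :
    lamSeries s.sum = (s.map lamSeries).prod := by
  induction s using Multiset.induction_on with
  | empty => rw [Multiset.sum_zero, Multiset.map_zero, Multiset.prod_zero, lamSeries_zero]
  | cons a t ih => rw [Multiset.sum_cons, lamSeries_add, ih, Multiset.map_cons, Multiset.prod_cons]

/-- the augmentation of `λ_t` of a sum of `n` line elements is `(1+t)^n` -/
lemma map_aug_lamSeries_sum_lines (P : PosStructure K) (s : Multiset K)
    (hs : ∀ a ∈ s, P.IsLine a) :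
    PowerSeries.map P.aug (lamSeries s.sum) = (1 + X) ^ (Multiset.card s) := by
  induction s using Multiset.induction_on with
  | empty => rw [Multiset.sum_zero, lamSeries_zero, map_one, Multiset.card_zero, pow_zero]
  | cons a t ih =>
    have ha : P.IsLine a := hs a (Multiset.mem_cons_self a t)
    have ht : ∀ b ∈ t, P.IsLine b := fun b hb => hs b (Multiset.mem_cons_of_mem hb)
    rw [Multiset.sum_cons, lamSeries_add, map_mul, ih ht, lamSeries_of_isLine P ha, map_add,
      map_one, map_mul, PowerSeries.map_C, PowerSeries.map_X, ha.2, map_one, one_mul,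
      Multiset.card_cons, pow_succ']

lemma aug_sum_lines (P : PosStructure K) (s : Multiset K) (hs : ∀ a ∈ s, P.IsLine a) :
    P.aug s.sum = (Multiset.card s : ℤ) := by
  induction s using Multiset.induction_on with
  | empty => simp
  | cons a t ih =>
    have ha : P.IsLine a := hs a (Multiset.mem_cons_self a t)
    have ht : ∀ b ∈ t, P.IsLine b := fun b hb => hs b (Multiset.mem_cons_of_mem hb)
    rw [Multiset.sum_cons, map_add, ih ht, ha.2, Multiset.card_cons]
    push_cast
    ring

lemma coeff_one_add_X_pow_int (n i : ℕ) :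
    coeff i ((1 + X : PowerSeries ℤ) ^ n) = (n.choose i : ℤ) := by
  have : ((1 + X : PowerSeries ℤ) ^ n) = (((1 + Polynomial.X : Polynomial ℤ) ^ n : Polynomial ℤ) :
      PowerSeries ℤ) := by
    simp
  rw [this, Polynomial.coeff_coe, Polynomial.coeff_one_add_X_pow]

/-- `ε(λ^i e) = C(ε e, i)` for positive `e` (splitting principle) -/
theorem aug_lam_eq_choose {P : PosStructure K} (hK : HasSplitting K P) {e : K} (he : e ∈ P.pos)
    (i : ℕ) : P.aug (LambdaOps.lam i e) = ((P.aug e).toNat.choose i : ℤ) := by
  obtain ⟨L, f, hf, s, hs, hsum⟩ := exists_split hK he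
  have haug : P.aug e = (Multiset.card s : ℤ) := by
    rw [← hf.aug_comp, ← hsum, aug_sum_lines _ s hs]
  have h := congrArg (coeff i) (map_aug_lamSeries_sum_lines L.posStr s hs)
  rw [coeff_map, coeff_lamSeries, hsum, ← hf.isLambdaHom, hf.aug_comp,
    coeff_one_add_X_pow_int] at h
  rw [h, haug, Int.toNat_natCast]

end Groth.Agent.Lib.Helper17.Lam
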