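import Groth.Agent.Lib.Helper17.LambdaSym

/-!
# A two-variable weighted symmetric polynomial argument (helper17)

`e_n((1 + w_a)(1 + Y)^j - 1)` as a polynomial in `Y` whose coefficient of `Y^b` is a polynomial in
the elementary symmetric polynomials of `w` all of whose monomials have weight `≥ n - b`.
-/

set_option autoImplicit false

universe u

open Finset

namespace Groth.Agent.Lib.Helper17.Lam

section sym2

/-- generalization of `exists_weighted` to an arbitrary bound -/
theorem exists_weighted' (m N : ℕ) (p : MvPolynomial (Fin m) ℤ) (hp : p.IsSymmetric)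
    (hI : ∀ x : Fin m →₀ ℕ, x.degree < N → p.coeff x = 0) :
    ∃ Q' : MvPolynomial (Fin m) ℤ, (∀ α ∈ Q'.support, N ≤ wt α) ∧ E m Q' = p := by
  rcases N with _ | i
  · refine ⟨(MvPolynomial.esymmAlgEquiv (Fin m) ℤ (Fintype.card_fin m)).symm ⟨p, hp⟩,
      fun _ _ => Nat.zero_le _, ?_⟩
    have h := (MvPolynomial.esymmAlgEquiv (Fin m) ℤ (Fintype.card_fin m)).apply_symm_apply ⟨p, hp⟩
    have h2 := congrArg Subtype.val h
    rw [MvPolynomial.esymmAlgEquiv_apply, MvPolynomial.esymmAlgHom_apply] at h2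
    exact h2
  · exact exists_weighted m i p hp hI

/-- the ring of coefficients -/
abbrev Rw (s : ℕ) := MvPolynomial (Fin s) ℤ

/-- the factor `(1 + w_a)(1 + Y)^j - 1` -/
noncomputable def phiF (s j : ℕ) (a : Fin s) : Polynomial (Rw s) :=
  (1 + Polynomial.C (MvPolynomial.X a)) * (1 + Polynomial.X) ^ j - 1

/-- `e_n((1 + w_a)(1 + Y)^j - 1)` -/
noncomputable def Hpoly (s j n : ℕ) : Polynomial (Rw s) :=
  ∑ t ∈ Finset.powersetCard n (Finset.univ : Finset (Fin s)), ∏ a ∈ t, phiF s j a

lemma map_phiF (s j : ℕ) (σ : Equiv.Perm (Fin s)) (a : Fin s) :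
    Polynomial.map (MvPolynomial.rename σ : Rw s →ₐ[ℤ] Rw s).toRingHom (phiF s j a) =
      phiF s j (σ a) := by
  unfold phiF
  simp

lemma map_Hpoly (s j n : ℕ) (σ : Equiv.Perm (Fin s)) :
    Polynomial.map (MvPolynomial.rename σ : Rw s →ₐ[ℤ] Rw s).toRingHom (Hpoly s j n) =
      Hpoly s j n := by
  unfold Hpoly
  rw [Polynomial.map_sum]
  simp only [Polynomial.map_prod, map_phiF]
  have h1 : ∀ g : Fin s → Polynomial (Rw s),
      ∑ t ∈ Finset.powersetCard n (Finset.univ : Finset (Fin s)), ∏ a ∈ t, g a =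
        (Finset.univ.val.map g).esymm n := fun g => (Finset.esymm_map_val g _ n).symm
  rw [h1 (fun a => phiF s j (σ a)), h1]
  congr 1
  have h2 : (Finset.univ : Finset (Fin s)).val.map (fun a => phiF s j (σ a)) =
      ((Finset.univ : Finset (Fin s)).val.map σ).map (phiF s j) := by
    rw [Multiset.map_map]; rfl
  rw [h2]
  congr 1
  have h3 := congrArg Finset.val (Finset.map_univ_equiv σ)
  rw [Finset.map_val] at h3
  exact h3

lemma coeff_Hpoly_isSymmetric (s j n b : ℕ) : ((Hpoly s j n).coeff b).IsSymmetric := by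
  intro σ
  have h := congrArg (fun q => Polynomial.coeff q b) (map_Hpoly s j n σ)
  simp only [Polynomial.coeff_map] at h
  exact h

/-- the bi-filtration -/
def Jmem (s N : ℕ) (q : Polynomial (Rw s)) : Prop :=
  ∀ b, q.coeff b ∈ (MvPolynomial.idealOfVars (Fin s) ℤ) ^ (N - b)

lemma Jmem.mul {s N N' : ℕ} {q q' : Polynomial (Rw s)} (h : Jmem s N q) (h' : Jmem s N' q') :
    Jmem s (N + N') (q * q') := by
  intro c
  rw [Polynomial.coeff_mul]
  apply Ideal.sum_mem
  rintro ⟨b, b'⟩ hbb
  have hc : b + b' = c := Finset.mem_antidiagonal.mp hbb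
  have h1 := Ideal.mul_mem_mul (h b) (h' b')
  rw [← pow_add] at h1
  exact Ideal.pow_le_pow_right (by omega) h1

lemma Jmem.add {s N : ℕ} {q q' : Polynomial (Rw s)} (h : Jmem s N q) (h' : Jmem s N q') :
    Jmem s N (q + q') := by
  intro b
  rw [Polynomial.coeff_add]
  exact Ideal.add_mem _ (h b) (h' b)

lemma Jmem.zero (s N : ℕ) : Jmem s N 0 := by
  intro b
  rw [Polynomial.coeff_zero]
  exact Ideal.zero_mem _

lemma Jmem.sum {s N : ℕ} {ι : Type*} (t : Finset ι) (q : ι → Polynomial (Rw s))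
    (h : ∀ i ∈ t, Jmem s N (q i)) : Jmem s N (∑ i ∈ t, q i) := by
  classical
  induction t using Finset.induction_on with
  | empty => rw [Finset.sum_empty]; exact Jmem.zero s N
  | insert k t hk ih =>
    rw [Finset.sum_insert hk]
    exact (h k (Finset.mem_insert_self k t)).add
      (ih fun i hi => h i (Finset.mem_insert_of_mem hi))

lemma Jmem.one (s : ℕ) : Jmem s 0 (1 : Polynomial (Rw s)) := by
  intro b
  rw [Nat.zero_sub, pow_zero, Ideal.one_eq_top]
  exact Submodule.mem_top

lemma Jmem.prod {s : ℕ} {ι : Type*} (t : Finset ι) (q : ι → Polynomial (Rw s))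
    (h : ∀ i ∈ t, Jmem s 1 (q i)) : Jmem s t.card (∏ i ∈ t, q i) := by
  classical
  induction t using Finset.induction_on with
  | empty => rw [Finset.prod_empty, Finset.card_empty]; exact Jmem.one s
  | insert k t hk ih =>
    rw [Finset.prod_insert hk, Finset.card_insert_of_notMem hk, add_comm]
    exact (h k (Finset.mem_insert_self k t)).mul
      (ih fun i hi => h i (Finset.mem_insert_of_mem hi))

lemma phiF_Jmem (s j : ℕ) (a : Fin s) : Jmem s 1 (phiF s j a) := by
  intro b
  rcases b with _ | b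
  · have h : (phiF s j a).coeff 0 = MvPolynomial.X a := by
      rw [Polynomial.coeff_zero_eq_eval_zero]
      unfold phiF
      simp
    rw [h, Nat.sub_zero, pow_one]
    exact Ideal.subset_span ⟨a, rfl⟩
  · rw [show 1 - (b + 1) = 0 by omega, pow_zero, Ideal.one_eq_top]
    exact Submodule.mem_top

lemma Hpoly_Jmem (s j n : ℕ) : Jmem s n (Hpoly s j n) := by
  unfold Hpoly
  apply Jmem.sum
  intro t ht
  have h := Jmem.prod t (phiF s j) (fun a _ => phiF_Jmem s j a)
  rwa [(Finset.mem_powersetCard.mp ht).2] at h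

/-- the coefficient of `Y^b` is a polynomial of weight `≥ n - b` in the elementary symmetric
polynomials -/
theorem exists_Hcoeff (s j n b : ℕ) :
    ∃ Q' : Rw s, (∀ α ∈ Q'.support, n - b ≤ wt α) ∧ E s Q' = (Hpoly s j n).coeff b :=
  exists_weighted' s (n - b) _ (coeff_Hpoly_isSymmetric s j n b)
    ((MvPolynomial.mem_pow_idealOfVars_iff' (n - b) _).mp (Hpoly_Jmem s j n b))

/-- evaluation of `Hpoly` -/
lemma eval₂_Hpoly {R : Type*} [CommRing R] (s j n : ℕ) (w : Fin s → R) (Y : R) :
    Polynomial.eval₂ (MvPolynomial.aeval w : Rw s →ₐ[ℤ] R).toRingHom Y (Hpoly s j n) =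
      ∑ t ∈ Finset.powersetCard n (Finset.univ : Finset (Fin s)),
        ∏ a ∈ t, ((1 + w a) * (1 + Y) ^ j - 1) := by
  unfold Hpoly phiF
  rw [Polynomial.eval₂_finsetSum]
  apply Finset.sum_congr rfl
  intro t _
  rw [Polynomial.eval₂_finsetProd]
  apply Finset.prod_congr rfl
  intro a _
  rw [Polynomial.eval₂_sub, Polynomial.eval₂_mul, Polynomial.eval₂_pow, Polynomial.eval₂_add,
    Polynomial.eval₂_add, Polynomial.eval₂_one, Polynomial.eval₂_X, Polynomial.eval₂_C]
  simp

/-- the value of `e_n((1 + w_a)(1 + Y)^j - 1)` through polynomials in the `e_i(w)` -/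
theorem sum_prod_eq_of_Hcoeff {R : Type*} [CommRing R] (s j n : ℕ) (Q : ℕ → Rw s)
    (hQ : ∀ b, E s (Q b) = (Hpoly s j n).coeff b) (w : Fin s → R) (Y : R) :
    ∑ t ∈ Finset.powersetCard n (Finset.univ : Finset (Fin s)),
        ∏ a ∈ t, ((1 + w a) * (1 + Y) ^ j - 1) =
      ∑ b ∈ Finset.range ((Hpoly s j n).natDegree + 1),
        MvPolynomial.aeval (fun k : Fin s =>
          ∑ t ∈ powersetCard (k.1 + 1) (univ : Finset (Fin s)), ∏ a ∈ t, w a) (Q b) * Y ^ b := by
  rw [← eval₂_Hpoly, Polynomial.eval₂_eq_sum_range]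
  apply Finset.sum_congr rfl
  intro b _
  congr 1
  rw [← hQ b]
  change MvPolynomial.aeval w (E s (Q b)) = _
  rw [MvPolynomial.comp_aeval_apply]
  simp only [MvPolynomial.aeval_esymm_eq_multiset_esymm, Finset.esymm_map_val]

end sym2

end Groth.Agent.Lib.Helper17.Lam
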