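import Mathlib.Algebra.Lie.Engel
import Mathlib.Algebra.Lie.BaseChange
import Mathlib.RingTheory.LocalRing.ResidueField.Ideal
import Mathlib.RingTheory.Localization.BaseChange
import Mathlib.RingTheory.FiniteType
import Mathlib.RingTheory.Nilpotent.Lemmas
import Mathlib.RingTheory.TensorProduct.Quotient
import Mathlib.LinearAlgebra.Matrix.Charpoly.LinearMap
import Mathlib.LinearAlgebra.TensorProduct.Quotient

/-!
# Nilpotency of finitely generated Lie algebras over arbitrary commutative rings (helper17)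

* `exists_smul_mem_of_tmul_eq_zero`: if `1 ⊗ m = 0` in `κ(p) ⊗ M` then `s • m ∈ p M` for some
  `s ∉ p`.
* `isNilpotent_of_fibrewise`: an endomorphism of a finitely generated module all of whose fibres
  are nilpotent is nilpotent.
* `isNilpotent_of_ad_nilpotent`: Engel's theorem for Lie algebras which are finitely generated as
  modules over an arbitrary commutative ring.
* `isNilpotent_of_fibres`: a f.g. Lie algebra with nilpotent fibres is nilpotent.
-/

set_option autoImplicit false
universe u

open TensorProduct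

namespace Groth.Agent.Lib.Helper17.LieNilp

section Kernel

variable {k K : Type u} [CommRing k] [CommRing K] [Algebra k K]

theorem mem_smul_top_of_one_tmul_eq_zero {M : Type u} [AddCommGroup M] [Module k M]
    (hsurj : Function.Surjective (algebraMap k K)) {y : M}
    (h : (1 : K) ⊗ₜ[k] y = 0) :
    y ∈ RingHom.ker (algebraMap k K) • (⊤ : Submodule k M) := by
  set J := RingHom.ker (algebraMap k K)
  have hs : Function.Surjective (Algebra.ofId k K) := hsurj
  let e : (k ⧸ J) ≃ₗ[k] K := (Ideal.quotientKerAlgEquivOfSurjective hs).toLinearEquiv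
  have he : e 1 = 1 := map_one (Ideal.quotientKerAlgEquivOfSurjective hs)
  have h3 : ((1 : k ⧸ J) ⊗ₜ[k] y : (k ⧸ J) ⊗[k] M) = 0 := by
    apply (LinearEquiv.rTensor M e).injective
    rw [map_zero, LinearEquiv.rTensor_tmul, he, h]
  have h4 := congrArg (TensorProduct.quotTensorEquivQuotSMul M J) h3
  rw [TensorProduct.quotTensorEquivQuotSMul_mk_one_tmul, map_zero,
    Submodule.Quotient.mk_eq_zero] at h4
  exact h4

end Kernel

section Fibre

variable {A : Type u} [CommRing A]

/-- the kernel of `M → κ(p) ⊗ M` -/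
theorem exists_smul_mem_of_tmul_eq_zero (p : Ideal A) [p.IsPrime]
    {M : Type u} [AddCommGroup M] [Module A M] (m : M)
    (h : (1 : p.ResidueField) ⊗ₜ[A] m = 0) :
    ∃ s : A, s ∉ p ∧ s • m ∈ p • (⊤ : Submodule A M) := by
  have h1 : (1 : p.ResidueField) ⊗ₜ[A ⧸ p] ((1 : A ⧸ p) ⊗ₜ[A] m) = 0 := by
    apply (TensorProduct.AlgebraTensorModule.cancelBaseChange A (A ⧸ p) p.ResidueField
      p.ResidueField M).injective
    rw [map_zero, TensorProduct.AlgebraTensorModule.cancelBaseChange_tmul, one_smul]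
    exact h
  have h2 := (IsLocalizedModule.eq_zero_iff (nonZeroDivisors (A ⧸ p))
    (TensorProduct.mk (A ⧸ p) p.ResidueField ((A ⧸ p) ⊗[A] M) 1)
    (m := (1 : A ⧸ p) ⊗ₜ[A] m)).mp h1
  obtain ⟨c, hc⟩ := h2
  obtain ⟨s, hs⟩ := Ideal.Quotient.mk_surjective (c : A ⧸ p)
  refine ⟨s, ?_, ?_⟩
  · intro hsp
    have h0 : (c : A ⧸ p) = 0 := by
      rw [← hs]
      exact Ideal.Quotient.eq_zero_iff_mem.2 hsp
    exact nonZeroDivisors.ne_zero c.2 h0
  · have h3 : (1 : A ⧸ p) ⊗ₜ[A] (s • m) = 0 := by
      have h4 : (c : A ⧸ p) • ((1 : A ⧸ p) ⊗ₜ[A] m) = 0 := hc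
      rw [TensorProduct.smul_tmul', smul_eq_mul, mul_one, ← hs] at h4
      rw [TensorProduct.tmul_smul, TensorProduct.smul_tmul']
      have h5 : s • (1 : A ⧸ p) = Ideal.Quotient.mk p s := by
        rw [Algebra.smul_def, mul_one]
        rfl
      rw [h5]
      exact h4
    have h6 := mem_smul_top_of_one_tmul_eq_zero (k := A) (K := A ⧸ p)
      Ideal.Quotient.mk_surjective h3
    rwa [Ideal.Quotient.algebraMap_eq, Ideal.mk_ker] at h6

/-- A fibrewise nilpotent endomorphism of a finitely generated module is nilpotent. -/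
theorem isNilpotent_of_fibrewise {M : Type u} [AddCommGroup M] [Module A M]
    [Module.Finite A M] (f : Module.End A M)
    (h : ∀ (p : Ideal A) [p.IsPrime], ∃ k : ℕ, ∀ m : M,
      (1 : p.ResidueField) ⊗ₜ[A] ((f ^ k) m) = 0) :
    IsNilpotent f := by
  classical
  set φ : Polynomial A →ₐ[A] Module.End A M := Polynomial.aeval f with hφ
  set I : Ideal (Polynomial A) := RingHom.ker (φ : Polynomial A →+* Module.End A M) with hI
  have hX : (Polynomial.X : Polynomial A) ∈ I.radical := by
    rw [Ideal.radical_eq_sInf, Ideal.mem_sInf]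
    rintro Q ⟨hIQ, hQ⟩
    haveI := hQ
    set p : Ideal A := Q.comap (Polynomial.C : A →+* Polynomial A) with hp
    haveI : p.IsPrime := Ideal.comap_isPrime _ _
    obtain ⟨k, hk⟩ := h p
    obtain ⟨n, x, hx⟩ := Module.Finite.exists_fin (R := A) (M := M)
    have hs : ∀ i, ∃ s : A, s ∉ p ∧ s • (f ^ k) (x i) ∈ p • (⊤ : Submodule A M) :=
      fun i => exists_smul_mem_of_tmul_eq_zero p _ (hk (x i))
    choose s hsp hsm using hs
    set t : A := ∏ i, s i with ht
    have htp : t ∉ p := by
      intro hmem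
      obtain ⟨i, -, hi⟩ := (Ideal.IsPrime.prod_mem_iff).1 hmem
      exact hsp i hi
    have htm : ∀ i, t • (f ^ k) (x i) ∈ p • (⊤ : Submodule A M) := by
      intro i
      have h1 : t = (∏ j ∈ Finset.univ.erase i, s j) * s i := by
        rw [ht, Finset.prod_erase_mul _ _ (Finset.mem_univ i)]
      rw [h1, mul_smul]
      exact Submodule.smul_mem _ _ (hsm i)
    set g : Module.End A M := t • f ^ k with hg
    have hrange : LinearMap.range g ≤ p • (⊤ : Submodule A M) := by
      have h1 : LinearMap.range g = Submodule.map g (Submodule.span A (Set.range x)) := by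
        rw [hx, LinearMap.range_eq_map]
      rw [h1, Submodule.map_span, Submodule.span_le]
      rintro _ ⟨_, ⟨i, rfl⟩, rfl⟩
      exact htm i
    obtain ⟨P, hPm, -, hPc, hPa⟩ :=
      LinearMap.exists_monic_and_natDegree_eq_and_coeff_mem_pow_and_aeval_eq_zero A g p hrange
    set b : Polynomial A := Polynomial.C t * Polynomial.X ^ k with hb
    have hgb : Polynomial.aeval f b = g := by
      rw [hb, map_mul, Polynomial.aeval_C, map_pow, Polynomial.aeval_X, hg,
        Algebra.algebraMap_eq_smul_one, smul_mul_assoc, one_mul]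
    have hcomp : P.comp b ∈ Q := by
      apply hIQ
      change φ (P.comp b) = 0
      rw [hφ, Polynomial.aeval_comp, hgb]
      exact hPa
    have hbd : b ^ P.natDegree ∈ Q := by
      have hexp : P.comp b =
          ∑ i ∈ Finset.range (P.natDegree + 1), Polynomial.C (P.coeff i) * b ^ i := by
        rw [Polynomial.comp, Polynomial.eval₂_eq_sum_range]
      rw [hexp, Finset.sum_range_succ, hPm.coeff_natDegree, map_one, one_mul] at hcomp
      have hlow : ∑ i ∈ Finset.range P.natDegree, Polynomial.C (P.coeff i) * b ^ i ∈ Q := by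
        refine Ideal.sum_mem _ fun i hi => Ideal.mul_mem_right _ _ ?_
        have hi' : i < P.natDegree := Finset.mem_range.1 hi
        have h1 := hPc i
        have h2 : p ^ (P.natDegree - i) ≤ p := Ideal.pow_le_self (by omega)
        exact h2 h1
      exact (Ideal.add_mem_iff_right _ hlow).1 hcomp
    have hbQ : b ∈ Q := hQ.mem_of_pow_mem _ hbd
    rcases hQ.mem_or_mem hbQ with h1 | h1
    · exact absurd h1 htp
    · exact hQ.mem_of_pow_mem _ h1
  obtain ⟨k, hk⟩ := hX
  refine ⟨k, ?_⟩
  have h1 : φ (Polynomial.X ^ k) = 0 := hk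
  rwa [map_pow, hφ, Polynomial.aeval_X] at h1

end Fibre

section Engel

variable {A : Type u} [CommRing A] {L : Type u} [LieRing L] [LieAlgebra A L]

/-- Engel's theorem for Lie algebras finitely generated as modules over any commutative ring. -/
theorem isNilpotent_of_ad_nilpotent [Module.Finite A L]
    (h : ∀ x : L, IsNilpotent (LieAlgebra.ad A L x)) : LieRing.IsNilpotent L := by
  classical
  obtain ⟨n, x, hx⟩ := Module.Finite.exists_fin (R := A) (M := L)
  have hc : ∀ i j, ∃ c : Fin n → A, ∑ l, c l • x l = ⁅x i, x j⁆ := by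
    intro i j
    have h1 : ⁅x i, x j⁆ ∈ Submodule.span A (Set.range x) := hx ▸ Submodule.mem_top
    exact (Submodule.mem_span_range_iff_exists_fun A).1 h1
  choose c hc using hc
  set T : Set A := Set.range (fun t : Fin n × Fin n × Fin n => c t.1 t.2.1 t.2.2) with hT
  have hTfin : T.Finite := Set.finite_range _
  set A₀ : Subalgebra ℤ A := Algebra.adjoin ℤ T with hA₀
  haveI : Algebra.FiniteType ℤ A₀ := Algebra.FiniteType.adjoin_of_finite hTfin
  haveI : IsNoetherianRing A₀ := Algebra.FiniteType.isNoetherianRing ℤ A₀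
  have hcmem : ∀ i j l, c i j l ∈ A₀ := fun i j l =>
    Algebra.subset_adjoin ⟨(i, j, l), rfl⟩
  letI : LieAlgebra A₀ L := { lie_smul := fun t y z => lie_smul (t : A) y z }
  -- the `A₀`-form
  have hlie : ∀ y ∈ Submodule.span A₀ (Set.range x), ∀ z ∈ Submodule.span A₀ (Set.range x),
      ⁅y, z⁆ ∈ Submodule.span A₀ (Set.range x) := by
    intro y hy z hz
    induction hy using Submodule.span_induction with
    | mem y hy =>
      obtain ⟨i, rfl⟩ := hy
      induction hz using Submodule.span_induction with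
      | mem z hz =>
        obtain ⟨j, rfl⟩ := hz
        rw [← hc i j]
        refine Submodule.sum_mem _ fun l _ => ?_
        have h1 : c i j l • x l = (⟨c i j l, hcmem i j l⟩ : A₀) • x l := rfl
        rw [h1]
        exact Submodule.smul_mem _ _ (Submodule.subset_span ⟨l, rfl⟩)
      | zero => rw [lie_zero]; exact Submodule.zero_mem _
      | add z w _ _ hz hw => rw [lie_add]; exact Submodule.add_mem _ hz hw
      | smul a z _ hz => rw [lie_smul]; exact Submodule.smul_mem _ _ hz
    | zero => rw [zero_lie]; exact Submodule.zero_mem _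
    | add y w _ _ hy hw => rw [add_lie]; exact Submodule.add_mem _ hy hw
    | smul a y _ hy => rw [smul_lie]; exact Submodule.smul_mem _ _ hy
  set L₀ : LieSubalgebra A₀ L :=
    { Submodule.span A₀ (Set.range x) with
      lie_mem' := fun {y z} hy hz => hlie y hy z hz } with hL₀
  have hxmem : ∀ i, x i ∈ L₀ := fun i => Submodule.subset_span ⟨i, rfl⟩
  haveI : IsNoetherian A₀ L₀ :=
    isNoetherian_of_fg_of_noetherian (Submodule.span A₀ (Set.range x))
      (Submodule.fg_span (Set.finite_range x))
  -- ad-nilpotency on the form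
  have hpow : ∀ (y z : L₀) (k : ℕ),
      ((((LieAlgebra.ad A₀ L₀ y) ^ k) z : L₀) : L) = ((LieAlgebra.ad A L (y : L)) ^ k) (z : L) := by
    intro y z k
    induction k with
    | zero => simp
    | succ k ih =>
      rw [pow_succ', pow_succ', Module.End.mul_apply, Module.End.mul_apply, LieAlgebra.ad_apply,
        LieAlgebra.ad_apply, LieSubalgebra.coe_bracket, ih]
  have hnil0 : ∀ y : L₀, IsNilpotent (LieAlgebra.ad A₀ L₀ y) := by
    intro y
    obtain ⟨k, hk⟩ := h (y : L)
    refine ⟨k, ?_⟩
    ext z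
    rw [hpow, hk]
    simp
  have hN0 : LieRing.IsNilpotent L₀ := (LieAlgebra.isNilpotent_iff_forall (R := A₀) (L := L₀)).2 hnil0
  obtain ⟨k, hk⟩ := (LieModule.isNilpotent_iff A₀ L₀ L₀).1 hN0
  -- transfer
  have key : ∀ j : ℕ, (LieModule.lowerCentralSeries A L L j).toSubmodule ≤
      Submodule.span A ((fun z : L₀ => (z : L)) ''
        ((LieModule.lowerCentralSeries A₀ L₀ L₀ j : LieSubmodule A₀ L₀ L₀) : Set L₀)) := by
    intro j
    induction j with
    | zero =>
      intro z _
      have hz : z ∈ Submodule.span A (Set.range x) := hx ▸ Submodule.mem_top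
      refine Submodule.span_mono ?_ hz
      rintro _ ⟨i, rfl⟩
      exact ⟨⟨x i, hxmem i⟩, by simp, rfl⟩
    | succ j ih =>
      rw [LieModule.lowerCentralSeries_succ, LieSubmodule.lieIdeal_oper_eq_linear_span',
        Submodule.span_le]
      rintro _ ⟨y, -, z, hz, rfl⟩
      have hy : y ∈ Submodule.span A ((fun z : L₀ => (z : L)) '' (Set.univ : Set L₀)) := by
        have hy' : y ∈ Submodule.span A (Set.range x) := hx ▸ Submodule.mem_top
        refine Submodule.span_mono ?_ hy'
        rintro _ ⟨i, rfl⟩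
        exact ⟨⟨x i, hxmem i⟩, Set.mem_univ _, rfl⟩
      have hz' := ih hz
      let B : L →ₗ[A] L →ₗ[A] L := LinearMap.mk₂ A (fun y z => ⁅y, z⁆) add_lie
        (fun c y z => smul_lie c y z) lie_add (fun c y z => lie_smul c y z)
      have hmem := Submodule.apply_mem_map₂ B hy hz'
      rw [Submodule.map₂_span_span] at hmem
      change ⁅y, z⁆ ∈ _ at hmem
      refine Submodule.span_mono ?_ hmem
      rintro _ ⟨_, ⟨y0, -, rfl⟩, _, ⟨z0, hz0, rfl⟩, rfl⟩
      refine ⟨⁅y0, z0⁆, ?_, rfl⟩
      rw [LieModule.lowerCentralSeries_succ]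
      exact LieSubmodule.lie_mem_lie (LieSubmodule.mem_top y0) hz0
  rw [LieRing.IsNilpotent, LieModule.isNilpotent_iff A L L]
  refine ⟨k, ?_⟩
  rw [eq_bot_iff]
  intro z hz
  have h1 := key k hz
  rw [hk] at h1
  have h2 : ((fun z : L₀ => (z : L)) ''
      (((⊥ : LieSubmodule A₀ L₀ L₀) : LieSubmodule A₀ L₀ L₀) : Set L₀)) = {0} := by
    ext w
    simp
  rw [h2, Submodule.span_singleton_eq_bot.2 rfl] at h1
  exact h1

/-- A finitely generated Lie algebra with nilpotent fibres is nilpotent. -/
theorem isNilpotent_of_fibres [Module.Finite A L]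
    (h : ∀ p : PrimeSpectrum A, LieRing.IsNilpotent (p.asIdeal.ResidueField ⊗[A] L)) :
    LieRing.IsNilpotent L := by
  apply isNilpotent_of_ad_nilpotent (A := A)
  intro x
  apply isNilpotent_of_fibrewise
  intro p _
  haveI := h ⟨p, inferInstance⟩
  obtain ⟨k, hk⟩ := LieModule.isNilpotent_toEnd_of_isNilpotent p.ResidueField
    (p.ResidueField ⊗[A] L) (p.ResidueField ⊗[A] L) ((1 : p.ResidueField) ⊗ₜ[A] x)
  refine ⟨k, fun m => ?_⟩
  have h1 : ∀ j : ℕ, ((LieModule.toEnd p.ResidueField (p.ResidueField ⊗[A] L)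
      (p.ResidueField ⊗[A] L) ((1 : p.ResidueField) ⊗ₜ[A] x)) ^ j) ((1 : p.ResidueField) ⊗ₜ[A] m) =
      (1 : p.ResidueField) ⊗ₜ[A] (((LieAlgebra.ad A L x) ^ j) m) := by
    intro j
    induction j with
    | zero => simp
    | succ j ih =>
      rw [pow_succ', pow_succ', Module.End.mul_apply, Module.End.mul_apply, ih,
        LieModule.toEnd_apply_apply, LieAlgebra.ExtendScalars.bracket_tmul, mul_one,
        LieAlgebra.ad_apply]
  rw [← h1 k, hk]
  simp

end Engel

end Groth.Agent.Lib.Helper17.LieNilp
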