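import Mathlib.Algebra.Polynomial.Derivative
import Mathlib.Algebra.Polynomial.Eval.Algebra
import Mathlib.Algebra.Polynomial.AlgebraMap
import Mathlib.Algebra.Ring.GeomSum
import Mathlib.RingTheory.Coprime.Basic
import Mathlib.RingTheory.Coprime.Lemmas
import Mathlib.Algebra.Polynomial.Div
import Mathlib.Data.Rat.Cast.CharZero

/-!
# The truncated logarithm polynomial (helper17)

`L_d(T) = ∑_{n ≤ d} (-1)^n/(n+1) T^{n+1}` satisfies `L_d((1+T)^j - 1) ≡ j L_d(T)` modulo `T^{d+1}`.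
-/

set_option autoImplicit false

open Polynomial Finset

namespace Groth.Agent.Lib.Helper17.LogPoly

/-- the truncated logarithm `∑_{n ≤ d} (-1)^n/(n+1) X^{n+1}` -/
noncomputable def Ld (d : ℕ) : ℚ[X] :=
  ∑ n ∈ range (d + 1), C ((-1 : ℚ) ^ n / ((n : ℚ) + 1)) * X ^ (n + 1)

lemma derivative_Ld (d : ℕ) : derivative (Ld d) = ∑ n ∈ range (d + 1), (-X : ℚ[X]) ^ n := by
  unfold Ld
  rw [derivative_sum]
  apply Finset.sum_congr rfl
  intro n _
  have h : ((n : ℚ) + 1) ≠ 0 := by positivity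
  rw [derivative_C_mul, derivative_X_pow, Nat.add_sub_cancel, ← mul_assoc, ← C_mul]
  have h2 : (-1 : ℚ) ^ n / ((n : ℚ) + 1) * ((n + 1 : ℕ) : ℚ) = (-1) ^ n := by
    push_cast
    exact div_mul_cancel₀ _ h
  rw [h2, neg_pow (X : ℚ[X]) n]
  simp

lemma one_add_X_mul_derivative_Ld (d : ℕ) :
    (1 + X) * derivative (Ld d) = 1 - (-X : ℚ[X]) ^ (d + 1) := by
  rw [derivative_Ld]
  have h := mul_neg_geom_sum (-X : ℚ[X]) (d + 1)
  rwa [sub_neg_eq_add] at h

/-- `S_j = (1+X)^j - 1` -/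
noncomputable def Sj (j : ℕ) : ℚ[X] := (1 + X) ^ j - 1

lemma X_dvd_Sj (j : ℕ) : (X : ℚ[X]) ∣ Sj j := by
  unfold Sj
  have h : ((1 + X : ℚ[X]) ^ j - 1) = ((1 + X : ℚ[X]) - 1) * ∑ i ∈ range j, (1 + X : ℚ[X]) ^ i := by
    rw [mul_comm, geom_sum_mul]
  rw [h, add_sub_cancel_left]
  exact dvd_mul_right _ _

lemma one_add_X_mul_derivative_Sj (j : ℕ) :
    (1 + X) * derivative (Sj j) = C (j : ℚ) * (1 + X) ^ j := by
  unfold Sj
  rw [derivative_sub, derivative_one, sub_zero, derivative_pow, derivative_add, derivative_one,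
    derivative_X, zero_add, mul_one]
  rcases j with _ | j
  · simp
  · rw [Nat.add_sub_cancel, pow_succ]
    simp only [map_natCast]
    ring

/-- the defect polynomial -/
noncomputable def Fd (d j : ℕ) : ℚ[X] := (Ld d).comp (Sj j) - C (j : ℚ) * Ld d

lemma one_add_X_mul_derivative_Fd (d j : ℕ) :
    (1 + X) * derivative (Fd d j) =
      C (j : ℚ) * ((-X : ℚ[X]) ^ (d + 1) - (-(Sj j)) ^ (d + 1)) := by
  unfold Fd
  rw [derivative_sub, derivative_comp, derivative_C_mul, mul_sub]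
  have h1 : (1 + X) * (derivative (Sj j) * (derivative (Ld d)).comp (Sj j)) =
      C (j : ℚ) * (((1 + X) * derivative (Ld d)).comp (Sj j)) := by
    rw [← mul_assoc, one_add_X_mul_derivative_Sj, mul_comp, add_comp, one_comp, X_comp]
    have : (1 : ℚ[X]) + Sj j = (1 + X) ^ j := by unfold Sj; ring
    rw [this]; ring
  rw [h1, one_add_X_mul_derivative_Ld, sub_comp, one_comp, pow_comp, neg_comp, X_comp]
  have h2 : (1 + X) * (C (j : ℚ) * derivative (Ld d)) =
      C (j : ℚ) * ((1 + X) * derivative (Ld d)) := by ring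
  rw [h2, one_add_X_mul_derivative_Ld]
  ring

lemma X_pow_dvd_derivative_Fd (d j : ℕ) : (X : ℚ[X]) ^ (d + 1) ∣ derivative (Fd d j) := by
  have h1 : (X : ℚ[X]) ^ (d + 1) ∣ (1 + X) * derivative (Fd d j) := by
    rw [one_add_X_mul_derivative_Fd]
    apply Dvd.dvd.mul_left
    apply dvd_sub
    · rw [neg_pow]; exact dvd_mul_left _ _
    · rw [neg_pow]
      exact Dvd.dvd.mul_left (pow_dvd_pow_of_dvd (X_dvd_Sj j) _) _
  have hc : IsCoprime ((X : ℚ[X]) ^ (d + 1)) (1 + X) := by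
    apply IsCoprime.pow_left
    exact ⟨-1, 1, by ring⟩
  exact hc.dvd_of_dvd_mul_left h1

lemma coeff_zero_Fd (d j : ℕ) : (Fd d j).coeff 0 = 0 := by
  have hL : (Ld d).coeff 0 = 0 := by
    unfold Ld
    rw [finsetSum_coeff]
    apply Finset.sum_eq_zero
    intro n _
    rw [coeff_C_mul, coeff_X_pow, if_neg (by omega), mul_zero]
  have hS : (Sj j).coeff 0 = 0 := by
    have h := X_dvd_Sj j
    rw [X_dvd_iff] at h
    exact h
  unfold Fd
  rw [coeff_sub, coeff_C_mul, hL, mul_zero, sub_zero, coeff_zero_eq_eval_zero, eval_comp,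
    ← coeff_zero_eq_eval_zero (Sj j), hS, ← coeff_zero_eq_eval_zero, hL]

theorem X_pow_dvd_Fd (d j : ℕ) : (X : ℚ[X]) ^ (d + 1) ∣ Fd d j := by
  rw [X_pow_dvd_iff]
  intro i hi
  rcases i with _ | i
  · exact coeff_zero_Fd d j
  · have h := (X_pow_dvd_iff.mp (X_pow_dvd_derivative_Fd d j)) i (by omega)
    rw [coeff_derivative] at h
    have hne : ((i : ℚ) + 1) ≠ 0 := by positivity
    exact (mul_eq_zero.mp h).resolve_right hne

/-- in a `ℚ`-algebra, for `τ` with `τ^{d+1} = 0`: `L_d((1+τ)^j - 1) = j L_d(τ)` -/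
theorem aeval_Ld_comp {A : Type*} [CommRing A] [Algebra ℚ A] (d j : ℕ) (τ : A)
    (hτ : τ ^ (d + 1) = 0) :
    aeval ((1 + τ) ^ j - 1) (Ld d) = (j : ℚ) • aeval τ (Ld d) := by
  obtain ⟨G, hG⟩ := X_pow_dvd_Fd d j
  have h1 : aeval τ (Fd d j) = 0 := by
    rw [hG, map_mul, map_pow, aeval_X, hτ, zero_mul]
  unfold Fd at h1
  rw [map_sub, aeval_comp, map_mul, aeval_C, sub_eq_zero] at h1
  have h2 : aeval τ (Sj j) = (1 + τ) ^ j - 1 := by
    unfold Sj
    simp
  rw [h2] at h1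
  rw [h1, Algebra.smul_def]

end Groth.Agent.Lib.Helper17.LogPoly
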