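import Groth.Agent.Lib.Helper17.MultLift2
import Mathlib

/-!
# Base change of diagonalisations and of groups of multiplicative type (helper17)

* `nonempty_bialgEquiv_of_tower`: a diagonalisation `P ⊗ C ≅ P[N]` over `P` gives one over every
  `P`-algebra `S'`.
* `isDiag_tower`: abstract form of "constant multiplicative type is stable under base change".
* `isMultTypeConst_baseChange`, `isMultType_baseChange`.
* `mem_smul_top_of_one_tmul_eq_zero`, `faithfullyFlat_of_tensor`, `finite_of_tensor`: descent of
  faithful flatness / finiteness along a surjection with nil kernel.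
-/

set_option autoImplicit false
universe u

open TensorProduct SGA3b

namespace Groth.Agent.Lib.Helper17.MultBC

open Groth.Agent.Lib.Helper27.MultRigid Groth.Agent.Lib.Helper17.MultLift

section DBC

variable {k P S' C N : Type u} [CommRing k] [CommRing P] [CommRing S'] [Algebra k P]
  [Algebra P S'] [Algebra k S'] [IsScalarTower k P S'] [CommRing C] [HopfAlgebra k C]
  [CommGroup N]

/-- a diagonalisation over `P` induces one over every `P`-algebra -/
theorem nonempty_bialgEquiv_of_tower (e : P ⊗[k] C ≃ₐc[P] MonoidAlgebra P N) :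
    Nonempty (S' ⊗[k] C ≃ₐc[S'] MonoidAlgebra S' N) := by
  set θ' : C →ₗ[k] MonoidAlgebra S' N := ((mapL P S' N).restrictScalars k) ∘ₗ thetaOf e with hθ'
  have hθ'a : ∀ c, θ' c = mapL P S' N (e ((1 : P) ⊗ₜ[k] c)) := fun c => rfl
  have hθ'c : IsSemiComul (R := k) (R' := S') θ' :=
    IsSemiComul.comp (isSemiComul_thetaOf e) isSemiComul_mapL
  have hθ'u : IsSemiCounit (R := k) (R' := S') θ' := by
    intro c
    rw [hθ'a, isSemiCounit_mapL, ← thetaOf_apply, isSemiCounit_thetaOf e c,
      ← IsScalarTower.algebraMap_apply]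
  have hΨc : IsSemiComul (R := S') (R' := S') (θ'.liftBaseChange S') :=
    IsSemiComul.liftBaseChange hθ'c
  have hΨu : IsSemiCounit (R := S') (R' := S') (θ'.liftBaseChange S') :=
    IsSemiCounit.liftBaseChange hθ'u
  set E : S' ⊗[k] C ≃ₐ[S'] MonoidAlgebra S' N :=
    ((Algebra.TensorProduct.cancelBaseChange k P S' S' C).symm.trans
      (Algebra.TensorProduct.congr (AlgEquiv.refl : S' ≃ₐ[S'] S')
        (e : P ⊗[k] C ≃ₐ[P] MonoidAlgebra P N))).trans
      (MonoidAlgebra.scalarTensorEquiv (M := N) P S') with hE
  have hT : ∀ z, E z = θ'.liftBaseChange S' z := by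
    intro z
    induction z using TensorProduct.induction_on with
    | zero => simp
    | tmul s c =>
      rw [LinearMap.liftBaseChange_tmul, hE, AlgEquiv.trans_apply, AlgEquiv.trans_apply,
        Algebra.TensorProduct.cancelBaseChange_symm_tmul, Algebra.TensorProduct.congr_apply,
        Algebra.TensorProduct.map_tmul, MonoidAlgebra.scalarTensorEquiv_tmul, hθ'a]
      rfl
    | add a b ha hb => rw [map_add, map_add, ha, hb]
  refine ⟨BialgEquiv.ofAlgEquiv E (AlgHom.ext fun z => ?_) (AlgHom.ext fun z => ?_)⟩
  · show Coalgebra.counit (R := S') (E z) = Coalgebra.counit (R := S') z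
    rw [hT, hΨu z]
    rfl
  · show Algebra.TensorProduct.map (E : _ →ₐ[S'] _) (E : _ →ₐ[S'] _)
      (Coalgebra.comul (R := S') z) = Coalgebra.comul (R := S') (E z)
    rw [hT, hΨc z]
    generalize Coalgebra.comul (R := S') z = t
    induction t using TensorProduct.induction_on with
    | zero => simp
    | tmul a b =>
      rw [Algebra.TensorProduct.map_tmul, Xi_tmul]
      show E a ⊗ₜ[S'] E b = _
      rw [hT, hT]
    | add a b ha hb => rw [map_add, map_add, ha, hb]

end DBC

section Transport

variable {R : Type u} [CommRing R] {A B : Type u} [CommRing A] [CommRing B] [HopfAlgebra R A]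
  [HopfAlgebra R B]

theorem isDiag_of_bialgEquiv (e : A ≃ₐc[R] B) (h : IsDiag R B) : IsDiag R A := by
  obtain ⟨M, _, ⟨e'⟩⟩ := h
  exact ⟨M, inferInstance, ⟨e.trans e'⟩⟩

end Transport

section Tower

variable {R R' K S P P' : Type u} [CommRing R] [CommRing R'] [CommRing K] [CommRing S]
  [CommRing P] [CommRing P']
  [Algebra R R'] [Algebra R K] [Algebra R' S] [Algebra K S] [Algebra R S]
  [IsScalarTower R R' S] [IsScalarTower R K S]
  [Algebra K P] [Algebra S P'] [Algebra P P'] [Algebra K P'] [IsScalarTower K S P']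
  [IsScalarTower K P P']
  (A : Type u) [CommRing A] [HopfAlgebra R A] {N : Type u} [CommGroup N]

/-- abstract tower form of base change of a diagonalisation -/
theorem isDiag_tower (e : P ⊗[K] (K ⊗[R] A) ≃ₐc[P] MonoidAlgebra P N) :
    IsDiag P' (P' ⊗[S] (S ⊗[R'] (R' ⊗[R] A))) := by
  letI iR' : Algebra R' P' := ((algebraMap S P').comp (algebraMap R' S)).toAlgebra
  haveI : IsScalarTower R' S P' := IsScalarTower.of_algebraMap_eq (fun _ => rfl)
  letI iR : Algebra R P' := ((algebraMap S P').comp (algebraMap R S)).toAlgebra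
  haveI : IsScalarTower R S P' := IsScalarTower.of_algebraMap_eq (fun _ => rfl)
  haveI : IsScalarTower R R' P' := IsScalarTower.of_algebraMap_eq (fun x => by
    show algebraMap S P' (algebraMap R S x) = algebraMap S P' (algebraMap R' S (algebraMap R R' x))
    rw [← IsScalarTower.algebraMap_apply R R' S])
  haveI : IsScalarTower R K P' := IsScalarTower.of_algebraMap_eq (fun x => by
    show algebraMap S P' (algebraMap R S x) = algebraMap K P' (algebraMap R K x)
    rw [IsScalarTower.algebraMap_apply K S P', ← IsScalarTower.algebraMap_apply R K S])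
  obtain ⟨c4⟩ := nonempty_bialgEquiv_of_tower (k := K) (P := P) (S' := P') (C := K ⊗[R] A) e
  exact ⟨N, inferInstance,
    ⟨(cancelBaseChangeBialg R' S P' (R' ⊗[R] A)).trans
      ((cancelBaseChangeBialg R R' P' A).trans
        ((cancelBaseChangeBialg R K P' A).symm.trans c4))⟩⟩

end Tower

section BC

/-- constant multiplicative type is stable under base change (tower form) -/
theorem isMultTypeConst_baseChange {R R' K S : Type u} [CommRing R] [CommRing R'] [CommRing K]
    [CommRing S] [Algebra R R'] [Algebra R K] [Algebra R' S] [Algebra K S] [Algebra R S]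
    [IsScalarTower R R' S] [IsScalarTower R K S] (A : Type u) [CommRing A] [HopfAlgebra R A]
    (h : IsMultTypeConst K (K ⊗[R] A)) : IsMultTypeConst S (S ⊗[R'] (R' ⊗[R] A)) := by
  obtain ⟨P, _, _, hff, N, _, ⟨e⟩⟩ := h
  haveI := hff
  refine ⟨S ⊗[K] P, inferInstance, inferInstance, inferInstance, ?_⟩
  letI iP : Algebra P (S ⊗[K] P) := Algebra.TensorProduct.rightAlgebra
  haveI : IsScalarTower K P (S ⊗[K] P) := IsScalarTower.of_algebraMap_eq (fun x => by
    rw [Algebra.TensorProduct.algebraMap_apply, Algebra.TensorProduct.right_algebraMap_apply,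
      Algebra.algebraMap_eq_smul_one, Algebra.algebraMap_eq_smul_one, TensorProduct.smul_tmul])
  exact isDiag_tower (R := R) (R' := R') (K := K) (S := S) (P := P) (P' := S ⊗[K] P) A e

/-- multiplicative type is stable under base change -/
theorem isMultType_baseChange {R R' : Type u} [CommRing R] [CommRing R'] [Algebra R R']
    (A : Type u) [CommRing A] [HopfAlgebra R A] (h : IsMultType R A) :
    IsMultType R' (R' ⊗[R] A) := by
  obtain ⟨s, hs, hloc⟩ := h
  refine ⟨algebraMap R R' '' s, by rw [← Ideal.map_span, hs, Ideal.map_top], ?_⟩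
  rintro _ ⟨f, hf, rfl⟩
  have hu : IsUnit (algebraMap R (Localization.Away (algebraMap R R' f)) f) := by
    rw [IsScalarTower.algebraMap_apply R R' (Localization.Away (algebraMap R R' f))]
    exact IsLocalization.Away.algebraMap_isUnit (algebraMap R R' f)
  letI : Algebra (Localization.Away f) (Localization.Away (algebraMap R R' f)) :=
    (IsLocalization.Away.lift f hu).toAlgebra
  haveI : IsScalarTower R (Localization.Away f) (Localization.Away (algebraMap R R' f)) :=
    IsScalarTower.of_algebraMap_eq (fun x => (IsLocalization.Away.lift_eq f hu x).symm)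
  exact isMultTypeConst_baseChange (R := R) (R' := R') (K := Localization.Away f)
    (S := Localization.Away (algebraMap R R' f)) A (hloc f hf)

end BC

section Nil

variable {k K : Type u} [CommRing k] [CommRing K] [Algebra k K]

theorem mem_smul_top_of_one_tmul_eq_zero {M : Type*} [AddCommGroup M] [Module k M]
    (hsurj : Function.Surjective (algebraMap k K)) {y : M}
    (h : (1 : K) ⊗ₜ[k] y = 0) :
    y ∈ RingHom.ker (algebraMap k K) • (⊤ : Submodule k M) := by
  set J := RingHom.ker (algebraMap k K)
  have hs : Function.Surjective (Algebra.ofId k K) := hsurj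
  let e : (k ⧸ J) ≃ₗ[k] K := (Ideal.quotientKerAlgEquivOfSurjective hs).toLinearEquiv
  have he : e 1 = 1 := map_one (Ideal.quotientKerAlgEquivOfSurjective hs)
  have h3 : ((1 : k ⧸ J) ⊗ₜ[k] y : (k ⧸ J) ⊗[k] M) = 0 := by
    apply (LinearEquiv.rTensor M e).injective
    rw [map_zero, LinearEquiv.rTensor_tmul, he, h]
  have h4 := congrArg (TensorProduct.quotTensorEquivQuotSMul M J) h3
  rw [TensorProduct.quotTensorEquivQuotSMul_mk_one_tmul, map_zero,
    Submodule.Quotient.mk_eq_zero] at h4
  exact h4

theorem isNilpotent_of_mem_smul_top {R' : Type*} [CommRing R'] [Algebra k R'] (J : Ideal k)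
    (hJ : ∀ x ∈ J, IsNilpotent x) {y : R'} (hy : y ∈ J • (⊤ : Submodule k R')) :
    IsNilpotent y := by
  rw [← mem_nilradical]
  refine Submodule.smul_induction_on hy (fun a ha r _ => ?_)
    (fun x y hx hy => (nilradical R').add_mem hx hy)
  rw [Algebra.smul_def]
  exact (nilradical R').mul_mem_right _ (mem_nilradical.2 ((hJ a ha).map (algebraMap k R')))

theorem faithfullyFlat_of_tensor {R' : Type u} [CommRing R'] [Algebra k R'] [Module.Flat k R']
    (hsurj : Function.Surjective (algebraMap k K))
    (hnil : ∀ x ∈ RingHom.ker (algebraMap k K), IsNilpotent x)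
    [Module.FaithfullyFlat K (K ⊗[k] R')] : Module.FaithfullyFlat k R' := by
  refine ⟨fun m hm h => ?_⟩
  have hker : RingHom.ker (algebraMap k K) ≤ m := fun x hx => by
    obtain ⟨n, hn⟩ := hnil x hx
    exact hm.isPrime.mem_of_pow_mem n (hn ▸ m.zero_mem)
  have hmax : (m.map (algebraMap k K)).IsMaximal := by
    rcases Ideal.map_eq_top_or_isMaximal_of_surjective (algebraMap k K) hsurj hm with h1 | h1
    · exfalso
      have h2 := Ideal.comap_map_of_surjective (algebraMap k K) hsurj m
      rw [h1, Ideal.comap_top, ← RingHom.ker_eq_comap_bot, sup_eq_left.2 hker] at h2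
      exact hm.ne_top h2.symm
    · exact h1
  refine Module.FaithfullyFlat.submodule_ne_top (R := K) (M := K ⊗[k] R') hmax ?_
  refine eq_top_iff.2 fun z hz => ?_
  clear hz
  induction z using TensorProduct.induction_on with
  | zero => exact zero_mem _
  | tmul c r =>
    have hr : r ∈ m • (⊤ : Submodule k R') := by rw [h]; exact Submodule.mem_top
    refine Submodule.smul_induction_on hr (fun a ha r₀ _ => ?_) (fun x y hx hy => by
      rw [TensorProduct.tmul_add]; exact add_mem hx hy)
    rw [TensorProduct.tmul_smul, ← algebraMap_smul K a (c ⊗ₜ[k] r₀)]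
    exact Submodule.smul_mem_smul (Ideal.mem_map_of_mem _ ha) Submodule.mem_top
  | add x y hx hy => exact add_mem hx hy

theorem finite_of_tensor {R' : Type u} [CommRing R'] [Algebra k R'] [Algebra.FiniteType k R']
    (hsurj : Function.Surjective (algebraMap k K))
    (hnil : ∀ x ∈ RingHom.ker (algebraMap k K), IsNilpotent x)
    [Module.Finite K (K ⊗[k] R')] : Module.Finite k R' := by
  haveI : Algebra.IsIntegral k R' := by
    refine ⟨fun x => ?_⟩
    have h1 : IsIntegral K ((1 : K) ⊗ₜ[k] x) := IsIntegral.of_finite K _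
    obtain ⟨q, hqm, hq⟩ := h1
    obtain ⟨p, hpq, -, hpm⟩ := Polynomial.lifts_and_natDegree_eq_and_monic
      ((Polynomial.mem_lifts q).2 (Polynomial.map_surjective _ hsurj q)) hqm
    have h2 : (1 : K) ⊗ₜ[k] (Polynomial.aeval x p) = 0 := by
      have h3 : Polynomial.aeval ((1 : K) ⊗ₜ[k] x) p =
          (Algebra.TensorProduct.includeRight : R' →ₐ[k] K ⊗[k] R') (Polynomial.aeval x p) :=
        Polynomial.aeval_algHom_apply
          (Algebra.TensorProduct.includeRight : R' →ₐ[k] K ⊗[k] R') x p
      rw [← hpq, Polynomial.eval₂_map, ← IsScalarTower.algebraMap_eq] at hq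
      rw [← Algebra.TensorProduct.includeRight_apply, ← h3]
      exact hq
    have h4 := isNilpotent_of_mem_smul_top _ hnil (mem_smul_top_of_one_tmul_eq_zero hsurj h2)
    obtain ⟨n, hn⟩ := h4
    by_cases hn0 : n = 0
    · subst hn0
      rw [pow_zero] at hn
      haveI : Subsingleton R' := subsingleton_of_zero_eq_one hn.symm
      exact ⟨1, Polynomial.monic_one, Subsingleton.elim _ _⟩
    · refine ⟨p ^ n, hpm.pow n, ?_⟩
      rw [← Polynomial.aeval_def, map_pow, hn]
  exact Algebra.IsIntegral.finite

end Nil

end Groth.Agent.Lib.Helper17.MultBC
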