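import Groth.Agent.Lib.Helper17.MultLift
import Groth.Agent.S1156

/-!
# Lifting group-like elements modulo a nil ideal: descent (helper17)

* `mapL`, `isSemiComul_mapL`, `isSemiCounit_mapL`: extension of coefficients `P[N] → S'[N]`.
* `exists_coalg_inj`: if `P ⊗ C ≅ P[N]` then for every `P`-algebra `S'` there is an injective
  coalgebra map `S' ⊗ C → S'[N]`.
* `groupLike_unique`: group-like elements of `S' ⊗ C` congruent modulo a nil ideal are equal.
* `exists_groupLike_of_gli`: an element of `C` which is group-like modulo a nil ideal `I₀` is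
  congruent modulo `I₀` to a group-like element, when `C` becomes diagonalisable after a
  faithfully flat base change (Amitsur descent, S1156).
* `cancelBaseChangeBialg`: transitivity of base change as a bialgebra isomorphism.
* `map_map_injective`: injectivity of `(K ⊗ T) ⊗ A → (P ⊗ T) ⊗ A` for `K → P` faithfully flat.
-/

set_option autoImplicit false
universe u

namespace Groth.Agent.Lib.Helper17.MultLift

open TensorProduct Groth.Agent.Lib.Helper27.MultRigid Groth.Agent.Lib.Helper17.MultLocal

section MapRange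

variable (P S' N : Type*) [CommRing P] [CommRing S'] [Algebra P S'] [Monoid N]

/-- extension of coefficients `P[N] → S'[N]` as a `P`-linear map -/
noncomputable def mapL : MonoidAlgebra P N →ₗ[P] MonoidAlgebra S' N :=
  (MonoidAlgebra.mapAlgHom N (Algebra.ofId P S')).toLinearMap

variable {P S' N}

theorem mapL_apply (x : MonoidAlgebra P N) :
    mapL P S' N x = MonoidAlgebra.mapAlgHom N (Algebra.ofId P S') x := rfl

theorem mapL_of (n : N) : mapL P S' N (MonoidAlgebra.of P N n) = MonoidAlgebra.of S' N n := by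
  rw [mapL_apply, MonoidAlgebra.of_apply, MonoidAlgebra.mapAlgHom_single, map_one,
    MonoidAlgebra.of_apply]

theorem isSemiComul_mapL : IsSemiComul (R := P) (R' := S') (mapL P S' N) := by
  intro x
  induction x using MonoidAlgebra.induction_on with
  | of n =>
    rw [mapL_of, (MonoidAlgebra.isGroupLikeElem_of (R := S') (A := S') n).comul_eq_tmul_self,
      (MonoidAlgebra.isGroupLikeElem_of (R := P) (A := P) n).comul_eq_tmul_self, Xi_tmul, mapL_of]
  | add a b ha hb => rw [map_add, map_add, map_add, map_add, ha, hb]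
  | smul r a ha =>
    have h1 : mapL P S' N (r • a) = algebraMap P S' r • mapL P S' N a := by
      rw [map_smul, algebraMap_smul]
    rw [h1, map_smul, map_smul, map_smul, ha, algebraMap_smul]

theorem isSemiCounit_mapL : IsSemiCounit (R := P) (R' := S') (mapL P S' N) := by
  intro x
  induction x using MonoidAlgebra.induction_on with
  | of n =>
    rw [mapL_of, (MonoidAlgebra.isGroupLikeElem_of (R := S') (A := S') n).counit_eq_one,
      (MonoidAlgebra.isGroupLikeElem_of (R := P) (A := P) n).counit_eq_one, map_one]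
  | add a b ha hb => rw [map_add, map_add, map_add, map_add, ha, hb]
  | smul r a ha =>
    have h1 : mapL P S' N (r • a) = algebraMap P S' r • mapL P S' N a := by
      rw [map_smul, algebraMap_smul]
    rw [h1, map_smul, map_smul, ha, smul_eq_mul, smul_eq_mul, map_mul]

end MapRange

section CoalgInj

variable {k P S' C N : Type u} [CommRing k] [CommRing P] [CommRing S'] [Algebra k P]
  [Algebra P S'] [Algebra k S'] [IsScalarTower k P S'] [CommRing C] [HopfAlgebra k C]
  [CommGroup N]

/-- the semilinear map `C → P[N]` attached to a diagonalisation over `P` -/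
noncomputable def thetaOf (e : P ⊗[k] C ≃ₐc[P] MonoidAlgebra P N) : C →ₗ[k] MonoidAlgebra P N :=
  ((e : P ⊗[k] C →ₗc[P] MonoidAlgebra P N).toLinearMap.restrictScalars k) ∘ₗ bcMap P C

theorem thetaOf_apply (e : P ⊗[k] C ≃ₐc[P] MonoidAlgebra P N) (c : C) :
    thetaOf e c = e ((1 : P) ⊗ₜ[k] c) := rfl

theorem isSemiComul_thetaOf (e : P ⊗[k] C ≃ₐc[P] MonoidAlgebra P N) :
    IsSemiComul (R := k) (R' := P) (thetaOf e) :=
  IsSemiComul.comp isSemiComul_bcMap (isSemiComul_coalgHom _)

theorem isSemiCounit_thetaOf (e : P ⊗[k] C ≃ₐc[P] MonoidAlgebra P N) :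
    IsSemiCounit (R := k) (R' := P) (thetaOf e) := by
  intro c
  rw [thetaOf_apply]
  have hc1 : Coalgebra.counit (R := P) (e ((1 : P) ⊗ₜ[k] c)) =
      Coalgebra.counit (R := P) ((1 : P) ⊗ₜ[k] c) := CoalgHomClass.counit_comp_apply e _
  rw [hc1]
  exact isSemiCounit_bcMap (k := k) (S := P) (C := C) c

theorem exists_coalg_inj (e : P ⊗[k] C ≃ₐc[P] MonoidAlgebra P N) :
    ∃ Ψ : S' ⊗[k] C →ₗ[S'] MonoidAlgebra S' N, Function.Injective Ψ ∧
      IsSemiComul (R := S') (R' := S') Ψ ∧ IsSemiCounit (R := S') (R' := S') Ψ := by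
  set θ' : C →ₗ[k] MonoidAlgebra S' N := ((mapL P S' N).restrictScalars k) ∘ₗ thetaOf e with hθ'
  have hθ'a : ∀ c, θ' c = mapL P S' N (e ((1 : P) ⊗ₜ[k] c)) := fun c => rfl
  have hθ'c : IsSemiComul (R := k) (R' := S') θ' :=
    IsSemiComul.comp (isSemiComul_thetaOf e) isSemiComul_mapL
  have hθ'u : IsSemiCounit (R := k) (R' := S') θ' := by
    intro c
    rw [hθ'a, isSemiCounit_mapL, ← thetaOf_apply, isSemiCounit_thetaOf e c,
      ← IsScalarTower.algebraMap_apply]
  refine ⟨θ'.liftBaseChange S', ?_, IsSemiComul.liftBaseChange hθ'c,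
    IsSemiCounit.liftBaseChange hθ'u⟩
  set f1 := (TensorProduct.AlgebraTensorModule.cancelBaseChange k P S' S' C).symm with hf1
  set f2 := TensorProduct.AlgebraTensorModule.congr (LinearEquiv.refl S' S')
    ((e : P ⊗[k] C ≃ₐ[P] MonoidAlgebra P N).toLinearEquiv) with hf2
  set f3 := MonoidAlgebra.scalarTensorEquiv (M := N) P S' with hf3
  have hT : ∀ z, θ'.liftBaseChange S' z = f3 (f2 (f1 z)) := by
    intro z
    induction z using TensorProduct.induction_on with
    | zero => simp
    | tmul s c =>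
      rw [LinearMap.liftBaseChange_tmul, hf1,
        TensorProduct.AlgebraTensorModule.cancelBaseChange_symm_tmul, hf2,
        TensorProduct.AlgebraTensorModule.congr_tmul, hf3, MonoidAlgebra.scalarTensorEquiv_tmul,
        hθ'a]
      rfl
    | add a b ha hb => rw [map_add, map_add, map_add, map_add, ha, hb]
  have : ⇑(θ'.liftBaseChange S') = ⇑f3 ∘ ⇑f2 ∘ ⇑f1 := funext hT
  rw [this]
  exact f3.injective.comp (f2.injective.comp f1.injective)

theorem groupLike_unique (e : P ⊗[k] C ≃ₐc[P] MonoidAlgebra P N) (J : Ideal S')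
    (hJ : ∀ x ∈ J, IsNilpotent x) {g g' : S' ⊗[k] C} (hg : IsGroupLikeElem S' g)
    (hg' : IsGroupLikeElem S' g')
    (h : g - g' ∈ J • (⊤ : Submodule S' (S' ⊗[k] C))) : g = g' := by
  obtain ⟨Ψ, hinj, hc, hu⟩ := exists_coalg_inj (S' := S') e
  apply hinj
  apply groupLike_eq_of_sub_mem J hJ (isGroupLikeElem_of_semi hc hu hg)
    (isGroupLikeElem_of_semi hc hu hg')
  rw [← map_sub]
  exact map_mem_smul_top J Ψ h

end CoalgInj

section Descent

variable {k P C N : Type u} [CommRing k] [CommRing P] [Algebra k P]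
  [Module.FaithfullyFlat k P] [CommRing C] [HopfAlgebra k C] [CommGroup N]

theorem exists_groupLike_of_gli (e : P ⊗[k] C ≃ₐc[P] MonoidAlgebra P N) (I₀ : Ideal k)
    (hI₀ : ∀ x ∈ I₀, IsNilpotent x) (a : C)
    (h1 : Coalgebra.comul (R := k) a - a ⊗ₜ[k] a ∈ I₀ • (⊤ : Submodule k (C ⊗[k] C)))
    (h2 : Coalgebra.counit (R := k) a - 1 ∈ I₀) :
    ∃ g : C, IsGroupLikeElem k g ∧ g - a ∈ I₀ • (⊤ : Submodule k C) := by
  classical
  set J : Ideal P := I₀.map (algebraMap k P) with hJdef
  have hJ : ∀ x ∈ J, IsNilpotent x := nil_map _ _ hI₀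
  set θ := thetaOf e with hθ
  have hθc := isSemiComul_thetaOf e
  have hθu := isSemiCounit_thetaOf e
  set y := θ a with hy
  have hc1 : ∀ n n' : N, y.coeff n * y.coeff n' - (if n = n' then y.coeff n else 0) ∈ J := by
    intro n n'
    have e1 : Coalgebra.comul (R := P) y - y ⊗ₜ[P] y =
        Xi (R := k) (R' := P) θ (Coalgebra.comul (R := k) a - a ⊗ₜ[k] a) := by
      rw [map_sub, Xi_tmul, hθc a]
    have e2 : Coalgebra.comul (R := P) y - y ⊗ₜ[P] y ∈
        J • (⊤ : Submodule P (MonoidAlgebra P N ⊗[P] MonoidAlgebra P N)) := by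
      rw [e1]
      exact semi_mem_smul_top I₀ (map_mem_smul_top I₀ _ h1)
    have e3 := functional_mem J (evalL n n') e2
    rw [map_sub, evalL_comul, evalL_tmul] at e3
    have : y.coeff n * y.coeff n' - (if n = n' then y.coeff n else 0) =
        -((if n = n' then y.coeff n else 0) - y.coeff n * y.coeff n') := by ring
    rw [this]
    exact J.neg_mem e3
  have hc2 : Coalgebra.counit (R := P) y - 1 ∈ J := by
    rw [hy, hθu a, ← map_one (algebraMap k P), ← map_sub]
    exact Ideal.mem_map_of_mem _ h2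
  obtain ⟨γ, hγ, hγy⟩ := exists_groupLike_lift J hJ y hc1 hc2
  set x : P ⊗[k] C := e.symm γ with hx
  have hxg : IsGroupLikeElem P x := (isGroupLikeElem_map_equiv e.symm).2 hγ
  have hxa : x - (1 : P) ⊗ₜ[k] a ∈ I₀ • (⊤ : Submodule k (P ⊗[k] C)) := by
    have h3 : x - (1 : P) ⊗ₜ[k] a = e.symm.toAlgEquiv.toLinearMap (γ - y) := by
      change x - (1 : P) ⊗ₜ[k] a = e.symm (γ - y)
      rw [map_sub, hy, hθ, thetaOf_apply, e.symm_apply_apply]
    rw [h3]
    apply conv_mem_smul_top I₀ (S' := P)
    exact map_mem_smul_top J _ hγy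
  set x₁ := Algebra.TensorProduct.map
    (Algebra.TensorProduct.includeLeft : P →ₐ[k] P ⊗[k] P) (AlgHom.id k C) x with hx₁
  set x₂ := Algebra.TensorProduct.map
    (Algebra.TensorProduct.includeRight : P →ₐ[k] P ⊗[k] P) (AlgHom.id k C) x with hx₂
  have hx₁g : IsGroupLikeElem (P ⊗[k] P) x₁ := isGroupLike_map _ hxg
  have hx₂g : IsGroupLikeElem (P ⊗[k] P) x₂ := isGroupLike_map _ hxg
  have hx₁a : x₁ - (1 : P ⊗[k] P) ⊗ₜ[k] a ∈
      I₀ • (⊤ : Submodule k ((P ⊗[k] P) ⊗[k] C)) := by
    have := map_mem_smul_top I₀ (Algebra.TensorProduct.map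
      (Algebra.TensorProduct.includeLeft : P →ₐ[k] P ⊗[k] P) (AlgHom.id k C)).toLinearMap hxa
    rwa [AlgHom.toLinearMap_apply, map_sub, map_one_tmul] at this
  have hx₂a : x₂ - (1 : P ⊗[k] P) ⊗ₜ[k] a ∈
      I₀ • (⊤ : Submodule k ((P ⊗[k] P) ⊗[k] C)) := by
    have := map_mem_smul_top I₀ (Algebra.TensorProduct.map
      (Algebra.TensorProduct.includeRight : P →ₐ[k] P ⊗[k] P) (AlgHom.id k C)).toLinearMap hxa
    rwa [AlgHom.toLinearMap_apply, map_sub, map_one_tmul] at this
  have h12 : x₁ - x₂ ∈ I₀ • (⊤ : Submodule k ((P ⊗[k] P) ⊗[k] C)) := by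
    have : x₁ - x₂ = (x₁ - (1 : P ⊗[k] P) ⊗ₜ[k] a) - (x₂ - (1 : P ⊗[k] P) ⊗ₜ[k] a) := by abel
    rw [this]
    exact sub_mem hx₁a hx₂a
  have heq : x₁ = x₂ :=
    groupLike_unique (k := k) (P := P) (S' := P ⊗[k] P) e
      (I₀.map (algebraMap k (P ⊗[k] P))) (nil_map _ _ hI₀) hx₁g hx₂g
      (semi_mem_smul_top I₀ h12)
  have hA : TensorProduct.mk k P (P ⊗[k] C) 1 x =
      LinearMap.lTensor P (TensorProduct.mk k P C 1) x := by
    rw [TensorProduct.mk_apply, ← assoc_map_includeRight (S₁ := P),
      ← assoc_map_includeLeft (S₂ := P)]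
    exact congrArg _ heq.symm
  obtain ⟨g, hg⟩ := Groth.Agent.S1156.result k P C x hA
  rw [TensorProduct.mk_apply] at hg
  refine ⟨g, isGroupLike_of_tmul (S := P) (by rw [hg]; exact hxg), ?_⟩
  have h3 : (1 : P) ⊗ₜ[k] (g - a) ∈ I₀ • (⊤ : Submodule k (P ⊗[k] C)) := by
    rw [TensorProduct.tmul_sub, hg]; exact hxa
  have h4 := tmul_mkQ_eq_zero I₀ h3
  have h5 : (I₀ • (⊤ : Submodule k C)).mkQ (g - a) = 0 := by
    apply Module.FaithfullyFlat.tensorProduct_mk_injective (A := k) (B := P)
      (C ⧸ I₀ • (⊤ : Submodule k C))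
    rw [TensorProduct.mk_apply, h4, map_zero]
  rw [Submodule.mkQ_apply] at h5
  exact (Submodule.Quotient.mk_eq_zero _).1 h5

end Descent

section Cancel

variable (k K L A : Type u) [CommRing k] [CommRing K] [CommRing L] [CommRing A]
  [Algebra k K] [Algebra K L] [Algebra k L] [IsScalarTower k K L] [Bialgebra k A]

/-- transitivity of base change, as a bialgebra isomorphism (as in helper16's `MTField`) -/
noncomputable def cancelBaseChangeBialg : L ⊗[K] (K ⊗[k] A) ≃ₐc[L] L ⊗[k] A :=
  BialgEquiv.ofAlgEquiv (Algebra.TensorProduct.cancelBaseChange k K L L A)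
    (by
      ext a
      simp
      rw [Algebra.smul_def, mul_one, Algebra.smul_def, mul_one,
        ← IsScalarTower.algebraMap_apply])
    (by
      ext a
      simp
      generalize CoalgebraStruct.comul (R := k) a = t
      induction t using TensorProduct.induction_on with
      | zero => simp
      | add s t hs ht =>
        simp only [TensorProduct.tmul_add, map_add] at hs ht ⊢
        rw [hs, ht]
      | tmul x y =>
        simp)

theorem cancelBaseChangeBialg_tmul (l : L) (c : K) (a : A) :
    cancelBaseChangeBialg k K L A (l ⊗ₜ[K] (c ⊗ₜ[k] a)) = (c • l) ⊗ₜ[k] a :=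
  Algebra.TensorProduct.cancelBaseChange_tmul ..

end Cancel

section Inj

variable {R K P T A : Type*} [CommRing R] [CommRing K] [CommRing P] [Algebra R K] [Algebra R P]
  [Algebra K P] [IsScalarTower R K P] [Module.FaithfullyFlat K P] [CommRing T] [Algebra R T]
  [CommRing A] [Algebra R A]

theorem rTensor_injective_of_faithfullyFlat (M : Type*) [AddCommGroup M] [Module R M] :
    Function.Injective
      (LinearMap.rTensor M (IsScalarTower.toAlgHom R K P).toLinearMap) := by
  have key : ∀ w : K ⊗[R] M,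
      TensorProduct.AlgebraTensorModule.cancelBaseChange R K P P M ((1 : P) ⊗ₜ[K] w) =
        LinearMap.rTensor M (IsScalarTower.toAlgHom R K P).toLinearMap w := by
    intro w
    induction w using TensorProduct.induction_on with
    | zero => simp
    | tmul r m =>
      rw [TensorProduct.AlgebraTensorModule.cancelBaseChange_tmul, LinearMap.rTensor_tmul,
        AlgHom.toLinearMap_apply, IsScalarTower.coe_toAlgHom', Algebra.algebraMap_eq_smul_one]
    | add a b ha hb => rw [TensorProduct.tmul_add, map_add, map_add, ha, hb]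
  rw [injective_iff_map_eq_zero]
  intro w hw
  rw [← key] at hw
  have h1 := (TensorProduct.AlgebraTensorModule.cancelBaseChange R K P P M).injective
    (hw.trans (map_zero _).symm)
  apply Module.FaithfullyFlat.tensorProduct_mk_injective (A := K) (B := P) (K ⊗[R] M)
  rw [TensorProduct.mk_apply, h1, map_zero]

theorem map_map_injective :
    Function.Injective (Algebra.TensorProduct.map
      (Algebra.TensorProduct.map (IsScalarTower.toAlgHom R K P) (AlgHom.id R T))
      (AlgHom.id R A)) := by
  have key : ∀ z : (K ⊗[R] T) ⊗[R] A,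
      TensorProduct.assoc R P T A (Algebra.TensorProduct.map
        (Algebra.TensorProduct.map (IsScalarTower.toAlgHom R K P) (AlgHom.id R T))
        (AlgHom.id R A) z) =
      LinearMap.rTensor (T ⊗[R] A) (IsScalarTower.toAlgHom R K P).toLinearMap
        (TensorProduct.assoc R K T A z) := by
    intro z
    induction z using TensorProduct.induction_on with
    | zero => simp
    | tmul w a =>
      induction w using TensorProduct.induction_on with
      | zero => simp
      | tmul r t =>
        rw [Algebra.TensorProduct.map_tmul, Algebra.TensorProduct.map_tmul, AlgHom.id_apply,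
          AlgHom.id_apply, TensorProduct.assoc_tmul, TensorProduct.assoc_tmul,
          LinearMap.rTensor_tmul, AlgHom.toLinearMap_apply]
      | add x y hx hy =>
        rw [TensorProduct.add_tmul, map_add, map_add, map_add, map_add, hx, hy]
    | add x y hx hy => rw [map_add, map_add, map_add, map_add, hx, hy]
  rw [injective_iff_map_eq_zero]
  intro z hz
  have h1 := key z
  rw [hz, map_zero] at h1
  have h2 := rTensor_injective_of_faithfullyFlat (R := R) (K := K) (P := P) (T ⊗[R] A)
    (h1.symm.trans (map_zero _).symm)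
  exact (TensorProduct.assoc R K T A).injective (h2.trans (map_zero _).symm)

end Inj

end Groth.Agent.Lib.Helper17.MultLift
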