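import Groth.Agent.Lib.Helper17.MultLocal
import Mathlib.RingTheory.HopfAlgebra.TensorProduct
import Mathlib.RingTheory.HopfAlgebra.Convolution
import Mathlib.RingTheory.HopfAlgebra.Quotient

/-!
# Local structure of groups of multiplicative type, II (helper17)

* `comp_antipode`: bialgebra maps between Hopf algebras commute with the antipodes.
* `exists_local3`: as `MultLocal.exists_local2`, with in addition: the image of `θ` spans `P[N]` over
  `P`, and `θ` commutes with the antipodes.
-/

set_option autoImplicit false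
universe u

namespace Groth.Agent.Lib.Helper17.MultLocal

open TensorProduct WithConv Groth.Agent.Lib.Helper27.MultRigid

/-- bialgebra maps commute with antipodes -/
theorem comp_antipode {k A B : Type*} [CommRing k] [Ring A] [HopfAlgebra k A] [Ring B]
    [HopfAlgebra k B] (π : A →ₐc[k] B) (a : A) :
    π (HopfAlgebraStruct.antipode (R := k) a) = HopfAlgebraStruct.antipode (R := k) (π a) := by
  have h1 : toConv (π.toLinearMap ∘ₗ HopfAlgebraStruct.antipode (R := k) (A := A)) *
      toConv π.toLinearMap = (1 : WithConv (A →ₗ[k] B)) := by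
    apply ofConv_injective
    have := LinearMap.algHom_comp_convMul_distrib (AlgHomClass.toAlgHom π)
      (toConv (HopfAlgebraStruct.antipode (R := k) (A := A))) (toConv LinearMap.id)
    rw [LinearMap.antipode_mul_id, LinearMap.algHom_comp_convOne] at this
    rw [this]
    rfl
  have h2 : toConv π.toLinearMap *
      toConv (HopfAlgebraStruct.antipode (R := k) (A := B) ∘ₗ π.toLinearMap) =
      (1 : WithConv (A →ₗ[k] B)) := by
    apply ofConv_injective
    have := LinearMap.convMul_comp_coalgHom_distrib (toConv LinearMap.id)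
      (toConv (HopfAlgebraStruct.antipode (R := k) (A := B))) π.toCoalgHom
    rw [LinearMap.id_mul_antipode, LinearMap.convOne_comp_coalgHom] at this
    rw [this]
    rfl
  have := left_inv_eq_right_inv h1 h2
  exact LinearMap.congr_fun (toConv_injective this) a

theorem antipode_one_tmul {R S A : Type*} [CommRing R] [CommRing S] [Algebra R S] [CommRing A]
    [HopfAlgebra R A] (a : A) :
    HopfAlgebraStruct.antipode (R := S) ((1 : S) ⊗ₜ[R] a) =
      (1 : S) ⊗ₜ[R] HopfAlgebraStruct.antipode (R := R) a := by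
  rw [TensorProduct.antipode_def, TensorProduct.AlgebraTensorModule.map_tmul]
  congr 1

/-- local data attached to one member of the covering, with spanning and antipodes -/
theorem exists_local3 (R Q : Type u) [CommRing R] [CommRing Q] [HopfAlgebra R Q]
    (Rf : Type u) [CommRing Rf] [Algebra R Rf] [Module.Flat R Rf]
    (h : SGA3b.IsMultTypeConst Rf (Rf ⊗[R] Q)) :
    ∃ (P : Type u) (_ : CommRing P) (_ : Algebra R P) (N : Type u) (_ : CommGroup N)
      (θ : Q →ₐ[R] MonoidAlgebra P N),
      Module.Flat R P ∧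
      IsSemiComul (R := R) (R' := P) θ.toLinearMap ∧
      IsSemiCounit (R := R) (R' := P) θ.toLinearMap ∧
      Function.Injective (θ.toLinearMap.liftBaseChange P) ∧
      (∀ I I' : Ideal R, I'.map (algebraMap R P) ≤ I.map (algebraMap R P) →
        I'.map (algebraMap R Rf) ≤ I.map (algebraMap R Rf)) ∧
      Submodule.span P (Set.range θ) = ⊤ ∧
      (∀ a : Q, θ (HopfAlgebraStruct.antipode (R := R) a) =
        HopfAlgebraStruct.antipode (R := P) (θ a)) := by
  classical
  obtain ⟨R', _, _, hff, M, _, ⟨e⟩⟩ := h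
  letI : Algebra R R' := ((algebraMap Rf R').comp (algebraMap R Rf)).toAlgebra
  haveI : IsScalarTower R Rf R' := IsScalarTower.of_algebraMap_eq (fun _ => rfl)
  have hθ1 : IsSemiComul (R := R) (R' := Rf) (bcMap Rf Q) := isSemiComul_bcMap
  have hθ2 : IsSemiComul (R := Rf) (R' := R') (bcMap R' (Rf ⊗[R] Q)) := isSemiComul_bcMap
  have hθ3 : IsSemiComul (R := R') (R' := R')
      (e : (R' ⊗[Rf] (Rf ⊗[R] Q)) →ₗc[R'] MonoidAlgebra R' M).toLinearMap :=
    isSemiComul_coalgHom _
  have h12 := IsSemiComul.comp hθ1 hθ2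
  have h123 := IsSemiComul.comp h12 hθ3
  set θl : Q →ₗ[R] MonoidAlgebra R' M :=
    ((e : (R' ⊗[Rf] (Rf ⊗[R] Q)) →ₗc[R'] MonoidAlgebra R' M).toLinearMap.restrictScalars R) ∘ₗ
      (((bcMap R' (Rf ⊗[R] Q)).restrictScalars R) ∘ₗ (bcMap Rf Q)) with hθl
  have hθapp : ∀ a : Q, θl a = e ((1 : R') ⊗ₜ[Rf] ((1 : Rf) ⊗ₜ[R] a)) := fun a => rfl
  have hone : θl 1 = 1 := by
    rw [hθapp]
    have : ((1 : R') ⊗ₜ[Rf] ((1 : Rf) ⊗ₜ[R] (1 : Q))) = 1 := rfl
    rw [this]
    exact map_one e
  have hmul : ∀ a b : Q, θl (a * b) = θl a * θl b := by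
    intro a b
    rw [hθapp, hθapp, hθapp, ← map_mul, Algebra.TensorProduct.tmul_mul_tmul,
      Algebra.TensorProduct.tmul_mul_tmul, mul_one, mul_one]
  set θ : Q →ₐ[R] MonoidAlgebra R' M := AlgHom.ofLinearMap θl hone hmul with hθ
  have hθθl : θ.toLinearMap = θl := AlgHom.toLinearMap_ofLinearMap _ _ _
  have hθapp' : ∀ a : Q, θ a = e ((1 : R') ⊗ₜ[Rf] ((1 : Rf) ⊗ₜ[R] a)) := fun a => rfl
  have hflat : Module.Flat R R' := Module.Flat.trans R Rf R'
  have hdecomp : ∀ (r : R') (c : Rf) (a : Q), r ⊗ₜ[Rf] (c ⊗ₜ[R] a) =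
      (c • r) • ((1 : R') ⊗ₜ[Rf] ((1 : Rf) ⊗ₜ[R] a)) := by
    intro r c a
    rw [TensorProduct.smul_tmul', smul_eq_mul, mul_one]
    have h2 : c ⊗ₜ[R] a = c • ((1 : Rf) ⊗ₜ[R] a) := by
      rw [TensorProduct.smul_tmul', smul_eq_mul, mul_one]
    rw [h2, ← TensorProduct.smul_tmul]
  refine ⟨R', inferInstance, inferInstance, M, inferInstance, θ, hflat, ?_, ?_, ?_, ?_, ?_, ?_⟩
  · rw [hθθl]; exact h123
  · rw [hθθl]
    intro a
    rw [hθapp]
    have hc1 : Coalgebra.counit (R := R') (e ((1 : R') ⊗ₜ[Rf] ((1 : Rf) ⊗ₜ[R] a))) =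
        Coalgebra.counit (R := R') ((1 : R') ⊗ₜ[Rf] ((1 : Rf) ⊗ₜ[R] a)) :=
      CoalgHomClass.counit_comp_apply e _
    rw [hc1, TensorProduct.counit_tmul, TensorProduct.counit_tmul]
    change (Coalgebra.counit (R := R) a • (1 : Rf)) • (1 : R') = algebraMap R R' (Coalgebra.counit a)
    rw [Algebra.algebraMap_eq_smul_one, smul_assoc, one_smul]
  · rw [hθθl]
    have key : ∀ w : R' ⊗[Rf] (Rf ⊗[R] Q),
        θl.liftBaseChange R'
          (TensorProduct.AlgebraTensorModule.cancelBaseChange R Rf R' R' Q w) = e w := by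
      intro w
      induction w using TensorProduct.induction_on with
      | zero => rw [map_zero, map_zero, map_zero]
      | tmul r y =>
        induction y using TensorProduct.induction_on with
        | zero => rw [TensorProduct.tmul_zero, map_zero, map_zero, map_zero]
        | tmul c a =>
          rw [TensorProduct.AlgebraTensorModule.cancelBaseChange_tmul,
            LinearMap.liftBaseChange_tmul, hdecomp, map_smul, hθapp]
        | add y₁ y₂ h₁ h₂ =>
          rw [TensorProduct.tmul_add, map_add, map_add, map_add, h₁, h₂]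
      | add w₁ w₂ h₁ h₂ => rw [map_add, map_add, map_add, h₁, h₂]
    rw [injective_iff_map_eq_zero]
    intro z hz
    have h1 := key ((TensorProduct.AlgebraTensorModule.cancelBaseChange R Rf R' R' Q).symm z)
    rw [LinearEquiv.apply_symm_apply, hz] at h1
    have h2 : (TensorProduct.AlgebraTensorModule.cancelBaseChange R Rf R' R' Q).symm z = 0 := by
      apply EquivLike.injective e
      rw [← h1, map_zero]
    have h3 := congrArg (TensorProduct.AlgebraTensorModule.cancelBaseChange R Rf R' R' Q) h2
    rwa [LinearEquiv.apply_symm_apply, map_zero] at h3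
  · intro I I' hII
    have hmm : ∀ K : Ideal R, (K.map (algebraMap R Rf)).map (algebraMap Rf R') =
        K.map (algebraMap R R') := by
      intro K
      rw [Ideal.map_map]
      rfl
    rw [← Ideal.comap_map_eq_self_of_faithfullyFlat (B := R') (I'.map (algebraMap R Rf)),
      ← Ideal.comap_map_eq_self_of_faithfullyFlat (B := R') (I.map (algebraMap R Rf)), hmm, hmm]
    exact Ideal.comap_mono hII
  · rw [eq_top_iff]
    intro z _
    have key : ∀ w : R' ⊗[Rf] (Rf ⊗[R] Q), e w ∈ Submodule.span R' (Set.range θ) := by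
      intro w
      induction w using TensorProduct.induction_on with
      | zero => rw [map_zero]; exact Submodule.zero_mem _
      | tmul r y =>
        induction y using TensorProduct.induction_on with
        | zero => rw [TensorProduct.tmul_zero, map_zero]; exact Submodule.zero_mem _
        | tmul c a =>
          rw [hdecomp, map_smul]
          exact Submodule.smul_mem _ _ (Submodule.subset_span ⟨a, (hθapp' a)⟩)
        | add y₁ y₂ h₁ h₂ =>
          rw [TensorProduct.tmul_add, map_add]
          exact Submodule.add_mem _ h₁ h₂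
      | add w₁ w₂ h₁ h₂ => rw [map_add]; exact Submodule.add_mem _ h₁ h₂
    have := key (e.symm z)
    rwa [BialgEquiv.apply_symm_apply] at this
  · intro a
    rw [hθapp', hθapp']
    have h1 := comp_antipode (e : (R' ⊗[Rf] (Rf ⊗[R] Q)) →ₐc[R'] MonoidAlgebra R' M)
      ((1 : R') ⊗ₜ[Rf] ((1 : Rf) ⊗ₜ[R] a))
    rw [antipode_one_tmul, antipode_one_tmul] at h1
    exact h1

end Groth.Agent.Lib.Helper17.MultLocal
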