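import Groth.Agent.Lib.Helper17.ConstrTop
import Groth.Prelude.Def_ProCons

/-!
# Globally pro-constructible sets in spectral spaces (helper17)

`IsProC Z`: `Z` is an intersection of constructible sets.  Finite unions, images under spectral
maps, and the bridge from the prelude's local notion `ProCons.IsProConstructible` on a scheme.
-/

set_option autoImplicit false

open Topology Set

namespace Groth.Agent.Lib.Helper17

variable {T : Type*} [TopologicalSpace T]

/-- globally pro-constructible: an intersection of constructible sets -/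
def IsProC (Z : Set T) : Prop :=
  ∃ 𝒞 : Set (Set T), (∀ C ∈ 𝒞, IsConstructible C) ∧ Z = ⋂₀ 𝒞

lemma isProC_iff {Z : Set T} :
    IsProC Z ↔ ∀ p, p ∉ Z → ∃ C, IsConstructible C ∧ p ∈ C ∧ C ∩ Z = ∅ := by
  constructor
  · rintro ⟨𝒞, h𝒞, rfl⟩ p hp
    rw [mem_sInter] at hp
    push Not at hp
    obtain ⟨C0, hC0, hpC0⟩ := hp
    refine ⟨C0ᶜ, (h𝒞 C0 hC0).compl, hpC0, ?_⟩
    rw [eq_empty_iff_forall_notMem]
    rintro q ⟨hq1, hq2⟩
    exact hq1 (mem_sInter.mp hq2 C0 hC0)
  · intro h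
    refine ⟨{D | IsConstructible D ∧ Z ⊆ D}, fun D hD => hD.1, ?_⟩
    apply Subset.antisymm
    · exact subset_sInter fun D hD => hD.2
    · intro p hp
      by_contra hpZ
      obtain ⟨C, hC, hpC, hCZ⟩ := h p hpZ
      have : p ∈ Cᶜ := by
        apply mem_sInter.mp hp Cᶜ
        refine ⟨hC.compl, fun z hz hzC => ?_⟩
        have : z ∈ C ∩ Z := ⟨hzC, hz⟩
        rw [hCZ] at this
        exact this
      exact this hpC

lemma isProC_empty : IsProC (∅ : Set T) :=
  ⟨{∅}, fun C hC => by rw [mem_singleton_iff.mp hC]; exact IsConstructible.empty, by simp⟩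

lemma IsProC.union {Z1 Z2 : Set T} (h1 : IsProC Z1) (h2 : IsProC Z2) : IsProC (Z1 ∪ Z2) := by
  rw [isProC_iff] at h1 h2 ⊢
  intro p hp
  rw [mem_union, not_or] at hp
  obtain ⟨C1, hC1, hp1, hd1⟩ := h1 p hp.1
  obtain ⟨C2, hC2, hp2, hd2⟩ := h2 p hp.2
  refine ⟨C1 ∩ C2, hC1.inter hC2, ⟨hp1, hp2⟩, ?_⟩
  rw [eq_empty_iff_forall_notMem]
  rintro q ⟨⟨hq1, hq2⟩, hq | hq⟩
  · have : q ∈ C1 ∩ Z1 := ⟨hq1, hq⟩
    rw [hd1] at this; exact this
  · have : q ∈ C2 ∩ Z2 := ⟨hq2, hq⟩
    rw [hd2] at this; exact this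

lemma IsProC.biUnion_finset {ι : Type*} (s : Finset ι) (Z : ι → Set T)
    (h : ∀ i ∈ s, IsProC (Z i)) : IsProC (⋃ i ∈ s, Z i) := by
  classical
  induction s using Finset.induction_on with
  | empty => simpa using isProC_empty
  | insert a s ha ih =>
    rw [Finset.set_biUnion_insert]
    exact (h a (Finset.mem_insert_self a s)).union
      (ih fun i hi => h i (Finset.mem_insert_of_mem hi))

/-- The image of a pro-constructible set under a spectral map of spectral spaces is
pro-constructible. -/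
theorem IsProC.image {T' : Type*} [TopologicalSpace T'] [CompactSpace T'] [QuasiSober T']
    [PrespectralSpace T'] [QuasiSeparatedSpace T'] [T0Space T] [PrespectralSpace T]
    [QuasiSeparatedSpace T] (g : T' → T)
    (hg : ∀ C, IsConstructible C → IsConstructible (g ⁻¹' C)) {Z' : Set T'} (hZ' : IsProC Z') :
    IsProC (g '' Z') := by
  classical
  obtain ⟨𝒞', h𝒞', rfl⟩ := hZ'
  rw [isProC_iff]
  intro p hp
  let F : ({V : Set T // IsOpen V ∧ IsCompact V ∧ p ∈ V} ⊕
      ({V : Set T // IsOpen V ∧ IsCompact V ∧ p ∉ V} ⊕ ↥𝒞')) → Set T' :=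
    Sum.elim (fun V => g ⁻¹' V.1) (Sum.elim (fun V => g ⁻¹' V.1ᶜ) (fun C => C.1))
  have hF : ∀ a, IsConstructible (F a) := by
    rintro (V | V | C)
    · exact hg _ (V.2.2.1.isConstructible V.2.1)
    · exact hg _ (V.2.2.1.isConstructible V.2.1).compl
    · exact h𝒞' C.1 C.2
  have hempty : ⋂ a, F a = ∅ := by
    rw [eq_empty_iff_forall_notMem]
    intro z hz
    rw [mem_iInter] at hz
    apply hp
    refine ⟨z, mem_sInter.mpr fun C hC => hz (Sum.inr (Sum.inr ⟨C, hC⟩)), ?_⟩
    have hins : Inseparable (g z) p := by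
      rw [inseparable_iff_forall_isOpen]
      intro s hs
      constructor
      · intro hgzs
        obtain ⟨V, ⟨hV1, hV2⟩, hgzV, hVs⟩ :=
          PrespectralSpace.isTopologicalBasis.mem_nhds_iff.mp (hs.mem_nhds hgzs)
        by_contra hps
        have hpV : p ∉ V := fun h => hps (hVs h)
        exact hz (Sum.inr (Sum.inl ⟨V, hV1, hV2, hpV⟩)) hgzV
      · intro hps
        obtain ⟨V, ⟨hV1, hV2⟩, hpV, hVs⟩ :=
          PrespectralSpace.isTopologicalBasis.mem_nhds_iff.mp (hs.mem_nhds hps)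
        exact hVs (hz (Sum.inl ⟨V, hV1, hV2, hpV⟩))
    exact hins.eq
  obtain ⟨u, hu⟩ := exists_finset_iInter_eq_empty F hF hempty
  let G : ({V : Set T // IsOpen V ∧ IsCompact V ∧ p ∈ V} ⊕
      ({V : Set T // IsOpen V ∧ IsCompact V ∧ p ∉ V} ⊕ ↥𝒞')) → Set T :=
    Sum.elim (fun V => V.1) (Sum.elim (fun V => V.1ᶜ) (fun _ => univ))
  have hG : ∀ a, IsConstructible (G a) := by
    rintro (V | V | C)
    · exact V.2.2.1.isConstructible V.2.1
    · exact (V.2.2.1.isConstructible V.2.1).compl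
    · exact IsConstructible.univ
  refine ⟨⋂ a ∈ u, G a, IsConstructible.biInter u.finite_toSet fun a _ => hG a, ?_, ?_⟩
  · rw [mem_iInter₂]
    rintro (V | V | C) _
    · exact V.2.2.2
    · exact V.2.2.2
    · trivial
  · rw [eq_empty_iff_forall_notMem]
    rintro _ ⟨hq, ⟨z, hzZ, rfl⟩⟩
    rw [mem_iInter₂] at hq
    have : z ∈ ⋂ a ∈ u, F a := by
      rw [mem_iInter₂]
      rintro (V | V | C) ha
      · exact hq _ ha
      · exact hq _ ha
      · exact mem_sInter.mp hzZ C.1 C.2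
    rw [hu] at this
    exact this

open AlgebraicGeometry in
/-- Bridge: a (locally) pro-constructible subset of a scheme is globally pro-constructible on
every quasi-compact quasi-separated open. -/
theorem isProC_preimage_val_of_isProConstructible (X : Scheme) {E : Set X}
    (hE : ProCons.IsProConstructible E) (U : Set X) (hU : IsOpen U)
    [QuasiSeparatedSpace ↥U] : IsProC (Subtype.val ⁻¹' E : Set ↥U) := by
  rw [isProC_iff]
  intro p hp
  obtain ⟨U1, hU1, hp1, S, hS, hES⟩ := hE p.1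
  have hp' : (⟨p.1, hp1⟩ : ↥U1) ∉ ⋂₀ S := by
    rw [← hES]; exact hp
  rw [mem_sInter] at hp'
  push Not at hp'
  obtain ⟨T0, hT0, hpT0⟩ := hp'
  obtain ⟨V, hV, hpV, hVW, hc, hqs, hsob, hpre⟩ :=
    exists_spectral_open_nhd X p.1 (U1 ∩ U) (hU1.inter hU) ⟨hp1, p.2⟩
  have h1 : MapsTo id V U1 := fun y hy => (hVW hy).1
  have h2 : MapsTo id V U := fun y hy => (hVW hy).2
  have hi1 : IsOpenEmbedding (h1.restrict id V U1) := IsOpenEmbedding.id.restrict h1 hV
  have hi2 : IsOpenEmbedding (h2.restrict id V U) := IsOpenEmbedding.id.restrict h2 hV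
  let D : Set ↥V := ((h1.restrict id V U1) ⁻¹' T0)ᶜ
  have hD : IsConstructible D :=
    ((hS T0 hT0).preimage_of_isOpenEmbedding hi1).isConstructible.compl
  have hrange : IsRetrocompact (range (h2.restrict id V U)) :=
    (isCompact_range hi2.continuous).isRetrocompact hi2.isOpen_range
  refine ⟨(h2.restrict id V U) '' D, hD.image_of_isOpenEmbedding hi2 hrange,
    ⟨⟨p.1, hpV⟩, hpT0, Subtype.ext rfl⟩, ?_⟩
  rw [eq_empty_iff_forall_notMem]
  rintro _ ⟨⟨d, hd, rfl⟩, hdE⟩
  apply hd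
  have : (h1.restrict id V U1 d) ∈ (Subtype.val ⁻¹' E : Set ↥U1) := hdE
  rw [hES] at this
  exact mem_sInter.mp this T0 hT0

end Groth.Agent.Lib.Helper17
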