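import Mathlib.RingTheory.Spectrum.Prime.ConstructibleSet
import Mathlib.RingTheory.LocalRing.ResidueField.Ideal
import Groth.Agent.Lib.Helper17.ProC

/-!
# Pro-constructible subsets of `Spec A` are images of affine schemes (helper17)

For `E ⊆ Spec A` let `ProdRes E = ∏_{x ∈ E} κ(x)`.  The image of `Spec (ProdRes E) → Spec A` is
`E` as soon as `E` is an intersection of constructible sets.
-/

set_option autoImplicit false

open Topology Set PrimeSpectrum

universe u

namespace Groth.Agent.Lib.Helper17

variable {A : Type u} [CommRing A]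

/-- the product of the residue fields of the points of `E` -/
abbrev ProdRes (E : Set (PrimeSpectrum A)) : Type u :=
  ∀ x : E, (x.1.asIdeal).ResidueField

/-- the canonical map `A → ∏_{x ∈ E} κ(x)` -/
noncomputable def toProdRes (E : Set (PrimeSpectrum A)) : A →+* ProdRes E :=
  RingHom.pi fun x => algebraMap A (x.1.asIdeal).ResidueField

lemma toProdRes_apply (E : Set (PrimeSpectrum A)) (a : A) (x : E) :
    toProdRes E a x = algebraMap A (x.1.asIdeal).ResidueField a := rfl

lemma subset_range_comap_toProdRes (E : Set (PrimeSpectrum A)) :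
    E ⊆ range (comap (toProdRes E)) := by
  intro x hx
  let π : ProdRes E →+* (x.asIdeal).ResidueField := Pi.evalRingHom _ (⟨x, hx⟩ : E)
  refine ⟨comap π ⟨⊥, Ideal.isPrime_bot⟩, ?_⟩
  ext a
  change π (toProdRes E a) ∈ (⊥ : Ideal (x.asIdeal).ResidueField) ↔ a ∈ x.asIdeal
  rw [Ideal.mem_bot]
  exact Ideal.algebraMap_residueField_eq_zero

theorem range_comap_toProdRes {E : Set (PrimeSpectrum A)} (hE : IsProC E) :
    range (comap (toProdRes E)) = E := by
  classical
  apply Subset.antisymm _ (subset_range_comap_toProdRes E)
  rintro _ ⟨P, rfl⟩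
  by_contra hq
  obtain ⟨C, hC, hqC, hCE⟩ := (isProC_iff.mp hE) _ hq
  obtain ⟨S, rfl⟩ := exists_constructibleSetData_iff.mpr hC
  simp only [ConstructibleSetData.toSet, mem_iUnion] at hqC
  obtain ⟨D, hDS, hqD⟩ := hqC
  have hDE : ∀ x ∈ E, x ∉ D.toSet := by
    intro x hx hxD
    have : x ∈ S.toSet ∩ E :=
      ⟨by simp only [ConstructibleSetData.toSet, mem_iUnion]; exact ⟨D, hDS, hxD⟩, hx⟩
    rw [hCE] at this
    exact this
  simp only [BasicConstructibleSetData.toSet, mem_sdiff, mem_zeroLocus, range_subset_iff,
    singleton_subset_iff, SetLike.mem_coe] at hqD hDE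
  obtain ⟨hg, hf⟩ := hqD
  apply hf
  change toProdRes E D.f ∈ P.asIdeal
  -- choose, for each `x`, an index with `g i ∉ p_x` if there is one
  let idx : E → Option (Fin D.n) := fun x =>
    if h : ∃ i, D.g i ∉ x.1.asIdeal then some h.choose else none
  let c : Fin D.n → ProdRes E := fun i x =>
    if idx x = some i then
      (algebraMap A (x.1.asIdeal).ResidueField (D.g i))⁻¹ *
        algebraMap A (x.1.asIdeal).ResidueField D.f
    else 0
  have key : toProdRes E D.f = ∑ i, c i * toProdRes E (D.g i) := by
    funext x
    rw [Finset.sum_apply]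
    simp only [Pi.mul_apply, toProdRes_apply]
    by_cases h : ∃ i, D.g i ∉ x.1.asIdeal
    · have hidx : idx x = some h.choose := dif_pos h
      have hne : algebraMap A (x.1.asIdeal).ResidueField (D.g h.choose) ≠ 0 := by
        rw [Ne, Ideal.algebraMap_residueField_eq_zero]
        exact h.choose_spec
      rw [Finset.sum_eq_single h.choose]
      · simp only [c, hidx, if_true]
        field_simp
      · intro i _ hi
        have : idx x ≠ some i := by
          rw [hidx]; intro h'; exact hi (Option.some.inj h').symm
        simp only [c, this, if_false, zero_mul]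
      · intro h'; exact absurd (Finset.mem_univ _) h'
    · have hidx : idx x = none := dif_neg h
      push Not at h
      have hfx : D.f ∈ x.1.asIdeal := by
        by_contra hfx
        exact hDE x.1 x.2 ⟨h, hfx⟩
      rw [Ideal.algebraMap_residueField_eq_zero.mpr hfx]
      symm
      apply Finset.sum_eq_zero
      intro i _
      simp only [c, hidx, reduceCtorEq, if_false, zero_mul]
  rw [key]
  exact sum_mem fun i _ => Ideal.mul_mem_left _ _ (hg i)

lemma isProC_univ {T : Type*} [TopologicalSpace T] : IsProC (univ : Set T) :=
  ⟨∅, fun _ h => absurd h (Set.notMem_empty _), by simp⟩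

/-- The image of `Spec B → Spec A` is an intersection of constructible sets. -/
theorem isProC_range_comap {B : Type*} [CommRing B] (f : A →+* B) :
    IsProC (range (comap f)) := by
  rw [← image_univ]
  refine IsProC.image (comap f) (fun C hC => ?_) isProC_univ
  obtain ⟨S, rfl⟩ := exists_constructibleSetData_iff.mpr hC
  rw [← ConstructibleSetData.toSet_map]
  exact ConstructibleSetData.isConstructible_toSet _

/-- EGA IV 1.9.5 (affine case): `E ⊆ Spec A` is the image of some `Spec B → Spec A` iff it is an
intersection of constructible sets. -/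
theorem exists_range_comap_eq_iff_isProC (E : Set (PrimeSpectrum A)) :
    (∃ (B : Type u) (_ : CommRing B) (f : A →+* B), range (comap f) = E) ↔ IsProC E := by
  constructor
  · rintro ⟨B, _, f, rfl⟩
    exact isProC_range_comap f
  · intro h
    exact ⟨ProdRes E, inferInstance, toProdRes E, range_comap_toProdRes h⟩

end Groth.Agent.Lib.Helper17
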