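import Groth.Agent.Lib.Helper17.ProCScheme

/-!
# Quasi-compactness of the constructible topology, scheme form (helper17)

EGA IV 1.9.9: in a quasi-compact scheme a family of pro-constructible sets with empty intersection
has a finite subfamily with empty intersection.
-/

set_option autoImplicit false

open Topology Set AlgebraicGeometry CategoryTheory

universe u

namespace Groth.Agent.Lib.Helper17

lemma isLocallyConstructible_compl {X : Type*} [TopologicalSpace X] {s : Set X}
    (hs : IsLocallyConstructible s) : IsLocallyConstructible sᶜ := by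
  intro x
  obtain ⟨U, hU, hUo, hc⟩ := hs x
  exact ⟨U, hU, hUo, by rw [preimage_compl]; exact hc.compl⟩

lemma isProConstructible_compl_of_isIndConstructible {X : Type*} [TopologicalSpace X] {E : Set X}
    (hE : ProCons.IsIndConstructible E) : ProCons.IsProConstructible Eᶜ := by
  intro x
  obtain ⟨U, hU, hxU, S, hS, hES⟩ := hE x
  refine ⟨U, hU, hxU, compl '' S, ?_, ?_⟩
  · rintro _ ⟨T, hT, rfl⟩
    exact isLocallyConstructible_compl (hS T hT)
  · rw [preimage_compl, hES, compl_sUnion]

lemma isIndConstructible_compl_of_isProConstructible {X : Type*} [TopologicalSpace X] {E : Set X}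
    (hE : ProCons.IsProConstructible E) : ProCons.IsIndConstructible Eᶜ := by
  intro x
  obtain ⟨U, hU, hxU, S, hS, hES⟩ := hE x
  refine ⟨U, hU, hxU, compl '' S, ?_, ?_⟩
  · rintro _ ⟨T, hT, rfl⟩
    exact isLocallyConstructible_compl (hS T hT)
  · rw [preimage_compl, hES, compl_sInter]

/-- finite intersection property for pro-constructible sets in a spectral space -/
theorem IsProC.exists_finset_iInter_eq_empty {T : Type*} [TopologicalSpace T] [CompactSpace T]
    [QuasiSober T] [PrespectralSpace T] [QuasiSeparatedSpace T] {ι : Type*} (G : ι → Set T)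
    (hG : ∀ i, IsProC (G i)) (h : ⋂ i, G i = ∅) : ∃ J : Finset ι, ⋂ i ∈ J, G i = ∅ := by
  classical
  choose 𝒞 h𝒞 hG𝒞 using hG
  let C : (Σ i, ↥(𝒞 i)) → Set T := fun a => a.2.1
  have hC : ∀ a, IsConstructible (C a) := fun a => h𝒞 a.1 a.2.1 a.2.2
  have hempty : ⋂ a, C a = ∅ := by
    rw [eq_empty_iff_forall_notMem]
    intro z hz
    rw [mem_iInter] at hz
    have : z ∈ ⋂ i, G i := by
      rw [mem_iInter]
      intro i
      rw [hG𝒞 i, mem_sInter]
      intro c hc
      exact hz ⟨i, ⟨c, hc⟩⟩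
    rw [h] at this
    exact this
  obtain ⟨s, hs⟩ := Groth.Agent.Lib.Helper17.exists_finset_iInter_eq_empty C hC hempty
  refine ⟨s.image Sigma.fst, ?_⟩
  rw [eq_empty_iff_forall_notMem]
  intro z hz
  rw [mem_iInter₂] at hz
  have : z ∈ ⋂ a ∈ s, C a := by
    rw [mem_iInter₂]
    intro a ha
    have h1 := hz a.1 (Finset.mem_image_of_mem _ ha)
    rw [hG𝒞 a.1, mem_sInter] at h1
    exact h1 a.2.1 a.2.2
  rw [hs] at this
  exact this

/-- EGA IV 1.9.9 -/
theorem exists_finset_iInter_eq_empty_of_isProConstructible (X : Scheme.{u}) [CompactSpace X]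
    {ι : Type*} (F : ι → Set X) (hF : ∀ i, ProCons.IsProConstructible (F i))
    (h : ⋂ i, F i = ∅) : ∃ J : Finset ι, ⋂ i ∈ J, F i = ∅ := by
  classical
  obtain ⟨s, hs, hcov⟩ := isCompact_and_isOpen_iff_finite_and_eq_biUnion_affineOpens.mp
    ⟨(isCompact_univ : IsCompact (univ : Set X)), isOpen_univ⟩
  have key : ∀ k : X.affineOpens, ∃ J : Finset ι,
      ⋂ i ∈ J, (Subtype.val ⁻¹' F i : Set ↥(k.1 : Set X)) = ∅ := by
    intro k
    have hk : IsAffineOpen k.1 := k.2
    haveI : IsAffine k.1.toScheme := hk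
    haveI : CompactSpace ↥(k.1 : Set X) := inferInstanceAs (CompactSpace ↥(k.1.toScheme))
    haveI : QuasiSober ↥(k.1 : Set X) := inferInstanceAs (QuasiSober ↥(k.1.toScheme))
    haveI : PrespectralSpace ↥(k.1 : Set X) := inferInstanceAs (PrespectralSpace ↥(k.1.toScheme))
    haveI : QuasiSeparatedSpace ↥(k.1 : Set X) :=
      (isQuasiSeparated_iff_quasiSeparatedSpace _ k.1.2).mp hk.isQuasiSeparated
    apply IsProC.exists_finset_iInter_eq_empty
    · intro i
      exact isProC_preimage_val_of_isProConstructible X (hF i) _ k.1.2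
    · rw [← preimage_iInter, h, preimage_empty]
  choose J hJ using key
  refine ⟨hs.toFinset.biUnion J, ?_⟩
  rw [eq_empty_iff_forall_notMem]
  intro x hx
  rw [mem_iInter₂] at hx
  have hx' : x ∈ ⋃ i ∈ s, ((i : X.Opens) : Set X) := hcov ▸ mem_univ x
  obtain ⟨k, hk, hxk⟩ := mem_iUnion₂.mp hx'
  have : (⟨x, hxk⟩ : ↥(k.1 : Set X)) ∈ ⋂ i ∈ J k, (Subtype.val ⁻¹' F i : Set ↥(k.1 : Set X)) := by
    rw [mem_iInter₂]
    intro i hi
    exact hx i (Finset.mem_biUnion.mpr ⟨k, hs.mem_toFinset.mpr hk, hi⟩)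
  rw [hJ k] at this
  exact this

/-- EGA IV 1.9.9, relative form -/
theorem exists_finset_iInter_subset_of_isProConstructible (X : Scheme.{u}) [CompactSpace X]
    (E : Set X) (hE : ProCons.IsIndConstructible E) {ι : Type*} (F : ι → Set X)
    (hF : ∀ i, ProCons.IsProConstructible (F i)) (h : ⋂ i, F i ⊆ E) :
    ∃ J : Finset ι, ⋂ i ∈ J, F i ⊆ E := by
  classical
  let F' : Option ι → Set X := fun a => a.elim Eᶜ F
  have hF' : ∀ a, ProCons.IsProConstructible (F' a) := by
    rintro (_ | i)
    · exact isProConstructible_compl_of_isIndConstructible hE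
    · exact hF i
  have hempty : ⋂ a, F' a = ∅ := by
    rw [eq_empty_iff_forall_notMem]
    intro x hx
    rw [mem_iInter] at hx
    exact hx none (h (mem_iInter.mpr fun i => hx (some i)))
  obtain ⟨J', hJ'⟩ := exists_finset_iInter_eq_empty_of_isProConstructible X F' hF' hempty
  refine ⟨J'.eraseNone, ?_⟩
  intro x hx
  rw [mem_iInter₂] at hx
  by_contra hxE
  have : x ∈ ⋂ a ∈ J', F' a := by
    rw [mem_iInter₂]
    rintro (_ | i) ha
    · exact hxE
    · exact hx i (Finset.mem_eraseNone.mpr ha)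
  rw [hJ'] at this
  exact this

end Groth.Agent.Lib.Helper17
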