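import Groth.Agent.Lib.Helper17.ProCCompact
import Mathlib.AlgebraicGeometry.Morphisms.FinitePresentation

/-!
# Preimages of locally constructible / pro-constructible / ind-constructible sets (helper17)
-/

set_option autoImplicit false

open Topology Set AlgebraicGeometry CategoryTheory

universe u

namespace Groth.Agent.Lib.Helper17

/-- the preimage of a locally constructible set under a morphism of schemes is locally
constructible -/
theorem isLocallyConstructible_preimage {X Y : Scheme.{u}} (f : X ⟶ Y) {s : Set Y}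
    (hs : IsLocallyConstructible s) : IsLocallyConstructible (f.base ⁻¹' s) := by
  intro x
  obtain ⟨U, hU, hUo, hc⟩ := hs (f.base x)
  let U' : Y.Opens := ⟨U, hUo⟩
  have hxU : x ∈ f ⁻¹ᵁ U' := show f.base x ∈ U from mem_of_mem_nhds hU
  refine ⟨(f ⁻¹ᵁ U' : Set X), (f ⁻¹ᵁ U').2.mem_nhds hxU, (f ⁻¹ᵁ U').2, ?_⟩
  have h1 : IsConstructible ((f ∣_ U').base ⁻¹' (Subtype.val ⁻¹' s : Set ↥U')) :=
    Scheme.Hom.isConstructible_preimage (f ∣_ U') hc
  have e : ((f ∣_ U').base ⁻¹' (Subtype.val ⁻¹' s : Set ↥U')) =
      (Subtype.val ⁻¹' (f.base ⁻¹' s) : Set ↥(f ⁻¹ᵁ U' : Set X)) := by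
    ext z
    change ((f ∣_ U').base z).1 ∈ s ↔ f.base z.1 ∈ s
    rw [morphismRestrict_base_coe]
  rw [e] at h1
  exact h1

/-- set-level restriction form of `isLocallyConstructible_preimage` -/
theorem isLocallyConstructible_restrictPreimage {X Y : Scheme.{u}} (f : X ⟶ Y) {U : Set Y}
    (hU : IsOpen U) {T : Set ↥U} (hT : IsLocallyConstructible T) :
    IsLocallyConstructible (U.restrictPreimage f.base ⁻¹' T) := by
  let U' : Y.Opens := ⟨U, hU⟩
  have h := isLocallyConstructible_preimage (f ∣_ U') (s := T) hT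
  have e : ((f ∣_ U').base ⁻¹' T : Set _) = (U.restrictPreimage f.base ⁻¹' T) := by
    ext z
    have hz : (f ∣_ U').base z = U.restrictPreimage f.base z :=
      Subtype.ext (morphismRestrict_base_coe f U' z)
    exact Eq.to_iff (congrArg (fun w : ↥U => w ∈ T) hz)
  exact e ▸ h

/-- preimage of a pro-constructible set under a morphism of schemes -/
theorem isProConstructible_preimage {X Y : Scheme.{u}} (f : X ⟶ Y) {E : Set Y}
    (hE : ProCons.IsProConstructible E) : ProCons.IsProConstructible (f.base ⁻¹' E) := by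
  intro x
  obtain ⟨U, hUo, hxU, S, hS, hES⟩ := hE (f.base x)
  refine ⟨f.base ⁻¹' U, hUo.preimage f.continuous, hxU,
    (fun T => U.restrictPreimage f.base ⁻¹' T) '' S, ?_, ?_⟩
  · rintro _ ⟨T, hT, rfl⟩
    exact isLocallyConstructible_restrictPreimage f hUo (hS T hT)
  · have e : (Subtype.val ⁻¹' (f.base ⁻¹' E) : Set ↥(f.base ⁻¹' U)) =
        U.restrictPreimage f.base ⁻¹' (Subtype.val ⁻¹' E) := rfl
    rw [e, hES, preimage_sInter, sInter_image]

/-- preimage of an ind-constructible set under a morphism of schemes -/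
theorem isIndConstructible_preimage {X Y : Scheme.{u}} (f : X ⟶ Y) {E : Set Y}
    (hE : ProCons.IsIndConstructible E) : ProCons.IsIndConstructible (f.base ⁻¹' E) := by
  intro x
  obtain ⟨U, hUo, hxU, S, hS, hES⟩ := hE (f.base x)
  refine ⟨f.base ⁻¹' U, hUo.preimage f.continuous, hxU,
    (fun T => U.restrictPreimage f.base ⁻¹' T) '' S, ?_, ?_⟩
  · rintro _ ⟨T, hT, rfl⟩
    exact isLocallyConstructible_restrictPreimage f hUo (hS T hT)
  · have e : (Subtype.val ⁻¹' (f.base ⁻¹' E) : Set ↥(f.base ⁻¹' U)) =
        U.restrictPreimage f.base ⁻¹' (Subtype.val ⁻¹' E) := rfl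
    rw [e, hES, preimage_sUnion, sUnion_image]

lemma isProConstructible_of_compl_isIndConstructible {X : Type*} [TopologicalSpace X] {E : Set X}
    (hE : ProCons.IsIndConstructible Eᶜ) : ProCons.IsProConstructible E := by
  have := isProConstructible_compl_of_isIndConstructible hE
  rwa [compl_compl] at this

lemma isIndConstructible_of_compl_isProConstructible {X : Type*} [TopologicalSpace X] {E : Set X}
    (hE : ProCons.IsProConstructible Eᶜ) : ProCons.IsIndConstructible E := by
  have := isIndConstructible_compl_of_isProConstructible hE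
  rwa [compl_compl] at this

end Groth.Agent.Lib.Helper17
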