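import Groth.Agent.Lib.Helper17.ProCAffine
import Mathlib.AlgebraicGeometry.Limits
import Mathlib.AlgebraicGeometry.Morphisms.QuasiCompact
import Mathlib.AlgebraicGeometry.Morphisms.QuasiSeparated

/-!
# Pro-constructible subsets of a qcqs scheme are images of affine schemes (helper17)
-/

set_option autoImplicit false

open Topology Set AlgebraicGeometry CategoryTheory CategoryTheory.Limits

universe u

namespace Groth.Agent.Lib.Helper17

lemma IsProC.preimage {T T' : Type*} [TopologicalSpace T] [TopologicalSpace T'] (g : T' → T)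
    (hg : ∀ C, IsConstructible C → IsConstructible (g ⁻¹' C)) {Z : Set T} (hZ : IsProC Z) :
    IsProC (g ⁻¹' Z) := by
  obtain ⟨𝒞, h𝒞, rfl⟩ := hZ
  refine ⟨(fun C => g ⁻¹' C) '' 𝒞, ?_, ?_⟩
  · rintro _ ⟨C, hC, rfl⟩
    exact hg C (h𝒞 C hC)
  · rw [preimage_sInter, sInter_image]

/-- Bridge, open-embedding form: the preimage of a (locally) pro-constructible subset of a scheme
under an open embedding from a quasi-separated space is globally pro-constructible. -/
theorem isProC_preimage_of_isOpenEmbedding (X : Scheme) {E : Set X}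
    (hE : ProCons.IsProConstructible E) {T' : Type*} [TopologicalSpace T']
    [QuasiSeparatedSpace T'] (j : T' → X) (hj : IsOpenEmbedding j) : IsProC (j ⁻¹' E) := by
  let h : T' ≃ₜ ↥(range j) := hj.isEmbedding.toHomeomorph
  haveI : QuasiSeparatedSpace ↥(range j) :=
    QuasiSeparatedSpace.of_isOpenEmbedding h.symm.isOpenEmbedding
  have h1 := isProC_preimage_val_of_isProConstructible X hE (range j) hj.isOpen_range
  have h2 := h1.preimage h (fun C hC => hC.preimage_of_isOpenEmbedding h.isOpenEmbedding)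
  exact h2

/-- EGA IV 1.9.5 (ix), hard direction: a pro-constructible subset of a quasi-compact
quasi-separated scheme is the image of an affine scheme. -/
theorem exists_affine_range_eq (X : Scheme.{u}) [CompactSpace X] [QuasiSeparatedSpace X]
    (E : Set X) (hE : ProCons.IsProConstructible E) :
    ∃ (X' : Scheme.{u}) (f : X' ⟶ X), IsAffine X' ∧ Set.range f.base = E := by
  obtain ⟨s, hs, hcov⟩ := isCompact_and_isOpen_iff_finite_and_eq_biUnion_affineOpens.mp
    ⟨(isCompact_univ : IsCompact (univ : Set X)), isOpen_univ⟩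
  haveI : Finite ↥s := hs.to_subtype
  let Ei : ∀ i : ↥s, Set (PrimeSpectrum Γ(X, i.1.1)) := fun i => (i.1.2.fromSpec.base) ⁻¹' E
  have hEi : ∀ i, IsProC (Ei i) := fun i =>
    isProC_preimage_of_isOpenEmbedding X hE _ (i.1.2.fromSpec.isOpenEmbedding)
  let g : ↥s → Scheme.{u} := fun i => Spec (CommRingCat.of (ProdRes (Ei i)))
  let F : ∀ i, g i ⟶ X := fun i =>
    Spec.map (CommRingCat.ofHom (toProdRes (Ei i))) ≫ i.1.2.fromSpec
  refine ⟨∐ g, Sigma.desc F, inferInstance, ?_⟩
  ext y
  constructor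
  · rintro ⟨z, rfl⟩
    obtain ⟨⟨i, x⟩, rfl⟩ := (sigmaMk g).surjective z
    rw [sigmaMk_mk]
    have e1 : (Sigma.desc F).base ((Sigma.ι g i).base x) = (F i).base x := by
      rw [← Scheme.Hom.comp_apply, Sigma.ι_desc]
    rw [e1]
    have e2 : PrimeSpectrum.comap (toProdRes (Ei i)) x ∈ Ei i :=
      (range_comap_toProdRes (hEi i)).subset ⟨x, rfl⟩
    exact e2
  · intro hy
    have hy' : y ∈ ⋃ i ∈ s, ((i : X.Opens) : Set X) := hcov ▸ mem_univ y
    obtain ⟨i, hi, hyi⟩ := mem_iUnion₂.mp hy'
    have hyr : y ∈ range i.2.fromSpec.base := by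
      rw [IsAffineOpen.range_fromSpec]; exact hyi
    obtain ⟨w, rfl⟩ := hyr
    have hw : w ∈ Ei ⟨i, hi⟩ := hy
    obtain ⟨x, rfl⟩ := (range_comap_toProdRes (hEi _)).superset hw
    refine ⟨(Sigma.ι g ⟨i, hi⟩).base x, ?_⟩
    rw [← Scheme.Hom.comp_apply, Sigma.ι_desc]
    rfl

end Groth.Agent.Lib.Helper17
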