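import Groth.Prelude.Def_SGA3b
import Groth.Agent.Lib.Helper17.GroupLikeDesc
import Groth.Agent.Lib.Helper27.DiagQuot
import Mathlib.RingTheory.FiniteStability
import Mathlib.RingTheory.FiniteType
import Mathlib.FieldTheory.SeparableClosure
import Mathlib.FieldTheory.IntermediateField.Adjoin.Basic
import Mathlib.RingTheory.LocalRing.ResidueField.Ideal

/-!
# Auxiliary lemmas on group-like elements over fields (helper17)

These were originally the `aux` section of helper17's `S2969.lean`; they are kept here because
`S16065.lean` uses `iota_mul`, `iota_one`, `evK_coord` (the landed `S2969.lean` is another seat's version).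
-/

set_option autoImplicit false
universe u
open TensorProduct SGA3b
open SGA3b

namespace Groth.Agent.Lib.Helper17.S2969Aux

section aux

open Groth.Agent.Lib.Helper27.MultRigid Groth.Agent.Lib.Helper17.GroupLikeDesc

/-- a diagonalisation over `R'` gives spanning by group-likes over any field under `R'` -/
theorem span_groupLike_of_diag {k kf R' K A M : Type u} [CommRing k] [CommRing kf] [Algebra k kf]
    [CommRing R'] [Algebra kf R'] [Field K] [Algebra R' K] [Algebra kf K] [Algebra k K]
    [IsScalarTower kf R' K] [IsScalarTower k kf K] [CommRing A] [HopfAlgebra k A] [CommGroup M]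
    (e : (R' ⊗[kf] (kf ⊗[k] A)) ≃ₐc[R'] MonoidAlgebra R' M) :
    Submodule.span K {g : K ⊗[k] A | IsGroupLikeElem K g} = ⊤ := by
  set θ₁ : kf ⊗[k] A →ₗ[kf] K ⊗[k] A := (bcMap K A).liftBaseChange kf with hθ₁
  have h1c : IsSemiComul (R := kf) (R' := K) θ₁ :=
    IsSemiComul.liftBaseChange (isSemiComul_bcMap (R := k) (R' := K) (A := A))
  have h1u : IsSemiCounit (R := kf) (R' := K) θ₁ :=
    IsSemiCounit.liftBaseChange (isSemiCounit_bcMap (k := k) (K := K) (A := A))
  set Θ : R' ⊗[kf] (kf ⊗[k] A) →ₗ[R'] K ⊗[k] A := θ₁.liftBaseChange R' with hΘ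
  have H1 : IsSemiComul (R := R') (R' := K) Θ := h1c.liftBaseChange
  have H2 : IsSemiCounit (R := R') (R' := K) Θ := h1u.liftBaseChange
  set S := Submodule.span K {g : K ⊗[k] A | IsGroupLikeElem K g} with hS
  have key : ∀ y : MonoidAlgebra R' M, Θ (e.symm y) ∈ S := by
    intro y
    induction y using MonoidAlgebra.induction_on with
    | of m =>
      apply Submodule.subset_span
      apply isGroupLikeElem_of_semi H1 H2
      exact (isGroupLikeElem_map_equiv e.symm).mpr (MonoidAlgebra.isGroupLikeElem_of m)
    | add x y hx hy => rw [map_add, map_add]; exact Submodule.add_mem _ hx hy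
    | smul r x hx =>
      rw [map_smul, map_smul, ← algebraMap_smul K r]
      exact Submodule.smul_mem _ _ hx
  rw [eq_top_iff]
  intro z _
  induction z using TensorProduct.induction_on with
  | zero => exact Submodule.zero_mem _
  | tmul c a =>
    have h1 : c ⊗ₜ[k] a = c • Θ ((1 : R') ⊗ₜ[kf] ((1 : kf) ⊗ₜ[k] a)) := by
      rw [hΘ, LinearMap.liftBaseChange_tmul, hθ₁, LinearMap.liftBaseChange_tmul, one_smul, one_smul,
        bcMap_apply, TensorProduct.smul_tmul', smul_eq_mul, mul_one]
    have h2 := key (e ((1 : R') ⊗ₜ[kf] ((1 : kf) ⊗ₜ[k] a)))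
    rw [BialgEquiv.symm_apply_apply] at h2
    rw [h1]
    exact Submodule.smul_mem _ _ h2
  | add u v hu hv => exact Submodule.add_mem _ (hu trivial) (hv trivial)

/-- a field extension over which a group of multiplicative type is spanned by characters -/
theorem exists_field_span (k A : Type u) [Field k] [CommRing A] [HopfAlgebra k A]
    (h : SGA3b.IsMultType k A) :
    ∃ (K : Type u) (_ : Field K) (_ : Algebra k K),
      Submodule.span K {g : K ⊗[k] A | IsGroupLikeElem K g} = ⊤ := by
  classical
  obtain ⟨s, hs, hs'⟩ := h
  have hex : ∃ f ∈ s, f ≠ 0 := by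
    by_contra hcon
    push Not at hcon
    have : Ideal.span s ≤ (⊥ : Ideal k) := by
      rw [Ideal.span_le]
      intro f hf
      rw [hcon f hf]
      exact Ideal.zero_mem _
    rw [hs] at this
    exact one_ne_zero (Ideal.mem_bot.mp (this (Submodule.mem_top : (1 : k) ∈ ⊤)))
  obtain ⟨f, hf, hf0⟩ := hex
  obtain ⟨R', _, _, hff, hdiag⟩ := hs' f hf
  obtain ⟨M₀, _, ⟨e₀⟩⟩ := hdiag
  have hnt : Nontrivial (Localization.Away f) := by
    rw [← not_subsingleton_iff_nontrivial,
      IsLocalization.subsingleton_iff (M := Submonoid.powers f) (S := Localization.Away f)]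
    rintro ⟨n, hn⟩
    exact hf0 (IsNilpotent.eq_zero ⟨n, hn⟩)
  have hntR' : Nontrivial R' := by
    by_contra hcon
    rw [not_nontrivial_iff_subsingleton] at hcon
    obtain ⟨𝔪, h𝔪⟩ := Ideal.exists_maximal (Localization.Away f)
    have := Module.FaithfullyFlat.submodule_ne_top (R := Localization.Away f) (M := R') h𝔪
    exact this (Subsingleton.elim _ _)
  obtain ⟨m, hm⟩ := Ideal.exists_maximal R'
  letI : Algebra (Localization.Away f) m.ResidueField :=
    ((algebraMap R' m.ResidueField).comp (algebraMap (Localization.Away f) R')).toAlgebra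
  letI : Algebra k m.ResidueField :=
    ((algebraMap (Localization.Away f) m.ResidueField).comp
      (algebraMap k (Localization.Away f))).toAlgebra
  haveI : IsScalarTower (Localization.Away f) R' m.ResidueField :=
    IsScalarTower.of_algebraMap_eq (fun _ => rfl)
  haveI : IsScalarTower k (Localization.Away f) m.ResidueField :=
    IsScalarTower.of_algebraMap_eq (fun _ => rfl)
  exact ⟨m.ResidueField, inferInstance, inferInstance,
    span_groupLike_of_diag (k := k) (kf := Localization.Away f) (R' := R') (K := m.ResidueField) e₀⟩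

/-- `iota` is multiplicative -/
theorem iota_mul {k F K A : Type u} [Field k] [Field F] [Field K] [Algebra k F] [Algebra F K]
    [Algebra k K] [IsScalarTower k F K] [CommRing A] [HopfAlgebra k A] (u v : F ⊗[k] A) :
    iota k F K A (u * v) = iota k F K A u * iota k F K A v := by
  induction u using TensorProduct.induction_on with
  | zero => simp
  | tmul c a =>
    induction v using TensorProduct.induction_on with
    | zero => simp
    | tmul c' a' =>
      rw [Algebra.TensorProduct.tmul_mul_tmul, iota_tmul, iota_tmul, iota_tmul,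
        Algebra.TensorProduct.tmul_mul_tmul, map_mul]
    | add x y hx hy => rw [mul_add, map_add, hx, hy, map_add, mul_add]
  | add x y hx hy => rw [add_mul, map_add, hx, hy, map_add, add_mul]

theorem iota_one {k F K A : Type u} [Field k] [Field F] [Field K] [Algebra k F] [Algebra F K]
    [Algebra k K] [IsScalarTower k F K] [CommRing A] [HopfAlgebra k A] :
    iota k F K A (1 : F ⊗[k] A) = 1 := by
  rw [Algebra.TensorProduct.one_def, iota_tmul, map_one]
  rfl

theorem evK_coord {k K A ι : Type u} [Field k] [Field K] [Algebra k K] [CommRing A]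
    [HopfAlgebra k A] (b : Module.Basis ι k A) (i : ι) (z : K ⊗[k] A) :
    evK K (b.coord i) z = (b.baseChange K).repr z i := by
  induction z using TensorProduct.induction_on with
  | zero => simp
  | tmul c a =>
    rw [evK_tmul, Module.Basis.baseChange_repr_tmul, Module.Basis.coord_apply, Algebra.smul_def,
      mul_comm]
  | add x y hx hy => rw [map_add, hx, hy, map_add, Finsupp.add_apply]

end aux

end Groth.Agent.Lib.Helper17.S2969Aux
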