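import Groth.Agent.Lib.Helper17.TorsionMT2
import Groth.Agent.Lib.Helper17.MultLocal
import Groth.Agent.Lib.Helper25.FiniteTypeZ

/-!
# Schematic density of the torsion subgroups of a group of multiplicative type (helper17)

* `exists_torsionIdeal_le_ker` : a ring map from a group algebra `R₀[M]` to a finite ring kills some
  torsion ideal `Jₙ`, `n > 0`.
* `eq_zero_of_forall_mem_pow` : Krull intersection over all maximal ideals of a Noetherian ring.
* `core_fg` : density for group algebras over finite type `ℤ`-algebras.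
* `core_general` : density for group algebras over any ring (`M` finitely generated).
* `dense_elementwise` : for `A` of multiplicative type and of finite type, if for all `n > 0` some
  `a ^ k * y` lies in `Jₙ`, then some `a ^ k * y` is zero.
-/

set_option autoImplicit false

open TensorProduct SGA3b
open Groth.Agent.Lib.Helper17.TorsionMT Groth.Agent.Lib.Helper17.TorsionMT2
  Groth.Agent.Lib.Helper17.MultLocal

namespace Groth.Agent.Lib.Helper17.TorsionDense

universe u

section FiniteRing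

theorem finite_of_isField_finiteType_int (F : Type*) [CommRing F] [iA : Algebra ℤ F]
    [iF : Algebra.FiniteType ℤ F] (hF : IsField F) : Finite F := by
  obtain rfl : iA = Ring.toIntAlgebra F := Subsingleton.elim _ _
  haveI := Groth.Agent.Lib.Helper25.Int.isJacobsonRing
  letI := hF.toField
  have h1 : Module.Finite ℤ F := finite_of_finite_type_of_isJacobsonRing ℤ F
  exact Groth.Agent.Lib.Helper25.finite_of_finite_ringHom_of_ringEquiv_int (RingEquiv.refl ℤ)
    (algebraMap ℤ F) (RingHom.finite_algebraMap.2 h1)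

theorem finite_quot_pow (B : Type*) [CommRing B] [Algebra ℤ B] [Algebra.FiniteType ℤ B]
    (𝔫 : Ideal B) [h𝔫 : 𝔫.IsMaximal] (k : ℕ) : Finite (B ⧸ 𝔫 ^ k) := by
  haveI : IsNoetherianRing B := Algebra.FiniteType.isNoetherianRing ℤ B
  haveI : Algebra.FiniteType ℤ (B ⧸ 𝔫) :=
    Algebra.FiniteType.of_surjective (Ideal.Quotient.mkₐ ℤ 𝔫) (Ideal.Quotient.mkₐ_surjective ℤ 𝔫)
  haveI : Finite (B ⧸ 𝔫) :=
    finite_of_isField_finiteType_int (B ⧸ 𝔫) ((Ideal.Quotient.maximal_ideal_iff_isField_quotient 𝔫).1 h𝔫)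
  exact Ideal.finite_quotient_pow (IsNoetherian.noetherian 𝔫) k

end FiniteRing

section Core

/-- a ring map from a group algebra to a finite ring kills some torsion ideal -/
theorem exists_torsionIdeal_le_ker {R₀ : Type u} [CommRing R₀] (M : Type u) [CommGroup M]
    {T : Type*} [CommRing T] [Finite T] (g : MonoidAlgebra R₀ M →+* T) :
    ∃ n : ℕ, 0 < n ∧ torsionIdeal R₀ (MonoidAlgebra R₀ M) n ≤ RingHom.ker g := by
  classical
  haveI : Fintype Tˣ := Fintype.ofFinite Tˣ
  let χ : M →* Tˣ := ((g : MonoidAlgebra R₀ M →* T).comp (MonoidAlgebra.of R₀ M)).toHomUnits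
  have hχ : ∀ m, ((χ m : Tˣ) : T) = g (MonoidAlgebra.single m 1) := fun m => rfl
  refine ⟨Fintype.card Tˣ, Fintype.card_pos, ?_⟩
  set n := Fintype.card Tˣ with hn
  have hpow : ∀ m, g (MonoidAlgebra.single m 1) ^ n = 1 := by
    intro m
    rw [← hχ, ← Units.val_pow_eq_pow_val, pow_card_eq_one, Units.val_one]
  letI : Algebra R₀ T := (g.comp (algebraMap R₀ (MonoidAlgebra R₀ M))).toAlgebra
  let g' : MonoidAlgebra R₀ M →ₐ[R₀] T := { g with commutes' := fun r => rfl }
  have hg' : ∀ z, g' z = g z := fun z => rfl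
  have heq : g'.comp (powConv R₀ (MonoidAlgebra R₀ M) n) =
      g'.comp ((Algebra.ofId R₀ (MonoidAlgebra R₀ M)).comp
        (Bialgebra.counitAlgHom R₀ (MonoidAlgebra R₀ M))) := by
    apply monAlgHom_ext
    intro m
    rw [AlgHom.comp_apply, AlgHom.comp_apply, AlgHom.comp_apply,
      powConv_groupLike (MonoidAlgebra.isGroupLikeElem_single_one m), map_pow, hg', hpow]
    have h1 : Bialgebra.counitAlgHom R₀ (MonoidAlgebra R₀ M) (MonoidAlgebra.single m 1) = 1 :=
      (MonoidAlgebra.isGroupLikeElem_single_one (R := R₀) (A := R₀) m).counit_eq_one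
    rw [h1, map_one, map_one]
  unfold torsionIdeal
  rw [Ideal.map_le_iff_le_comap]
  intro z hz
  rw [Ideal.mem_comap, RingHom.mem_ker]
  rw [RingHom.mem_ker] at hz
  have h2 := AlgHom.congr_fun heq z
  rw [AlgHom.comp_apply, AlgHom.comp_apply, AlgHom.comp_apply, hz, map_zero, map_zero, hg'] at h2
  exact h2

/-- Krull's intersection theorem over all maximal ideals of a Noetherian ring -/
theorem eq_zero_of_forall_mem_pow {B : Type*} [CommRing B] [IsNoetherianRing B] (x : B)
    (h : ∀ (𝔫 : Ideal B), 𝔫.IsMaximal → ∀ k : ℕ, x ∈ 𝔫 ^ k) : x = 0 := by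
  by_contra hx
  set I : Ideal B := LinearMap.ker (LinearMap.toSpanSingleton B B x) with hI
  have hmem : ∀ r, r ∈ I ↔ r * x = 0 := fun r => by
    rw [hI, LinearMap.mem_ker, LinearMap.toSpanSingleton_apply, smul_eq_mul]
  have hI1 : I ≠ ⊤ := by
    intro htop
    have : (1 : B) ∈ I := by rw [htop]; trivial
    rw [hmem, one_mul] at this
    exact hx this
  obtain ⟨𝔫, h𝔫, hle⟩ := Ideal.exists_le_maximal I hI1
  have hxm : x ∈ (⨅ i : ℕ, 𝔫 ^ i • ⊤ : Submodule B B) := by
    rw [Submodule.mem_iInf]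
    intro i
    have := h 𝔫 h𝔫 i
    rwa [smul_eq_mul, Ideal.mul_top]
  obtain ⟨r, hr⟩ := (Ideal.mem_iInf_smul_pow_eq_bot_iff 𝔫 x).1 hxm
  have h1 : (1 - (r : B)) ∈ I := by
    rw [hmem, sub_mul, one_mul]
    have : (r : B) * x = x := hr
    rw [this, sub_self]
  have h2 : (1 : B) ∈ 𝔫 := by
    have := 𝔫.add_mem (hle h1) r.2
    rwa [sub_add_cancel] at this
  exact h𝔫.ne_top ((Ideal.eq_top_iff_one 𝔫).2 h2)

/-- density for group algebras over finite type `ℤ`-algebras -/
theorem core_fg (R₀ : Type u) [CommRing R₀] [Algebra.FiniteType ℤ R₀] (M : Type u) [CommGroup M]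
    [Group.FG M] (a y : MonoidAlgebra R₀ M)
    (h : ∀ n : ℕ, 0 < n → ∃ k : ℕ, a ^ k * y ∈ torsionIdeal R₀ (MonoidAlgebra R₀ M) n) :
    ∃ k : ℕ, a ^ k * y = 0 := by
  haveI : Algebra.FiniteType ℤ (MonoidAlgebra R₀ M) :=
    Algebra.FiniteType.trans (inferInstance : Algebra.FiniteType ℤ R₀)
      (inferInstance : Algebra.FiniteType R₀ (MonoidAlgebra R₀ M))
  haveI : Algebra.FiniteType ℤ (Localization.Away a) :=
    Algebra.FiniteType.trans (inferInstance : Algebra.FiniteType ℤ (MonoidAlgebra R₀ M))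
      (inferInstance : Algebra.FiniteType (MonoidAlgebra R₀ M) (Localization.Away a))
  haveI : IsNoetherianRing (Localization.Away a) :=
    Algebra.FiniteType.isNoetherianRing ℤ (Localization.Away a)
  have hx : algebraMap (MonoidAlgebra R₀ M) (Localization.Away a) y = 0 := by
    apply eq_zero_of_forall_mem_pow
    intro 𝔫 h𝔫 k
    haveI := h𝔫
    haveI : Finite (Localization.Away a ⧸ 𝔫 ^ k) := finite_quot_pow (Localization.Away a) 𝔫 k
    let g : MonoidAlgebra R₀ M →+* Localization.Away a ⧸ 𝔫 ^ k :=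
      (Ideal.Quotient.mk (𝔫 ^ k)).comp (algebraMap (MonoidAlgebra R₀ M) (Localization.Away a))
    obtain ⟨n, hn, hle⟩ := exists_torsionIdeal_le_ker M g
    obtain ⟨j, hj⟩ := h n hn
    have h1 : g (a ^ j * y) = 0 := hle hj
    have hu : IsUnit (g a) :=
      (IsLocalization.Away.algebraMap_isUnit (S := Localization.Away a) a).map
        (Ideal.Quotient.mk (𝔫 ^ k))
    rw [map_mul, map_pow] at h1
    have h2 : g y = 0 := (hu.pow j).mul_right_eq_zero.1 h1
    exact Ideal.Quotient.eq_zero_iff_mem.1 h2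
  obtain ⟨⟨_, k, rfl⟩, hk⟩ :=
    (IsLocalization.map_eq_zero_iff (Submonoid.powers a) (Localization.Away a) y).1 hx
  exact ⟨k, hk⟩

/-- density for group algebras of finitely generated groups over arbitrary rings -/
theorem core_general (R' : Type u) [CommRing R'] (M : Type u) [CommGroup M] [Group.FG M]
    (a y : MonoidAlgebra R' M)
    (h : ∀ n : ℕ, 0 < n → ∃ k : ℕ, a ^ k * y ∈ torsionIdeal R' (MonoidAlgebra R' M) n) :
    ∃ k : ℕ, a ^ k * y = 0 := by
  classical
  set S₀ : Set R' := ((fun m => a.coeff m) '' (a.coeff.support : Set M)) ∪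
    ((fun m => y.coeff m) '' (y.coeff.support : Set M)) with hS₀
  have hfin : S₀.Finite :=
    ((Finset.finite_toSet _).image _).union ((Finset.finite_toSet _).image _)
  set R₀ : Subalgebra ℤ R' := Algebra.adjoin ℤ S₀ with hR₀
  haveI : Algebra.FiniteType ℤ R₀ := Algebra.FiniteType.adjoin_of_finite hfin
  let ι : MonoidAlgebra R₀ M →+* MonoidAlgebra R' M :=
    MonoidAlgebra.mapRingHom M (algebraMap R₀ R')
  have hι : Function.Injective ι := by
    rw [injective_iff_map_eq_zero]
    intro x hx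
    apply MonoidAlgebra.ext
    ext m
    have h1 : (ι x).coeff m = 0 := by rw [hx]; rfl
    rw [MonoidAlgebra.coeff_mapRingHom] at h1
    have h2 : ((x.coeff m : ↥R₀) : R') = ((0 : ↥R₀) : R') := h1
    exact h2
  have hrange : ∀ x : MonoidAlgebra R' M, (∀ m, x.coeff m ∈ R₀) → x ∈ ι.range := by
    intro x hx
    rw [← MonoidAlgebra.sum_coeff_single x]
    unfold Finsupp.sum
    refine Subring.sum_mem _ (fun m _ => ?_)
    exact ⟨MonoidAlgebra.single m ⟨x.coeff m, hx m⟩, MonoidAlgebra.mapRingHom_single _ _ _⟩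
  have ha : ∀ m, a.coeff m ∈ R₀ := by
    intro m
    by_cases hm : m ∈ a.coeff.support
    · exact Algebra.subset_adjoin (Or.inl ⟨m, hm, rfl⟩)
    · rw [Finsupp.notMem_support_iff.1 hm]
      exact R₀.zero_mem
  have hy : ∀ m, y.coeff m ∈ R₀ := by
    intro m
    by_cases hm : m ∈ y.coeff.support
    · exact Algebra.subset_adjoin (Or.inr ⟨m, hm, rfl⟩)
    · rw [Finsupp.notMem_support_iff.1 hm]
      exact R₀.zero_mem
  obtain ⟨a₀, ha₀⟩ := hrange a ha
  obtain ⟨y₀, hy₀⟩ := hrange y hy
  -- naturality of the projections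
  have hnat : ∀ (n : ℕ) (z : MonoidAlgebra R₀ M), piQ R' M n (ι z) =
      MonoidAlgebra.mapRingHom (M ⧸ Npow M n) (algebraMap R₀ R') (piQ R₀ M n z) := by
    intro n z
    rw [← MonoidAlgebra.sum_coeff_single z]
    unfold Finsupp.sum
    rw [map_sum, map_sum, map_sum, map_sum]
    refine Finset.sum_congr rfl (fun m _ => ?_)
    show piQ R' M n (MonoidAlgebra.mapRingHom M (algebraMap R₀ R') (MonoidAlgebra.single m _)) = _
    rw [MonoidAlgebra.mapRingHom_single, MonoidAlgebra.mapDomainBialgHom_single,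
      MonoidAlgebra.mapDomainBialgHom_single, MonoidAlgebra.mapRingHom_single]
  have hιQ : ∀ n : ℕ, Function.Injective
      (MonoidAlgebra.mapRingHom (M ⧸ Npow M n) (algebraMap R₀ R')) := by
    intro n
    rw [injective_iff_map_eq_zero]
    intro x hx
    apply MonoidAlgebra.ext
    ext m
    have h1 : (MonoidAlgebra.mapRingHom (M ⧸ Npow M n) (algebraMap R₀ R') x).coeff m = 0 := by
      rw [hx]; rfl
    rw [MonoidAlgebra.coeff_mapRingHom] at h1
    have h2 : ((x.coeff m : ↥R₀) : R') = ((0 : ↥R₀) : R') := h1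
    exact h2
  have h₀ : ∀ n : ℕ, 0 < n →
      ∃ k : ℕ, a₀ ^ k * y₀ ∈ torsionIdeal R₀ (MonoidAlgebra R₀ M) n := by
    intro n hn
    obtain ⟨k, hk⟩ := h n hn
    refine ⟨k, ?_⟩
    rw [torsionIdeal_monoidAlgebra, RingHom.mem_ker] at hk ⊢
    apply hιQ n
    rw [map_zero]
    have h1 := hnat n (a₀ ^ k * y₀)
    rw [map_mul, map_pow, ha₀, hy₀] at h1
    exact h1.symm.trans hk
  obtain ⟨k, hk⟩ := core_fg R₀ M a₀ y₀ h₀
  refine ⟨k, ?_⟩
  have := congrArg ι hk
  rwa [map_mul, map_pow, ha₀, hy₀, map_zero] at this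

end Core

section Main

/-- **Schematic density of torsion, elementwise form.** -/
theorem dense_elementwise {R : Type u} [CommRing R] (A : Type u) [CommRing A] [HopfAlgebra R A]
    (hft : Algebra.FiniteType R A) (h : IsMultType R A) (a y : A)
    (hy : ∀ n : ℕ, 0 < n → ∃ k : ℕ, a ^ k * y ∈ torsionIdeal R A n) :
    ∃ k : ℕ, a ^ k * y = 0 := by
  classical
  obtain ⟨s, hs, hloc⟩ := h
  have hstep : ∀ f ∈ s, ∃ k j : ℕ, f ^ j • (a ^ k * y) = 0 := by
    intro f hf
    obtain ⟨R', _, _, hff, M, _, ⟨e⟩⟩ := hloc f hf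
    haveI := hff
    let Θ : A →+* MonoidAlgebra R' M :=
      (e.toAlgEquiv.toAlgHom.toRingHom).comp
        ((Algebra.TensorProduct.includeRight : Localization.Away f ⊗[R] A →ₐ[Localization.Away f]
          R' ⊗[Localization.Away f] (Localization.Away f ⊗[R] A)).toRingHom.comp
        (Algebra.TensorProduct.includeRight : A →ₐ[R] Localization.Away f ⊗[R] A).toRingHom)
    have hΘ : ∀ z, Θ z = e ((1 : R') ⊗ₜ[Localization.Away f] ((1 : Localization.Away f) ⊗ₜ[R] z)) :=
      fun z => rfl
    have hΘt : ∀ (n : ℕ) (z : A), z ∈ torsionIdeal R A n →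
        Θ z ∈ torsionIdeal R' (MonoidAlgebra R' M) n := by
      intro n z hz
      have h1 : ((1 : Localization.Away f) ⊗ₜ[R] z : Localization.Away f ⊗[R] A) ∈
          torsionIdeal (Localization.Away f) (Localization.Away f ⊗[R] A) n := by
        rw [← torsionIdeal_baseChange]
        exact Ideal.mem_map_of_mem
          (Algebra.TensorProduct.includeRight : A →ₐ[R] Localization.Away f ⊗[R] A) hz
      have h2 : ((1 : R') ⊗ₜ[Localization.Away f] ((1 : Localization.Away f) ⊗ₜ[R] z) :
          R' ⊗[Localization.Away f] (Localization.Away f ⊗[R] A)) ∈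
          torsionIdeal R' (R' ⊗[Localization.Away f] (Localization.Away f ⊗[R] A)) n := by
        rw [← torsionIdeal_baseChange]
        exact Ideal.mem_map_of_mem
          (Algebra.TensorProduct.includeRight : Localization.Away f ⊗[R] A →ₐ[Localization.Away f]
            R' ⊗[Localization.Away f] (Localization.Away f ⊗[R] A)) h1
      rw [← map_torsionIdeal_of_surjective e.toBialgHom e.surjective n, hΘ]
      exact Ideal.mem_map_of_mem e.toBialgHom.toAlgHom h2
    have hk : ∃ k : ℕ, Θ (a ^ k * y) = 0 := by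
      rcases subsingleton_or_nontrivial R' with hsub | hnt
      · haveI : Subsingleton (MonoidAlgebra R' M) := Module.subsingleton R' _
        exact ⟨0, Subsingleton.elim _ _⟩
      · haveI := hft
        have hft' : Algebra.FiniteType R' (MonoidAlgebra R' M) :=
          Algebra.FiniteType.equiv
            (inferInstance : Algebra.FiniteType R'
              (R' ⊗[Localization.Away f] (Localization.Away f ⊗[R] A))) e.toAlgEquiv
        haveI : Group.FG M := MonoidAlgebra.finiteType_iff_group_fg.1 hft'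
        obtain ⟨k, hk⟩ := core_general R' M (Θ a) (Θ y) (fun n hn => by
          obtain ⟨k, hk⟩ := hy n hn
          refine ⟨k, ?_⟩
          have := hΘt n _ hk
          rwa [map_mul, map_pow] at this)
        exact ⟨k, by rw [map_mul, map_pow]; exact hk⟩
    obtain ⟨k, hk⟩ := hk
    refine ⟨k, ?_⟩
    set w := a ^ k * y with hw
    rw [hΘ] at hk
    have h1 : ((1 : R') ⊗ₜ[Localization.Away f] ((1 : Localization.Away f) ⊗ₜ[R] w) :
        R' ⊗[Localization.Away f] (Localization.Away f ⊗[R] A)) = 0 :=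
      e.injective (hk.trans (map_zero e).symm)
    have h2 : ((1 : Localization.Away f) ⊗ₜ[R] w : Localization.Away f ⊗[R] A) = 0 := by
      apply Module.FaithfullyFlat.tensorProduct_mk_injective (A := Localization.Away f) (B := R')
        (Localization.Away f ⊗[R] A)
      rw [map_zero]
      exact h1
    have h3 := mem_map_ann_of_tmul_eq_zero (R := R) (P := Localization.Away f) w 1 h2
    have h4 : Ideal.map (algebraMap R (Localization.Away f)) (ann R w) = ⊤ :=
      (Ideal.eq_top_iff_one _).2 h3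
    have h5 : ¬ Disjoint ((Submonoid.powers f : Submonoid R) : Set R) (ann R w : Set R) := by
      intro hd
      exact (IsLocalization.map_algebraMap_ne_top_iff_disjoint (Submonoid.powers f)
        (Localization.Away f) (ann R w)).2 hd h4
    rw [Set.not_disjoint_iff] at h5
    obtain ⟨_, ⟨j, rfl⟩, hj⟩ := h5
    exact ⟨j, mem_ann.1 hj⟩
  choose! kf jf hkj using hstep
  obtain ⟨s', hs's, hs'top⟩ := (Ideal.span_eq_top_iff_finite s).1 hs
  set K := s'.sup kf with hK
  refine ⟨K, ?_⟩
  have hmem : a ^ K * y ∈ (⊥ : Submodule R A) := by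
    apply Submodule.mem_of_span_eq_top_of_smul_pow_mem ⊥ (s' : Set R) hs'top
    rintro ⟨f, hf⟩
    refine ⟨jf f, ?_⟩
    rw [Submodule.mem_bot]
    have hle : kf f ≤ K := Finset.le_sup hf
    have h1 : a ^ K * y = a ^ (K - kf f) * (a ^ kf f * y) := by
      rw [← mul_assoc, ← pow_add, Nat.sub_add_cancel hle]
    show f ^ jf f • (a ^ K * y) = 0
    rw [h1, ← mul_smul_comm, hkj f (hs's hf), mul_zero]
  exact (Submodule.mem_bot R).1 hmem

end Main

end Groth.Agent.Lib.Helper17.TorsionDense
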