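import Groth.Agent.Lib.Helper27.MultRigid2
import Groth.Agent.Lib.Helper27.DiagQuot
import Groth.Prelude.Def_SGA3b
import Mathlib.GroupTheory.FiniteAbelian.Basic
import Mathlib.RingTheory.Filtration
import Mathlib.RingTheory.FiniteType
import Mathlib.GroupTheory.Perm.Cycle.Type
import Mathlib.Algebra.Module.Torsion.Basic

/-!
# Torsion ideals of group algebras and semilinear transport (helper17)

* `powConv_succ_apply`, `powConv_groupLike`, `semi_powConv`, `map_torsionIdeal`: the `n`-th power
  endomorphism is compatible with semilinear maps of Hopf algebras (base change followed by a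
  bialgebra isomorphism).
* `piN`, `piN_torsionIdeal`: the torsion ideal of a group algebra `L[M]` dies in `L[M / M^n]`.
* `eq_zero_of_forall_piN`: an element of `L[M]` killed by all `piN n`, `n` in a multiplicatively
  closed set of exponents separating the elements of `M`, is zero.
* `exists_not_mem_range_pow`: in a finitely generated commutative group without `p`-torsion, every
  nontrivial element is not an `n`-th power for some `n > 0` prime to `p`.
-/

set_option autoImplicit false
open TensorProduct WithConv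

namespace Groth.Agent.Lib.Helper17.TorsionMA

open Groth.Agent.Lib.Helper27.MultRigid

universe u

section Pow

variable {R : Type u} [CommRing R] {A : Type u} [CommRing A] [HopfAlgebra R A]

theorem powConv_def (n : ℕ) :
    SGA3b.powConv R A n = ofConv ((toConv (AlgHom.id R A)) ^ n) := rfl

theorem powConv_zero_apply (a : A) :
    SGA3b.powConv R A 0 a = algebraMap R A (Coalgebra.counit a) := by
  rw [powConv_def, pow_zero]; rfl

theorem powConv_succ_apply (n : ℕ) (a : A) :
    SGA3b.powConv R A (n + 1) a =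
      Algebra.TensorProduct.lift (SGA3b.powConv R A n) (AlgHom.id R A)
        (fun _ _ => Commute.all _ _) (Coalgebra.comul a) := by
  have h1 : SGA3b.powConv R A (n + 1) a =
      ((toConv (AlgHom.id R A)) ^ n * toConv (AlgHom.id R A)).ofConv a := by
    rw [powConv_def, pow_succ]
  rw [h1, AlgHom.convMul_apply]
  rfl

theorem powConv_groupLike {g : A} (hg : IsGroupLikeElem R g) (n : ℕ) :
    SGA3b.powConv R A n g = g ^ n := by
  induction n with
  | zero =>
    rw [powConv_zero_apply, pow_zero, hg.counit_eq_one, map_one]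
  | succ n ih =>
    rw [powConv_succ_apply, hg.comul_eq_tmul_self, Algebra.TensorProduct.lift_tmul, ih, pow_succ]
    rfl

end Pow

section Semi

variable {R : Type u} [CommRing R] {R' : Type u} [CommRing R'] [Algebra R R']
  {A : Type u} [CommRing A] [HopfAlgebra R A] {B : Type u} [CommRing B] [HopfAlgebra R' B]
  [Algebra R B] [IsScalarTower R R' B]

theorem semi_powConv (θ : A →ₐ[R] B)
    (h1 : IsSemiComul (R := R) (R' := R') θ.toLinearMap)
    (h2 : IsSemiCounit (R := R) (R' := R') θ.toLinearMap) (n : ℕ) (a : A) :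
    θ (SGA3b.powConv R A n a) = SGA3b.powConv R' B n (θ a) := by
  induction n generalizing a with
  | zero =>
    rw [powConv_zero_apply, powConv_zero_apply, AlgHom.commutes]
    have := h2 a
    change Coalgebra.counit (R := R') (θ a) = _ at this
    rw [this, ← IsScalarTower.algebraMap_apply]
  | succ n ih =>
    rw [powConv_succ_apply, powConv_succ_apply]
    have := h1 a
    change Coalgebra.comul (R := R') (θ a) = _ at this
    rw [this]
    generalize Coalgebra.comul (R := R) a = z
    induction z using TensorProduct.induction_on with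
    | zero => simp
    | tmul x y =>
      rw [Xi_tmul, Algebra.TensorProduct.lift_tmul, Algebra.TensorProduct.lift_tmul, map_mul, ih]
      rfl
    | add x y hx hy => rw [map_add, map_add, map_add, map_add, hx, hy]

theorem map_torsionIdeal (θ : A →ₐ[R] B)
    (h1 : IsSemiComul (R := R) (R' := R') θ.toLinearMap)
    (h2 : IsSemiCounit (R := R) (R' := R') θ.toLinearMap) (n : ℕ) (x : A)
    (hx : x ∈ SGA3b.torsionIdeal R A n) : θ x ∈ SGA3b.torsionIdeal R' B n := by
  unfold SGA3b.torsionIdeal at hx ⊢
  rw [Ideal.map] at hx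
  have key : ∀ y ∈ Ideal.span ((SGA3b.powConv R A n) ''
      (RingHom.ker (Bialgebra.counitAlgHom R A) : Set A)),
      θ y ∈ Ideal.map (SGA3b.powConv R' B n) (RingHom.ker (Bialgebra.counitAlgHom R' B)) := by
    intro y hy
    induction hy using Submodule.span_induction with
    | mem y hy =>
      obtain ⟨z, hz, rfl⟩ := hy
      have hz' : Coalgebra.counit (R := R) z = 0 := hz
      have : θ (SGA3b.powConv R A n z) = SGA3b.powConv R' B n (θ z) := semi_powConv θ h1 h2 n z
      rw [this]
      apply Ideal.mem_map_of_mem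
      rw [RingHom.mem_ker]
      have h3 := h2 z
      change Coalgebra.counit (R := R') (θ z) = _ at h3
      change Coalgebra.counit (R := R') (θ z) = 0
      rw [h3, hz', map_zero]
    | zero => rw [map_zero]; exact Ideal.zero_mem _
    | add y z _ _ hy hz => rw [map_add]; exact Ideal.add_mem _ hy hz
    | smul a y _ hy =>
      rw [smul_eq_mul, map_mul]
      exact Ideal.mul_mem_left _ _ hy
  exact key x hx

end Semi

section MA

variable (L : Type u) [CommRing L] (M : Type u) [CommGroup M]

/-- the subgroup of `n`-th powers -/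
def Pn (n : ℕ) : Subgroup M := (powMonoidHom n : M →* M).range

/-- `L[M] → L[M / M^n]` -/
noncomputable def piN (n : ℕ) : MonoidAlgebra L M →ₐ[L] MonoidAlgebra L (M ⧸ Pn M n) :=
  MonoidAlgebra.mapDomainAlgHom L L (QuotientGroup.mk' (Pn M n))

variable {L M}

theorem piN_of (n : ℕ) (m : M) :
    piN L M n (MonoidAlgebra.of L M m) = MonoidAlgebra.of L _ (QuotientGroup.mk' (Pn M n) m) := by
  simp [piN, MonoidAlgebra.of_apply]

theorem piN_powConv (n : ℕ) (y : MonoidAlgebra L M) :
    piN L M n (SGA3b.powConv L (MonoidAlgebra L M) n y) =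
      algebraMap L _ (Coalgebra.counit (R := L) y) := by
  induction y using MonoidAlgebra.induction_on with
  | of m =>
    rw [powConv_groupLike (MonoidAlgebra.isGroupLikeElem_of m) n, map_pow, piN_of, ← map_pow]
    have h1 : (QuotientGroup.mk' (Pn M n) m) ^ n = 1 := by
      rw [← map_pow]
      exact (QuotientGroup.eq_one_iff _).mpr ⟨m, rfl⟩
    rw [h1, map_one, (MonoidAlgebra.isGroupLikeElem_of (R := L) (A := L) m).counit_eq_one, map_one]
  | add x y hx hy => rw [map_add, map_add, map_add, map_add, hx, hy]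
  | smul r x hx =>
    rw [map_smul, map_smul, map_smul, hx, smul_eq_mul, map_mul, ← Algebra.smul_def]

theorem piN_torsionIdeal (n : ℕ) (x : MonoidAlgebra L M)
    (hx : x ∈ SGA3b.torsionIdeal L (MonoidAlgebra L M) n) : piN L M n x = 0 := by
  have hle : SGA3b.torsionIdeal L (MonoidAlgebra L M) n ≤ RingHom.ker (piN L M n).toRingHom := by
    unfold SGA3b.torsionIdeal
    rw [Ideal.map_le_iff_le_comap]
    intro y hy
    have hy' : Coalgebra.counit (R := L) y = 0 := hy
    rw [Ideal.mem_comap, RingHom.mem_ker]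
    change piN L M n (SGA3b.powConv L (MonoidAlgebra L M) n y) = 0
    rw [piN_powConv, hy', map_zero]
  exact hle hx

/-- separation of a finite set by one good exponent -/
theorem exists_good_finset (good : ℕ → Prop) (h1 : good 1)
    (hmul : ∀ a b, good a → good b → good (a * b))
    (hsep : ∀ m : M, m ≠ 1 → ∃ n, good n ∧ m ∉ Pn M n) (F : Finset M) (hF : (1 : M) ∉ F) :
    ∃ n, good n ∧ ∀ m ∈ F, m ∉ Pn M n := by
  classical
  induction F using Finset.induction_on with
  | empty => exact ⟨1, h1, by simp⟩
  | insert a F ha ih =>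
    have h1F : (1 : M) ∉ F := fun h => hF (Finset.mem_insert_of_mem h)
    have ha1 : a ≠ 1 := fun h => hF (h ▸ Finset.mem_insert_self a F)
    obtain ⟨n1, hn1, hn1'⟩ := ih h1F
    obtain ⟨n2, hn2, hn2'⟩ := hsep a ha1
    refine ⟨n1 * n2, hmul _ _ hn1 hn2, ?_⟩
    intro m hm
    rcases Finset.mem_insert.mp hm with rfl | hm
    · rintro ⟨y, hy⟩
      apply hn2'
      refine ⟨y ^ n1, ?_⟩
      change (y ^ n1) ^ n2 = m
      rw [← pow_mul]
      exact hy
    · rintro ⟨y, hy⟩
      apply hn1' m hm
      refine ⟨y ^ n2, ?_⟩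
      change (y ^ n2) ^ n1 = m
      rw [← pow_mul, mul_comm]
      exact hy

theorem eq_zero_of_forall_piN (good : ℕ → Prop) (h1 : good 1)
    (hmul : ∀ a b, good a → good b → good (a * b))
    (hsep : ∀ m : M, m ≠ 1 → ∃ n, good n ∧ m ∉ Pn M n) (f : MonoidAlgebra L M)
    (hf : ∀ n, good n → piN L M n f = 0) : f = 0 := by
  classical
  set S := f.coeff.support with hS
  set F : Finset M := ((S ×ˢ S).filter (fun ab => ab.1 ≠ ab.2)).image (fun ab => ab.1⁻¹ * ab.2)
    with hFdef
  have hF : (1 : M) ∉ F := by
    intro h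
    rw [hFdef, Finset.mem_image] at h
    obtain ⟨⟨a, b⟩, hab, h1⟩ := h
    rw [Finset.mem_filter] at hab
    apply hab.2
    change a⁻¹ * b = 1 at h1
    change a = b
    rw [inv_mul_eq_one] at h1
    exact h1
  obtain ⟨n, hn, hn'⟩ := exists_good_finset good h1 hmul hsep F hF
  have hinj : Set.InjOn (QuotientGroup.mk' (Pn M n)) (S : Set M) := by
    intro a ha b hb hab
    by_contra hne
    have hmem : a⁻¹ * b ∈ F := by
      rw [hFdef, Finset.mem_image]
      refine ⟨(a, b), ?_, rfl⟩
      rw [Finset.mem_filter, Finset.mem_product]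
      exact ⟨⟨ha, hb⟩, hne⟩
    apply hn' _ hmem
    exact QuotientGroup.eq.mp hab
  have h0 := hf n hn
  have h2 : Finsupp.mapDomain (QuotientGroup.mk' (Pn M n)) f.coeff =
      Finsupp.mapDomain (QuotientGroup.mk' (Pn M n)) (0 : M →₀ L) := by
    rw [Finsupp.mapDomain_zero]
    have := congrArg MonoidAlgebra.coeff h0
    simpa [piN] using this
  have h3 := Finsupp.mapDomain_injOn (S : Set M) hinj (M := L)
    (show f.coeff ∈ {w : M →₀ L | (w.support : Set M) ⊆ (S : Set M)} from
      (by show (f.coeff.support : Set M) ⊆ (S : Set M); exact Set.Subset.refl _))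
    (show (0 : M →₀ L) ∈ {w : M →₀ L | (w.support : Set M) ⊆ (S : Set M)} by simp) h2
  exact MonoidAlgebra.coeff_injective h3

end MA

section GroupTheory

/-- additive version: in a finitely generated `ℤ`-module without `p`-torsion (`p = 0` or prime),
every nonzero element fails to be divisible by some `n > 0` with `¬ p ∣ n`. -/
theorem exists_not_nsmul {N : Type u} [AddCommGroup N] [Module.Finite ℤ N] (p : ℕ)
    (hp : p = 0 ∨ (p.Prime ∧ ∀ x : N, p • x = 0 → x = 0)) (m : N) (hm : m ≠ 0) :
    ∃ n : ℕ, 0 < n ∧ ¬ p ∣ n ∧ ∀ y : N, n • y ≠ m := by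
  classical
  set T := Submodule.torsion ℤ N with hT
  have : IsNoetherian ℤ N := isNoetherian_of_isNoetherianRing_of_finite ℤ N
  have : Module.Finite ℤ T := Module.IsNoetherian.finite ℤ T
  have : Finite T := Module.finite_of_fg_torsion T Submodule.torsion_isTorsion
  set t := Nat.card T with ht
  have ht0 : 0 < t := Nat.card_pos
  have htT : ∀ x : N, x ∈ T → t • x = 0 := by
    intro x hx
    have := card_nsmul_eq_zero' (G := T) (x := ⟨x, hx⟩)
    have h2 := congrArg (Subtype.val) this
    simpa using h2
  -- the auxiliary prime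
  obtain ⟨q, hq, hqp⟩ : ∃ q : ℕ, q.Prime ∧ q ≠ p := by
    by_cases h2 : p = 2
    · exact ⟨3, Nat.prime_three, by omega⟩
    · exact ⟨2, Nat.prime_two, fun h => h2 h.symm⟩
  have hpt : ¬ p ∣ t := by
    rcases hp with rfl | ⟨hpp, hpx⟩
    · intro h
      have := Nat.eq_zero_of_zero_dvd h
      omega
    · intro hdvd
      have : Fact p.Prime := ⟨hpp⟩
      obtain ⟨x, hx⟩ := exists_prime_addOrderOf_dvd_card' (G := T) p hdvd
      have h1 : p • x = 0 := by rw [← hx]; exact addOrderOf_nsmul_eq_zero x
      have h2 : p • (x : N) = 0 := by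
        have := congrArg Subtype.val h1
        simpa using this
      have h3 := hpx _ h2
      have h4 : x = 0 := Subtype.ext h3
      rw [h4, addOrderOf_zero] at hx
      exact hpp.one_lt.ne hx
  have hgood : ∀ j : ℕ, 0 < t * q ^ j ∧ ¬ p ∣ t * q ^ j := by
    intro j
    refine ⟨Nat.mul_pos ht0 (pow_pos hq.pos j), ?_⟩
    rcases hp with rfl | ⟨hpp, -⟩
    · intro h
      have := Nat.eq_zero_of_zero_dvd h
      have h5 : 0 < t * q ^ j := Nat.mul_pos ht0 (pow_pos hq.pos j)
      omega
    · intro h
      rcases (Nat.Prime.dvd_mul hpp).mp h with h | h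
      · exact hpt h
      · have := (Nat.prime_dvd_prime_iff_eq hpp hq).mp (hpp.dvd_of_dvd_pow h)
        exact hqp this.symm
  by_contra hcon
  push Not at hcon
  have hall : ∀ j : ℕ, ∃ y : N, (t * q ^ j) • y = m := by
    intro j
    exact hcon (t * q ^ j) (hgood j).1 (hgood j).2
  -- m is torsion
  have hmT : m ∈ T := by
    set I : Ideal ℤ := Ideal.span {(q : ℤ)} with hI
    have hItop : I ≠ ⊤ := by
      rw [hI, Ne, Ideal.span_singleton_eq_top]
      exact (Nat.prime_iff_prime_int.mp hq).not_isUnit
    have hkrull := Ideal.iInf_pow_smul_eq_bot_of_isTorsionFree (R := ℤ) (M := N ⧸ T) I hItop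
    have hmem : (Submodule.Quotient.mk m : N ⧸ T) ∈
        (⨅ i : ℕ, I ^ i • ⊤ : Submodule ℤ (N ⧸ T)) := by
      rw [Submodule.mem_iInf]
      intro j
      obtain ⟨y, hy⟩ := hall j
      have h1 : (Submodule.Quotient.mk m : N ⧸ T) =
          ((q : ℤ) ^ j) • (Submodule.Quotient.mk ((t : ℤ) • y) : N ⧸ T) := by
        rw [← Submodule.Quotient.mk_smul, ← hy, smul_smul]
        congr 1
        rw [← natCast_zsmul]
        congr 1
        push_cast
        ring
      rw [h1]
      exact Submodule.smul_mem_smul (Ideal.pow_mem_pow (Ideal.mem_span_singleton_self _) j)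
        Submodule.mem_top
    rw [hkrull, Submodule.mem_bot] at hmem
    exact (Submodule.Quotient.mk_eq_zero T).mp hmem
  obtain ⟨y, hy⟩ := hall 0
  rw [pow_zero, mul_one] at hy
  have hyT : y ∈ T := by
    rw [hT, Submodule.mem_torsion_iff] at hmT ⊢
    obtain ⟨a, ha⟩ := hmT
    have htz : ((t : ℕ) : ℤ) ∈ nonZeroDivisors ℤ := by
      rw [mem_nonZeroDivisors_iff_ne_zero]
      exact_mod_cast ht0.ne'
    refine ⟨a * ⟨(t : ℤ), htz⟩, ?_⟩
    rw [Submonoid.smul_def] at ha ⊢
    rw [Submonoid.coe_mul, mul_smul, natCast_zsmul, hy]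
    exact ha
  exact hm (hy ▸ htT y hyT)

/-- multiplicative version, in terms of the subgroups of `n`-th powers. -/
theorem exists_not_mem_range_pow {M : Type u} [CommGroup M] [Group.FG M] (p : ℕ)
    (hp : p = 0 ∨ (p.Prime ∧ ∀ x : M, x ^ p = 1 → x = 1)) (m : M) (hm : m ≠ 1) :
    ∃ n : ℕ, (0 < n ∧ ¬ p ∣ n) ∧ m ∉ Pn M n := by
  have : AddGroup.FG (Additive M) := GroupFG.iff_add_fg.mp inferInstance
  have : Module.Finite ℤ (Additive M) := Module.Finite.iff_addGroup_fg.mpr inferInstance
  have hp' : p = 0 ∨ (p.Prime ∧ ∀ x : Additive M, p • x = 0 → x = 0) := by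
    rcases hp with h | ⟨h1, h2⟩
    · exact Or.inl h
    · refine Or.inr ⟨h1, fun x hx => ?_⟩
      have := h2 (Additive.toMul x) (by
        have := congrArg Additive.toMul hx
        simpa using this)
      exact Additive.toMul.injective (by simpa using this)
  obtain ⟨n, hn0, hnp, hn⟩ := exists_not_nsmul (N := Additive M) p hp' (Additive.ofMul m)
    (fun h => hm (by
      have := congrArg Additive.toMul h
      simpa using this))
  refine ⟨n, ⟨hn0, hnp⟩, ?_⟩
  rintro ⟨y, hy⟩
  apply hn (Additive.ofMul y)
  change y ^ n = m at hy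
  rw [← hy]
  rfl

end GroupTheory

end Groth.Agent.Lib.Helper17.TorsionMA
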