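import Groth.Agent.Lib.Helper17.TorsionMT
import Groth.Agent.Lib.Helper16.MTField
import Groth.Agent.Lib.Helper17.MultBC

/-!
# Closed subgroups of groups of multiplicative type with trivial torsion (helper17)

* `torsionIdeal_le_ker_counit` : `ₙG` contains the unit section.
* `finite_quot_torsionIdeal` : for `A` of multiplicative type and of finite type, `A ⧸ Jₙ` is a
  finite module (no Hopf-ideal instance required).
* `ker_counit_le_sup` : Nakayama step over a local base.
* `subsingleton_of_fg_of_divisible` : a finitely generated divisible commutative group is trivial.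
* `ker_counit_fibre_eq_bot`, `ker_counit_eq_bot_of_torsion` : a finitely presented quotient Hopf
  algebra `B` of a Hopf algebra of multiplicative type all of whose torsion ideals are the
  augmentation ideal is `R`.
-/

set_option autoImplicit false

open TensorProduct SGA3b
open Groth.Agent.Lib.Helper17.TorsionMT Groth.Agent.Lib.Helper17.MultBC

namespace Groth.Agent.Lib.Helper17.TorsionMT2

universe u

section Basic

variable {R : Type u} [CommRing R] {A : Type u} [CommRing A] [HopfAlgebra R A]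

theorem torsionIdeal_self_eq_bot (n : ℕ) : torsionIdeal R R n = ⊥ := by
  unfold torsionIdeal
  have h : RingHom.ker (Bialgebra.counitAlgHom R R) = ⊥ := by
    rw [← RingHom.injective_iff_ker_eq_bot]
    intro x y hxy
    exact hxy
  rw [h, Ideal.map_bot]

theorem torsionIdeal_le_ker_counit (n : ℕ) :
    torsionIdeal R A n ≤ RingHom.ker (Bialgebra.counitAlgHom R A) := by
  have h := map_torsionIdeal_of_surjective (Bialgebra.counitBialgHom R A)
    (fun r => ⟨algebraMap R A r, by simp⟩) n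
  rw [torsionIdeal_self_eq_bot, Ideal.map_eq_bot_iff_le_ker] at h
  intro x hx
  have h2 := h hx
  rw [RingHom.mem_ker] at h2 ⊢
  exact h2

variable {B : Type u} [CommRing B] [HopfAlgebra R B]

theorem map_ker_counit_of_surjective (φ : A →ₐc[R] B) (hφ : Function.Surjective φ) :
    Ideal.map (φ : A →ₐ[R] B) (RingHom.ker (Bialgebra.counitAlgHom R A)) =
      RingHom.ker (Bialgebra.counitAlgHom R B) := by
  have hc : ∀ b, Coalgebra.counit (R := R) (φ b) = Coalgebra.counit (R := R) b :=
    fun b => CoalgHomClass.counit_comp_apply φ b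
  apply le_antisymm
  · rw [Ideal.map_le_iff_le_comap]
    intro x hx
    rw [Ideal.mem_comap, RingHom.mem_ker]
    rw [RingHom.mem_ker] at hx
    exact (hc x).trans hx
  · intro y hy
    obtain ⟨x, rfl⟩ := hφ y
    rw [RingHom.mem_ker] at hy
    refine Ideal.mem_map_of_mem (φ : A →ₐ[R] B) ?_
    rw [RingHom.mem_ker]
    exact (hc x).symm.trans hy

end Basic

section Factor

theorem finite_of_factor {S X Y Z : Type*} [CommRing S] [AddCommGroup X] [Module S X]
    [AddCommGroup Y] [Module S Y] [AddCommGroup Z] [Module S Z] [Module.Finite S Y]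
    (p : X →ₗ[S] Y) (hp : Function.Surjective p) (h : X →ₗ[S] Z) (hh : Function.Surjective h)
    (hk : LinearMap.ker p ≤ LinearMap.ker h) : Module.Finite S Z := by
  let f : Y →ₗ[S] Z := (Submodule.liftQ (LinearMap.ker p) h hk).comp
    (p.quotKerEquivOfSurjective hp).symm.toLinearMap
  refine Module.Finite.of_surjective f ?_
  intro z
  obtain ⟨x, rfl⟩ := hh z
  refine ⟨p x, ?_⟩
  have h1 : (p.quotKerEquivOfSurjective hp).symm (p x) = Submodule.Quotient.mk x := by
    rw [LinearEquiv.symm_apply_eq]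
    rfl
  show Submodule.liftQ _ h hk ((p.quotKerEquivOfSurjective hp).symm (p x)) = h x
  rw [h1, Submodule.liftQ_apply]

end Factor

section Finite

theorem finite_quot_torsionIdeal_bc {R₁ : Type u} [CommRing R₁] (A₁ : Type u) [CommRing A₁]
    [HopfAlgebra R₁ A₁] (hft : Algebra.FiniteType R₁ A₁) (n : ℕ) (hn : 0 < n)
    (R₂ : Type u) [CommRing R₂] [Algebra R₁ R₂] (hc : IsMultTypeConst R₂ (R₂ ⊗[R₁] A₁)) :
    Module.Finite R₂ (R₂ ⊗[R₁] (A₁ ⧸ torsionIdeal R₁ A₁ n)) := by
  obtain ⟨R', _, _, hff, M, _, ⟨e⟩⟩ := hc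
  have hff' := hff
  set J := torsionIdeal R₁ A₁ n with hJ
  let g₀ : A₁ →ₐ[R₁] A₁ ⧸ J := Ideal.Quotient.mkₐ R₁ J
  have hg₀ : Function.Surjective g₀ := Ideal.Quotient.mkₐ_surjective R₁ J
  let g₁ : R₂ ⊗[R₁] A₁ →ₐ[R₂] R₂ ⊗[R₁] (A₁ ⧸ J) :=
    Algebra.TensorProduct.map (AlgHom.id R₂ R₂) g₀
  have hg₁ : Function.Surjective g₁ := surjective_of_tmul g₁ g₀ hg₀ (fun a c => rfl)
  let g₂ : R' ⊗[R₂] (R₂ ⊗[R₁] A₁) →ₐ[R'] R' ⊗[R₂] (R₂ ⊗[R₁] (A₁ ⧸ J)) :=
    Algebra.TensorProduct.map (AlgHom.id R' R') g₁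
  have hg₂ : Function.Surjective g₂ := surjective_of_tmul g₂ g₁ hg₁ (fun a c => rfl)
  have hk₁ : RingHom.ker g₁ =
      Ideal.map (Algebra.TensorProduct.includeRight : A₁ →ₐ[R₁] R₂ ⊗[R₁] A₁) J := by
    have h := Algebra.TensorProduct.lTensor_ker (A := R₂) g₀ hg₀
    have h' : RingHom.ker g₀ = J := Ideal.Quotient.mkₐ_ker R₁ J
    rw [h'] at h
    rw [← h]
    ext z
    rw [RingHom.mem_ker, RingHom.mem_ker]
    rfl
  have hk₂ : RingHom.ker g₂ =
      Ideal.map (Algebra.TensorProduct.includeRight :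
        R₂ ⊗[R₁] A₁ →ₐ[R₂] R' ⊗[R₂] (R₂ ⊗[R₁] A₁)) (RingHom.ker g₁) := by
    have h := Algebra.TensorProduct.lTensor_ker (A := R') g₁ hg₁
    rw [← h]
    ext z
    rw [RingHom.mem_ker, RingHom.mem_ker]
    rfl
  have hT : RingHom.ker g₂ = torsionIdeal R' (R' ⊗[R₂] (R₂ ⊗[R₁] A₁)) n := by
    rw [hk₂, hk₁, hJ, torsionIdeal_baseChange, torsionIdeal_baseChange]
  -- the surjection from the group algebra
  let h : MonoidAlgebra R' M →ₗ[R'] R' ⊗[R₂] (R₂ ⊗[R₁] (A₁ ⧸ J)) :=
    g₂.toLinearMap.comp e.symm.toBialgHom.toAlgHom.toLinearMap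
  have hh : ∀ x, h x = g₂ (e.symm x) := fun x => rfl
  have hhs : Function.Surjective h := by
    intro y
    obtain ⟨z, rfl⟩ := hg₂ y
    exact ⟨e z, by rw [hh, e.symm_apply_apply]⟩
  have hk : LinearMap.ker (piQ R' M n).toAlgHom.toLinearMap ≤ LinearMap.ker h := by
    intro x hx
    rw [LinearMap.mem_ker] at hx ⊢
    have hx1 : x ∈ torsionIdeal R' (MonoidAlgebra R' M) n := by
      rw [torsionIdeal_monoidAlgebra, RingHom.mem_ker]
      exact hx
    have h1 := map_torsionIdeal_of_surjective e.symm.toBialgHom e.symm.surjective n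
    have hx2 : e.symm x ∈ torsionIdeal R' (R' ⊗[R₂] (R₂ ⊗[R₁] A₁)) n := by
      rw [← h1]
      exact Ideal.mem_map_of_mem e.symm.toBialgHom.toAlgHom hx1
    rw [← hT, RingHom.mem_ker] at hx2
    rw [hh]
    exact hx2
  haveI : Module.Finite R' (R' ⊗[R₂] (R₂ ⊗[R₁] (A₁ ⧸ J))) := by
    rcases subsingleton_or_nontrivial R' with hsub | hnt
    · haveI : Subsingleton (R' ⊗[R₂] (R₂ ⊗[R₁] (A₁ ⧸ J))) := Module.subsingleton R' _
      exact Module.Finite.of_finite
    · haveI := hft
      have hft' : Algebra.FiniteType R' (MonoidAlgebra R' M) :=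
        Algebra.FiniteType.equiv
          (inferInstance : Algebra.FiniteType R' (R' ⊗[R₂] (R₂ ⊗[R₁] A₁))) e.toAlgEquiv
      haveI : Group.FG M := MonoidAlgebra.finiteType_iff_group_fg.1 hft'
      haveI : Finite (M ⧸ Npow M n) := CommGroup.finite_of_fg_isMulTorsion _
        (fun x => isOfFinOrder_iff_pow_eq_one.2 ⟨n, hn, quot_pow_eq_one M n x⟩)
      haveI : Module.Finite R' (MonoidAlgebra R' (M ⧸ Npow M n)) :=
        Module.Finite.of_basis (MonoidAlgebra.basis (M ⧸ Npow M n) R')
      exact finite_of_factor (piQ R' M n).toAlgHom.toLinearMap (piQ_surjective R' M n) h hhs hk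
  exact Module.Finite.of_finite_tensorProduct_of_faithfullyFlat R'

theorem finite_quot_torsionIdeal {R : Type u} [CommRing R] (A : Type u) [CommRing A]
    [HopfAlgebra R A] (hft : Algebra.FiniteType R A) (h : IsMultType R A) (n : ℕ) (hn : 0 < n) :
    Module.Finite R (A ⧸ torsionIdeal R A n) := by
  obtain ⟨s, hs, hloc⟩ := h
  have hcore : ∀ f ∈ s, Module.Finite (Localization.Away f)
      (Localization.Away f ⊗[R] (A ⧸ torsionIdeal R A n)) :=
    fun f hf => finite_quot_torsionIdeal_bc A hft n hn (Localization.Away f) (hloc f hf)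
  haveI : ∀ g : s, IsLocalizedModule.Away g.val
      (TensorProduct.mk R (Localization.Away g.val) (A ⧸ torsionIdeal R A n) 1) := fun g =>
    (isLocalizedModule_iff_isBaseChange (Submonoid.powers g.val) (Localization.Away g.val) _).2
      (TensorProduct.isBaseChange R (A ⧸ torsionIdeal R A n) (Localization.Away g.val))
  exact Module.Finite.of_localizationSpan' s hs
    (fun g => TensorProduct.mk R (Localization.Away g.val) (A ⧸ torsionIdeal R A n) 1)
    (fun g => hcore g.val g.property)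

end Finite

section Nakayama

theorem ker_counit_le_sup {R : Type u} [CommRing R] [IsLocalRing R] (A : Type u) [CommRing A]
    [HopfAlgebra R A] (J T : Ideal A) (hJ : J ≤ RingHom.ker (Bialgebra.counitAlgHom R A))
    (hT : T ≤ RingHom.ker (Bialgebra.counitAlgHom R A)) [Module.Finite R (A ⧸ T)]
    (hs : RingHom.ker (Bialgebra.counitAlgHom R A) ≤
      J ⊔ Ideal.map (algebraMap R A) (IsLocalRing.maximalIdeal R)) :
    RingHom.ker (Bialgebra.counitAlgHom R A) ≤ J ⊔ T := by
  set 𝔪 := IsLocalRing.maximalIdeal R with h𝔪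
  haveI : Module.Finite R (A ⧸ (J ⊔ T)) :=
    Module.Finite.of_surjective (Ideal.Quotient.factorₐ R (le_sup_right : T ≤ J ⊔ T)).toLinearMap
      (Ideal.Quotient.factor_surjective (le_sup_right : T ≤ J ⊔ T))
  set N₀ : Submodule R (A ⧸ (J ⊔ T)) := Submodule.span R {1} with hN₀
  let mk : A →ₐ[R] A ⧸ (J ⊔ T) := Ideal.Quotient.mkₐ R (J ⊔ T)
  have hmk0 : ∀ a, a ∈ J ⊔ T → mk a = 0 := fun a ha => Ideal.Quotient.eq_zero_iff_mem.2 ha
  have hNN : (⊤ : Submodule R (A ⧸ (J ⊔ T))) ≤ N₀ ⊔ 𝔪 • ⊤ := by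
    intro y _
    obtain ⟨a, rfl⟩ := Ideal.Quotient.mk_surjective y
    have ha : a - algebraMap R A (Coalgebra.counit (R := R) a) ∈
        RingHom.ker (Bialgebra.counitAlgHom R A) := by
      rw [RingHom.mem_ker, map_sub, AlgHom.commutes]
      show Coalgebra.counit (R := R) a - _ = 0
      rw [Algebra.algebraMap_self_apply, sub_self]
    obtain ⟨j, hj, z, hz, hjz⟩ := Submodule.mem_sup.1 (hs ha)
    have hz' : z ∈ (𝔪 • ⊤ : Submodule R A) := by
      rw [Ideal.smul_top_eq_map]
      exact hz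
    have hmz : mk z ∈ (𝔪 • ⊤ : Submodule R (A ⧸ (J ⊔ T))) := by
      have h1 : mk.toLinearMap z ∈ Submodule.map mk.toLinearMap (𝔪 • ⊤ : Submodule R A) :=
        Submodule.mem_map_of_mem hz'
      rw [Submodule.map_smul''] at h1
      exact Submodule.smul_mono le_rfl le_top h1
    have hy : (Ideal.Quotient.mk (J ⊔ T) a : A ⧸ (J ⊔ T)) =
        (Coalgebra.counit (R := R) a) • (1 : A ⧸ (J ⊔ T)) + mk z := by
      have h2 : a = algebraMap R A (Coalgebra.counit (R := R) a) + (j + z) := by
        rw [hjz]; ring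
      show mk a = _
      conv_lhs => rw [h2]
      rw [map_add, map_add, hmk0 j (Ideal.mem_sup_left hj), zero_add, AlgHom.commutes,
        Algebra.algebraMap_eq_smul_one]
    rw [hy]
    exact Submodule.add_mem_sup
      (Submodule.smul_mem _ _ (Submodule.subset_span (Set.mem_singleton _))) hmz
  have htop : (⊤ : Submodule R (A ⧸ (J ⊔ T))) ≤ N₀ :=
    Submodule.le_of_le_smul_of_le_jacobson_bot Module.Finite.fg_top
      (le_of_eq (IsLocalRing.jacobson_eq_maximalIdeal ⊥ bot_ne_top).symm) hNN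
  intro a ha
  have h1 : mk a ∈ N₀ := htop trivial
  obtain ⟨r, hr⟩ := Submodule.mem_span_singleton.1 h1
  have h2 : algebraMap R A r - a ∈ J ⊔ T := by
    rw [← Ideal.Quotient.eq_zero_iff_mem]
    show mk (algebraMap R A r - a) = 0
    rw [map_sub, AlgHom.commutes, Algebra.algebraMap_eq_smul_one, hr, sub_self]
  have h3 : algebraMap R A r - a ∈ RingHom.ker (Bialgebra.counitAlgHom R A) :=
    (sup_le hJ hT) h2
  rw [RingHom.mem_ker] at ha h3
  rw [map_sub, ha, sub_zero, AlgHom.commutes] at h3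
  have hr0 : r = 0 := h3
  rw [hr0, zero_smul] at hr
  rw [← Ideal.Quotient.eq_zero_iff_mem]
  exact hr.symm

end Nakayama

section Divisible

theorem subsingleton_of_fg_of_divisible (N : Type*) [CommGroup N] [Group.FG N]
    (h : ∀ n : ℕ, 0 < n → ∀ g : N, ∃ x : N, x ^ n = g) : Subsingleton N := by
  haveI : Module.Finite ℤ (Additive N) := Module.Finite.iff_addGroup_fg.2 inferInstance
  have hdiv : ∀ n : ℕ, 0 < n → ∀ m : Additive N, ∃ x : Additive N, (n : ℤ) • x = m := by
    intro n hn m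
    obtain ⟨x, hx⟩ := h n hn (Additive.toMul m)
    refine ⟨Additive.ofMul x, ?_⟩
    rw [natCast_zsmul, ← ofMul_pow, hx]
    rfl
  set I : Ideal ℤ := Ideal.span {(2 : ℤ)} with hI
  have hle : (⊤ : Submodule ℤ (Additive N)) ≤ I • ⊤ := by
    intro m _
    obtain ⟨x, hx⟩ := hdiv 2 (by norm_num) m
    rw [← hx]
    exact Submodule.smul_mem_smul (Ideal.mem_span_singleton_self _) trivial
  obtain ⟨r, hr1, hr2⟩ :=
    Submodule.exists_sub_one_mem_and_smul_eq_zero_of_fg_of_le_smul I ⊤ Module.Finite.fg_top hle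
  have hr0 : r ≠ 0 := by
    rintro rfl
    rw [hI, Ideal.mem_span_singleton] at hr1
    omega
  have hz : ∀ m : Additive N, m = 0 := by
    intro m
    obtain ⟨x, hx⟩ := hdiv r.natAbs (Int.natAbs_pos.2 hr0) m
    rw [← hx]
    rcases Int.natAbs_eq r with h1 | h1
    · rw [← h1]
      exact hr2 x trivial
    · have h2 : ((r.natAbs : ℕ) : ℤ) = -r := by omega
      rw [h2, neg_smul, hr2 x trivial, neg_zero]
  refine ⟨fun a b => ?_⟩
  have ha := hz (Additive.ofMul a)
  have hb := hz (Additive.ofMul b)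
  exact Additive.ofMul.injective (ha.trans hb.symm)

end Divisible

section Fibre

variable {R : Type u} [CommRing R] {A B : Type u} [CommRing A] [CommRing B] [HopfAlgebra R A]
  [HopfAlgebra R B]

/-- a group algebra of a trivial group has trivial augmentation ideal -/
theorem ker_counit_monoidAlgebra_eq_bot (L : Type u) [CommRing L] (N : Type u) [CommGroup N]
    [Subsingleton N] : RingHom.ker (Bialgebra.counitAlgHom L (MonoidAlgebra L N)) = ⊥ := by
  have hx : ∀ x : MonoidAlgebra L N,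
      x = algebraMap L (MonoidAlgebra L N) (Coalgebra.counit (R := L) x) := by
    intro x
    induction x using MonoidAlgebra.induction_on with
    | of g =>
      rw [Subsingleton.elim g 1, map_one, Bialgebra.counit_one, map_one]
    | add x y hx hy =>
      conv_lhs => rw [hx, hy]
      rw [map_add, map_add]
    | smul r x hx =>
      conv_lhs => rw [hx]
      rw [map_smul, smul_eq_mul, map_mul, Algebra.smul_def]
  rw [eq_bot_iff]
  intro x hx0
  rw [RingHom.mem_ker] at hx0
  have h0 : Coalgebra.counit (R := L) x = 0 := hx0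
  rw [Ideal.mem_bot, hx x, h0, map_zero]

/-- a group algebra of a finitely generated group, over a nontrivial ring, all of whose torsion
ideals are the augmentation ideal is trivial -/
theorem ker_counit_monoidAlgebra_of_torsion (L : Type u) [CommRing L] [Nontrivial L] (N : Type u)
    [CommGroup N] [Group.FG N]
    (hT : ∀ n : ℕ, 0 < n → torsionIdeal L (MonoidAlgebra L N) n =
      RingHom.ker (Bialgebra.counitAlgHom L (MonoidAlgebra L N))) :
    RingHom.ker (Bialgebra.counitAlgHom L (MonoidAlgebra L N)) = ⊥ := by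
  haveI : Subsingleton N := by
    refine subsingleton_of_fg_of_divisible N (fun n hn g => ?_)
    have h1 : MonoidAlgebra.of L N g - 1 ∈
        RingHom.ker (Bialgebra.counitAlgHom L (MonoidAlgebra L N)) := by
      rw [RingHom.mem_ker, map_sub, map_one, sub_eq_zero]
      show Coalgebra.counit (R := L) (MonoidAlgebra.of L N g) = 1
      rw [MonoidAlgebra.of_apply, MonoidAlgebra.counit_single]
      rfl
    rw [← hT n hn, torsionIdeal_monoidAlgebra, RingHom.mem_ker, map_sub, map_one, sub_eq_zero] at h1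
    have h2 : MonoidAlgebra.of L (N ⧸ Npow N n) (QuotientGroup.mk' (Npow N n) g) =
        MonoidAlgebra.of L (N ⧸ Npow N n) 1 := by
      rw [map_one, ← h1, MonoidAlgebra.of_apply, MonoidAlgebra.of_apply]
      exact (MonoidAlgebra.mapDomainBialgHom_single _ g (1 : L)).symm
    have h3 := MonoidAlgebra.of_injective h2
    have h4 : g ∈ Npow N n := (QuotientGroup.eq_one_iff g).1 h3
    obtain ⟨x, hx⟩ := h4
    exact ⟨x, hx⟩
  exact ker_counit_monoidAlgebra_eq_bot L N

/-- the geometric fibres of a quotient `B` of a Hopf algebra of multiplicative type, all of whose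
torsion ideals are the augmentation ideal, are trivial -/
theorem ker_counit_fibre_eq_bot (hA : IsMultType R A) (π : A →ₐc[R] B)
    (hπ : Function.Surjective π) (hft : Algebra.FiniteType R B)
    (hT : ∀ n : ℕ, 0 < n → torsionIdeal R B n = RingHom.ker (Bialgebra.counitAlgHom R B))
    (κ : Type u) [Field κ] [Algebra R κ] :
    RingHom.ker (Bialgebra.counitAlgHom (AlgebraicClosure κ)
      (AlgebraicClosure κ ⊗[κ] (κ ⊗[R] B))) = ⊥ := by
  have hA₁ : IsMultTypeConst κ (κ ⊗[R] A) :=
    Groth.Agent.Lib.Helper16.MT.isMultTypeConst_of_isMultType (isMultType_baseChange A hA)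
  have hspanA := Groth.Agent.Lib.Helper16.MT.span_groupLike_algClosure hA₁
  -- the surjections
  let g₁ : κ ⊗[R] A →ₐ[κ] κ ⊗[R] B := Algebra.TensorProduct.map (AlgHom.id κ κ) π.toAlgHom
  have hg₁ : Function.Surjective g₁ := surjective_of_tmul g₁ π hπ (fun a c => rfl)
  let g₂ : AlgebraicClosure κ ⊗[κ] (κ ⊗[R] A) →ₐ[AlgebraicClosure κ]
      AlgebraicClosure κ ⊗[κ] (κ ⊗[R] B) :=
    Algebra.TensorProduct.map (AlgHom.id (AlgebraicClosure κ) (AlgebraicClosure κ)) g₁
  have hg₂ : Function.Surjective g₂ := surjective_of_tmul g₂ g₁ hg₁ (fun a c => rfl)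
  let π₂ : AlgebraicClosure κ ⊗[κ] (κ ⊗[R] A) →ₐc[AlgebraicClosure κ]
      AlgebraicClosure κ ⊗[κ] (κ ⊗[R] B) :=
    Bialgebra.TensorProduct.map (BialgHom.id (AlgebraicClosure κ) (AlgebraicClosure κ))
      (Bialgebra.TensorProduct.map (BialgHom.id κ κ) π)
  have hπ₂e : ∀ z, π₂ z = g₂ z := fun z => rfl
  have hπ₂ : Function.Surjective π₂ := fun y => by
    obtain ⟨z, hz⟩ := hg₂ y
    exact ⟨z, (hπ₂e z).trans hz⟩
  have hspanB := Groth.Agent.Lib.Helper16.MT.span_groupLike_of_surjective π₂ hπ₂ hspanA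
  haveI := hft
  haveI : Algebra.FiniteType (AlgebraicClosure κ) (AlgebraicClosure κ ⊗[κ] (κ ⊗[R] B)) :=
    inferInstance
  obtain ⟨N, _, hNfg, ⟨E⟩⟩ := Groth.Agent.Lib.Helper16.MT.isDiagFT_of_span hspanB
  haveI := hNfg
  have hT₂ : ∀ n : ℕ, 0 < n →
      torsionIdeal (AlgebraicClosure κ) (AlgebraicClosure κ ⊗[κ] (κ ⊗[R] B)) n =
        RingHom.ker (Bialgebra.counitAlgHom (AlgebraicClosure κ)
          (AlgebraicClosure κ ⊗[κ] (κ ⊗[R] B))) := by
    intro n hn
    rw [← torsionIdeal_baseChange, ← torsionIdeal_baseChange, hT n hn,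
      map_includeRight_ker_counit, map_includeRight_ker_counit]
  have hT₃ : ∀ n : ℕ, 0 < n →
      torsionIdeal (AlgebraicClosure κ) (MonoidAlgebra (AlgebraicClosure κ) N) n =
        RingHom.ker (Bialgebra.counitAlgHom (AlgebraicClosure κ)
          (MonoidAlgebra (AlgebraicClosure κ) N)) := by
    intro n hn
    rw [← map_torsionIdeal_of_surjective E.toBialgHom E.surjective n, hT₂ n hn,
      map_ker_counit_of_surjective E.toBialgHom E.surjective]
  have h0 := ker_counit_monoidAlgebra_of_torsion (AlgebraicClosure κ) N hT₃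
  rw [eq_bot_iff]
  intro x hx
  rw [RingHom.mem_ker] at hx
  have h1 : E x ∈ RingHom.ker (Bialgebra.counitAlgHom (AlgebraicClosure κ)
      (MonoidAlgebra (AlgebraicClosure κ) N)) := by
    rw [RingHom.mem_ker]
    exact (CoalgHomClass.counit_comp_apply E.toBialgHom x).trans hx
  rw [h0, Ideal.mem_bot] at h1
  rw [Ideal.mem_bot]
  exact E.injective (h1.trans (map_zero E).symm)

/-- **Trivial torsion implies trivial.** A finitely presented quotient Hopf algebra `B` of a Hopf
algebra of multiplicative type all of whose torsion ideals are the augmentation ideal has trivial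
augmentation ideal. -/
theorem ker_counit_eq_bot_of_torsion (hA : IsMultType R A) (π : A →ₐc[R] B)
    (hπ : Function.Surjective π) (hfp : Algebra.FinitePresentation R B)
    (hT : ∀ n : ℕ, 0 < n → torsionIdeal R B n = RingHom.ker (Bialgebra.counitAlgHom R B)) :
    RingHom.ker (Bialgebra.counitAlgHom R B) = ⊥ := by
  haveI := hfp
  have hft : Algebra.FiniteType R B := inferInstance
  set I₀ : Ideal B := RingHom.ker (Bialgebra.counitAlgHom R B) with hI₀
  have hfg : I₀.FG :=
    Algebra.FinitePresentation.ker_fG_of_surjective (Bialgebra.counitAlgHom R B)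
      (fun r => ⟨algebraMap R B r, (Bialgebra.counitAlgHom R B).commutes r⟩)
  have hmem : ∀ x, x ∈ I₀ ↔ Coalgebra.counit (R := R) x = 0 := fun x => by
    rw [hI₀, RingHom.mem_ker]; rfl
  -- the key: `I₀ = q I₀` for every maximal ideal `q`
  have key : ∀ q : Ideal B, q.IsMaximal → I₀ ≤ q • I₀ := by
    intro q hq x hx
    letI : Field (B ⧸ q) := Ideal.Quotient.field q
    have h0 := ker_counit_fibre_eq_bot hA π hπ hft hT (B ⧸ q)
    have hx1 : ((1 : B ⧸ q) ⊗ₜ[R] x : (B ⧸ q) ⊗[R] B) ∈
        RingHom.ker (Bialgebra.counitAlgHom (B ⧸ q) ((B ⧸ q) ⊗[R] B)) := by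
      rw [← map_includeRight_ker_counit]
      exact Ideal.mem_map_of_mem
        (Algebra.TensorProduct.includeRight : B →ₐ[R] (B ⧸ q) ⊗[R] B) hx
    have hx2 : ((1 : AlgebraicClosure (B ⧸ q)) ⊗ₜ[B ⧸ q] ((1 : B ⧸ q) ⊗ₜ[R] x) :
        AlgebraicClosure (B ⧸ q) ⊗[B ⧸ q] ((B ⧸ q) ⊗[R] B)) ∈
        RingHom.ker (Bialgebra.counitAlgHom (AlgebraicClosure (B ⧸ q))
          (AlgebraicClosure (B ⧸ q) ⊗[B ⧸ q] ((B ⧸ q) ⊗[R] B))) := by
      rw [← map_includeRight_ker_counit]
      exact Ideal.mem_map_of_mem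
        (Algebra.TensorProduct.includeRight :
          (B ⧸ q) ⊗[R] B →ₐ[B ⧸ q] AlgebraicClosure (B ⧸ q) ⊗[B ⧸ q] ((B ⧸ q) ⊗[R] B)) hx1
    rw [h0, Ideal.mem_bot] at hx2
    have hx3 : ((1 : B ⧸ q) ⊗ₜ[R] x : (B ⧸ q) ⊗[R] B) = 0 := by
      have hinj := Algebra.TensorProduct.includeRight_injective (R := B ⧸ q)
        (A := AlgebraicClosure (B ⧸ q)) (B := (B ⧸ q) ⊗[R] B)
        (algebraMap (B ⧸ q) (AlgebraicClosure (B ⧸ q))).injective
      apply hinj
      rw [map_zero]
      exact hx2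
    -- pass to `(B ⧸ q) ⊗[B] I₀`
    let ρ : B →ₗ[R] ↥I₀ :=
      { toFun := fun y => ⟨y - algebraMap R B (Coalgebra.counit (R := R) y), by
          rw [hmem, map_sub]
          have : Coalgebra.counit (R := R) (algebraMap R B (Coalgebra.counit (R := R) y)) =
              Coalgebra.counit (R := R) y := (Bialgebra.counitAlgHom R B).commutes _
          rw [this, sub_self]⟩
        map_add' := fun y z => by
          apply Subtype.ext
          show (y + z) - algebraMap R B (Coalgebra.counit (R := R) (y + z)) =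
            (y - algebraMap R B (Coalgebra.counit (R := R) y)) +
              (z - algebraMap R B (Coalgebra.counit (R := R) z))
          rw [map_add, map_add]; ring
        map_smul' := fun r y => by
          apply Subtype.ext
          show (r • y) - algebraMap R B (Coalgebra.counit (R := R) (r • y)) =
            r • (y - algebraMap R B (Coalgebra.counit (R := R) y))
          rw [map_smul, smul_eq_mul, map_mul, smul_sub, Algebra.smul_def r (algebraMap R B _)] }
    have hρ : ρ x = ⟨x, hx⟩ := by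
      apply Subtype.ext
      show x - algebraMap R B (Coalgebra.counit (R := R) x) = x
      rw [(hmem x).1 hx, map_zero, sub_zero]
    let F : (B ⧸ q) ⊗[R] B →ₗ[R] (B ⧸ q) ⊗[B] ↥I₀ :=
      TensorProduct.lift (LinearMap.mk₂ R (fun (c : B ⧸ q) (y : B) => c ⊗ₜ[B] ρ y)
        (fun c₁ c₂ y => TensorProduct.add_tmul _ _ _)
        (fun r c y => (TensorProduct.smul_tmul' r c (ρ y)).symm)
        (fun c y z => by rw [map_add, TensorProduct.tmul_add])
        (fun r c y => by rw [map_smul, TensorProduct.tmul_smul]))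
    have hF : F ((1 : B ⧸ q) ⊗ₜ[R] x) = (1 : B ⧸ q) ⊗ₜ[B] (⟨x, hx⟩ : ↥I₀) := by
      show TensorProduct.lift _ _ = _
      rw [TensorProduct.lift.tmul, LinearMap.mk₂_apply, hρ]
    have h3 : ((1 : B ⧸ q) ⊗ₜ[B] (⟨x, hx⟩ : ↥I₀) : (B ⧸ q) ⊗[B] ↥I₀) = 0 := by
      rw [← hF, hx3, map_zero]
    have h4 := mem_smul_top_of_one_tmul_eq_zero (k := B) (K := B ⧸ q) (M := ↥I₀)
      Ideal.Quotient.mk_surjective h3
    rw [Ideal.Quotient.algebraMap_eq, Ideal.mk_ker] at h4
    have h5 : I₀.subtype ⟨x, hx⟩ ∈ Submodule.map I₀.subtype (q • (⊤ : Submodule B ↥I₀)) :=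
      Submodule.mem_map_of_mem h4
    rw [Submodule.map_smul'', Submodule.map_subtype_top] at h5
    exact h5
  -- Nakayama
  by_contra hne
  have hann : Submodule.annihilator I₀ ≠ ⊤ := by
    intro htop
    apply hne
    rw [eq_bot_iff]
    intro x hx
    have h1 : (1 : B) ∈ Submodule.annihilator I₀ := by rw [htop]; trivial
    have h2 := Submodule.mem_annihilator.1 h1 x hx
    rw [one_smul] at h2
    rw [Ideal.mem_bot]
    exact h2
  obtain ⟨q, hq, hle⟩ := Ideal.exists_le_maximal _ hann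
  obtain ⟨r, hr1, hr2⟩ :=
    Submodule.exists_sub_one_mem_and_smul_eq_zero_of_fg_of_le_smul q I₀ hfg (key q hq)
  have hrq : r ∈ q := hle (Submodule.mem_annihilator.2 hr2)
  have h1q : (1 : B) ∈ q := by
    have := q.sub_mem hrq hr1
    rwa [sub_sub_cancel] at this
  exact hq.ne_top ((Ideal.eq_top_iff_one q).2 h1q)

end Fibre

end Groth.Agent.Lib.Helper17.TorsionMT2
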