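import Mathlib

/-!
# The Euler product of a formal zeta function (helper17)

For a sequence `a : ℕ → ℕ`, `N m = ∑_{e ∣ m} e a_e`, `L = ∑ (N m / m) X^m`, `Z = exp(L)`:
`Z * ∏_{1 ≤ r ≤ n} (1 - X^r)^{a r} ≡ 1 mod X^(n+1)` and `Z` has integer coefficients.
-/

set_option autoImplicit false

namespace Groth.Agent.Lib.Helper17.ZetaProd

open PowerSeries

variable (a : ℕ → ℕ)

/-- `N m = ∑_{e ∣ m} e a_e`. -/
def N (m : ℕ) : ℕ := ∑ e ∈ m.divisors, e * a e

/-- the logarithm of the zeta function. -/
noncomputable def L : PowerSeries ℚ := PowerSeries.mk fun m => (N a m : ℚ) / m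

/-- the zeta function. -/
noncomputable def Z : PowerSeries ℚ := PowerSeries.subst (L a) (PowerSeries.exp ℚ)

lemma constantCoeff_L : constantCoeff (L a) = 0 := by
  rw [← coeff_zero_eq_constantCoeff_apply, L, coeff_mk]
  simp

lemma hasSubst_L : HasSubst (L a) := HasSubst.of_constantCoeff_zero' (constantCoeff_L a)

lemma constantCoeff_Z : constantCoeff (Z a) = 1 := by
  have h : PowerSeries.exp ℚ = 1 + (PowerSeries.exp ℚ - 1) := by ring
  rw [Z, h, subst_add (hasSubst_L a), ← coe_substAlgHom (hasSubst_L a), map_one,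
    coe_substAlgHom (hasSubst_L a), map_add, map_one]
  have h0 := constantCoeff_subst_eq_zero (constantCoeff_L a) (PowerSeries.exp ℚ - 1)
    (by rw [map_sub, constantCoeff_exp, map_one, sub_self])
  have h0' : constantCoeff (subst (L a) (PowerSeries.exp ℚ - 1)) = (0 : ℚ) := h0
  rw [h0', add_zero]

lemma derivative_Z : d⁄dX ℚ (Z a) = Z a * d⁄dX ℚ (L a) := by
  rw [Z, derivative_subst (hasSubst_L a), derivative_exp]

lemma X_mul_derivative_L : X * d⁄dX ℚ (L a) = PowerSeries.mk fun m => (N a m : ℚ) := by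
  ext m
  cases m with
  | zero =>
    rw [coeff_zero_X_mul, coeff_mk, N]
    simp
  | succ m =>
    rw [coeff_succ_X_mul, coeff_derivative, L, coeff_mk, coeff_mk]
    have : ((m + 1 : ℕ) : ℚ) ≠ 0 := by positivity
    push_cast at this ⊢
    field_simp

/-- the series `∑_{j ≥ 1} X^{r j}`. -/
noncomputable def T (r : ℕ) : PowerSeries ℚ :=
  PowerSeries.mk fun m => if r ∣ m ∧ m ≠ 0 then (1 : ℚ) else 0

lemma one_sub_X_pow_mul_T (r : ℕ) (hr : 1 ≤ r) : (1 - X ^ r) * T r = (X : PowerSeries ℚ) ^ r := by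
  ext m
  rw [sub_mul, one_mul, map_sub, coeff_X_pow_mul', coeff_X_pow, T, coeff_mk, coeff_mk]
  by_cases hrm : r ≤ m
  · rw [if_pos hrm]
    by_cases hmr : m = r
    · subst hmr
      simp
      omega
    · rw [if_neg hmr]
      have h1 : m - r ≠ 0 := by omega
      have h2 : m ≠ 0 := by omega
      have h3 : r ∣ m - r ↔ r ∣ m := by
        constructor
        · intro h
          have := Nat.dvd_add h (dvd_refl r)
          rwa [Nat.sub_add_cancel hrm] at this
        · intro h
          exact Nat.dvd_sub h (dvd_refl r)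
      simp only [h1, h2, h3, ne_eq, not_false_eq_true, and_true]
      ring
  · rw [if_neg hrm]
    have hmr : m ≠ r := by omega
    rw [if_neg hmr, sub_zero]
    rw [if_neg]
    rintro ⟨hd, h0⟩
    have := Nat.le_of_dvd (Nat.pos_of_ne_zero h0) hd
    exact hrm this

lemma X_mul_derivative_factor (r : ℕ) (hr : 1 ≤ r) (c : ℕ) :
    X * d⁄dX ℚ ((1 - X ^ r : PowerSeries ℚ) ^ c) =
      -((1 - X ^ r) ^ c * (((c : PowerSeries ℚ) * (r : PowerSeries ℚ)) * T r)) := by
  cases c with
  | zero => simp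
  | succ c =>
    have hD : d⁄dX ℚ (1 - X ^ r : PowerSeries ℚ) = -((r : PowerSeries ℚ) * X ^ (r - 1)) := by
      rw [map_sub, derivative_one, zero_sub, derivative_pow, derivative_X, mul_one]
    have hXr : (X : PowerSeries ℚ) * X ^ (r - 1) = X ^ r := by
      rw [← pow_succ', Nat.sub_add_cancel hr]
    rw [derivative_pow, hD, Nat.add_sub_cancel]
    have key := one_sub_X_pow_mul_T r hr
    rw [pow_succ]
    push_cast
    linear_combination (-(c + 1 : PowerSeries ℚ) * (1 - X ^ r) ^ c * (r : PowerSeries ℚ)) * hXr +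
      ((1 - X ^ r) ^ c * ((c + 1 : PowerSeries ℚ) * (r : PowerSeries ℚ))) * key

/-- the finite Euler factor. -/
noncomputable def W (s : Finset ℕ) : PowerSeries ℚ := ∏ r ∈ s, (1 - X ^ r) ^ a r

/-- its logarithmic derivative. -/
noncomputable def H (s : Finset ℕ) : PowerSeries ℚ :=
  ∑ r ∈ s, ((a r : PowerSeries ℚ) * (r : PowerSeries ℚ)) * T r

lemma X_mul_derivative_W (s : Finset ℕ) (hs : ∀ r ∈ s, 1 ≤ r) :
    X * d⁄dX ℚ (W a s) = -(W a s * H a s) := by
  classical
  induction s using Finset.induction_on with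
  | empty => simp [W, H]
  | insert r s hr ih =>
    have ih' := ih (fun r' hr' => hs r' (Finset.mem_insert_of_mem hr'))
    have hfac := X_mul_derivative_factor r (hs r (Finset.mem_insert_self r s)) (a r)
    rw [W, H, Finset.prod_insert hr, Finset.sum_insert hr, Derivation.leibniz]
    simp only [smul_eq_mul]
    have e1 : ∏ x ∈ s, (1 - X ^ x : PowerSeries ℚ) ^ a x = W a s := rfl
    have e2 : ∑ x ∈ s, ((a x : PowerSeries ℚ) * (x : PowerSeries ℚ)) * T x = H a s := rfl
    rw [e1, e2]
    linear_combination (1 - X ^ r) ^ a r * ih' + W a s * hfac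

lemma constantCoeff_W (s : Finset ℕ) (hs : ∀ r ∈ s, 1 ≤ r) : constantCoeff (W a s) = 1 := by
  rw [W, map_prod]
  apply Finset.prod_eq_one
  intro r hr
  have : r ≠ 0 := by have := hs r hr; omega
  simp [this]

/-- the key vanishing of the logarithmic derivative of `Z * W`. -/
lemma coeff_G (n m : ℕ) (hm : m ≤ n) :
    coeff m ((PowerSeries.mk fun m => (N a m : ℚ)) - H a (Finset.Icc 1 n)) = 0 := by
  classical
  rw [map_sub, coeff_mk, H, map_sum]
  have h1 : ∀ r ∈ Finset.Icc 1 n, coeff m (((a r : PowerSeries ℚ) * (r : PowerSeries ℚ)) * T r) =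
      if r ∣ m ∧ m ≠ 0 then ((r * a r : ℕ) : ℚ) else 0 := by
    intro r _
    have : ((a r : PowerSeries ℚ) * (r : PowerSeries ℚ)) = C ((a r : ℚ) * (r : ℚ)) := by
      rw [map_mul, map_natCast, map_natCast]
    rw [this, coeff_C_mul, T, coeff_mk]
    split_ifs
    · push_cast; ring
    · ring
  rw [Finset.sum_congr rfl h1, ← Finset.sum_filter]
  by_cases hm0 : m = 0
  · subst hm0
    simp [N]
  · have : (Finset.Icc 1 n).filter (fun r => r ∣ m ∧ m ≠ 0) = m.divisors := by
      ext r
      simp only [Finset.mem_filter, Finset.mem_Icc, Nat.mem_divisors]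
      constructor
      · rintro ⟨-, hd, h0⟩
        exact ⟨hd, h0⟩
      · rintro ⟨hd, h0⟩
        have hle := Nat.le_of_dvd (Nat.pos_of_ne_zero h0) hd
        have hpos : 0 < r := Nat.pos_of_dvd_of_pos hd (Nat.pos_of_ne_zero h0)
        exact ⟨⟨hpos, hle.trans hm⟩, hd, h0⟩
    rw [this, N]
    push_cast
    ring

theorem X_mul_derivative_F (n : ℕ) :
    X * d⁄dX ℚ (Z a * W a (Finset.Icc 1 n)) =
      (Z a * W a (Finset.Icc 1 n)) *
        ((PowerSeries.mk fun m => (N a m : ℚ)) - H a (Finset.Icc 1 n)) := by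
  have hW := X_mul_derivative_W a (Finset.Icc 1 n) (fun r hr => (Finset.mem_Icc.mp hr).1)
  have hL := X_mul_derivative_L a
  rw [Derivation.leibniz, derivative_Z]
  simp only [smul_eq_mul]
  linear_combination Z a * hW + Z a * W a (Finset.Icc 1 n) * hL

theorem coeff_F (n m : ℕ) (hm : m ≤ n) :
    coeff m (Z a * W a (Finset.Icc 1 n)) = if m = 0 then 1 else 0 := by
  cases m with
  | zero =>
    rw [if_pos rfl, coeff_zero_eq_constantCoeff_apply, map_mul, constantCoeff_Z,
      constantCoeff_W a _ (fun r hr => (Finset.mem_Icc.mp hr).1), mul_one]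
  | succ m =>
    rw [if_neg (Nat.succ_ne_zero m)]
    have h := congrArg (coeff (m + 1)) (X_mul_derivative_F a n)
    rw [coeff_succ_X_mul, coeff_derivative] at h
    have h0 : ∑ p ∈ Finset.HasAntidiagonal.antidiagonal (m + 1),
        coeff p.1 (Z a * W a (Finset.Icc 1 n)) *
        coeff p.2 ((PowerSeries.mk fun m => (N a m : ℚ)) - H a (Finset.Icc 1 n)) = 0 := by
      apply Finset.sum_eq_zero
      intro p hp
      have : p.2 ≤ n := by
        have h2 := Finset.HasAntidiagonal.mem_antidiagonal.mp hp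
        omega
      rw [coeff_G a n p.2 this, mul_zero]
    have hR : coeff (m + 1) ((Z a * W a (Finset.Icc 1 n)) *
        ((PowerSeries.mk fun m => (N a m : ℚ)) - H a (Finset.Icc 1 n))) = 0 := by
      rw [coeff_mul]; exact h0
    rw [hR] at h
    have hne : ((m : ℚ) + 1) ≠ 0 := by positivity
    exact (mul_eq_zero.mp h).resolve_right hne

/-- the truncated product formula. -/
theorem trunc_Z_mul_W (n : ℕ) :
    PowerSeries.trunc (n + 1) (Z a * W a (Finset.Icc 1 n)) = 1 := by
  ext m
  rw [coeff_trunc, Polynomial.coeff_one]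
  split_ifs with h1 h2 h2
  · rw [coeff_F a n m (by omega), if_pos h2]
  · rw [coeff_F a n m (by omega), if_neg h2]
  · omega
  · rfl

/-- the integral Euler factor. -/
noncomputable def Wint (s : Finset ℕ) : PowerSeries ℤ := ∏ r ∈ s, (1 - X ^ r) ^ a r

lemma map_Wint (s : Finset ℕ) : PowerSeries.map (Int.castRingHom ℚ) (Wint a s) = W a s := by
  rw [Wint, W, map_prod]
  refine Finset.prod_congr rfl fun r _ => ?_
  rw [map_pow, map_sub, map_one, map_pow, map_X]

/-- integrality of the coefficients of `Z`. -/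
theorem coeff_Z_int (n : ℕ) : ∃ z : ℤ, coeff n (Z a) = (z : ℚ) := by
  classical
  have hc : constantCoeff (Wint a (Finset.Icc 1 n)) = 1 := by
    rw [Wint, map_prod]
    apply Finset.prod_eq_one
    intro r hr
    have : r ≠ 0 := by have := (Finset.mem_Icc.mp hr).1; omega
    simp [this]
  set V : PowerSeries ℤ := PowerSeries.invOfUnit (Wint a (Finset.Icc 1 n)) 1 with hV
  have hWV : Wint a (Finset.Icc 1 n) * V = 1 :=
    PowerSeries.mul_invOfUnit _ 1 (by rw [hc]; rfl)
  have hWV' : W a (Finset.Icc 1 n) * PowerSeries.map (Int.castRingHom ℚ) V = 1 := by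
    rw [← map_Wint, ← map_mul, hWV, map_one]
  refine ⟨coeff n V, ?_⟩
  have h1 : Z a = (Z a * W a (Finset.Icc 1 n)) * PowerSeries.map (Int.castRingHom ℚ) V := by
    rw [mul_assoc, hWV', mul_one]
  conv_lhs => rw [h1]
  rw [coeff_mul]
  rw [Finset.sum_eq_single (0, n)]
  · rw [coeff_F a n 0 (Nat.zero_le n), if_pos rfl, one_mul, coeff_map]
    rfl
  · intro p hp hne
    have h2 := Finset.HasAntidiagonal.mem_antidiagonal.mp hp
    have hle : p.1 ≤ n := by omega
    rw [coeff_F a n p.1 hle]
    have : p.1 ≠ 0 := by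
      intro h0
      apply hne
      ext
      · exact h0
      · simp only; omega
    rw [if_neg this, zero_mul]
  · intro h
    exact absurd (Finset.HasAntidiagonal.mem_antidiagonal.mpr (by simp)) h

end Groth.Agent.Lib.Helper17.ZetaProd
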